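import Groth.Agent.L04.LC.Hmap
import Mathlib.Algebra.Module.FinitePresentation
import Mathlib.Algebra.Module.LocalizedModule.Exact
import Mathlib.CategoryTheory.Abelian.Projective.Dimension
import Mathlib.Algebra.Category.ModuleCat.Projective

/-!
# Annihilators of local cohomology and finiteness
-/

universe u

open CategoryTheory Limits Abelian IsLocalRing

open scoped Pointwise

namespace Groth.L04.LC

variable {R : Type u} [CommRing R]

section Kill

variable (I : Ideal R) (i : ℕ)

theorem smul_H_eq_zero_of_annihilator {M : Type u} [AddCommGroup M] [Module R M] {r : R}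
    (h : ∀ m : M, r • m = 0) (x : LocCoh.H I i M) : r • x = 0 := by
  have : r • 𝟙 (ModuleCat.of R M) = 0 := ModuleCat.hom_ext (LinearMap.ext h)
  obtain ⟨n, a, rfl⟩ := Hι_surjective I i (ModuleCat.of R M) x
  rw [← map_smul_id I i (ModuleCat.of R M) r, this, map_Hι, Ext.mk₀_zero, Ext.comp_zero, map_zero]

theorem map_comp_apply {M N P : Type u} [AddCommGroup M] [Module R M] [AddCommGroup N] [Module R N]
    [AddCommGroup P] [Module R P] (f : M →ₗ[R] N) (g : N →ₗ[R] P) (x : LocCoh.H I i M) :
    ((localCohomology I i).map (ModuleCat.ofHom g)).hom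
      (((localCohomology I i).map (ModuleCat.ofHom f)).hom x) =
    ((localCohomology I i).map (ModuleCat.ofHom (g.comp f))).hom x := by
  rw [← LinearMap.comp_apply, ← ModuleCat.hom_comp, ← Functor.map_comp]
  rfl

theorem smul_H_eq_zero_of_factor {M N : Type u} [AddCommGroup M] [Module R M] [AddCommGroup N]
    [Module R N] {r s : R} (f : M →ₗ[R] N) (g : N →ₗ[R] M) (hgf : g.comp f = s • LinearMap.id)
    (hN : ∀ x : LocCoh.H I i N, r • x = 0) (x : LocCoh.H I i M) : (r * s) • x = 0 := by
  have h1 : ((localCohomology I i).map (ModuleCat.ofHom g)).hom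
      (((localCohomology I i).map (ModuleCat.ofHom f)).hom x) = s • x := by
    rw [map_comp_apply, hgf]
    exact map_smul_id I i (ModuleCat.of R M) s x
  rw [mul_smul, ← h1, ← map_smul, hN, map_zero]

theorem H_map_sum {κ : Type*} (t : Finset κ) {M N : Type u} [AddCommGroup M] [Module R M]
    [AddCommGroup N] [Module R N] (f : κ → M →ₗ[R] N) (x : LocCoh.H I i M) :
    ((localCohomology I i).map (ModuleCat.ofHom (∑ k ∈ t, f k))).hom x =
      ∑ k ∈ t, ((localCohomology I i).map (ModuleCat.ofHom (f k))).hom x := by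
  obtain ⟨n, a, rfl⟩ := Hι_surjective I i (ModuleCat.of R M) x
  have : ModuleCat.ofHom (∑ k ∈ t, f k) = ∑ k ∈ t, ModuleCat.ofHom (f k) :=
    ModuleCat.hom_ext (by rw [ModuleCat.hom_sum]; rfl)
  simp only [map_Hι]
  rw [this]
  clear this
  induction t using Finset.cons_induction with
  | empty => simp
  | cons k t hk ih =>
    simp only [Finset.sum_cons, Ext.mk₀_add, Ext.comp_add, map_add]
    rw [ih]

theorem smul_H_pi_eq_zero {r : R} (hr : ∀ x : LocCoh.H I i R, r • x = 0) (k : ℕ)
    (x : LocCoh.H I i (Fin k → R)) : r • x = 0 := by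
  classical
  have hid : (LinearMap.id : (Fin k → R) →ₗ[R] (Fin k → R)) =
      ∑ j, (LinearMap.single R (fun _ => R) j).comp (LinearMap.proj j) := by
    refine LinearMap.ext fun v => ?_
    simp only [LinearMap.id_apply, LinearMap.coe_sum, Finset.sum_apply, LinearMap.comp_apply,
      LinearMap.proj_apply]
    exact (Finset.univ_sum_single v).symm
  have hx : ((localCohomology I i).map (ModuleCat.ofHom
      (LinearMap.id : (Fin k → R) →ₗ[R] (Fin k → R)))).hom x = x := by
    rw [ModuleCat.ofHom_id, CategoryTheory.Functor.map_id]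
    rfl
  rw [← hx, hid, H_map_sum, Finset.smul_sum]
  refine Finset.sum_eq_zero fun j _ => ?_
  rw [← map_comp_apply, ← map_smul, hr, map_zero]

theorem smul_H_mid {M₁ M₂ M₃ : Type u} [AddCommGroup M₁] [Module R M₁] [AddCommGroup M₂]
    [Module R M₂] [AddCommGroup M₃] [Module R M₃] {r s : R} (f : M₁ →ₗ[R] M₂) (g : M₂ →ₗ[R] M₃)
    (hf : Function.Injective f) (hg : Function.Surjective g) (hfg : Function.Exact f g)
    (h₁ : ∀ x : LocCoh.H I i M₁, r • x = 0) (h₃ : ∀ x : LocCoh.H I i M₃, s • x = 0)
    (x : LocCoh.H I i M₂) : (r * s) • x = 0 := by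
  obtain ⟨y, hy⟩ := (H_exact₂ I (ses_shortExact f g hf hg hfg) i (s • x)).1
    ((map_smul _ s x).trans (h₃ _))
  rw [mul_smul, ← hy]
  refine (map_smul _ r y).symm.trans ?_
  rw [show r • y = 0 from h₁ y]
  exact map_zero _

end Kill

section Projective

variable [IsNoetherianRing R]

/-- If `M_S` is projective then some `s ∈ S` makes `s • id` factor through a free module. -/
theorem exists_factor_free (S : Submonoid R) (M : Type u) [AddCommGroup M] [Module R M]
    [Module.Finite R M] [Module.Projective (Localization S) (LocalizedModule S M)] :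
    ∃ (k : ℕ) (s : R) (_ : s ∈ S) (u : M →ₗ[R] (Fin k → R)) (v : (Fin k → R) →ₗ[R] M),
      v.comp u = s • LinearMap.id := by
  obtain ⟨k, π, hπ⟩ := Module.Finite.exists_fin' R M
  haveI : Module.FinitePresentation R M := Module.finitePresentation_of_finite R M
  let πS := LocalizedModule.map S π
  have hπS : Function.Surjective πS := LocalizedModule.map_surjective S π hπ
  obtain ⟨σ, hσ⟩ := Module.projective_lifting_property πS LinearMap.id hπS
  obtain ⟨u, s, hu⟩ := Module.FinitePresentation.exists_lift_of_isLocalizedModule S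
    (LocalizedModule.mkLinearMap S (Fin k → R))
    ((σ.restrictScalars R).comp (LocalizedModule.mkLinearMap S M))
  have h : (LocalizedModule.mkLinearMap S M).comp (π.comp u) =
      (LocalizedModule.mkLinearMap S M).comp ((s : R) • LinearMap.id) := by
    refine LinearMap.ext fun m => ?_
    have h1 : LocalizedModule.mkLinearMap S M (π (u m)) =
        πS (LocalizedModule.mkLinearMap S (Fin k → R) (u m)) := by
      rw [LocalizedModule.mkLinearMap_apply, LocalizedModule.mkLinearMap_apply]
      exact (LocalizedModule.map_mk S π _ _).symm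
    have h2 := LinearMap.congr_fun hu m
    simp only [LinearMap.comp_apply, LinearMap.smul_apply] at h2
    simp only [LinearMap.comp_apply, LinearMap.smul_apply, LinearMap.id_apply]
    rw [h1, h2, Submonoid.smul_def, ← algebraMap_smul (Localization S) (s : R), map_smul,
      algebraMap_smul, map_smul]
    congr 1
    exact LinearMap.congr_fun hσ _
  obtain ⟨t, ht⟩ := Module.Finite.exists_smul_of_comp_eq_of_isLocalizedModule S
    (LocalizedModule.mkLinearMap S M) _ _ h
  refine ⟨k, (t : R) * s, mul_mem t.2 s.2, (t : R) • u, π, ?_⟩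
  rw [mul_smul, LinearMap.comp_smul]
  exact ht

theorem exists_factor_free_atPrime (p : Ideal R) [p.IsPrime] (M : Type u) [AddCommGroup M]
    [Module R M] [Module.Finite R M]
    [Module.Projective (Localization.AtPrime p) (LocalizedModule p.primeCompl M)] :
    ∃ (k : ℕ) (s : R) (_ : s ∉ p) (u : M →ₗ[R] (Fin k → R)) (v : (Fin k → R) →ₗ[R] M),
      v.comp u = s • LinearMap.id :=
  exists_factor_free p.primeCompl M

theorem subsingleton_H_pi_of_lt (b : Ideal R) {i : ℕ} (hi : (i : ℕ∞) < LocCoh.idealDepth b R)
    (k : ℕ) : Subsingleton (LocCoh.H b i (Fin k → R)) := by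
  haveI : Subsingleton (LocCoh.H b i R) :=
    (le_idealDepth_iff_H b R (i + 1)).1 (by simpa using Order.add_one_le_of_lt hi) i i.lt_succ_self
  refine subsingleton_of_forall_eq 0 fun y => ?_
  simpa using smul_H_pi_eq_zero b i (r := 1) (fun z => Subsingleton.elim _ _) k y

/-- S11655. -/
theorem exists_smul_H_eq_zero_of_projective (p : Ideal R) [p.IsPrime] (M : Type u) [AddCommGroup M]
    [Module R M] [Module.Finite R M]
    [Module.Projective (Localization.AtPrime p) (LocalizedModule p.primeCompl M)] :
    ∃ s : R, s ∉ p ∧ ∀ (b : Ideal R) (i : ℕ), (i : ℕ∞) < LocCoh.idealDepth b R →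
      ∀ x : LocCoh.H b i M, s • x = 0 := by
  obtain ⟨k, s, hs, u, v, huv⟩ := exists_factor_free_atPrime p M
  refine ⟨s, hs, fun b i hi x => ?_⟩
  haveI := subsingleton_H_pi_of_lt b hi k
  have h0 := smul_H_eq_zero_of_factor b i (r := 1) u v huv (fun y => Subsingleton.elim _ _) x
  rwa [one_mul] at h0

/-- The kernel of a presentation has smaller projective dimension at a prime. -/
theorem localized_ker_pd_le (p : Ideal R) [p.IsPrime] {M : Type u} [AddCommGroup M] [Module R M]
    {k : ℕ} (g : (Fin k → R) →ₗ[R] M) (hg : Function.Surjective g) (n : ℕ)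
    (h : HasProjectiveDimensionLE
      (ModuleCat.of (Localization.AtPrime p) (LocalizedModule p.primeCompl M)) (n + 1)) :
    HasProjectiveDimensionLE (ModuleCat.of (Localization.AtPrime p)
      (LocalizedModule p.primeCompl (LinearMap.ker g))) n := by
  let S := p.primeCompl
  let fS : LocalizedModule S (LinearMap.ker g) →ₗ[Localization.AtPrime p]
      LocalizedModule S (Fin k → R) := LocalizedModule.map S (LinearMap.ker g).subtype
  let gS : LocalizedModule S (Fin k → R) →ₗ[Localization.AtPrime p] LocalizedModule S M :=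
    LocalizedModule.map S g
  have hex : Function.Exact fS gS := LocalizedModule.map_exact S _ _ g.exact_subtype_ker_map
  have hfS : Function.Injective fS := LocalizedModule.map_injective S _ (LinearMap.ker g).injective_subtype
  have hgS : Function.Surjective gS := LocalizedModule.map_surjective S g hg
  have hS := ses_shortExact (R := Localization.AtPrime p) (M := LocalizedModule S (LinearMap.ker g)) fS gS hfS hgS hex
  haveI : Module.Projective (Localization.AtPrime p) (LocalizedModule S (Fin k → R)) := inferInstance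
  have hproj : Projective (ModuleCat.of (Localization.AtPrime p) (LocalizedModule S (Fin k → R))) :=
    (IsProjective.iff_projective (R := Localization.AtPrime p) _).1 ‹_›
  exact (hS.hasProjectiveDimensionLT_X₃_iff n hproj).1 h

/-- S11656. -/
theorem exists_smul_H_eq_zero_of_pd (p : Ideal R) [p.IsPrime] :
    ∀ (h : ℕ) (M : Type u) [AddCommGroup M] [Module R M] [Module.Finite R M],
      HasProjectiveDimensionLE
        (ModuleCat.of (Localization.AtPrime p) (LocalizedModule p.primeCompl M)) h →
      ∃ s : R, s ∉ p ∧ ∀ (b : Ideal R) (i : ℕ), ((i + h : ℕ) : ℕ∞) < LocCoh.idealDepth b R →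
        ∀ x : LocCoh.H b i M, s • x = 0 := by
  intro h
  induction h with
  | zero =>
    intro M _ _ _ hpd
    haveI : Projective (ModuleCat.of (Localization.AtPrime p) (LocalizedModule p.primeCompl M)) :=
      (projective_iff_hasProjectiveDimensionLE_zero _).2 hpd
    haveI : Module.Projective (Localization.AtPrime p) (LocalizedModule p.primeCompl M) :=
      (IsProjective.iff_projective (R := Localization.AtPrime p) _).2 inferInstance
    obtain ⟨s, hs, hs'⟩ := exists_smul_H_eq_zero_of_projective p M
    exact ⟨s, hs, fun b i hi => hs' b i (by simpa using hi)⟩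
  | succ h ih =>
    intro M _ _ _ hpd
    obtain ⟨k, g, hg⟩ := Module.Finite.exists_fin' R M
    haveI : Module.Finite R (LinearMap.ker g) := Module.Finite.of_fg (IsNoetherian.noetherian _)
    obtain ⟨s, hs, hs'⟩ := ih (LinearMap.ker g) (localized_ker_pd_le p g hg h hpd)
    refine ⟨s, hs, fun b i hi x => ?_⟩
    have hS := ses_shortExact (LinearMap.ker g).subtype g (LinearMap.ker g).injective_subtype hg
      g.exact_subtype_ker_map
    haveI h2 : Subsingleton (LocCoh.H b i (Fin k → R)) :=
      subsingleton_H_pi_of_lt b (lt_of_le_of_lt (by exact_mod_cast Nat.le_add_right i (h + 1)) hi) k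
    have h0 : Hδ b hS i (s • x) = 0 := by
      refine (map_smul (Hδ b hS i) s x).trans ?_
      exact hs' b (i + 1) (by rwa [show i + 1 + h = i + (h + 1) by omega]) _
    obtain ⟨y, hy⟩ := (H_exact₃ b hS i (s • x)).1 h0
    rw [← hy, show y = 0 from @Subsingleton.elim _ h2 y 0]
    exact map_zero _

/-- S11654. -/
theorem exists_smul_H_eq_zero_of_notMem_support (M : Type u) [AddCommGroup M] [Module R M]
    [Module.Finite R M] (p : PrimeSpectrum R) (hp : p ∉ Module.support R M) :
    ∃ s : R, s ∉ p.asIdeal ∧ ∀ (b : Ideal R) (i : ℕ) (x : LocCoh.H b i M), s • x = 0 := by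
  rw [Module.mem_support_iff_of_finite, SetLike.not_le_iff_exists] at hp
  obtain ⟨s, hs, hsp⟩ := hp
  exact ⟨s, hsp, fun b i x => smul_H_eq_zero_of_annihilator b i (Module.mem_annihilator.1 hs) x⟩

/-- S11658. -/
theorem exists_pow_vanishingIdeal_le_annihilator (M : Type u) [AddCommGroup M] [Module R M]
    [Module.Finite R M] (t : ℕ) :
    ∃ n : ℕ, ∀ (d : Ideal R) (i : ℕ), ((i + t : ℕ) : ℕ∞) < LocCoh.idealDepth d R →
      (PrimeSpectrum.vanishingIdeal {p : PrimeSpectrum R | ¬ HasProjectiveDimensionLE
        (ModuleCat.of (Localization.AtPrime p.asIdeal) (LocalizedModule p.asIdeal.primeCompl M)) t}) ^ n ≤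
        Module.annihilator R (LocCoh.H d i M) := by
  let A : Ideal R := ⨅ (d : Ideal R) (i : ℕ) (_ : ((i + t : ℕ) : ℕ∞) < LocCoh.idealDepth d R),
    Module.annihilator R (LocCoh.H d i M)
  have hle : PrimeSpectrum.vanishingIdeal {p : PrimeSpectrum R | ¬ HasProjectiveDimensionLE
      (ModuleCat.of (Localization.AtPrime p.asIdeal) (LocalizedModule p.asIdeal.primeCompl M)) t} ≤
      A.radical := by
    rw [← PrimeSpectrum.vanishingIdeal_zeroLocus_eq_radical]
    refine PrimeSpectrum.vanishingIdeal_anti_mono fun p hp => ?_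
    intro hpd
    obtain ⟨s, hs, hs'⟩ := exists_smul_H_eq_zero_of_pd p.asIdeal t M hpd
    refine hs (hp ?_)
    simp only [SetLike.mem_coe, A, Submodule.mem_iInf, Module.mem_annihilator]
    exact hs'
  obtain ⟨n, hn⟩ := Ideal.exists_pow_le_of_le_radical_of_fg hle (IsNoetherian.noetherian _)
  exact ⟨n, fun d i hi => hn.trans (iInf_le_of_le d (iInf_le_of_le i (iInf_le_of_le hi le_rfl)))⟩

/-- S1743. -/
theorem exists_pow_smul_H_eq_zero_of_locally_projective (J I : Ideal R) (hJI : J ≤ I) (i n : ℕ)
    (hA : ∀ a ∈ J ^ n, ∀ x : LocCoh.H I i R, a • x = 0) (M : Type u) [AddCommGroup M] [Module R M]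
    [Module.Finite R M]
    (hM : ∀ f ∈ I, Module.Projective (Localization.Away f) (LocalizedModule (Submonoid.powers f) M)) :
    ∃ m : ℕ, ∀ a ∈ J ^ m, ∀ x : LocCoh.H I i M, a • x = 0 := by
  let K : Ideal R := (Module.annihilator R (LocCoh.H I i M)).colon (J ^ n : Ideal R)
  have hle : I ≤ K.radical := fun f hf => by
    haveI := hM f hf
    obtain ⟨k, s, ⟨N, rfl⟩, u, v, huv⟩ := exists_factor_free (Submonoid.powers f) M
    refine ⟨N, Submodule.mem_colon.2 fun a ha => Module.mem_annihilator.2 fun x => ?_⟩
    rw [smul_eq_mul, mul_comm]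
    exact smul_H_eq_zero_of_factor I i u v huv (smul_H_pi_eq_zero I i (hA a ha) k) x
  obtain ⟨l, hl⟩ := Ideal.exists_pow_le_of_le_radical_of_fg (hJI.trans hle) (IsNoetherian.noetherian _)
  refine ⟨l + n, fun a ha x => ?_⟩
  rw [pow_add] at ha
  refine Submodule.mul_induction_on ha (fun b hb c hc => ?_) fun p q hp hq => by
    rw [add_smul, hp, hq, add_zero]
  exact Module.mem_annihilator.1 (Submodule.mem_colon.1 (hl hb) c hc) x

end Projective

section Finite

variable [IsNoetherianRing R] (I : Ideal R)

theorem H_finite_zero (M : Type u) [AddCommGroup M] [Module R M] [Module.Finite R M] :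
    Module.Finite R (LocCoh.H I 0 M) := by
  haveI : Module.Finite R (DRing.torsionSub I M) := Module.Finite.of_fg (IsNoetherian.noetherian _)
  exact Module.Finite.equiv (H0Equiv I (ModuleCat.of R M)).symm

theorem exists_pow_smul_eq_zero_of_finite {H : Type u} [AddCommGroup H] [Module R H]
    [Module.Finite R H] (hH : LocCoh.IsPowerTorsion I H) : ∃ k : ℕ, ∀ a ∈ I ^ k, ∀ x : H, a • x = 0 := by
  obtain ⟨s, hs⟩ := Module.Finite.fg_top (R := R) (M := H)
  choose k hk using hH
  refine ⟨s.sup k, fun a ha x => ?_⟩
  have hx : x ∈ Submodule.span R (s : Set H) := hs ▸ Submodule.mem_top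
  induction hx using Submodule.span_induction with
  | mem x hx => exact hk x a (Ideal.pow_le_pow_right (Finset.le_sup hx) ha)
  | zero => exact smul_zero a
  | add x y _ _ hx hy => rw [smul_add, hx, hy, add_zero]
  | smul r x _ hx => rw [smul_comm, hx, smul_zero]

theorem H_quotient_torsionSub_killed (M : Type u) [AddCommGroup M] [Module R M] {i : ℕ} {a : R}
    (h : ∀ x : LocCoh.H I i M, a • x = 0) (x : LocCoh.H I i (M ⧸ DRing.torsionSub I M)) :
    a • x = 0 := by
  rcases Nat.eq_zero_or_pos i with rfl | hi
  · haveI := (subsingleton_H0_iff I (M ⧸ DRing.torsionSub I M)).2 (torsionSub_quotient_eq_bot I M)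
    exact Subsingleton.elim _ _
  · obtain ⟨y, rfl⟩ := (H_map_mkQ_torsionSub_bijective I M hi).2 x
    rw [← map_smul, show a • y = 0 from h y, map_zero]

/-- Killed by a power of `I` implies finite, below a given degree. -/
theorem finite_H_of_killed : ∀ (n : ℕ) (M : Type u) [AddCommGroup M] [Module R M] [Module.Finite R M]
    (k : ℕ), (∀ i ≤ n, ∀ a ∈ I ^ k, ∀ x : LocCoh.H I i M, a • x = 0) →
      ∀ i ≤ n, Module.Finite R (LocCoh.H I i M) := by
  intro n
  induction n with
  | zero =>
    intro M _ _ _ k _ i hi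
    obtain rfl : i = 0 := by omega
    exact H_finite_zero I M
  | succ n ih =>
    intro M _ _ _ k hk i hi
    rcases eq_or_lt_of_le hi with rfl | hlt
    swap
    · exact ih M k (fun j hj => hk j (hj.trans n.le_succ)) i (by omega)
    set M' := M ⧸ DRing.torsionSub I M
    obtain ⟨x, hxI, hreg⟩ := exists_regular_mem I M' (torsionSub_quotient_eq_bot I M)
    have hy : x ^ (k + 1) ∈ I ^ k := Ideal.pow_le_pow_right k.le_succ (Ideal.pow_mem_pow hxI (k + 1))
    have hreg' : IsSMulRegular M' (x ^ (k + 1)) := hreg.pow (k + 1)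
    have hS := (show IsSMulRegular (ModuleCat.of R M') (x ^ (k + 1)) from
      hreg').smulShortComplex_shortExact
    have hkill : ∀ j ≤ n + 1, ∀ a ∈ I ^ k, ∀ z : LocCoh.H I j M', a • z = 0 := fun j hj a ha =>
      H_quotient_torsionSub_killed I M (hk j hj a ha)
    have hQ : ∀ j ≤ n, ∀ a ∈ I ^ (k + k), ∀ z : LocCoh.H I j (QuotSMulTop (x ^ (k + 1)) M'),
        a • z = 0 := by
      intro j hj a ha z
      rw [pow_add] at ha
      refine Submodule.mul_induction_on ha (fun b hb c hc => ?_) fun p q hp hq => by
        rw [add_smul, hp, hq, add_zero]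
      obtain ⟨w, hw⟩ := (H_exact₃ I hS j (c • z)).1
        ((map_smul (Hδ I hS j) c z).trans (hkill (j + 1) (by omega) c hc _))
      rw [mul_smul, ← hw]
      refine (map_smul _ b w).symm.trans ?_
      rw [show b • w = 0 from hkill j (by omega) b hb w]
      exact map_zero _
    haveI := ih (QuotSMulTop (x ^ (k + 1)) M') (k + k) hQ n le_rfl
    let δ : LocCoh.H I n (QuotSMulTop (x ^ (k + 1)) M') →ₗ[R] LocCoh.H I (n + 1) M' := Hδ I hS n
    haveI : Module.Finite R (LocCoh.H I (n + 1) M') :=
      Module.Finite.of_surjective δ fun z =>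
        (mem_range_Hδ_iff I hreg' n z).2 (hkill (n + 1) le_rfl _ hy z)
    exact Module.Finite.equiv (LinearEquiv.ofBijective _
      (H_map_mkQ_torsionSub_bijective I M n.succ_pos)).symm

/-- S0329. -/
theorem finite_H_iff_killed (M : Type u) [AddCommGroup M] [Module R M] [Module.Finite R M] (n : ℕ) :
    (∀ i ≤ n, Module.Finite R (LocCoh.H I i M)) ↔
      ∃ J : Ideal R, I ≤ J.radical ∧ ∀ i ≤ n, ∀ a ∈ J, ∀ x : LocCoh.H I i M, a • x = 0 := by
  constructor
  · intro h
    have : ∀ i ≤ n, ∃ k, ∀ a ∈ I ^ k, ∀ x : LocCoh.H I i M, a • x = 0 := fun i hi =>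
      haveI := h i hi
      exists_pow_smul_eq_zero_of_finite I (isPowerTorsion_H I i (ModuleCat.of R M))
    choose k hk using this
    let K := (Finset.range (n + 1)).attach.sup fun j => k j.1 (by
      have := Finset.mem_range.1 j.2; omega)
    refine ⟨I ^ K, fun a ha => ⟨K, Ideal.pow_mem_pow ha K⟩, fun i hi a ha => hk i hi a ?_⟩
    exact Ideal.pow_le_pow_right (Finset.le_sup (f := fun j : {x // x ∈ Finset.range (n + 1)} =>
      k j.1 _) (Finset.mem_attach _ ⟨i, Finset.mem_range.2 (by omega)⟩)) ha
  · rintro ⟨J, hIJ, hJ⟩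
    obtain ⟨k, hk⟩ := Ideal.exists_pow_le_of_le_radical_of_fg hIJ (IsNoetherian.noetherian I)
    exact finite_H_of_killed I n M k fun i hi a ha => hJ i hi a (hk ha)

/-- S0331. -/
theorem finite_H_of_locally_projective (n : ℕ) (hR : ∀ i ≤ n, Module.Finite R (LocCoh.H I i R))
    (M : Type u) [AddCommGroup M] [Module R M] [Module.Finite R M]
    (hM : ∀ f ∈ I, Module.Projective (Localization.Away f) (LocalizedModule (Submonoid.powers f) M))
    (i : ℕ) (hi : i ≤ n) : Module.Finite R (LocCoh.H I i M) := by
  have : ∀ j ≤ n, ∃ m, ∀ a ∈ I ^ m, ∀ x : LocCoh.H I j M, a • x = 0 := fun j hj => by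
    haveI := hR j hj
    obtain ⟨k, hk⟩ := exists_pow_smul_eq_zero_of_finite I (H := LocCoh.H I j R)
      (isPowerTorsion_H I j (ModuleCat.of R R))
    exact exists_pow_smul_H_eq_zero_of_locally_projective I I le_rfl j k hk M hM
  choose k hk using this
  let K := (Finset.range (n + 1)).attach.sup fun j => k j.1 (by
    have := Finset.mem_range.1 j.2; omega)
  refine finite_H_of_killed I n M K (fun j hj a ha => hk j hj a ?_) i hi
  exact Ideal.pow_le_pow_right (Finset.le_sup (f := fun j : {x // x ∈ Finset.range (n + 1)} =>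
    k j.1 _) (Finset.mem_attach _ ⟨j, Finset.mem_range.2 (by omega)⟩)) ha

/-- A power-torsion module with finite socle-layers which is locally finite is finite. -/
theorem finite_of_local {H : Type u} [AddCommGroup H] [Module R H] {x : R}
    (hx : ∀ h : H, ∃ n : ℕ, x ^ n • h = 0) (h1 : (Submodule.torsionBy R H x).FG)
    (hloc : ∀ p : PrimeSpectrum R, Module.Finite (Localization.AtPrime p.asIdeal)
      (LocalizedModule p.asIdeal.primeCompl H)) : Module.Finite R H := by
  classical
  let U : ℕ → Submodule R H := fun k => Submodule.torsionBy R H (x ^ k)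
  have hU : ∀ k (h : H), h ∈ U k ↔ x ^ k • h = 0 := fun k h => Submodule.mem_torsionBy_iff _ _
  have hmono : ∀ {k l}, k ≤ l → U k ≤ U l := fun {k l} hkl h hh => by
    rw [hU] at hh ⊢
    rw [← Nat.sub_add_cancel hkl, pow_add, mul_smul, hh, smul_zero]
  have hfg : ∀ k, (U k).FG := by
    intro k
    induction k with
    | zero =>
      convert Submodule.fg_bot (R := R) (M := H)
      refine eq_bot_iff.2 fun h hh => ?_
      simpa [hU] using hh
    | succ k ih =>
      let φ : H →ₗ[R] H := x • LinearMap.id
      refine Submodule.fg_of_fg_map_of_fg_inf_ker φ ?_ ?_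
      · haveI := Module.Finite.of_fg ih
        haveI : IsNoetherian R (U k) := isNoetherian_of_isNoetherianRing_of_finite R _
        refine isNoetherian_submodule.1 (inferInstance : IsNoetherian R (U k)) _ ?_
        rintro _ ⟨h, hh, rfl⟩
        rw [SetLike.mem_coe, hU] at hh
        rw [hU]
        simpa [φ, ← mul_smul, ← pow_succ] using hh
      · haveI := Module.Finite.of_fg h1
        haveI : IsNoetherian R (Submodule.torsionBy R H x) :=
          isNoetherian_of_isNoetherianRing_of_finite R _
        refine isNoetherian_submodule.1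
          (inferInstance : IsNoetherian R (Submodule.torsionBy R H x)) _ fun h hh => ?_
        simpa [φ] using hh.2
  let Z : ℕ → Set (PrimeSpectrum R) := fun k => Module.support R ((U (k + 1)).map (U k).mkQ)
  have hclosed : ∀ k, IsClosed (Z k) := fun k => by
    haveI := Module.Finite.of_fg ((hfg (k + 1)).map (U k).mkQ)
    change IsClosed (Module.support R _)
    rw [Module.support_eq_zeroLocus]
    exact PrimeSpectrum.isClosed_zeroLocus _
  have hZmono : ∀ k, Z (k + 1) ⊆ Z k := by
    intro k p hp
    rw [Module.mem_support_iff'] at hp ⊢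
    obtain ⟨⟨_, h, hh, rfl⟩, hne⟩ := hp
    refine ⟨⟨(U k).mkQ (x • h), x • h, ?_, rfl⟩, fun r hr hr0 => hne r hr ?_⟩
    · rw [SetLike.mem_coe, hU] at hh ⊢
      rwa [← mul_smul, ← pow_succ]
    · have h2 := congrArg Subtype.val hr0
      refine Subtype.ext ?_
      simp only [SetLike.val_smul, ZeroMemClass.coe_zero] at h2 ⊢
      rw [← map_smul, Submodule.mkQ_apply, Submodule.Quotient.mk_eq_zero, hU] at h2 ⊢
      rwa [pow_succ, mul_smul, smul_comm x r h]
  have hempty : ⋂ k, Z k = ∅ := by
    refine Set.eq_empty_iff_forall_notMem.2 fun p hp => ?_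
    haveI := hloc p
    set φ := LocalizedModule.mkLinearMap p.asIdeal.primeCompl H
    obtain ⟨s, hs⟩ := Module.Finite.fg_top (R := Localization.AtPrime p.asIdeal)
      (M := LocalizedModule p.asIdeal.primeCompl H)
    have hkill : ∀ z, ∃ k, x ^ k • z = (0 : LocalizedModule p.asIdeal.primeCompl H) := fun z => by
      obtain ⟨⟨h, t⟩, rfl⟩ := IsLocalizedModule.mk'_surjective p.asIdeal.primeCompl φ z
      obtain ⟨k, hk⟩ := hx h
      exact ⟨k, by simp only [Function.uncurry_apply_pair]; rw [← IsLocalizedModule.mk'_smul, hk,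
        IsLocalizedModule.mk'_zero]⟩
    choose k hk using hkill
    set K := s.sup k
    have hK : ∀ z : LocalizedModule p.asIdeal.primeCompl H, x ^ K • z = 0 := fun z => by
      have hz : z ∈ Submodule.span (Localization.AtPrime p.asIdeal) (s : Set _) :=
        hs ▸ Submodule.mem_top
      induction hz using Submodule.span_induction with
      | mem z hz =>
        rw [← Nat.sub_add_cancel (show k z ≤ K from Finset.le_sup (f := k) hz), pow_add, mul_smul, hk,
          smul_zero]
      | zero => exact smul_zero _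
      | add y z _ _ hy hz => rw [smul_add, hy, hz, add_zero]
      | smul r z _ hz => rw [smul_comm, hz, smul_zero]
    refine Module.notMem_support_iff'.2 ?_ (Set.mem_iInter.1 hp K)
    rintro ⟨_, h, hh, rfl⟩
    obtain ⟨⟨t, ht⟩, hth⟩ := (IsLocalizedModule.eq_zero_iff p.asIdeal.primeCompl φ).1
      ((map_smul φ (x ^ K) h).trans (hK _))
    refine ⟨t, ht, Subtype.ext ?_⟩
    simp only [SetLike.val_smul, ZeroMemClass.coe_zero]
    rw [← map_smul, Submodule.mkQ_apply, Submodule.Quotient.mk_eq_zero, hU, smul_comm]
    exact hth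
  obtain ⟨k, hk⟩ : ∃ k, Z k = ∅ := by
    by_contra! hc
    refine Set.Nonempty.ne_empty (IsCompact.nonempty_iInter_of_sequence_nonempty_isCompact_isClosed
      Z hZmono hc (hclosed 0).isCompact hclosed) hempty
  have hstep : U (k + 1) ≤ U k := fun h hh => by
    rw [← Submodule.Quotient.mk_eq_zero]
    haveI : Subsingleton ((U (k + 1)).map (U k).mkQ) := Module.support_eq_empty_iff.1 hk
    exact congrArg Subtype.val
      (Subsingleton.elim (⟨(U k).mkQ h, h, hh, rfl⟩ : (U (k + 1)).map (U k).mkQ) 0)
  have hall : ∀ j (h : H), x ^ (k + j) • h = 0 → h ∈ U k := by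
    intro j
    induction j with
    | zero => exact fun h hh => (hU k h).2 hh
    | succ j ih =>
      intro h hh
      refine hstep ((hU _ h).2 ?_)
      rw [pow_succ, mul_smul]
      exact (hU k _).1 (ih (x • h) (by rwa [← mul_smul, ← pow_succ]))
  refine ⟨?_⟩
  convert hfg k
  refine (eq_top_iff.2 fun h _ => ?_).symm
  obtain ⟨j, hj⟩ := hx h
  exact hall j h (by rw [pow_add, mul_smul, hj, smul_zero])

/-- The middle of an exact sequence of localizations is finite. -/
theorem finite_localized_of_exact {A B C : Type u} [AddCommGroup A] [Module R A] [AddCommGroup B]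
    [Module R B] [AddCommGroup C] [Module R C] (f : A →ₗ[R] B) (g : B →ₗ[R] C)
    (hfg : Function.Exact f g) (p : Ideal R) [p.IsPrime]
    [Module.Finite (Localization.AtPrime p) (LocalizedModule p.primeCompl A)]
    [Module.Finite (Localization.AtPrime p) (LocalizedModule p.primeCompl C)] :
    Module.Finite (Localization.AtPrime p) (LocalizedModule p.primeCompl B) := by
  haveI : IsNoetherianRing (Localization.AtPrime p) :=
    IsLocalization.isNoetherianRing p.primeCompl _ inferInstance
  haveI : IsNoetherian (Localization.AtPrime p) (LocalizedModule p.primeCompl A) :=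
    isNoetherian_of_isNoetherianRing_of_finite _ _
  haveI : IsNoetherian (Localization.AtPrime p) (LocalizedModule p.primeCompl C) :=
    isNoetherian_of_isNoetherianRing_of_finite _ _
  have hex : Function.Exact (LocalizedModule.map p.primeCompl f) (LocalizedModule.map p.primeCompl g) :=
    LocalizedModule.map_exact p.primeCompl f g hfg
  haveI := isNoetherian_of_range_eq_ker (LocalizedModule.map p.primeCompl f)
    (LocalizedModule.map p.primeCompl g) (LinearMap.exact_iff.1 hex).symm
  infer_instance

/-- S0330. -/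
theorem finite_H_iff_local (n : ℕ) : ∀ (M : Type u) [AddCommGroup M] [Module R M] [Module.Finite R M],
    (∀ i ≤ n, Module.Finite R (LocCoh.H I i M)) ↔
      ∀ (p : Ideal R) [p.IsPrime], ∀ i ≤ n,
        Module.Finite (Localization.AtPrime p) (LocalizedModule p.primeCompl (LocCoh.H I i M)) := by
  intro M _ _ _
  refine ⟨fun h p _ i hi => ?_, ?_⟩
  · haveI := h i hi
    exact Module.Finite.of_isLocalizedModule p.primeCompl
      (LocalizedModule.mkLinearMap p.primeCompl (LocCoh.H I i M))
  induction n generalizing M with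
  | zero =>
    intro _ i hi
    obtain rfl : i = 0 := by omega
    exact H_finite_zero I M
  | succ n ih =>
    intro h i hi
    rcases eq_or_lt_of_le hi with rfl | hlt
    swap
    · exact ih M (fun p _ j hj => h p j (by omega)) i (by omega)
    set M' := M ⧸ DRing.torsionSub I M
    have hM' : ∀ (p : Ideal R) [p.IsPrime], ∀ j ≤ n + 1,
        Module.Finite (Localization.AtPrime p) (LocalizedModule p.primeCompl (LocCoh.H I j M')) := by
      intro p _ j hj
      haveI := h p j hj
      refine Module.Finite.of_surjective (LocalizedModule.map p.primeCompl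
        ((localCohomology I j).map (ModuleCat.ofHom (DRing.torsionSub I M).mkQ)).hom)
        (LocalizedModule.map_surjective _ _ fun z => ?_)
      rcases Nat.eq_zero_or_pos j with rfl | hj0
      · haveI := (subsingleton_H0_iff I M').2 (torsionSub_quotient_eq_bot I M)
        exact ⟨0, Subsingleton.elim _ _⟩
      · exact (H_map_mkQ_torsionSub_bijective I M hj0).2 z
    obtain ⟨x, hxI, hreg⟩ := exists_regular_mem I M' (torsionSub_quotient_eq_bot I M)
    have hS := (show IsSMulRegular (ModuleCat.of R M') x from hreg).smulShortComplex_shortExact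
    haveI := ih (QuotSMulTop x M') (fun p _ j hj => by
      haveI := hM' p j (by omega)
      haveI := hM' p (j + 1) (by omega)
      let gH : LocCoh.H I j M' →ₗ[R] LocCoh.H I j (QuotSMulTop x M') :=
        ((localCohomology I j).map (ModuleCat.smulShortComplex (ModuleCat.of R M') x).g).hom
      let δ : LocCoh.H I j (QuotSMulTop x M') →ₗ[R] LocCoh.H I (j + 1) M' := Hδ I hS j
      exact finite_localized_of_exact gH δ (H_exact₃ I hS j) p) n le_rfl
    haveI : Module.Finite R (LocCoh.H I (n + 1) M') := by
      refine finite_of_local (x := x) (fun z => ?_) ?_ fun p => hM' p.asIdeal (n + 1) le_rfl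
      · obtain ⟨m, hm⟩ := isPowerTorsion_H I (n + 1) (ModuleCat.of R M') z
        exact ⟨m, hm _ (Ideal.pow_mem_pow hxI m)⟩
      · let δ : LocCoh.H I n (QuotSMulTop x M') →ₗ[R] LocCoh.H I (n + 1) M' := Hδ I hS n
        have : Submodule.torsionBy R (LocCoh.H I (n + 1) M') x = LinearMap.range δ :=
          Submodule.ext fun z => (Submodule.mem_torsionBy_iff _ _).trans (mem_range_Hδ_iff I hreg n z).symm
        rw [this]
        exact LinearMap.range_eq_map δ ▸ Module.Finite.fg_top.map δ
    exact Module.Finite.equiv (LinearEquiv.ofBijective _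
      (H_map_mkQ_torsionSub_bijective I M n.succ_pos)).symm

end Finite

end Groth.L04.LC
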