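import Groth.Agent.L04.LC.Basic
import Groth.Agent.L04.InjNoeth
import Groth.Prelude.Def_Wider
import Mathlib.Algebra.Module.Injective
import Mathlib.Algebra.Homology.ShortComplex.ModuleCat

/-!
# Local cohomology of torsion modules, dimension shifting
-/

universe u

open CategoryTheory Limits

namespace Groth.L04.LC

variable {R : Type u} [CommRing R] (I : Ideal R)

section SES

variable {M N Q : Type u} [AddCommGroup M] [Module R M] [AddCommGroup N] [Module R N]
  [AddCommGroup Q] [Module R Q] (f : M →ₗ[R] N) (g : N →ₗ[R] Q)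

/-- A short complex from two composable linear maps. -/
abbrev ses (h : g.comp f = 0) : ShortComplex (ModuleCat.{u} R) :=
  ShortComplex.mk (ModuleCat.ofHom f) (ModuleCat.ofHom g) (ModuleCat.hom_ext h)

theorem ses_shortExact (hf : Function.Injective f) (hg : Function.Surjective g)
    (hfg : Function.Exact f g) : (ses f g hfg.linearMap_comp_eq_zero).ShortExact where
  exact := (ShortComplex.ShortExact.moduleCat_exact_iff_function_exact _).2 hfg
  mono_f := (ModuleCat.mono_iff_injective _).2 hf
  epi_g := (ModuleCat.epi_iff_surjective _).2 hg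

theorem quotient_shortExact (hf : Function.Injective f) :
    (ses f (LinearMap.range f).mkQ (LinearMap.range_mkQ_comp f)).ShortExact :=
  ses_shortExact f (LinearMap.range f).mkQ hf (Submodule.mkQ_surjective _)
    (LinearMap.exact_map_mkQ_range f)

end SES

section Shift

variable {S : ShortComplex (ModuleCat.{u} R)} (hS : S.ShortExact)

theorem Hδ_bijective (i : ℕ) (h0 : Subsingleton ((localCohomology I i).obj S.X₂))
    (h1 : Subsingleton ((localCohomology I (i + 1)).obj S.X₂)) :
    Function.Bijective (Hδ I hS i) := by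
  constructor
  · rw [← LinearMap.ker_eq_bot, Submodule.eq_bot_iff]
    intro x hx
    obtain ⟨y, rfl⟩ := (H_exact₃ I hS i x).1 hx
    rw [Subsingleton.elim y 0, map_zero]
  · intro x
    exact (H_exact₁ I hS i x).1 (Subsingleton.elim _ _)

theorem Hδ_surjective (i : ℕ) (h1 : Subsingleton ((localCohomology I (i + 1)).obj S.X₂)) :
    Function.Surjective (Hδ I hS i) := fun x => (H_exact₁ I hS i x).1 (Subsingleton.elim _ _)

include hS in
theorem subsingleton_H_left (i : ℕ) (h3 : Subsingleton ((localCohomology I i).obj S.X₃))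
    (h2 : Subsingleton ((localCohomology I (i + 1)).obj S.X₂)) :
    Subsingleton ((localCohomology I (i + 1)).obj S.X₁) :=
  (Hδ_surjective I hS i h2).subsingleton

include hS in
theorem subsingleton_H_mid (i : ℕ) (h1 : Subsingleton ((localCohomology I i).obj S.X₁))
    (h3 : Subsingleton ((localCohomology I i).obj S.X₃)) :
    Subsingleton ((localCohomology I i).obj S.X₂) := by
  refine subsingleton_of_forall_eq 0 fun x => ?_
  obtain ⟨y, rfl⟩ := (H_exact₂ I hS i x).1 (Subsingleton.elim _ _)
  rw [Subsingleton.elim y 0, map_zero]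

include hS in
theorem subsingleton_H_right (i : ℕ) (h2 : Subsingleton ((localCohomology I i).obj S.X₂))
    (h1 : Subsingleton ((localCohomology I (i + 1)).obj S.X₁)) :
    Subsingleton ((localCohomology I i).obj S.X₃) := by
  refine subsingleton_of_forall_eq 0 fun x => ?_
  obtain ⟨y, rfl⟩ := (H_exact₃ I hS i x).1 (Subsingleton.elim _ _)
  rw [Subsingleton.elim y 0, map_zero]

include hS in
theorem H_map_g_bijective (i : ℕ) (h1 : Subsingleton ((localCohomology I i).obj S.X₁))
    (h1' : Subsingleton ((localCohomology I (i + 1)).obj S.X₁)) :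
    Function.Bijective ((localCohomology I i).map S.g).hom := by
  constructor
  · rw [← LinearMap.ker_eq_bot, Submodule.eq_bot_iff]
    intro x hx
    obtain ⟨y, rfl⟩ := (H_exact₂ I hS i x).1 hx
    rw [Subsingleton.elim y 0, map_zero]
  · intro x
    exact (H_exact₃ I hS i x).1 (Subsingleton.elim _ _)

include hS in
theorem H_map_f_bijective (i : ℕ) (h3 : Subsingleton ((localCohomology I i).obj S.X₃))
    (h3' : Subsingleton ((localCohomology I (i + 1)).obj S.X₃)) :
    Function.Bijective ((localCohomology I (i + 1)).map S.f).hom := by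
  constructor
  · rw [← LinearMap.ker_eq_bot, Submodule.eq_bot_iff]
    intro x hx
    obtain ⟨y, rfl⟩ := (H_exact₁ I hS i x).1 hx
    rw [Subsingleton.elim y 0, map_zero]
  · intro x
    exact (H_exact₂ I hS (i + 1) x).1 (Subsingleton.elim _ _)

end Shift

theorem subsingleton_H_injective (E : Type u) [AddCommGroup E] [Module R E]
    (hE : Module.Injective R E) (i : ℕ) : Subsingleton (LocCoh.H I (i + 1) E) := by
  haveI : Injective (ModuleCat.of R E) := Module.injective_object_of_injective_module R E
  exact subsingleton_H_succ_of_injective I i (ModuleCat.of R E)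

theorem exists_injective_embedding (M : Type u) [AddCommGroup M] [Module R M] :
    ∃ (E : Type u) (_ : AddCommGroup E) (_ : Module R E) (f : M →ₗ[R] E),
      Function.Injective f ∧ Module.Injective R E := by
  obtain ⟨pr⟩ := EnoughInjectives.presentation (ModuleCat.of R M)
  haveI := pr.injective
  exact ⟨pr.J, inferInstance, inferInstance, pr.f.hom, (ModuleCat.mono_iff_injective _).1 pr.mono,
    Module.injective_module_of_injective_object R pr.J⟩

theorem torsionSub_eq_top {M : Type u} [AddCommGroup M] [Module R M]
    (hM : LocCoh.IsPowerTorsion I M) : DRing.torsionSub I M = ⊤ :=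
  eq_top_iff.2 fun m _ => hM m

theorem isPowerTorsion_torsionSub (M : Type u) [AddCommGroup M] [Module R M] :
    LocCoh.IsPowerTorsion I (DRing.torsionSub I M) := fun m => by
  obtain ⟨n, hn⟩ := m.2
  exact ⟨n, fun a ha => Subtype.ext (hn a ha)⟩

theorem isPowerTorsion_of_surjective {M N : Type u} [AddCommGroup M] [Module R M] [AddCommGroup N]
    [Module R N] (g : M →ₗ[R] N) (hg : Function.Surjective g) (hM : LocCoh.IsPowerTorsion I M) :
    LocCoh.IsPowerTorsion I N := fun x => by
  obtain ⟨y, rfl⟩ := hg x
  obtain ⟨n, hn⟩ := hM y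
  exact ⟨n, fun a ha => by rw [← map_smul, hn a ha, map_zero]⟩

/-- `H⁰_I(N) = N` for a torsion module. -/
noncomputable def H0TorsionEquiv (N : Type u) [AddCommGroup N] [Module R N]
    (hN : LocCoh.IsPowerTorsion I N) : LocCoh.H I 0 N ≃ₗ[R] N :=
  (H0Equiv I (ModuleCat.of R N)).trans (LinearEquiv.ofTop _ (torsionSub_eq_top I hN))

theorem H0_map_surjective {M N : Type u} [AddCommGroup M] [Module R M] [AddCommGroup N]
    [Module R N] (g : M →ₗ[R] N) (hg : Function.Surjective g) (hM : LocCoh.IsPowerTorsion I M) :
    Function.Surjective ((localCohomology I 0).map (ModuleCat.ofHom g)).hom := by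
  intro x
  obtain ⟨y, hy⟩ := hg (evalZero I (ModuleCat.of R N) x)
  refine ⟨(H0Equiv I (ModuleCat.of R M)).symm ⟨y, (torsionSub_eq_top I hM).ge trivial⟩,
    evalZero_injective I (ModuleCat.of R N) ?_⟩
  rw [evalZero_natural, ← H0Equiv_apply, LinearEquiv.apply_symm_apply]
  exact hy

theorem subsingleton_H_of_isPowerTorsion [IsNoetherianRing R] : ∀ (p : ℕ) (N : Type u)
    [AddCommGroup N] [Module R N], LocCoh.IsPowerTorsion I N →
      Subsingleton (LocCoh.H I (p + 1) N) := by
  intro p
  induction p with
  | zero =>
    intro N _ _ hN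
    obtain ⟨E₀, _, _, f₀, hf₀, hE₀⟩ := exists_injective_embedding (R := R) N
    let f : N →ₗ[R] powTorsion I E₀ := f₀.codRestrict _ fun x => mem_powTorsion.2 (by
      obtain ⟨n, hn⟩ := hN x
      exact ⟨n, fun a ha => by rw [← map_smul, hn a ha, map_zero]⟩)
    have hf : Function.Injective f := fun a b hab => hf₀ (congrArg Subtype.val hab)
    have hS := quotient_shortExact f hf
    have hE := subsingleton_H_injective I _ (injective_powTorsion hE₀ I) 0
    have hsurj := H0_map_surjective I (LinearMap.range f).mkQ (Submodule.mkQ_surjective _)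
      (isPowerTorsion_powTorsion I E₀)
    refine subsingleton_of_forall_eq 0 fun x => ?_
    obtain ⟨y, rfl⟩ := Hδ_surjective I hS 0 hE x
    obtain ⟨z, rfl⟩ := hsurj y
    exact (H_exact₃ I hS 0).apply_apply_eq_zero z
  | succ p ih =>
    intro N _ _ hN
    obtain ⟨E₀, _, _, f₀, hf₀, hE₀⟩ := exists_injective_embedding (R := R) N
    let f : N →ₗ[R] powTorsion I E₀ := f₀.codRestrict _ fun x => mem_powTorsion.2 (by
      obtain ⟨n, hn⟩ := hN x
      exact ⟨n, fun a ha => by rw [← map_smul, hn a ha, map_zero]⟩)
    have hf : Function.Injective f := fun a b hab => hf₀ (congrArg Subtype.val hab)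
    have hS := quotient_shortExact f hf
    exact subsingleton_H_left I hS (p + 1)
      (ih _ (isPowerTorsion_of_surjective I _ (Submodule.mkQ_surjective _)
        (isPowerTorsion_powTorsion I E₀)))
      (subsingleton_H_injective I _ (injective_powTorsion hE₀ I) (p + 1))

theorem subsingleton_H_pos_of_isPowerTorsion [IsNoetherianRing R] {i : ℕ} (hi : 0 < i) (N : Type u)
    [AddCommGroup N] [Module R N] (hN : LocCoh.IsPowerTorsion I N) :
    Subsingleton (LocCoh.H I i N) := by
  obtain ⟨p, rfl⟩ := Nat.exists_eq_add_of_le hi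
  rw [show 1 + p = p + 1 by omega]
  exact subsingleton_H_of_isPowerTorsion I p N hN

theorem H_map_mkQ_torsionSub_bijective [IsNoetherianRing R] (N : Type u) [AddCommGroup N]
    [Module R N] {i : ℕ} (hi : 0 < i) :
    Function.Bijective
      ((localCohomology I i).map (ModuleCat.ofHom (DRing.torsionSub I N).mkQ)).hom := by
  have hS := ses_shortExact (DRing.torsionSub I N).subtype (DRing.torsionSub I N).mkQ
    (Submodule.injective_subtype _) (Submodule.mkQ_surjective _)
    (LinearMap.exact_subtype_mkQ _)
  exact H_map_g_bijective I hS i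
    (subsingleton_H_pos_of_isPowerTorsion I hi _ (isPowerTorsion_torsionSub I N))
    (subsingleton_H_pos_of_isPowerTorsion I i.succ_pos _ (isPowerTorsion_torsionSub I N))

end Groth.L04.LC
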