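import Groth.Agent.L04.LC.ExtColim
import Groth.Prelude.Def_DRing3
import Mathlib.Algebra.Homology.LocalCohomology
import Mathlib.Algebra.Category.ModuleCat.Ext.HasExt
import Mathlib.Algebra.Category.ModuleCat.Ext.Basic
import Mathlib.Algebra.Category.ModuleCat.EnoughInjectives
import Mathlib.Algebra.Category.ModuleCat.FilteredColimits

/-!
# Local cohomology: element API, long exact sequence, degree zero
-/

universe u

open CategoryTheory Opposite Limits Abelian

namespace Groth.L04.LC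

variable {R : Type u} [CommRing R] (I : Ideal R)

instance preservesColimitsOfShape_forget_nat :
    PreservesColimitsOfShape ℕᵒᵖᵒᵖ (forget (ModuleCat.{u} R)) :=
  haveI : PreservesFilteredColimitsOfSize.{0, 0} (forget (ModuleCat.{u} R)) :=
    preservesFilteredColimitsOfSize_shrink.{0, u, 0, u} _
  inferInstance

/-- The system `n ↦ R ⧸ I ^ n`. -/
noncomputable abbrev P : ℕᵒᵖ ⥤ ModuleCat.{u} R :=
  localCohomology.ringModIdeals (localCohomology.idealPowersDiagram I)

/-- The module `R ⧸ I ^ n`. -/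
abbrev quot (n : ℕ) : ModuleCat.{u} R := ModuleCat.of R (R ⧸ I ^ n)

/-- The projection `R ⧸ I ^ m ⟶ R ⧸ I ^ n`. -/
noncomputable abbrev quotMap {n m : ℕ} (h : n ≤ m) : quot I m ⟶ quot I n :=
  ModuleCat.ofHom (Submodule.factor (Ideal.pow_le_pow_right h))

theorem quotMap_apply {n m : ℕ} (h : n ≤ m) (r : R) :
    (quotMap I h).hom (Submodule.Quotient.mk r) = Submodule.Quotient.mk r := rfl

theorem map_P {n m : ℕ} (h : n ≤ m) : (P I).map (homOfLE h).op = quotMap I h := by
  ext x
  obtain ⟨r, rfl⟩ := Submodule.Quotient.mk_surjective _ x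
  rfl

/-- The structure map of local cohomology. -/
noncomputable def Hι (i n : ℕ) (M : ModuleCat.{u} R) :
    Ext (quot I n) M i →ₗ[R] (localCohomology I i).obj M :=
  ι R (P I) i (op n) M

variable (i : ℕ)

theorem Hι_map {n m : ℕ} (h : n ≤ m) (M : ModuleCat.{u} R) (a : Ext (quot I n) M i) :
    Hι I i m M ((Ext.mk₀ (quotMap I h)).comp a (zero_add i)) = Hι I i n M a := by
  rw [← map_P]
  exact ι_map R (P I) i (homOfLE h).op M a

theorem map_Hι (n : ℕ) {M N : ModuleCat.{u} R} (g : M ⟶ N) (a : Ext (quot I n) M i) :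
    ((localCohomology I i).map g).hom (Hι I i n M a) =
      Hι I i n N (a.comp (Ext.mk₀ g) (add_zero i)) :=
  map_ι R (P I) i (op n) g a

theorem Hι_surjective (M : ModuleCat.{u} R) (x : (localCohomology I i).obj M) :
    ∃ (n : ℕ) (a : Ext (quot I n) M i), Hι I i n M a = x := by
  obtain ⟨⟨n⟩, a, h⟩ := ι_jointly_surjective R (P I) i M x
  exact ⟨n, a, h⟩

theorem Hι_eq_zero_iff {n : ℕ} {M : ModuleCat.{u} R} {a : Ext (quot I n) M i} :
    Hι I i n M a = 0 ↔
      ∃ (m : ℕ) (h : n ≤ m), (Ext.mk₀ (quotMap I h)).comp a (zero_add i) = 0 := by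
  constructor
  · intro h
    obtain ⟨⟨m⟩, w, hw⟩ := ι_eq_zero R (P I) i (t := op n) h
    refine ⟨m, w.unop.le, ?_⟩
    rw [← map_P]
    exact hw
  · rintro ⟨m, h, hm⟩
    rw [← Hι_map I i h, hm, map_zero]

theorem H_hom_ext {M : ModuleCat.{u} R} {N : Type*} [AddCommGroup N] [Module R N]
    {f g : (localCohomology I i).obj M →ₗ[R] N}
    (h : ∀ n a, f (Hι I i n M a) = g (Hι I i n M a)) : f = g := by
  refine LinearMap.ext fun x => ?_
  obtain ⟨n, a, rfl⟩ := Hι_surjective I i M x
  exact h n a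

theorem subsingleton_H_of_forall (M : ModuleCat.{u} R)
    (h : ∀ n, Subsingleton (Ext (quot I n) M i)) :
    Subsingleton ((localCohomology I i).obj M) := by
  refine subsingleton_of_forall_eq 0 fun x => ?_
  obtain ⟨n, a, rfl⟩ := Hι_surjective I i M x
  rw [@Subsingleton.elim _ (h n) a 0, map_zero]

theorem subsingleton_H_succ_of_injective (E : ModuleCat.{u} R) [Injective E] :
    Subsingleton ((localCohomology I (i + 1)).obj E) :=
  isZero_of_injective R (P I) i E

theorem smul_Hι_eq_zero {n : ℕ} {M : ModuleCat.{u} R} (a : Ext (quot I n) M i) {r : R}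
    (hr : r ∈ I ^ n) : r • Hι I i n M a = 0 := by
  have h : r • 𝟙 (quot I n) = 0 := by
    refine ModuleCat.hom_ext (LinearMap.ext fun x => ?_)
    obtain ⟨y, rfl⟩ := Submodule.Quotient.mk_surjective _ x
    simp only [ModuleCat.hom_smul, ModuleCat.hom_id, LinearMap.smul_apply, LinearMap.id_apply,
      ModuleCat.hom_zero, LinearMap.zero_apply]
    rw [← Submodule.Quotient.mk_smul, Submodule.Quotient.mk_eq_zero, smul_eq_mul]
    exact Ideal.mul_mem_right _ _ hr
  rw [← map_smul]
  conv_lhs => rw [← Ext.mk₀_id_comp a]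
  rw [← Ext.smul_comp, ← Ext.mk₀_smul, h, Ext.mk₀_zero, Ext.zero_comp, map_zero]

theorem isPowerTorsion_H (M : ModuleCat.{u} R) :
    ∀ x : (localCohomology I i).obj M, ∃ n : ℕ, ∀ a ∈ I ^ n, a • x = 0 := by
  intro x
  obtain ⟨n, a, rfl⟩ := Hι_surjective I i M x
  exact ⟨n, fun r hr => smul_Hι_eq_zero I i a hr⟩

section LES

variable {S : ShortComplex (ModuleCat.{u} R)} (hS : S.ShortExact)

/-- The connecting map in local cohomology. -/
noncomputable def Hδ (n : ℕ) :
    (localCohomology I n).obj S.X₃ →ₗ[R] (localCohomology I (n + 1)).obj S.X₁ :=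
  δ R (P I) hS n

theorem Hδ_Hι (i n : ℕ) (a : Ext (quot I n) S.X₃ i) :
    Hδ I hS i (Hι I i n S.X₃ a) = Hι I (i + 1) n S.X₁ (a.comp hS.extClass rfl) :=
  δ_ι R (P I) hS i (op n) a

include hS in
theorem H_exact₂ (n : ℕ) :
    Function.Exact ((localCohomology I n).map S.f).hom ((localCohomology I n).map S.g).hom :=
  exact₂ R (P I) hS n

theorem H_exact₃ (n : ℕ) :
    Function.Exact ((localCohomology I n).map S.g).hom (Hδ I hS n) :=
  exact₃ R (P I) hS n

theorem H_exact₁ (n : ℕ) :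
    Function.Exact (Hδ I hS n) ((localCohomology I (n + 1)).map S.f).hom :=
  exact₁ R (P I) hS n

include hS in
theorem injective_H_map_f : Function.Injective ((localCohomology I 0).map S.f).hom :=
  injective_map_f R (P I) hS

theorem Hδ_naturality {S' : ShortComplex (ModuleCat.{u} R)} (hS' : S'.ShortExact) (φ : S ⟶ S')
    (n : ℕ) : ((localCohomology I (n + 1)).map φ.τ₁).hom.comp (Hδ I hS n) =
      (Hδ I hS' n).comp ((localCohomology I n).map φ.τ₃).hom :=
  δ_naturality R (P I) hS hS' φ n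

end LES

section DegreeZero

/-- Evaluation at `1`. -/
noncomputable def evalOne (n : ℕ) (M : ModuleCat.{u} R) : Ext (quot I n) M 0 →ₗ[R] M :=
  (LinearMap.applyₗ (Submodule.Quotient.mk (1 : R) : quot I n)).comp
    ((ModuleCat.homLinearEquiv (S := R)).toLinearMap.comp
      (Ext.linearEquiv₀ : Ext (quot I n) M 0 ≃ₗ[R] (quot I n ⟶ M)).toLinearMap)

theorem evalOne_mk₀ (n : ℕ) (M : ModuleCat.{u} R) (f : quot I n ⟶ M) :
    evalOne I n M (Ext.mk₀ f) = f.hom (Submodule.Quotient.mk 1) := by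
  have : (Ext.linearEquiv₀ : Ext (quot I n) M 0 ≃ₗ[R] _) (Ext.mk₀ f) = f :=
    Ext.addEquiv₀.right_inv f
  simp only [evalOne, LinearMap.comp_apply, LinearEquiv.coe_coe]
  rw [this]
  rfl

/-- Degree-zero local cohomology maps to the module. -/
noncomputable def evalZero (M : ModuleCat.{u} R) : (localCohomology I 0).obj M →ₗ[R] M :=
  desc R (P I) 0 (fun t => evalOne I t.unop M) (fun s t w a => by
    obtain ⟨f, rfl⟩ := Ext.homEquiv₀.symm.surjective a
    change evalOne I s.unop M ((Ext.mk₀ ((P I).map w)).comp (Ext.mk₀ f) (zero_add 0)) =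
      evalOne I t.unop M (Ext.mk₀ f)
    rw [Ext.mk₀_comp_mk₀]
    exact (evalOne_mk₀ I s.unop M _).trans (evalOne_mk₀ I t.unop M f).symm)

theorem evalZero_Hι (n : ℕ) (M : ModuleCat.{u} R) (f : quot I n ⟶ M) :
    evalZero I M (Hι I 0 n M (Ext.mk₀ f)) = f.hom (Submodule.Quotient.mk 1) :=
  (desc_ι R (P I) 0 _ _ (op n) (Ext.mk₀ f)).trans (evalOne_mk₀ I n M f)

theorem evalZero_injective (M : ModuleCat.{u} R) : Function.Injective (evalZero I M) := by
  rw [← LinearMap.ker_eq_bot, Submodule.eq_bot_iff]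
  intro x hx
  obtain ⟨n, a, rfl⟩ := Hι_surjective I 0 M x
  obtain ⟨f, rfl⟩ := Ext.homEquiv₀.symm.surjective a
  have h1 : f.hom (Submodule.Quotient.mk 1) = 0 := (evalZero_Hι I n M f).symm.trans hx
  have : f = 0 := by
    refine ModuleCat.hom_ext (LinearMap.ext fun y => ?_)
    obtain ⟨y, rfl⟩ := Submodule.Quotient.mk_surjective _ y
    rw [show (Submodule.Quotient.mk y : R ⧸ I ^ n) = y • Submodule.Quotient.mk 1 by
      rw [← Submodule.Quotient.mk_smul, smul_eq_mul, mul_one]]
    rw [map_smul, h1, smul_zero]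
    rfl
  subst this
  change Hι I 0 n M (Ext.mk₀ 0) = 0
  rw [Ext.mk₀_zero, map_zero]

theorem range_evalZero (M : ModuleCat.{u} R) :
    LinearMap.range (evalZero I M) = DRing.torsionSub I M := by
  refine le_antisymm ?_ fun m hm => ?_
  · rintro _ ⟨x, rfl⟩
    obtain ⟨n, hn⟩ := isPowerTorsion_H I 0 M x
    exact ⟨n, fun a ha => by rw [← map_smul, hn a ha, map_zero]⟩
  · obtain ⟨n, hn⟩ := hm
    let f : quot I n ⟶ M := ModuleCat.ofHom (Submodule.liftQ _ (LinearMap.toSpanSingleton R M m)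
      (fun a ha => by simpa using hn a ha))
    exact ⟨Hι I 0 n M (Ext.mk₀ f), (evalZero_Hι I n M f).trans (one_smul R m)⟩

/-- `H⁰_I = Γ_I`. -/
noncomputable def H0Equiv (M : ModuleCat.{u} R) :
    (localCohomology I 0).obj M ≃ₗ[R] DRing.torsionSub I M :=
  (LinearEquiv.ofInjective _ (evalZero_injective I M)).trans
    (LinearEquiv.ofEq _ _ (range_evalZero I M))

theorem H0Equiv_apply (M : ModuleCat.{u} R) (x : (localCohomology I 0).obj M) :
    (H0Equiv I M x : M) = evalZero I M x := rfl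

theorem evalZero_natural {M N : ModuleCat.{u} R} (g : M ⟶ N) (x : (localCohomology I 0).obj M) :
    evalZero I N (((localCohomology I 0).map g).hom x) = g.hom (evalZero I M x) := by
  obtain ⟨n, a, rfl⟩ := Hι_surjective I 0 M x
  obtain ⟨f, rfl⟩ := Ext.homEquiv₀.symm.surjective a
  rw [map_Hι]
  change evalZero I N (Hι I 0 n N ((Ext.mk₀ f).comp (Ext.mk₀ g) (add_zero 0))) =
    g.hom (evalZero I M (Hι I 0 n M (Ext.mk₀ f)))
  rw [Ext.mk₀_comp_mk₀, evalZero_Hι, evalZero_Hι]
  rfl

/-- `H⁰_I ≅ Γ_I` as functors. -/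
noncomputable def H0Iso : localCohomology I 0 ≅ DRing.gammaI I :=
  NatIso.ofComponents (fun M => (H0Equiv I M).toModuleIso)
    (fun {M N} g => ModuleCat.hom_ext (LinearMap.ext fun x => Subtype.ext (evalZero_natural I g x)))

end DegreeZero

end Groth.L04.LC
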