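import Groth.Agent.L04.LC.Annihilate
import Mathlib.Algebra.Homology.DerivedCategory.Ext.Linear
import Mathlib.Algebra.Module.FinitePresentation

/-!
# `Ext` of a finite module commutes with localization

`Ext^k_R(M, N)_S ≅ Ext^k_{R_S}(M_S, N_S)` for `R` Noetherian and `M` finite.
-/

universe u

open CategoryTheory Abelian

namespace Groth.L04.LC

section Shift

variable {A : Type u} [CommRing A] {K F M : Type u} [AddCommGroup K] [Module A K] [AddCommGroup F]
  [Module A F] [AddCommGroup M] [Module A M] [Module.Projective A F] (f : K →ₗ[A] F) (g : F →ₗ[A] M)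

/-- `Ext¹(M, N)` is the cokernel of `Hom(F, N) → Hom(K, N)`. -/
theorem nonempty_ext_one_equiv (hf : Function.Injective f) (hg : Function.Surjective g)
    (hfg : Function.Exact f g) (N : Type u) [AddCommGroup N] [Module A N] :
    Nonempty (Ext (ModuleCat.of A M) (ModuleCat.of A N) 1 ≃ₗ[A]
      (K →ₗ[A] N) ⧸ LinearMap.range (f.lcomp A N)) := by
  have hS := ses_shortExact f g hf hg hfg
  haveI : Projective (ModuleCat.of A F) := (IsProjective.iff_projective (R := A) F).1 ‹_›
  let ι : (K →ₗ[A] N) ≃ₗ[A] Ext (ModuleCat.of A K) (ModuleCat.of A N) 0 :=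
    (ModuleCat.homLinearEquiv (S := A) (M := ModuleCat.of A K) (N := ModuleCat.of A N)).symm ≪≫ₗ (Ext.linearEquiv₀ (R := A)).symm
  let ψ : (K →ₗ[A] N) →ₗ[A] Ext (ModuleCat.of A M) (ModuleCat.of A N) 1 :=
    (Ext.bilinearCompOfLinear A _ _ _ 1 0 1 rfl hS.extClass).comp ι.toLinearMap
  have hψ : ∀ h, ψ h = hS.extClass.comp (ι h) rfl := fun h => rfl
  have hι : ∀ h : K →ₗ[A] N, ι h = Ext.mk₀ (ModuleCat.ofHom h) := fun h => rfl
  have hsurj : Function.Surjective ψ := fun x => by
    obtain ⟨y, hy⟩ := Ext.contravariant_sequence_exact₃ hS (ModuleCat.of A N) x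
      (Ext.eq_zero_of_projective _) (add_comm 1 0 : 1 + 0 = 1)
    exact ⟨ι.symm y, by rw [hψ, ι.apply_symm_apply]; exact hy⟩
  have hker : LinearMap.ker ψ = LinearMap.range (f.lcomp A N) := by
    ext h
    rw [LinearMap.mem_ker, hψ, hι]
    constructor
    · intro h0
      obtain ⟨x, hx⟩ := Ext.contravariant_sequence_exact₁ hS (ModuleCat.of A N)
        (Ext.mk₀ (ModuleCat.ofHom h)) rfl h0
      obtain ⟨φ, rfl⟩ := Ext.homEquiv₀.symm.surjective x
      change (Ext.mk₀ _).comp (Ext.mk₀ φ) (zero_add 0) = _ at hx
      rw [Ext.mk₀_comp_mk₀] at hx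
      exact ⟨φ.hom, congrArg ModuleCat.Hom.hom ((Ext.mk₀_bijective _ _).1 hx)⟩
    · rintro ⟨φ, rfl⟩
      rw [show ModuleCat.ofHom (f.lcomp A N φ) = (ses f g hfg.linearMap_comp_eq_zero).f ≫
        ModuleCat.ofHom φ from rfl, ← Ext.mk₀_comp_mk₀]
      exact hS.extClass_comp_assoc _
  exact ⟨(ψ.quotKerEquivOfSurjective hsurj).symm ≪≫ₗ Submodule.quotEquivOfEq _ _ hker⟩

/-- Dimension shifting. -/
theorem nonempty_ext_succ_equiv (hf : Function.Injective f) (hg : Function.Surjective g)
    (hfg : Function.Exact f g) (N : Type u) [AddCommGroup N] [Module A N] (k : ℕ) :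
    Nonempty (Ext (ModuleCat.of A M) (ModuleCat.of A N) (k + 2) ≃ₗ[A]
      Ext (ModuleCat.of A K) (ModuleCat.of A N) (k + 1)) := by
  have hS := ses_shortExact f g hf hg hfg
  haveI : Projective (ModuleCat.of A F) := (IsProjective.iff_projective (R := A) F).1 ‹_›
  let ψ : Ext (ModuleCat.of A K) (ModuleCat.of A N) (k + 1) →ₗ[A]
      Ext (ModuleCat.of A M) (ModuleCat.of A N) (k + 2) :=
    Ext.bilinearCompOfLinear A _ _ _ 1 (k + 1) (k + 2) (by omega) hS.extClass
  refine ⟨(LinearEquiv.ofBijective ψ ⟨?_, fun x => ?_⟩).symm⟩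
  · rw [injective_iff_map_eq_zero]
    intro x hx
    obtain ⟨y, hy⟩ := Ext.contravariant_sequence_exact₁ hS (ModuleCat.of A N) x
      (by omega : 1 + (k + 1) = k + 2) hx
    rw [← hy, show y = 0 from Ext.eq_zero_of_projective _, Ext.comp_zero]
  · exact Ext.contravariant_sequence_exact₃ hS (ModuleCat.of A N) x (Ext.eq_zero_of_projective _)
      (by omega : 1 + (k + 1) = k + 2)

end Shift

section Localization

variable {R : Type u} [CommRing R] (S : Submonoid R)

/-- Localization of a linear equivalence. -/
noncomputable def locEquiv {P Q : Type u} [AddCommGroup P] [Module R P] [AddCommGroup Q] [Module R Q]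
    (e : P ≃ₗ[R] Q) : LocalizedModule S P ≃ₗ[Localization S] LocalizedModule S Q :=
  LinearEquiv.ofBijective (LocalizedModule.map S e.toLinearMap)
    ⟨LocalizedModule.map_injective S e.toLinearMap e.injective,
      LocalizedModule.map_surjective S e.toLinearMap e.surjective⟩

/-- `Hom(M, N)_S ≅ Hom(M_S, N_S)`. -/
noncomputable def locHomEquiv (M N : Type u) [AddCommGroup M] [Module R M] [AddCommGroup N] [Module R N]
    [Module.FinitePresentation R M] :
    LocalizedModule S (M →ₗ[R] N) ≃ₗ[Localization S]
      (LocalizedModule S M →ₗ[Localization S] LocalizedModule S N) :=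
  (IsLocalizedModule.iso S (LocalizedModule.map S (M := M) (N := N))).extendScalarsOfIsLocalization S
    (Localization S)

theorem locHomEquiv_mk {M N : Type u} [AddCommGroup M] [Module R M] [AddCommGroup N] [Module R N]
    [Module.FinitePresentation R M] (h : M →ₗ[R] N) :
    locHomEquiv S M N (LocalizedModule.mkLinearMap S _ h) = LocalizedModule.map S h :=
  IsLocalizedModule.iso_mk_one S _ h

variable [IsNoetherianRing R]

theorem nonempty_localized_coker_equiv {K F N : Type u} [AddCommGroup K] [Module R K] [AddCommGroup F]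
    [Module R F] [AddCommGroup N] [Module R N] [Module.Finite R K] [Module.Finite R F]
    (f : K →ₗ[R] F) :
    Nonempty (LocalizedModule S ((K →ₗ[R] N) ⧸ LinearMap.range (f.lcomp R N)) ≃ₗ[Localization S]
      (LocalizedModule S K →ₗ[Localization S] LocalizedModule S N) ⧸
        LinearMap.range ((LocalizedModule.map S f).lcomp (Localization S) (LocalizedModule S N))) := by
  haveI : Module.FinitePresentation R K := Module.finitePresentation_of_finite R K
  haveI : Module.FinitePresentation R F := Module.finitePresentation_of_finite R F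
  let L := LinearMap.range (f.lcomp R N)
  let φ := LocalizedModule.map S (f.lcomp R N)
  let q := LocalizedModule.map S L.mkQ
  have hq : Function.Surjective q := LocalizedModule.map_surjective S _ L.mkQ_surjective
  have hker : LinearMap.ker q = LinearMap.range φ :=
    LinearMap.exact_iff.1 (LocalizedModule.map_exact S (f.lcomp R N) L.mkQ
      (LinearMap.exact_map_mkQ_range _))
  have hsq : (locHomEquiv S K N).toLinearMap.comp φ =
      ((LocalizedModule.map S f).lcomp (Localization S) (LocalizedModule S N)).comp
        (locHomEquiv S F N).toLinearMap := by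
    refine LinearMap.restrictScalars_injective R (IsLocalizedModule.linearMap_ext S
      (LocalizedModule.mkLinearMap S (F →ₗ[R] N)) (LocalizedModule.map S (M := K) (N := N)) ?_)
    refine LinearMap.ext fun h => ?_
    change locHomEquiv S K N (φ (LocalizedModule.mkLinearMap S _ h)) =
      (locHomEquiv S F N (LocalizedModule.mkLinearMap S _ h)).comp (LocalizedModule.map S f)
    rw [show φ (LocalizedModule.mkLinearMap S _ h) = LocalizedModule.mkLinearMap S _ (h.comp f) from
      LocalizedModule.map_mk S _ _ _, locHomEquiv_mk, locHomEquiv_mk]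
    refine LinearMap.ext fun x => ?_
    induction x using LocalizedModule.induction_on with
    | h m r => simp [LocalizedModule.map_mk]
  refine ⟨(q.quotKerEquivOfSurjective hq).symm ≪≫ₗ
    Submodule.Quotient.equiv _ _ (locHomEquiv S K N) ?_⟩
  rw [hker]
  refine (LinearMap.range_comp φ (locHomEquiv S K N).toLinearMap).symm.trans ?_
  rw [hsq, LinearMap.range_comp, LinearEquiv.range, Submodule.map_top]

/-- `Ext^k_R(M, N)_S ≅ Ext^k_{R_S}(M_S, N_S)`. -/
theorem nonempty_localized_ext_equiv : ∀ (k : ℕ) (M N : Type u) [AddCommGroup M] [Module R M]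
    [Module.Finite R M] [AddCommGroup N] [Module R N],
    Nonempty (LocalizedModule S (Ext (ModuleCat.of R M) (ModuleCat.of R N) k) ≃ₗ[Localization S]
      Ext (ModuleCat.of (Localization S) (LocalizedModule S M))
        (ModuleCat.of (Localization S) (LocalizedModule S N)) k) := by
  intro k
  induction k with
  | zero =>
    intro M N _ _ _ _ _
    haveI : Module.FinitePresentation R M := Module.finitePresentation_of_finite R M
    exact ⟨locEquiv S (Ext.linearEquiv₀ (R := R) ≪≫ₗ ModuleCat.homLinearEquiv (S := R)) ≪≫ₗ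
      locHomEquiv S M N ≪≫ₗ (ModuleCat.homLinearEquiv (S := Localization S)
        (M := ModuleCat.of (Localization S) (LocalizedModule S M))
        (N := ModuleCat.of (Localization S) (LocalizedModule S N))).symm ≪≫ₗ
        (Ext.linearEquiv₀ (R := Localization S)).symm⟩
  | succ k ih =>
    intro M N _ _ _ _ _
    obtain ⟨n, g, hg⟩ := Module.Finite.exists_fin' R M
    haveI : Module.Finite R (LinearMap.ker g) := Module.Finite.of_fg (IsNoetherian.noetherian _)
    haveI : Module.Projective (Localization S) (LocalizedModule S (Fin n → R)) := inferInstance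
    let fS := LocalizedModule.map S (LinearMap.ker g).subtype
    let gS := LocalizedModule.map S g
    have hfS : Function.Injective fS := LocalizedModule.map_injective S _ (LinearMap.ker g).injective_subtype
    have hgS : Function.Surjective gS := LocalizedModule.map_surjective S g hg
    have hexS : Function.Exact fS gS := LocalizedModule.map_exact S _ _ g.exact_subtype_ker_map
    match k, ih with
    | 0, _ =>
      obtain ⟨e⟩ := nonempty_ext_one_equiv (LinearMap.ker g).subtype g
        (LinearMap.ker g).injective_subtype hg g.exact_subtype_ker_map N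
      obtain ⟨e'⟩ := nonempty_ext_one_equiv (A := Localization S) (K := LocalizedModule S (LinearMap.ker g))
        (F := LocalizedModule S (Fin n → R)) fS gS hfS hgS hexS (LocalizedModule S N)
      obtain ⟨c⟩ := nonempty_localized_coker_equiv S (N := N) (LinearMap.ker g).subtype
      exact ⟨locEquiv S e ≪≫ₗ c ≪≫ₗ e'.symm⟩
    | k + 1, ih =>
      obtain ⟨e⟩ := nonempty_ext_succ_equiv (LinearMap.ker g).subtype g
        (LinearMap.ker g).injective_subtype hg g.exact_subtype_ker_map N k
      obtain ⟨e'⟩ := nonempty_ext_succ_equiv (A := Localization S) (K := LocalizedModule S (LinearMap.ker g))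
        (F := LocalizedModule S (Fin n → R)) fS gS hfS hgS hexS (LocalizedModule S N) k
      obtain ⟨c⟩ := ih (LinearMap.ker g) N
      exact ⟨locEquiv S e ≪≫ₗ c ≪≫ₗ e'.symm⟩

end Localization

end Groth.L04.LC
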