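import Mathlib.CategoryTheory.Abelian.Ext
import Mathlib.CategoryTheory.Abelian.Projective.Ext
import Mathlib.Algebra.Homology.DerivedCategory.Ext.Linear
import Mathlib.Algebra.Homology.ShortComplex.ModuleCat
import Mathlib.Algebra.Category.ModuleCat.Abelian

/-!
# The left derived `Ext` and the derived category `Ext`

`extIso : ((Ext R C n).obj (op X)).obj Y ≅ Abelian.Ext X Y n`, natural in both variables.
-/

universe v u t

open CategoryTheory Opposite Limits

namespace Groth.L04.LC

section Homology

variable {A : Type v} [Ring A] (K : CochainComplex (ModuleCat.{v} A) ℕ)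

theorem homologyπ_surjective (n : ℕ) : Function.Surjective (K.homologyπ n).hom :=
  (ModuleCat.epi_iff_surjective _).1 inferInstance

theorem iCycles_injective (n : ℕ) : Function.Injective (K.iCycles n).hom :=
  (ModuleCat.mono_iff_injective _).1 inferInstance

theorem d_iCycles (n : ℕ) (z : (K.cycles n : ModuleCat.{v} A)) (m : ℕ) :
    (K.d n m).hom ((K.iCycles n).hom z) = 0 := by
  rw [← ModuleCat.comp_apply, K.iCycles_d]
  rfl

theorem homologyπ_eq_zero_iff (n : ℕ) (z : (K.cycles n : ModuleCat.{v} A)) :
    (K.homologyπ n).hom z = 0 ↔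
      ∃ w : K.X ((ComplexShape.up ℕ).prev n),
        (K.d ((ComplexShape.up ℕ).prev n) n).hom w = (K.iCycles n).hom z := by
  have hex : (ShortComplex.mk _ _ (K.toCycles_comp_homologyπ ((ComplexShape.up ℕ).prev n) n)).Exact :=
    ShortComplex.exact_of_g_is_cokernel _ (K.homologyIsCokernel _ n rfl)
  rw [ShortComplex.moduleCat_exact_iff] at hex
  constructor
  · intro h
    obtain ⟨w, hw⟩ := hex z h
    exact ⟨w, by rw [← hw]; exact (ModuleCat.hom_ext_iff.1 (K.toCycles_i _ n) |> fun e =>
      (LinearMap.congr_fun e w).symm)⟩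
  · rintro ⟨w, hw⟩
    have h1 : (K.toCycles _ n).hom w = z := iCycles_injective K n
      ((LinearMap.congr_fun (ModuleCat.hom_ext_iff.1 (K.toCycles_i _ n)) w).trans hw)
    rw [← h1]
    exact LinearMap.congr_fun (ModuleCat.hom_ext_iff.1 (K.toCycles_comp_homologyπ _ n)) w

end Homology

section HomologyUnop

variable {V : Type u} [Category.{v} V] [Abelian V] {ι : Type*} {c : ComplexShape ι}

theorem homologyUnop_hom_naturality {K L : HomologicalComplex Vᵒᵖ c} (ψ : K ⟶ L) (i : ι) :
    HomologicalComplex.homologyMap ((HomologicalComplex.unopFunctor V c).map ψ.op) i ≫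
        (K.homologyUnop i).hom = (L.homologyUnop i).hom ≫ (HomologicalComplex.homologyMap ψ i).unop := by
  have h := HomologicalComplex.homologyOp_hom_naturality
    ((HomologicalComplex.unopFunctor V c).map ψ.op) i
  apply Quiver.Hom.op_inj
  dsimp only [HomologicalComplex.homologyUnop, op_comp, Iso.unop_hom, Quiver.Hom.op_unop]
  exact h.symm

end HomologyUnop

variable {C : Type u} [Category.{v} C] [Abelian C] [EnoughProjectives C]
  {R : Type v} [Ring R] [Linear R C]

section Maps

variable {X X' Y Y' : C} (P : ProjectiveResolution X) (P' : ProjectiveResolution X')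

/-- Precomposition with a map of resolutions. -/
noncomputable def precompMap (φ : P'.complex ⟶ P.complex) (Y : C) :
    P.complex.linearYonedaObj R Y ⟶ P'.complex.linearYonedaObj R Y :=
  (HomologicalComplex.unopFunctor _ _).map
    ((((linearYoneda R C).obj Y).rightOp.mapHomologicalComplex _).map φ).op

/-- Postcomposition with a map. -/
noncomputable def postcompMap (g : Y ⟶ Y') :
    P.complex.linearYonedaObj R Y ⟶ P.complex.linearYonedaObj R Y' :=
  (HomologicalComplex.unopFunctor _ _).map
    ((NatTrans.mapHomologicalComplex (((linearYoneda R C).map g).rightOp) _).app P.complex).op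

theorem isoExt_inv_naturality_left (g : X' ⟶ X) (φ : P'.complex ⟶ P.complex)
    (comm : φ.f 0 ≫ P.π.f 0 = P'.π.f 0 ≫ g) (n : ℕ) (Y : C) :
    (P.isoExt (R := R) n Y).inv ≫ ((Ext R C n).map g.op).app Y =
      HomologicalComplex.homologyMap (precompMap P P' φ Y) n ≫ (P'.isoExt (R := R) n Y).inv := by
  have h := congrArg Quiver.Hom.unop (ProjectiveResolution.isoLeftDerivedObj_hom_naturality g P' P φ comm
    ((linearYoneda R C).obj Y).rightOp n)
  have h' := homologyUnop_hom_naturality
    ((((linearYoneda R C).obj Y).rightOp.mapHomologicalComplex _).map φ) n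
  simp only [unop_comp] at h
  simp only [ProjectiveResolution.isoExt, Iso.trans_inv, Iso.symm_inv, Category.assoc]
  erw [h]
  erw [reassoc_of% h']
  rfl

theorem isoExt_inv_naturality_right (g : Y ⟶ Y') (n : ℕ) :
    (P.isoExt (R := R) n Y).inv ≫ ((Ext R C n).obj (op X)).map g =
      HomologicalComplex.homologyMap (postcompMap P g) n ≫ (P.isoExt (R := R) n Y').inv := by
  have h0 := ProjectiveResolution.leftDerived_app_eq (((linearYoneda R C).map g).rightOp) P n
  have h : (NatTrans.leftDerived (((linearYoneda R C).map g).rightOp) n).app X ≫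
      (P.isoLeftDerivedObj ((linearYoneda R C).obj Y).rightOp n).hom =
      (P.isoLeftDerivedObj ((linearYoneda R C).obj Y').rightOp n).hom ≫
        HomologicalComplex.homologyMap ((NatTrans.mapHomologicalComplex
          (((linearYoneda R C).map g).rightOp) _).app P.complex) n := by
    rw [h0, Category.assoc, Category.assoc, Iso.inv_hom_id, Category.comp_id]
    rfl
  have h2 := congrArg Quiver.Hom.unop h
  simp only [unop_comp] at h2
  have h' := homologyUnop_hom_naturality ((NatTrans.mapHomologicalComplex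
          (((linearYoneda R C).map g).rightOp) _).app P.complex) n
  simp only [ProjectiveResolution.isoExt, Iso.trans_inv, Iso.symm_inv, Category.assoc]
  erw [h2]
  erw [reassoc_of% h']
  rfl

theorem precompMap_f_apply (φ : P'.complex ⟶ P.complex) (Y : C) (n : ℕ) (x : P.complex.X n ⟶ Y) :
    ((precompMap (R := R) P P' φ Y).f n).hom x = φ.f n ≫ x := rfl

theorem postcompMap_f_apply (g : Y ⟶ Y') (n : ℕ) (x : P.complex.X n ⟶ Y) :
    ((postcompMap (R := R) P g).f n).hom x = x ≫ g := rfl

theorem linearYonedaObj_d_apply (n m : ℕ) (x : P.complex.X n ⟶ Y) :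
    ((P.complex.linearYonedaObj R Y).d n m).hom x = P.complex.d m n ≫ x := rfl

end Maps

section Compare

variable [HasExt.{v} C] {X X' Y Y' : C} (P : ProjectiveResolution X) (P' : ProjectiveResolution X')

theorem extMk_smul {n : ℕ} (r : R) (f : P.complex.X n ⟶ Y) (hf : P.complex.d (n + 1) n ≫ f = 0) :
    P.extMk (r • f) (n + 1) rfl (by rw [Linear.comp_smul, hf, smul_zero]) =
      r • P.extMk f (n + 1) rfl hf := by
  have h := P.extMk_comp_mk₀ f (n + 1) rfl hf (r • 𝟙 Y)
  simp only [Linear.comp_smul, Category.comp_id] at h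
  rw [← h, Abelian.Ext.mk₀_smul, Abelian.Ext.comp_smul, Abelian.Ext.comp_mk₀_id]

theorem extMk_eq_zero_iff' {n : ℕ} (f : P.complex.X n ⟶ Y) (hf : P.complex.d (n + 1) n ≫ f = 0) :
    P.extMk f (n + 1) rfl hf = 0 ↔
      ∃ g : P.complex.X ((ComplexShape.up ℕ).prev n) ⟶ Y,
        P.complex.d n ((ComplexShape.up ℕ).prev n) ≫ g = f := by
  generalize hq : (ComplexShape.up ℕ).prev n = q
  rcases n with _ | p
  · obtain rfl : q = 0 := hq.symm.trans CochainComplex.prev_nat_zero
    simp only [HomologicalComplex.shape P.complex 0 0 (by simp), zero_comp, exists_const]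
    constructor
    · intro h
      rw [← P.extEquivCohomologyClass.apply_eq_iff_eq,
        P.extEquivCohomologyClass_extMk, P.extEquivCohomologyClass_zero,
        CochainComplex.HomComplex.CohomologyClass.mk_eq_zero_iff,
        CochainComplex.HomComplex.Cocycle.toSingleMk_mem_coboundaries_iff _ _ _ _ _ 1 (by simp)] at h
      obtain ⟨g, hg⟩ := h
      have h0 : IsZero (P.cochainComplex.X 1) :=
        CochainComplex.isZero_of_isStrictlyLE _ 0 1 (by simp)
      rw [h0.eq_of_src g 0, comp_zero] at hg
      exact ((cancel_epi (P.cochainComplexXIso (-((0 : ℕ) : ℤ)) 0 rfl).hom).1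
        (hg.symm.trans comp_zero.symm)).symm
    · rintro rfl
      exact P.extMk_zero 1 rfl
  · obtain rfl : q = p := hq.symm.trans (CochainComplex.prev_nat_succ p)
    exact P.extMk_eq_zero_iff f (q + 1 + 1) rfl hf q rfl

/-- Cycles to `Ext`. -/
noncomputable def cyclesToExt (n : ℕ) (Y : C) :
    ((P.complex.linearYonedaObj R Y).cycles n : ModuleCat.{v} R) →ₗ[R] Abelian.Ext X Y n where
  toFun z := P.extMk (((P.complex.linearYonedaObj R Y).iCycles n).hom z) (n + 1) rfl
    (d_iCycles (P.complex.linearYonedaObj R Y) n z (n + 1))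
  map_add' a b := by
    rw [P.add_extMk]
    congr 1
    exact map_add _ _ _
  map_smul' r a := by
    rw [RingHom.id_apply, ← extMk_smul P r _ (d_iCycles (P.complex.linearYonedaObj R Y) n a (n + 1))]
    congr 1
    exact map_smul _ _ _

theorem cyclesToExt_surjective (n : ℕ) (Y : C) :
    Function.Surjective (cyclesToExt (R := R) P n Y) := by
  intro α
  obtain ⟨f, hf, rfl⟩ := P.extMk_surjective α (n + 1) rfl
  let K := P.complex.linearYonedaObj R Y
  let L : ModuleCat.{v} R := ModuleCat.of R R
  let a : L ⟶ K.X n := ModuleCat.ofHom (LinearMap.toSpanSingleton R _ f)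
  have ha : a ≫ K.d n (n + 1) = 0 := by
    ext
    change P.complex.d (n + 1) n ≫ ((1 : R) • f) = 0
    rw [one_smul, hf]
  refine ⟨(K.liftCycles a (n + 1) (by simp) ha).hom 1, ?_⟩
  have h := LinearMap.congr_fun (ModuleCat.hom_ext_iff.1 (K.liftCycles_i a (n + 1) (by simp) ha)) 1
  simp only [cyclesToExt, LinearMap.coe_mk, AddHom.coe_mk]
  congr 1
  refine h.trans ?_
  exact one_smul R f

theorem ker_cyclesToExt (n : ℕ) (Y : C) :
    LinearMap.ker (cyclesToExt (R := R) P n Y) =
      LinearMap.ker ((P.complex.linearYonedaObj R Y).homologyπ n).hom := by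
  ext z
  rw [LinearMap.mem_ker, LinearMap.mem_ker, homologyπ_eq_zero_iff]
  exact extMk_eq_zero_iff' P (((P.complex.linearYonedaObj R Y).iCycles n).hom z)
    (d_iCycles (P.complex.linearYonedaObj R Y) n z (n + 1))

/-- The homology of `Hom(P, Y)` is `Ext`. -/
noncomputable def homologyEquivExt (n : ℕ) (Y : C) :
    ((P.complex.linearYonedaObj R Y).homology n : ModuleCat.{v} R) ≃ₗ[R] Abelian.Ext X Y n :=
  ((LinearMap.quotKerEquivOfSurjective _ (homologyπ_surjective _ n)).symm.trans
    (Submodule.quotEquivOfEq _ _ (ker_cyclesToExt P n Y).symm)).trans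
    (LinearMap.quotKerEquivOfSurjective _ (cyclesToExt_surjective P n Y))

theorem homologyEquivExt_π (n : ℕ) (Y : C)
    (z : ((P.complex.linearYonedaObj R Y).cycles n : ModuleCat.{v} R)) :
    homologyEquivExt P n Y (((P.complex.linearYonedaObj R Y).homologyπ n).hom z) =
      cyclesToExt P n Y z := by
  simp only [homologyEquivExt, LinearEquiv.trans_apply]
  rw [show (LinearMap.quotKerEquivOfSurjective _ (homologyπ_surjective _ n)).symm
      (((P.complex.linearYonedaObj R Y).homologyπ n).hom z) = Submodule.Quotient.mk z from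
    (LinearEquiv.symm_apply_eq _).2 rfl]
  rfl

theorem homologyEquivExt_precomp (g : X' ⟶ X) (φ : P'.complex ⟶ P.complex)
    (comm : φ.f 0 ≫ P.π.f 0 = P'.π.f 0 ≫ g) (n : ℕ) (Y : C)
    (h : ((P.complex.linearYonedaObj R Y).homology n : ModuleCat.{v} R)) :
    homologyEquivExt P' n Y ((HomologicalComplex.homologyMap (precompMap P P' φ Y) n).hom h) =
      (Abelian.Ext.mk₀ g).comp (homologyEquivExt P n Y h) (zero_add n) := by
  obtain ⟨z, rfl⟩ := homologyπ_surjective _ n h
  have h1 := LinearMap.congr_fun (ModuleCat.hom_ext_iff.1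
    (HomologicalComplex.homologyπ_naturality (precompMap (R := R) P P' φ Y) n)) z
  have h2 := LinearMap.congr_fun (ModuleCat.hom_ext_iff.1
    (HomologicalComplex.cyclesMap_i (precompMap (R := R) P P' φ Y) n)) z
  simp only [ModuleCat.hom_comp, LinearMap.comp_apply] at h1 h2
  erw [h1]
  rw [homologyEquivExt_π, homologyEquivExt_π]
  simp only [cyclesToExt, LinearMap.coe_mk, AddHom.coe_mk]
  rw [P.mk₀_comp_extMk _ (n + 1) rfl _ ({ hom := φ, hom_f_zero_comp_π_f_zero := comm.trans (by simp) } :
    ProjectiveResolution.Hom P' P g)]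
  congr 1

theorem homologyEquivExt_postcomp (g : Y ⟶ Y') (n : ℕ)
    (h : ((P.complex.linearYonedaObj R Y).homology n : ModuleCat.{v} R)) :
    homologyEquivExt P n Y' ((HomologicalComplex.homologyMap (postcompMap P g) n).hom h) =
      (homologyEquivExt P n Y h).comp (Abelian.Ext.mk₀ g) (add_zero n) := by
  obtain ⟨z, rfl⟩ := homologyπ_surjective _ n h
  have h1 := LinearMap.congr_fun (ModuleCat.hom_ext_iff.1
    (HomologicalComplex.homologyπ_naturality (postcompMap (R := R) P g) n)) z
  have h2 := LinearMap.congr_fun (ModuleCat.hom_ext_iff.1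
    (HomologicalComplex.cyclesMap_i (postcompMap (R := R) P g) n)) z
  simp only [ModuleCat.hom_comp, LinearMap.comp_apply] at h1 h2
  erw [h1]
  rw [homologyEquivExt_π, homologyEquivExt_π]
  simp only [cyclesToExt, LinearMap.coe_mk, AddHom.coe_mk]
  rw [P.extMk_comp_mk₀]
  congr 1

variable (R) in
/-- The comparison of the two `Ext`s. -/
noncomputable def extIso (n : ℕ) (X Y : C) :
    ((Ext R C n).obj (op X)).obj Y ≅ ModuleCat.of R (Abelian.Ext X Y n) :=
  (projectiveResolution X).isoExt n Y ≪≫
    (homologyEquivExt (projectiveResolution X) n Y).toModuleIso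

theorem extIso_inv_hom (n : ℕ) (X Y : C) (a : Abelian.Ext X Y n) :
    (extIso R n X Y).inv.hom a = ((projectiveResolution X).isoExt n Y).inv.hom
      ((homologyEquivExt (R := R) (projectiveResolution X) n Y).symm a) := rfl

theorem extIso_inv_naturality_left (n : ℕ) (g : X' ⟶ X) (Y : C) (a : Abelian.Ext X Y n) :
    (((Ext R C n).map g.op).app Y).hom ((extIso R n X Y).inv.hom a) =
      (extIso R n X' Y).inv.hom ((Abelian.Ext.mk₀ g).comp a (zero_add n)) := by
  let P := projectiveResolution X
  let P' := projectiveResolution X'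
  let φ := ProjectiveResolution.lift g P' P
  have comm : φ.f 0 ≫ P.π.f 0 = P'.π.f 0 ≫ g :=
    (HomologicalComplex.congr_hom (ProjectiveResolution.lift_commutes g P' P) 0).trans
      (congrArg (P'.π.f 0 ≫ ·) (ChainComplex.single₀_map_f_zero g))
  rw [extIso_inv_hom, extIso_inv_hom]
  have h1 := LinearMap.congr_fun (ModuleCat.hom_ext_iff.1
    (isoExt_inv_naturality_left (R := R) P P' g φ comm n Y)) ((homologyEquivExt P n Y).symm a)
  simp only [ModuleCat.hom_comp, LinearMap.comp_apply] at h1
  refine h1.trans ?_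
  congr 1
  rw [LinearEquiv.eq_symm_apply, homologyEquivExt_precomp P P' g φ comm, LinearEquiv.apply_symm_apply]

theorem extIso_inv_naturality_right (n : ℕ) (X : C) (g : Y ⟶ Y') (a : Abelian.Ext X Y n) :
    (((Ext R C n).obj (op X)).map g).hom ((extIso R n X Y).inv.hom a) =
      (extIso R n X Y').inv.hom (a.comp (Abelian.Ext.mk₀ g) (add_zero n)) := by
  let P := projectiveResolution X
  rw [extIso_inv_hom, extIso_inv_hom]
  have h1 := LinearMap.congr_fun (ModuleCat.hom_ext_iff.1
    (isoExt_inv_naturality_right (R := R) P g n)) ((homologyEquivExt P n Y).symm a)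
  simp only [ModuleCat.hom_comp, LinearMap.comp_apply] at h1
  refine h1.trans ?_
  congr 1
  rw [LinearEquiv.eq_symm_apply, homologyEquivExt_postcomp, LinearEquiv.apply_symm_apply]

variable (R) in
/-- The comparison as a linear equivalence. -/
noncomputable def extEquiv (n : ℕ) (X Y : C) :
    Abelian.Ext X Y n ≃ₗ[R] ((Ext R C n).obj (op X)).obj Y :=
  (extIso R n X Y).toLinearEquiv.symm

theorem extEquiv_naturality_left (n : ℕ) (g : X' ⟶ X) (Y : C) (a : Abelian.Ext X Y n) :
    (((Ext R C n).map g.op).app Y).hom (extEquiv R n X Y a) =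
      extEquiv R n X' Y ((Abelian.Ext.mk₀ g).comp a (zero_add n)) :=
  extIso_inv_naturality_left n g Y a

theorem extEquiv_naturality_right (n : ℕ) (X : C) (g : Y ⟶ Y') (a : Abelian.Ext X Y n) :
    (((Ext R C n).obj (op X)).map g).hom (extEquiv R n X Y a) =
      extEquiv R n X Y' (a.comp (Abelian.Ext.mk₀ g) (add_zero n)) :=
  extIso_inv_naturality_right n X g a

end Compare

end Groth.L04.LC
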