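import Groth.Agent.L04.LC.Change
import Groth.Agent.L04.CMBasic
import Mathlib.Order.Irreducible
import Mathlib.RingTheory.HopkinsLevitzki
import Mathlib.RingTheory.Ideal.MinimalPrime.Localization
import Mathlib.RingTheory.Ideal.Height
import Mathlib.RingTheory.LocalRing.ResidueField.Ideal

/-!
# Artinianness and non-vanishing of top local cohomology
-/

universe u

open CategoryTheory Limits Abelian IsLocalRing

open scoped TensorProduct Pointwise

namespace Groth.L04.LC

variable {R : Type u} [CommRing R]

section Artinian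

variable [IsLocalRing R]

/-- An Artinian module killed by the maximal ideal is finite. -/
theorem finite_of_killed_of_isArtinian {A : Type u} [AddCommGroup A] [Module R A] [IsArtinian R A]
    (h : ∀ a ∈ maximalIdeal R, ∀ x : A, a • x = 0) : Module.Finite R A := by
  let htors : Module.IsTorsionBySet R A (maximalIdeal R : Set R) := fun x r => h r.1 r.2 x
  letI := htors.module
  haveI : IsScalarTower R (R ⧸ maximalIdeal R) A := htors.isScalarTower
  haveI : IsArtinian (R ⧸ maximalIdeal R) A := isArtinian_of_tower R ‹IsArtinian R A›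
  letI := Ideal.Quotient.field (maximalIdeal R)
  haveI : IsNoetherian (R ⧸ maximalIdeal R) A :=
    IsSemiprimaryRing.isNoetherian_iff_isArtinian.2 ‹_›
  exact Module.Finite.trans (R ⧸ maximalIdeal R) A

/-- A finite module killed by the maximal ideal is Artinian. -/
theorem isArtinian_of_killed {A : Type u} [AddCommGroup A] [Module R A] [Module.Finite R A]
    (h : ∀ a ∈ maximalIdeal R, ∀ x : A, a • x = 0) : IsArtinian R A := by
  let htors : Module.IsTorsionBySet R A (maximalIdeal R : Set R) := fun x r => h r.1 r.2 x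
  letI := htors.module
  haveI : IsScalarTower R (R ⧸ maximalIdeal R) A := htors.isScalarTower
  letI := Ideal.Quotient.field (maximalIdeal R)
  haveI : Module.Finite (R ⧸ maximalIdeal R) A := Module.Finite.of_restrictScalars_finite R _ _
  haveI : IsArtinian (R ⧸ maximalIdeal R) A := inferInstance
  exact isArtinian_of_surjective_algebraMap (R := R ⧸ maximalIdeal R) Ideal.Quotient.mk_surjective

theorem isArtinian_of_support_subset [IsNoetherianRing R] (A : Type u) [AddCommGroup A] [Module R A]
    [Module.Finite R A]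
    (h : Module.support R A ⊆ PrimeSpectrum.zeroLocus (maximalIdeal R : Set R)) :
    IsArtinian R A := by
  refine artinian_of_torsionBy (IsNoetherian.noetherian _)
    (isPowerTorsion_of_support_subset (maximalIdeal R) h) ?_
  exact isArtinian_of_killed fun a ha x => Subtype.ext (mem_torsionBy.1 x.2 a ha)

/-- The ideal of elements acting non-surjectively on a sum-irreducible submodule. -/
def nonSurjIdeal {A : Type u} [AddCommGroup A] [Module R A] {N : Submodule R A} (hN : SupIrred N) :
    Ideal R where
  carrier := {a | N.map (LinearMap.lsmul R A a) ≠ N}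
  add_mem' := by
    intro a b ha hb hab
    have hle : ∀ c : R, N.map (LinearMap.lsmul R A c) ≤ N := fun c => by
      rintro _ ⟨x, hx, rfl⟩
      exact N.smul_mem c hx
    have h1 : N.map (LinearMap.lsmul R A a) ⊔ N.map (LinearMap.lsmul R A b) = N := by
      refine le_antisymm (sup_le (hle a) (hle b)) ?_
      conv_lhs => rw [← hab]
      rintro _ ⟨x, hx, rfl⟩
      rw [LinearMap.lsmul_apply, add_smul]
      exact Submodule.add_mem_sup ⟨x, hx, rfl⟩ ⟨x, hx, rfl⟩
    exact (hN.2 h1).elim ha hb
  zero_mem' h := hN.ne_bot (by simpa using h.symm)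
  smul_mem' := by
    intro c a ha hca
    apply ha
    refine le_antisymm (by rintro _ ⟨x, hx, rfl⟩; exact N.smul_mem a hx) ?_
    conv_lhs => rw [← hca]
    rintro _ ⟨x, hx, rfl⟩
    exact ⟨c • x, N.smul_mem c hx, by simp [smul_smul, mul_comm]⟩

theorem nonSurjIdeal_isPrime {A : Type u} [AddCommGroup A] [Module R A] {N : Submodule R A}
    (hN : SupIrred N) : (nonSurjIdeal hN).IsPrime := by
  refine Ideal.isPrime_iff.2 ⟨(Ideal.ne_top_iff_one _).2 fun h => h (Submodule.ext fun y => by simp), fun {a b} hab => ?_⟩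
  by_contra! h
  have ha : N.map (LinearMap.lsmul R A a) = N := not_not.1 h.1
  have hb : N.map (LinearMap.lsmul R A b) = N := not_not.1 h.2
  refine hab ?_
  rw [show LinearMap.lsmul R A (a * b) = (LinearMap.lsmul R A a).comp (LinearMap.lsmul R A b) from
    LinearMap.ext fun x => mul_smul a b x, Submodule.map_comp, hb, ha]

theorem fg_of_nonSurjIdeal_eq [IsNoetherianRing R] {A : Type u} [AddCommGroup A] [Module R A]
    [IsArtinian R A] {N : Submodule R A} (hN : SupIrred N)
    (h : nonSurjIdeal hN = maximalIdeal R) : N.FG := by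
  classical
  obtain ⟨s, hs⟩ := (IsNoetherian.noetherian (maximalIdeal R) : (maximalIdeal R).FG)
  have hne : maximalIdeal R • N ≠ N := by
    intro heq
    have h1 : s.sup (fun a => N.map (LinearMap.lsmul R A a)) = N := by
      refine le_antisymm (Finset.sup_le fun a _ => ?_) ?_
      · rintro _ ⟨x, hx, rfl⟩
        exact N.smul_mem a hx
      · conv_lhs => rw [← heq]
        rw [Submodule.smul_le]
        intro r hr x hx
        rw [← hs] at hr
        refine Submodule.span_induction (p := fun r _ => r • x ∈
          s.sup (fun a => N.map (LinearMap.lsmul R A a))) ?_ (by simp) ?_ ?_ hr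
        · intro a ha
          exact Finset.le_sup (f := fun a => N.map (LinearMap.lsmul R A a)) ha ⟨x, hx, rfl⟩
        · intro p q _ _ hp hq
          rw [add_smul]
          exact Submodule.add_mem _ hp hq
        · intro c p _ hp
          rw [smul_eq_mul, mul_smul]
          exact Submodule.smul_mem _ c hp
    obtain ⟨a, ha, h2⟩ := hN.finset_sup_eq h1
    have : a ∈ nonSurjIdeal hN := by
      rw [h, ← hs]
      exact Submodule.subset_span ha
    exact this h2
  let K : Submodule R N := maximalIdeal R • ⊤
  haveI : Module.Finite R (N ⧸ K) := by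
    refine finite_of_killed_of_isArtinian fun a ha x => ?_
    obtain ⟨x, rfl⟩ := Submodule.mkQ_surjective _ x
    rw [← map_smul, Submodule.mkQ_apply, Submodule.Quotient.mk_eq_zero]
    exact Submodule.smul_mem_smul ha trivial
  obtain ⟨F, hF, hFmap⟩ : ∃ F : Submodule R N, F.FG ∧ F.map K.mkQ = ⊤ := by
    obtain ⟨t, ht⟩ := Module.Finite.fg_top (R := R) (M := N ⧸ K)
    choose g hg using Submodule.mkQ_surjective K
    refine ⟨Submodule.span R (t.image g), Submodule.fg_span (Finset.finite_toSet _), ?_⟩
    rw [Submodule.map_span, Finset.coe_image, ← Set.image_comp, eq_top_iff, ← ht]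
    exact Submodule.span_mono fun y hy => ⟨y, hy, hg y⟩
  have hsup : (maximalIdeal R • N) ⊔ F.map N.subtype = N := by
    refine le_antisymm (sup_le Submodule.smul_le_right (Submodule.map_subtype_le N F)) fun y hy => ?_
    obtain ⟨f, hf, hfy⟩ := (hFmap.ge (Submodule.mem_top (x := K.mkQ ⟨y, hy⟩)))
    have hd : (⟨y, hy⟩ - f : N) ∈ K := by
      rw [← Submodule.Quotient.mk_eq_zero, Submodule.Quotient.mk_sub, sub_eq_zero]
      exact hfy.symm
    have hK : K.map N.subtype = maximalIdeal R • N := by
      rw [Submodule.map_smul'', Submodule.map_subtype_top]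
    refine Submodule.mem_sup.2 ⟨_, hK.le (Submodule.mem_map_of_mem hd), _,
      Submodule.mem_map_of_mem hf, ?_⟩
    simp
  exact (hN.2 hsup).elim (fun h => absurd h hne) fun h => h ▸ hF.map _

/-- For an Artinian module there are finitely many non-maximal primes outside which multiplication
has finitely generated cokernel. -/
theorem exists_primes_finite_coker [IsNoetherianRing R] (A : Type u) [AddCommGroup A] [Module R A]
    [IsArtinian R A] : ∃ P : Finset (Ideal R), (∀ p ∈ P, p.IsPrime ∧ p ≠ maximalIdeal R) ∧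
      ∀ x : R, (∀ p ∈ P, x ∉ p) → Module.Finite R (QuotSMulTop x A) := by
  classical
  obtain ⟨s, hs, hirr⟩ := exists_supIrred_decomposition (⊤ : Submodule R A)
  refine ⟨(s.attach.image fun N => nonSurjIdeal (hirr N.2)).erase (maximalIdeal R),
    fun p hp => ?_, fun x hx => ?_⟩
  · obtain ⟨hne, hp⟩ := Finset.mem_erase.1 hp
    obtain ⟨N, -, rfl⟩ := Finset.mem_image.1 hp
    exact ⟨nonSurjIdeal_isPrime _, hne⟩
  · let K := (s.attach.filter fun N => nonSurjIdeal (hirr N.2) = maximalIdeal R).sup fun N => N.1
    have hK : K.FG := by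
      refine Finset.sup_induction Submodule.fg_bot (fun _ ha _ hb => ha.sup hb) fun N hN => ?_
      exact fg_of_nonSurjIdeal_eq (hirr N.2) (Finset.mem_filter.1 hN).2
    haveI := Module.Finite.of_fg hK
    refine Module.Finite.of_surjective ((x • (⊤ : Submodule R A)).mkQ.comp K.subtype) fun q => ?_
    obtain ⟨y, rfl⟩ := Submodule.mkQ_surjective _ q
    have hle : s.sup id ≤ (x • (⊤ : Submodule R A)) ⊔ K := by
      refine Finset.sup_le fun N hN => ?_
      by_cases hm : nonSurjIdeal (hirr hN) = maximalIdeal R
      · exact le_trans (Finset.le_sup (f := fun N : {a // a ∈ s} => N.1)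
          (Finset.mem_filter.2 ⟨s.mem_attach ⟨N, hN⟩, hm⟩)) le_sup_right
      · have hmap : N.map (LinearMap.lsmul R A x) = N := by
          by_contra h
          exact hx _ (Finset.mem_erase.2 ⟨hm, Finset.mem_image.2 ⟨⟨N, hN⟩, s.mem_attach _, rfl⟩⟩) h
        refine le_trans ?_ le_sup_left
        change N ≤ _
        conv_lhs => rw [← hmap]
        rintro _ ⟨z, -, rfl⟩
        exact Submodule.smul_mem_pointwise_smul _ _ _ trivial
    rw [hs] at hle
    obtain ⟨u, hu, k, hk, rfl⟩ := Submodule.mem_sup.1 (hle (Submodule.mem_top (x := y)))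
    refine ⟨⟨k, hk⟩, ?_⟩
    simp only [LinearMap.comp_apply, Submodule.subtype_apply, map_add]
    rw [show (x • (⊤ : Submodule R A)).mkQ u = 0 from (Submodule.Quotient.mk_eq_zero _).2 hu,
      zero_add]

end Artinian

section Regular

variable [IsNoetherianRing R]

theorem torsionSub_quotient_eq_bot (I : Ideal R) (M : Type u) [AddCommGroup M] [Module R M] :
    DRing.torsionSub I (M ⧸ DRing.torsionSub I M) = ⊥ :=
  torsionBy_eq_bot_iff_torsionSub.1 (torsionBy_quotient_torsionSub (IsNoetherian.noetherian I) M)

theorem supportDim_quotient_torsionSub_le (I : Ideal R) (M : Type u) [AddCommGroup M] [Module R M] :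
    Module.supportDim R (M ⧸ DRing.torsionSub I M) ≤ Module.supportDim R M :=
  Module.supportDim_le_of_surjective _ (Submodule.mkQ_surjective _)

theorem mem_range_Hδ_iff (I : Ideal R) {M : Type u} [AddCommGroup M] [Module R M] {x : R}
    (hx : IsSMulRegular M x) (i : ℕ) (y : LocCoh.H I (i + 1) M) :
    y ∈ LinearMap.range (Hδ I (show IsSMulRegular (ModuleCat.of R M) x from
      hx).smulShortComplex_shortExact i) ↔ x • y = 0 := by
  refine (H_exact₁ I (show IsSMulRegular (ModuleCat.of R M) x from
    hx).smulShortComplex_shortExact i y).symm.trans ?_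
  rw [ModuleCat.smulShortComplex_f_eq_smul_id]
  exact Eq.congr_left (map_smul_id I (i + 1) (ModuleCat.of R M) x y)

/-- If `H^i_a (M/xM)` is Artinian then so is `H^(i+1)_a M` for regular `x ∈ a`. -/
theorem isArtinian_H_succ_of_regular (I : Ideal R) {M : Type u} [AddCommGroup M] [Module R M]
    {x : R} (hxI : x ∈ I) (hx : IsSMulRegular M x) (i : ℕ)
    (h : IsArtinian R (LocCoh.H I i (QuotSMulTop x M))) :
    IsArtinian R (LocCoh.H I (i + 1) M) := by
  let hS := (show IsSMulRegular (ModuleCat.of R M) x from hx).smulShortComplex_shortExact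
  let d : LocCoh.H I i (QuotSMulTop x M) →ₗ[R] LocCoh.H I (i + 1) M := Hδ I hS i
  haveI : IsArtinian R (LinearMap.range d) :=
    isArtinian_of_surjective _ d.rangeRestrict d.surjective_rangeRestrict
  have heq : LocCoh.torsionBy (Ideal.span {x}) (LocCoh.H I (i + 1) M) ≤ LinearMap.range d :=
    fun y hy => (mem_range_Hδ_iff I hx i y).2 (mem_torsionBy.1 hy x (Ideal.mem_span_singleton_self x))
  haveI : IsArtinian R (LocCoh.torsionBy (Ideal.span {x}) (LocCoh.H I (i + 1) M)) :=
    isArtinian_of_injective (Submodule.inclusion heq) (Submodule.inclusion_injective heq)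
  refine artinian_of_principal (a := x) fun y => ?_
  obtain ⟨n, hn⟩ := isPowerTorsion_H I (i + 1) (ModuleCat.of R M) y
  exact ⟨n, hn _ (Ideal.pow_mem_pow hxI n)⟩

theorem exists_regular_mem (I : Ideal R) (M : Type u) [AddCommGroup M] [Module R M]
    [Module.Finite R M] (h : DRing.torsionSub I M = ⊥) : ∃ x ∈ I, IsSMulRegular M x := by
  obtain ⟨x, hx, hreg⟩ := exists_isSMulRegular_of_torsionSub_eq_bot (R' := R) I M
    (by rwa [Algebra.algebraMap_self, Ideal.map_id])
  exact ⟨x, hx, by simpa using hreg⟩

variable [IsLocalRing R]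

/-- S0817. -/
theorem isArtinian_H_maximalIdeal : ∀ (i : ℕ) (M : Type u) [AddCommGroup M] [Module R M]
    [Module.Finite R M], IsArtinian R (LocCoh.H (maximalIdeal R) i M) := by
  intro i
  induction i with
  | zero =>
    intro M _ _ _
    haveI : IsNoetherian R M := isNoetherian_of_isNoetherianRing_of_finite R M
    haveI : Module.Finite R (DRing.torsionSub (maximalIdeal R) M) :=
      Module.Finite.of_fg (IsNoetherian.noetherian _)
    haveI : IsArtinian R (DRing.torsionSub (maximalIdeal R) M) :=
      isArtinian_of_support_subset _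
        (support_subset_of_isPowerTorsion (maximalIdeal R)
          (isPowerTorsion_torsionSub (maximalIdeal R) M))
    exact isArtinian_of_injective (H0Equiv (maximalIdeal R) (ModuleCat.of R M)).toLinearMap
      (LinearEquiv.injective _)
  | succ i ih =>
    intro M _ _ _
    obtain ⟨x, hx, hreg⟩ := exists_regular_mem (maximalIdeal R)
      (M ⧸ DRing.torsionSub (maximalIdeal R) M) (torsionSub_quotient_eq_bot _ M)
    haveI := isArtinian_H_succ_of_regular (maximalIdeal R) hx hreg i (ih _)
    exact isArtinian_of_injective _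
      (H_map_mkQ_torsionSub_bijective (maximalIdeal R) M i.succ_pos).1

/-- Regular element of the maximal ideal drops the dimension by one. -/
theorem supportDim_quotSMulTop_le {M : Type u} [AddCommGroup M] [Module R M] [Module.Finite R M]
    {x : R} (hx : x ∈ maximalIdeal R) (hreg : IsSMulRegular M x) {n : ℕ}
    (hM : Module.supportDim R M ≤ ((n + 1 : ℕ) : WithBot ℕ∞)) :
    Module.supportDim R (QuotSMulTop x M) ≤ (n : WithBot ℕ∞) := by
  rw [← Module.supportDim_quotSMulTop_succ_eq_supportDim hreg hx] at hM
  by_contra h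
  rw [not_le] at h
  obtain ⟨s, hs⟩ := WithBot.ne_bot_iff_exists.1 (ne_bot_of_gt h)
  rw [← hs] at hM h
  have h1 : (n : ℕ∞) < s := by exact_mod_cast h
  have h2 : s + 1 ≤ ((n : ℕ∞) + 1) := by exact_mod_cast hM
  exact absurd (ENat.addLECancellable_of_ne_top ENat.one_ne_top |>.add_le_add_iff_right.1 h2)
    h1.not_ge

theorem isArtinian_H_of_supportDim_le (I : Ideal R) :
    ∀ (n : ℕ) (M : Type u) [AddCommGroup M] [Module R M] [Module.Finite R M],
      Module.supportDim R M ≤ (n : WithBot ℕ∞) → IsArtinian R (LocCoh.H I n M) := by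
  intro n
  induction n with
  | zero =>
    intro M _ _ _ hM
    haveI : IsArtinian R M := by
      rcases subsingleton_or_nontrivial M with h | h
      · infer_instance
      · refine isArtinian_of_support_subset M ?_
        have h0 : Module.supportDim R M = 0 := by
          refine le_antisymm (by simpa using hM) ?_
          obtain ⟨s, hs⟩ := WithBot.ne_bot_iff_exists.1
            (Module.supportDim_ne_bot_of_nontrivial R M)
          rw [← hs]
          exact WithBot.coe_le_coe.2 zero_le
        rw [support_of_supportDim_eq_zero R M h0]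
    exact isArtinian_of_injective ((DRing.torsionSub I M).subtype.comp
      (H0Equiv I (ModuleCat.of R M)).toLinearMap)
      (Subtype.val_injective.comp (LinearEquiv.injective _))
  | succ n ih =>
    intro M _ _ _ hM
    by_cases hI : I = ⊤
    · haveI : Subsingleton (LocCoh.H I (n + 1) M) :=
        subsingleton_H_of_bijective I (n + 1) (r := 1) (hI ▸ Submodule.mem_top)
          (by simp only [one_smul]; exact Function.bijective_id)
      infer_instance
    obtain ⟨x, hx, hreg⟩ := exists_regular_mem I (M ⧸ DRing.torsionSub I M)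
      (torsionSub_quotient_eq_bot I M)
    haveI := isArtinian_H_succ_of_regular I hx hreg n (ih _ (supportDim_quotSMulTop_le
      (le_maximalIdeal hI hx) hreg ((supportDim_quotient_torsionSub_le I M).trans hM)))
    exact isArtinian_of_injective _ (H_map_mkQ_torsionSub_bijective I M n.succ_pos).1

theorem isPowerTorsion_of_supportDim_eq_zero {M : Type u} [AddCommGroup M] [Module R M]
    [Module.Finite R M] (h : Module.supportDim R M = 0) :
    LocCoh.IsPowerTorsion (maximalIdeal R) M :=
  isPowerTorsion_of_support_subset _ (support_of_supportDim_eq_zero R M h).le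

/-- Nonvanishing and non-finiteness of top local cohomology. -/
theorem H_supportDim_aux : ∀ (n : ℕ) (M : Type u) [AddCommGroup M] [Module R M]
    [Module.Finite R M], Module.supportDim R M = (n : WithBot ℕ∞) →
      Nontrivial (LocCoh.H (maximalIdeal R) n M) ∧
        (0 < n → ¬ Module.Finite R (LocCoh.H (maximalIdeal R) n M)) := by
  classical
  intro n
  induction n with
  | zero =>
    intro M _ _ _ hM
    refine ⟨?_, fun h => absurd h (lt_irrefl 0)⟩
    haveI : Nontrivial M := (Module.supportDim_ne_bot_iff_nontrivial R M).1 (hM ▸ WithBot.coe_ne_bot)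
    exact (H0TorsionEquiv (maximalIdeal R) M
      (isPowerTorsion_of_supportDim_eq_zero (by simpa using hM))).toEquiv.nontrivial
  | succ n ih =>
    intro M _ _ _ hM
    suffices h : ¬ Module.Finite R (LocCoh.H (maximalIdeal R) (n + 1) M) from
      ⟨not_subsingleton_iff_nontrivial.1 fun hs => h inferInstance, fun _ => h⟩
    set T := DRing.torsionSub (maximalIdeal R) M
    have hTsupp : Module.support R T ⊆ PrimeSpectrum.zeroLocus (maximalIdeal R : Set R) :=
      support_subset_of_isPowerTorsion _ (isPowerTorsion_torsionSub _ M)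
    have hunion := Module.support_of_exact (LinearMap.exact_subtype_mkQ T) T.injective_subtype
      T.mkQ_surjective
    haveI : Nontrivial (M ⧸ T) := by
      by_contra hc
      rw [not_nontrivial_iff_subsingleton] at hc
      rw [Module.support_eq_empty_iff.2 hc, Set.union_empty] at hunion
      have htop : LocCoh.IsPowerTorsion (maximalIdeal R) M :=
        isPowerTorsion_of_support_subset _ (hunion ▸ hTsupp)
      haveI := isArtinian_of_support_subset M (hunion ▸ hTsupp)
      have hle : Module.supportDim R M ≤ 0 := by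
        rw [Module.supportDim, Order.krullDim_nonpos_iff_forall_isMax]
        intro p q _
        have hq := hTsupp (hunion.le q.2)
        have hp := hTsupp (hunion.le p.2)
        exact le_of_eq (Subtype.ext (PrimeSpectrum.ext
          ((le_maximalIdeal q.1.2.ne_top).antisymm hq |>.trans
            ((le_maximalIdeal p.1.2.ne_top).antisymm hp).symm)))
      rw [hM] at hle
      exact absurd hle (not_le.2 (by exact_mod_cast n.succ_pos))
    have hmax : (IsLocalRing.closedPoint R) ∈ Module.support R (M ⧸ T) := by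
      obtain ⟨p, hp⟩ := (Module.nonempty_support_iff (R := R)).2 ‹Nontrivial (M ⧸ T)›
      exact Module.mem_support_mono (le_maximalIdeal p.2.ne_top) hp
    have hsupp : Module.support R M = Module.support R (M ⧸ T) := by
      refine (hunion.trans (Set.union_eq_right.2 fun p hp => ?_))
      have : p = IsLocalRing.closedPoint R :=
        PrimeSpectrum.ext ((le_maximalIdeal p.2.ne_top).antisymm (hTsupp hp))
      exact this ▸ hmax
    have hdim : Module.supportDim R (M ⧸ T) = ((n + 1 : ℕ) : WithBot ℕ∞) := by
      rw [← hM, Module.supportDim, Module.supportDim, hsupp]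
    haveI : IsArtinian R (LocCoh.H (maximalIdeal R) n (M ⧸ T)) := isArtinian_H_maximalIdeal n _
    obtain ⟨P, hP, hPx⟩ := exists_primes_finite_coker (R := R) (LocCoh.H (maximalIdeal R) n (M ⧸ T))
    let Q : Finset (Ideal R) := P ∪ (associatedPrimes.finite R (M ⧸ T)).toFinset
    have hT0 : DRing.torsionSub (maximalIdeal R) (M ⧸ T) = ⊥ := torsionSub_quotient_eq_bot _ M
    have hQ : ∀ q ∈ Q, q.IsPrime ∧ q ≠ maximalIdeal R := fun q hq => by
      rcases Finset.mem_union.1 hq with h | h
      · exact hP q h
      · rw [Set.Finite.mem_toFinset] at h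
        refine ⟨IsAssociatedPrime.isPrime h, fun heq => ?_⟩
        obtain ⟨f, hf⟩ := ((isAssociatedPrime_iff_exists_injective_linearMap q (M ⧸ T)).1 h).2
        have : f (Submodule.Quotient.mk 1) ∈ DRing.torsionSub (maximalIdeal R) (M ⧸ T) :=
          ⟨1, fun a ha => by
            rw [pow_one, ← heq] at ha
            rw [← map_smul, ← Submodule.Quotient.mk_smul, smul_eq_mul, mul_one,
              (Submodule.Quotient.mk_eq_zero q).2 ha, map_zero]⟩
        rw [hT0, Submodule.mem_bot, ← map_zero f] at this
        exact (IsAssociatedPrime.isPrime h).ne_top ((Ideal.eq_top_iff_one q).2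
          ((Submodule.Quotient.mk_eq_zero q).1 (hf this)))
    obtain ⟨x, hxm, hxQ⟩ : ∃ x ∈ maximalIdeal R, ∀ q ∈ Q, x ∉ q := by
      by_contra! hc
      have hsub : (maximalIdeal R : Set R) ⊆ ⋃ q ∈ (Q : Set (Ideal R)), (q : Set R) := fun x hx => by
        obtain ⟨q, hq, hxq⟩ := hc x hx
        exact Set.mem_biUnion hq hxq
      obtain ⟨q, hq, hle⟩ := (Ideal.subset_union_prime ⊥ ⊥ fun q hq _ _ => (hQ q hq).1).1 hsub
      exact (hQ q hq).2 ((le_maximalIdeal (hQ q hq).1.ne_top).antisymm hle)
    have hreg : IsSMulRegular (M ⧸ T) x := by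
      refine (isSMulRegular_iff_right_eq_zero_of_smul).2 fun z hz => ?_
      by_contra hz0
      have : x ∈ ⋃ q ∈ associatedPrimes R (M ⧸ T), (q : Set R) := by
        rw [biUnion_associatedPrimes_eq_zero_divisors]
        exact ⟨z, hz0, hz⟩
      obtain ⟨q, hq, hxq⟩ := Set.mem_iUnion₂.1 this
      exact hxQ q (Finset.mem_union_right _ (by rwa [Set.Finite.mem_toFinset])) hxq
    have hdim' : Module.supportDim R (QuotSMulTop x (M ⧸ T)) = (n : WithBot ℕ∞) := by
      refine le_antisymm (supportDim_quotSMulTop_le hxm hreg hdim.le) ?_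
      have h1 := Module.supportDim_quotSMulTop_succ_eq_supportDim hreg hxm
      rw [hdim] at h1
      by_contra h
      rw [not_le] at h
      cases hs : Module.supportDim R (QuotSMulTop x (M ⧸ T)) with
      | bot =>
        rw [hs, WithBot.bot_add] at h1
        exact WithBot.bot_ne_coe h1
      | coe s =>
        rw [hs] at h h1
        have h2 : s + 1 = ((n + 1 : ℕ) : ℕ∞) := by exact_mod_cast h1
        have h3 : s < (n : ℕ∞) := by exact_mod_cast h
        lift s to ℕ using (ne_top_of_lt h3)
        have h4 : s + 1 = n + 1 := by exact_mod_cast h2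
        have h5 : s < n := by exact_mod_cast h3
        omega
    intro hfin
    haveI hfin' : Module.Finite R (LocCoh.H (maximalIdeal R) (n + 1) (M ⧸ T)) :=
      Module.Finite.of_surjective _
        (H_map_mkQ_torsionSub_bijective (maximalIdeal R) M n.succ_pos).2
    have hS := (show IsSMulRegular (ModuleCat.of R (M ⧸ T)) x from hreg).smulShortComplex_shortExact
    have hsub : Subsingleton (LocCoh.H (maximalIdeal R) (n + 1) (QuotSMulTop x (M ⧸ T))) :=
      subsingleton_H_of_supportDim_lt _ _ _ (hdim' ▸ by exact_mod_cast n.lt_succ_self)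
    have hsurj : ∀ y : LocCoh.H (maximalIdeal R) (n + 1) (M ⧸ T), ∃ z, x • z = y := fun y => by
      obtain ⟨z, hz⟩ := (H_exact₂ _ hS (n + 1) y).1 (@Subsingleton.elim _ hsub _ _)
      refine ⟨z, ?_⟩
      rw [← hz, ModuleCat.smulShortComplex_f_eq_smul_id]
      exact (map_smul_id _ (n + 1) (ModuleCat.of R (M ⧸ T)) x z).symm
    have hzero : Subsingleton (LocCoh.H (maximalIdeal R) (n + 1) (M ⧸ T)) := by
      rw [← not_nontrivial_iff_subsingleton]
      intro hnt
      refine smul_top_ne_top_of_nontrivial (M := LocCoh.H (maximalIdeal R) (n + 1) (M ⧸ T))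
        (maximalIdeal.isMaximal R).ne_top (eq_top_iff.2 fun y _ => ?_)
      obtain ⟨z, rfl⟩ := hsurj y
      exact Submodule.smul_mem_smul hxm trivial
    let g : LocCoh.H (maximalIdeal R) n (M ⧸ T) →ₗ[R]
        LocCoh.H (maximalIdeal R) n (QuotSMulTop x (M ⧸ T)) :=
      ((localCohomology (maximalIdeal R) n).map
        (ModuleCat.smulShortComplex (ModuleCat.of R (M ⧸ T)) x).g).hom
    have hg : Function.Surjective g := fun y =>
      (H_exact₃ _ hS n y).1 (@Subsingleton.elim _ hzero _ _)
    cases n with
    | zero =>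
      haveI : Subsingleton (LocCoh.H (maximalIdeal R) 0 (M ⧸ T)) :=
        (subsingleton_H0_iff _ _).2 hT0
      exact not_nontrivial_iff_subsingleton.2 hg.subsingleton (ih _ hdim').1
    | succ k =>
      refine (ih _ hdim').2 k.succ_pos ?_
      haveI := hPx x fun p hp => hxQ p (Finset.mem_union_left _ hp)
      refine Module.Finite.of_surjective (Submodule.liftQ _ g ?_) (fun y => ?_) (M := QuotSMulTop x
        (LocCoh.H (maximalIdeal R) (k + 1) (M ⧸ T)))
      · rintro _ ⟨z, -, rfl⟩
        rw [LinearMap.mem_ker]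
        refine (H_exact₂ _ hS (k + 1) (x • z)).2 ⟨z, ?_⟩
        rw [ModuleCat.smulShortComplex_f_eq_smul_id]
        exact map_smul_id _ (k + 1) (ModuleCat.of R (M ⧸ T)) x z
      · obtain ⟨z, rfl⟩ := hg y
        exact ⟨Submodule.Quotient.mk z, rfl⟩

theorem nontrivial_H_supportDim (M : Type u) [AddCommGroup M] [Module R M] [Module.Finite R M]
    (n : ℕ) (hn : Module.supportDim R M = (n : WithBot ℕ∞)) :
    Nontrivial (LocCoh.H (maximalIdeal R) n M) :=
  (H_supportDim_aux n M hn).1

theorem not_finite_H_supportDim (M : Type u) [AddCommGroup M] [Module R M] [Module.Finite R M]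
    (n : ℕ) (hn0 : 0 < n) (hn : Module.supportDim R M = (n : WithBot ℕ∞)) :
    ¬ Module.Finite R (LocCoh.H (maximalIdeal R) n M) :=
  (H_supportDim_aux n M hn).2 hn0

/-- S11627. -/
theorem existsUnique_iff_isCM (M : Type u) [AddCommGroup M] [Module R M] [Module.Finite R M]
    [Nontrivial M] : (∃! i : ℕ, Nontrivial (LocCoh.H (maximalIdeal R) i M)) ↔
      LocCoh.IsCohenMacaulayModule R M := by
  have hdepth : LocCoh.depth R M ≠ ⊤ :=
    idealDepth_ne_top (smul_top_ne_top_of_nontrivial (maximalIdeal.isMaximal R).ne_top)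
  obtain ⟨k, hk⟩ := ENat.ne_top_iff_exists.1 hdepth
  have hk' := (idealDepth_eq_iff_H (maximalIdeal R) M k).1 hk.symm
  obtain ⟨n, hn⟩ : ∃ n : ℕ, Module.supportDim R M = (n : WithBot ℕ∞) := by
    obtain ⟨s, hs⟩ := WithBot.ne_bot_iff_exists.1 (Module.supportDim_ne_bot_of_nontrivial R M)
    have hlt : Module.supportDim R M < ⊤ :=
      (Module.supportDim_le_ringKrullDim R M).trans_lt ringKrullDim_lt_top
    rw [← hs] at hlt
    lift s to ℕ using (by rintro rfl; simp at hlt)
    exact ⟨s, hs.symm⟩
  have hknt : Nontrivial (LocCoh.H (maximalIdeal R) k M) := hk'.2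
  have hnnt := nontrivial_H_supportDim M n hn
  unfold LocCoh.IsCohenMacaulayModule
  rw [← hk, hn]
  constructor
  · rintro ⟨i, -, hi⟩
    rw [(hi n hnnt).trans (hi k hknt).symm]
    rfl
  · intro h
    have hnk : n = k := by exact_mod_cast h
    refine ⟨n, hnnt, fun i hi => ?_⟩
    by_contra hne
    refine not_subsingleton_iff_nontrivial.2 hi ?_
    rcases Nat.lt_or_gt_of_ne hne with hlt | hgt
    · exact hk'.1 i (hnk ▸ hlt)
    · exact subsingleton_H_of_supportDim_lt _ _ _ (hn ▸ by exact_mod_cast hgt)

/-- S0328. -/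
theorem not_cdLE_of_radical_sup (I p : Ideal R) [p.IsPrime]
    (hpI : (p ⊔ I).radical = maximalIdeal R) (d : ℕ) (hd : ringKrullDim (R ⧸ p) = d) (hd1 : 1 ≤ d) :
    ¬ LocCoh.CdLE R I (d - 1) := by
  intro h
  have hm : Nontrivial (LocCoh.H (maximalIdeal R) d (R ⧸ p)) :=
    nontrivial_H_supportDim _ d ((Module.supportDim_quotient_eq_ringKrullDim p).trans hd)
  have hrad : (I ⊔ p).radical = (maximalIdeal R).radical := by
    rw [sup_comm, hpI, (maximalIdeal.isMaximal R).isPrime.radical]
  haveI : Subsingleton (LocCoh.H (I ⊔ p) d (R ⧸ p)) := by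
    refine subsingleton_H_sup_of_torsion I p d _ (fun x => ⟨1, fun a ha => ?_⟩) (h _ d (by omega))
    obtain ⟨x, rfl⟩ := Submodule.Quotient.mk_surjective p x
    rw [pow_one] at ha
    rw [← Submodule.Quotient.mk_smul, Submodule.Quotient.mk_eq_zero, smul_eq_mul]
    exact p.mul_mem_right _ ha
  exact not_nontrivial_iff_subsingleton.2
    (((localCohomology.isoOfSameRadical hrad d).app
      (ModuleCat.of R (R ⧸ p))).toLinearEquiv.symm.toEquiv.subsingleton) hm

end Regular

section Height

variable [IsNoetherianRing R]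

/-- S11626. -/
theorem nontrivial_H_height (I : Ideal R) (h : ℕ) (hh : I.height = h) :
    Nontrivial (LocCoh.H I h R) := by
  obtain ⟨p, hp, hIp, hph⟩ := Ideal.exists_isPrime_height_eq hh
  have hmin : p ∈ I.minimalPrimes := Ideal.mem_minimalPrimes_of_height_le hIp (hph.trans hh.symm).le
  let Rp := Localization.AtPrime p
  haveI : IsNoetherianRing Rp := IsLocalization.isNoetherianRing p.primeCompl Rp inferInstance
  have hdim : ringKrullDim Rp = h := by
    rw [IsLocalization.AtPrime.ringKrullDim_eq_height p Rp, hph]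
    rfl
  haveI hnt := nontrivial_H_supportDim (R := Rp) Rp h
    ((Module.supportDim_self_eq_ringKrullDim (R := Rp)).trans hdim)
  have hrad : (I.map (algebraMap R Rp)).radical = (maximalIdeal Rp).radical := by
    rw [IsLocalization.AtPrime.radical_map_of_mem_minimalPrimes Rp p I hmin,
      IsLocalization.AtPrime.map_eq_maximalIdeal p Rp,
      (maximalIdeal.isMaximal Rp).isPrime.radical]
  haveI : Nontrivial (LocCoh.H (I.map (algebraMap R Rp)) h Rp) :=
    ((localCohomology.isoOfSameRadical hrad h).app (ModuleCat.of Rp Rp)).toLinearEquiv.toEquiv.nontrivial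
  obtain ⟨e⟩ := nonempty_localized_H_equiv I p.primeCompl Rp h R Rp (Algebra.linearMap R Rp)
    (LocalizedModule p.primeCompl (LocCoh.H I h R)) (LocalizedModule.mkLinearMap _ _)
  by_contra hc
  rw [not_nontrivial_iff_subsingleton] at hc
  haveI := e.toEquiv.nontrivial
  exact not_subsingleton (LocalizedModule p.primeCompl (LocCoh.H I h R)) inferInstance

end Height

section Top

variable [IsNoetherianRing R]

theorem ringKrullDim_quotient_singleton_lt {d : ℕ} (hd : ringKrullDim R = d) {f : R}
    (hf : ∀ p ∈ minimalPrimes R, ringKrullDim (R ⧸ p) = d → f ∉ p) :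
    ringKrullDim (R ⧸ Ideal.span {f}) < d := by
  rw [← hd]
  refine (ringKrullDim_le_of_surjective _ Ideal.Quotient.mk_surjective).lt_of_ne fun heq => ?_
  rw [hd, ringKrullDim_quotient] at heq
  obtain ⟨l, hl⟩ := Order.le_krullDim_iff.1 heq.ge
  let l' : LTSeries (PrimeSpectrum R) := l.map Subtype.val fun _ _ h => h
  have hmin : IsMin l'.head := by
    rw [isMin_iff_forall_not_lt]
    intro q hq
    have h1 := Order.LTSeries.length_le_krullDim (l'.cons q hq)
    rw [← ringKrullDim, hd] at h1
    have h2 : l.length + 1 ≤ d := by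
      have : (((l'.cons q hq).length : ℕ) : WithBot ℕ∞) ≤ (d : WithBot ℕ∞) := h1
      simpa [l'] using (by exact_mod_cast this : (l'.cons q hq).length ≤ d)
    omega
  have hp : l'.head.asIdeal ∈ minimalPrimes R := PrimeSpectrum.isMin_iff.1 hmin
  refine hf _ hp (le_antisymm ((ringKrullDim_le_of_surjective _
    Ideal.Quotient.mk_surjective).trans hd.le) ?_) (l.head.2 (Ideal.subset_span rfl))
  rw [ringKrullDim_quotient]
  refine Order.le_krullDim_iff.2 ⟨LTSeries.mk l'.length
    (fun i => ⟨l' i, fun a ha => LTSeries.monotone l' (Fin.zero_le i) ha⟩)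
    (fun i j hij => LTSeries.strictMono l' hij), hl⟩

/-- S0334. -/
theorem smul_surjective_H_top (I : Ideal R) (d : ℕ) (hd : ringKrullDim R = d) (f : R)
    (hf : ∀ p ∈ minimalPrimes R, ringKrullDim (R ⧸ p) = d → f ∉ p) (M : Type u) [AddCommGroup M]
    [Module R M] [Module.Finite R M] : Function.Surjective (fun x : LocCoh.H I d M => f • x) := by
  let m : M →ₗ[R] M := LinearMap.lsmul R M f
  have hS₁ := ses_shortExact (LinearMap.ker m).subtype m.rangeRestrict
    (LinearMap.ker m).injective_subtype m.surjective_rangeRestrict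
    (fun x => by simp [LinearMap.rangeRestrict, Subtype.ext_iff])
  have hS₂ := ses_shortExact (LinearMap.range m).subtype (LinearMap.range m).mkQ
    (LinearMap.range m).injective_subtype (Submodule.mkQ_surjective _)
    (LinearMap.exact_subtype_mkQ _)
  haveI h1 : Subsingleton (LocCoh.H I (d + 1) (LinearMap.ker m)) :=
    cdLE_of_ringKrullDim_le I d hd.le _ (d + 1) d.lt_succ_self
  haveI h2 : Subsingleton (LocCoh.H I d (M ⧸ LinearMap.range m)) := by
    refine subsingleton_H_of_supportDim_lt I _ d ?_
    rw [Module.supportDim_eq_ringKrullDim_quotient_annihilator]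
    refine (ringKrullDim_le_of_surjective (Ideal.Quotient.factor ?_)
      (Ideal.Quotient.factor_surjective ?_)).trans_lt (ringKrullDim_quotient_singleton_lt hd hf)
    all_goals
      rw [Ideal.span_le, Set.singleton_subset_iff, SetLike.mem_coe, Module.mem_annihilator]
      intro q
      obtain ⟨y, rfl⟩ := Submodule.mkQ_surjective _ q
      rw [← map_smul, Submodule.mkQ_apply, Submodule.Quotient.mk_eq_zero]
      exact ⟨y, rfl⟩
  intro z
  obtain ⟨w, rfl⟩ := (H_exact₂ I hS₂ d z).1 (@Subsingleton.elim _ h2 _ _)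
  obtain ⟨v, rfl⟩ := (H_exact₃ I hS₁ d w).1 (@Subsingleton.elim _ h1 _ _)
  refine ⟨v, ?_⟩
  change f • v = _
  rw [← LinearMap.comp_apply, ← ModuleCat.hom_comp, ← Functor.map_comp,
    ← map_smul_id I d (ModuleCat.of R M) f v]
  rfl

theorem exists_nonzero_map_quotient {M : Type u} [AddCommGroup M] [Module R M] [Module.Finite R M]
    (p : Ideal R) [p.IsPrime] (hp : (⟨p, ‹_›⟩ : PrimeSpectrum R) ∈ Module.support R M) :
    ∃ φ : M →ₗ[R] R ⧸ p, φ ≠ 0 := by
  classical
  let K := p.ResidueField
  haveI : Nontrivial (K ⊗[R] M) :=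
    (Module.mem_support_iff_nontrivial_residueField_tensorProduct ⟨p, ‹_›⟩).1 hp
  obtain ⟨v, hv⟩ := exists_ne (0 : K ⊗[R] M)
  obtain ⟨ψ, hψ⟩ : ∃ ψ : Module.Dual K (K ⊗[R] M), ψ v ≠ 0 := by
    by_contra! hc
    exact hv ((Module.forall_dual_apply_eq_zero_iff K v).1 hc)
  let g : M →ₗ[R] K := (ψ.restrictScalars R).comp (TensorProduct.mk R K M 1)
  have hg : g ≠ 0 := fun h => hψ (by
    have : ψ = 0 := TensorProduct.AlgebraTensorModule.ext fun k m => by
      rw [show k ⊗ₜ[R] m = k • ((1 : K) ⊗ₜ[R] m) by rw [TensorProduct.smul_tmul', smul_eq_mul, mul_one],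
        map_smul, show ψ ((1 : K) ⊗ₜ[R] m) = g m from rfl, h]
      simp
    rw [this, LinearMap.zero_apply])
  obtain ⟨s, hs⟩ := Module.Finite.fg_top (R := R) (M := M)
  obtain ⟨⟨b, hb⟩, hbmul⟩ := IsLocalization.exist_integer_multiples_of_finset
    (nonZeroDivisors (R ⧸ p)) (s.image g)
  obtain ⟨b, rfl⟩ := Ideal.Quotient.mk_surjective b
  let ι : R ⧸ p →ₗ[R] K := (Algebra.linearMap (R ⧸ p) K).restrictScalars R
  have hι : Function.Injective ι := IsFractionRing.injective (R ⧸ p) K
  have hrange : ∀ m, (b • g) m ∈ LinearMap.range ι := by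
    intro m
    have hm : m ∈ Submodule.span R (s : Set M) := hs ▸ Submodule.mem_top
    induction hm using Submodule.span_induction with
    | mem m hm =>
      obtain ⟨c, hc⟩ := hbmul (g m) (Finset.mem_image_of_mem g hm)
      refine ⟨c, ?_⟩
      rw [LinearMap.smul_apply]
      refine hc.trans ?_
      change Ideal.Quotient.mk p b • g m = b • g m
      rw [← Ideal.Quotient.algebraMap_eq, algebraMap_smul]
    | zero => simp
    | add x y _ _ hx hy => rw [map_add]; exact Submodule.add_mem _ hx hy
    | smul r x _ hx => rw [map_smul]; exact Submodule.smul_mem _ r hx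
  refine ⟨(LinearEquiv.ofInjective ι hι).symm.toLinearMap.comp
    ((b • g).codRestrict (LinearMap.range ι) hrange), fun h => hg (LinearMap.ext fun m => ?_)⟩
  have h1 : (b • g).codRestrict (LinearMap.range ι) hrange m = 0 :=
    (LinearEquiv.ofInjective ι hι).symm.injective ((LinearMap.congr_fun h m).trans (map_zero _).symm)
  have h2 : b • g m = 0 := congrArg Subtype.val h1
  rw [← algebraMap_smul K b, smul_eq_mul, mul_eq_zero] at h2
  refine h2.resolve_left fun h3 => ?_
  rw [IsScalarTower.algebraMap_apply R (R ⧸ p) K, Ideal.Quotient.algebraMap_eq] at h3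
  exact nonZeroDivisors.ne_zero hb ((map_eq_zero_iff _ (IsFractionRing.injective (R ⧸ p) K)).1 h3)

/-- S0333. -/
theorem subsingleton_H_of_top_vanishing (I : Ideal R) (d : ℕ) (hd : ringKrullDim R = d)
    (M : Type u) [AddCommGroup M] [Module R M] [Module.Finite R M]
    (hsupp : ∀ p ∈ minimalPrimes R, ringKrullDim (R ⧸ p) = d → ∀ hp : p.IsPrime,
      (⟨p, hp⟩ : PrimeSpectrum R) ∈ Module.support R M)
    (hvan : Subsingleton (LocCoh.H I d M)) (N : Type u) [AddCommGroup N] [Module R N] (i : ℕ)
    (hi : d ≤ i) : Subsingleton (LocCoh.H I i N) := by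
  have hcd := cdLE_of_ringKrullDim_le I d hd.le
  rcases eq_or_lt_of_le hi with h | h
  swap
  · exact hcd N i h
  subst h
  have hprime : ∀ p : PrimeSpectrum R, Subsingleton (LocCoh.H I d (R ⧸ p.asIdeal)) := by
    intro p
    have hle : ringKrullDim (R ⧸ p.asIdeal) ≤ d :=
      (ringKrullDim_le_of_surjective _ Ideal.Quotient.mk_surjective).trans hd.le
    rcases eq_or_lt_of_le hle with heq | hlt
    swap
    · exact subsingleton_H_of_supportDim_lt I _ d
        (by rwa [Module.supportDim_quotient_eq_ringKrullDim])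
    have hmin : p.asIdeal ∈ minimalPrimes R := by
      rw [← PrimeSpectrum.isMin_iff, isMin_iff_forall_not_lt]
      intro q hq
      rw [ringKrullDim_quotient] at heq
      obtain ⟨l, hl⟩ := Order.le_krullDim_iff.1 heq.ge
      have hqh : q < (l.map Subtype.val fun _ _ h => h).head :=
        lt_of_lt_of_le hq l.head.2
      have h1 := Order.LTSeries.length_le_krullDim
        ((l.map Subtype.val fun _ _ h => h).cons q hqh)
      rw [← ringKrullDim, hd] at h1
      have h2 : l.length + 1 ≤ d := by
        simpa using (by exact_mod_cast h1 :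
          ((l.map Subtype.val fun _ _ h => h).cons q hqh).length ≤ d)
      omega
    obtain ⟨φ, hφ⟩ := exists_nonzero_map_quotient p.asIdeal (hsupp _ hmin heq p.2)
    obtain ⟨m, hm⟩ : ∃ m, φ m ≠ 0 := by
      by_contra! hc
      exact hφ (LinearMap.ext hc)
    have hS₁ := ses_shortExact (LinearMap.ker φ).subtype φ.rangeRestrict
      (LinearMap.ker φ).injective_subtype φ.surjective_rangeRestrict
      (fun x => by simp [LinearMap.rangeRestrict, Subtype.ext_iff])
    have hS₂ := ses_shortExact (LinearMap.range φ).subtype (LinearMap.range φ).mkQ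
      (LinearMap.range φ).injective_subtype (Submodule.mkQ_surjective _)
      (LinearMap.exact_subtype_mkQ _)
    refine subsingleton_H_mid I hS₂ d
      (subsingleton_H_right I hS₁ d hvan (hcd _ (d + 1) d.lt_succ_self)) ?_
    obtain ⟨r, hr⟩ := Ideal.Quotient.mk_surjective (φ m)
    have hrp : r ∉ p.asIdeal := fun hh => hm (by rw [← hr, Ideal.Quotient.eq_zero_iff_mem.2 hh])
    refine subsingleton_H_of_supportDim_lt I _ d (lt_of_le_of_lt (Module.supportDim_le_of_surjective
      (Submodule.liftQ (r • (⊤ : Submodule R (R ⧸ p.asIdeal))) (LinearMap.range φ).mkQ ?_)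
      (fun q => ?_)) ?_)
    · rintro _ ⟨z, -, rfl⟩
      obtain ⟨z, rfl⟩ := Ideal.Quotient.mk_surjective z
      rw [LinearMap.mem_ker, Submodule.mkQ_apply, Submodule.Quotient.mk_eq_zero]
      refine ⟨z • m, ?_⟩
      rw [map_smul, ← hr]
      change z • Ideal.Quotient.mk p.asIdeal r = r • Ideal.Quotient.mk p.asIdeal z
      rw [Algebra.smul_def, Algebra.smul_def, Ideal.Quotient.algebraMap_eq, mul_comm]
    · obtain ⟨z, rfl⟩ := Submodule.mkQ_surjective _ q
      exact ⟨Submodule.Quotient.mk z, rfl⟩
    · have h1 := supportDim_quotSMulTop_add_one_le p.isPrime hrp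
      rw [Module.supportDim_quotient_eq_ringKrullDim, heq] at h1
      cases hs : Module.supportDim R (QuotSMulTop r (R ⧸ p.asIdeal)) with
      | bot => exact WithBot.bot_lt_coe _
      | coe s =>
        rw [hs] at h1
        have h2 : s + 1 ≤ (d : ℕ∞) := by exact_mod_cast h1
        exact_mod_cast lt_of_lt_of_le
          (ENat.lt_add_one_iff (ne_top_of_le_ne_top (ENat.natCast_ne_top d)
            (le_self_add.trans h2)) |>.2 le_rfl) h2
  refine subsingleton_H_of_finite I d (fun P _ _ hP => ?_) N
  refine IsNoetherianRing.induction_on_isQuotientEquivQuotientPrime R (M := P) hP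
    (motive := fun P _ _ _ => Subsingleton (LocCoh.H I d P)) ?_ ?_ ?_
  · intro P _ _ _ _
    cases d with
    | zero => exact (subsingleton_H0_iff I P).2 (Subsingleton.elim _ _)
    | succ j => exact subsingleton_H_of_isPowerTorsion I j P (fun x => ⟨0, fun a _ => Subsingleton.elim _ _⟩)
  · intro P _ _ _ p e
    haveI := hprime p
    exact ((localCohomology I d).mapIso e.toModuleIso).toLinearEquiv.toEquiv.subsingleton
  · intro P₁ _ _ _ P₂ _ _ _ P₃ _ _ _ f g hf hg hfg h₁ h₃
    exact subsingleton_H_mid I (ses_shortExact f g hf hg hfg) d h₁ h₃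

end Top

end Groth.L04.LC
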