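import Groth.Agent.L16.CohLinear
import Groth.Agent.L16.Exist.FormalSect
import Groth.Agent.L04.Koszul.Punctured
import Groth.Agent.L04.LC.Nonvanish
import Groth.Agent.L18.TildeFunctor
import Groth.Agent.L21.Mod.Locality
import Mathlib.CategoryTheory.Abelian.Injective.Basic
import Mathlib.Algebra.Category.Grp.EnoughInjectives

/-!
# `H^i(U, M~) ≅ H^{i+1}_I(M)`, linearly, on the punctured spectrum
-/

set_option autoImplicit false
set_option linter.style.haveILetI false
set_option backward.isDefEq.respectTransparency false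
set_option backward.isDefEq.respectTransparency.types false

universe u

open CategoryTheory CategoryTheory.Limits TopologicalSpace Opposite AlgebraicGeometry

noncomputable section

namespace Groth.L04.PunctLin

open Groth.L04.LC Groth.L16

variable {A : Type u} [CommRing A]

section Open

variable (U : (Spec (CommRingCat.of A)).Opens)

/-- The associated sheaf on an open. -/
abbrev tM (M : ModuleCat.{u} A) : (U : Scheme.{u}).Modules := (tilde (R := CommRingCat.of A) M).restrict U.ι

/-- Functoriality. -/
abbrev tg {M N : ModuleCat.{u} A} (g : M ⟶ N) : tM U M ⟶ tM U N :=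
  (Scheme.Modules.restrictFunctor U.ι).map ((tilde.functor (CommRingCat.of A)).map g)

/-- The short complex of sheaves on the open. -/
abbrev sS (S : ShortComplex (ModuleCat.{u} A)) : ShortComplex (U : Scheme.{u}).Modules :=
  (S.map (tilde.functor (CommRingCat.of A))).map (Scheme.Modules.restrictFunctor U.ι)

theorem sS_shortExact {S : ShortComplex (ModuleCat.{u} A)} (hS : S.ShortExact) : (sS U S).ShortExact := by
  haveI : PreservesColimitsOfSize.{0, 0} (tilde.functor (CommRingCat.of A)) :=
    tilde.adjunction.leftAdjoint_preservesColimits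
  haveI : PreservesFiniteLimits (tilde.functor (CommRingCat.of A)) :=
    Groth.L18.TildeF.tilde_preservesFiniteLimits
  haveI : PreservesFiniteColimits (tilde.functor (CommRingCat.of A)) :=
    PreservesColimitsOfSize.preservesFiniteColimits.{0, 0} _
  exact Groth.L21.Mod.shortExact_restrict U.ι (hS.map_of_exact (tilde.functor (CommRingCat.of A)))

/-- Sections as an `A`-module. -/
abbrev sect (M : ModuleCat.{u} A) : ModuleCat.{u} A :=
  (modulesSpecToSheaf.obj (tilde (R := CommRingCat.of A) M)).presheaf.obj (op U)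

/-- Sections on the open subscheme. -/
def sectEquiv (M : ModuleCat.{u} A) : Γ(tM U M, ⊤) ≃+ (sect U M : Type u) :=
  ((tilde (R := CommRingCat.of A) M).presheaf.mapIso
    (eqToIso U.ι_image_top.symm).op).addCommGroupIsoToAddEquiv

theorem sectEquiv_smul (M : ModuleCat.{u} A) (a : A) (x : Γ(tM U M, ⊤)) :
    sectEquiv U M (AffineBC.scal A (U : Scheme.{u}) ⊤ a • x) = a • sectEquiv U M x := by
  refine (PresheafOfModules.map_smul (tilde (R := CommRingCat.of A) M).val
    ((eqToIso U.ι_image_top.symm).hom.op) _ x).trans ?_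
  refine Eq.trans ?_ (Scheme.Modules.smul_Spec_def (R := CommRingCat.of A)
    (M := tilde (R := CommRingCat.of A) M) (U := U) a (sectEquiv U M x)).symm
  let y : Γ(tilde (R := CommRingCat.of A) M, U) := sectEquiv U M x
  refine congrArg (fun r : Γ(Spec (CommRingCat.of A), U) => r • y) ?_
  simp only [AffineBC.scal, RingHom.coe_comp, Function.comp_apply]
  change ((Spec (CommRingCat.of A)).presheaf.map _).hom ((U.ι.appIso ⊤).inv.hom
    (((U : Scheme.{u}).presheaf.map _).hom (((U : Scheme.{u}) ↘ Spec (CommRingCat.of A)).appTop.hom _))) = _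
  rw [Scheme.Opens.ι_appIso]
  change ((Spec (CommRingCat.of A)).presheaf.map _).hom
    (((Spec (CommRingCat.of A)).presheaf.map (U.ι.opensFunctor.op.map
        (homOfLE (le_top : (⊤ : (U : Scheme.{u}).Opens) ≤ ⊤)).op)).hom
      (((Spec (CommRingCat.of A)).presheaf.map (homOfLE (le_top : U.ι ''ᵁ ⊤ ≤ ⊤)).op).hom
        ((Scheme.ΓSpecIso (CommRingCat.of A)).inv.hom a))) = _
  generalize (Scheme.ΓSpecIso (CommRingCat.of A)).inv.hom a = z
  refine ((congrArg _ (CommRingCat.comp_apply _ _ z).symm).trans (CommRingCat.comp_apply _ _ z).symm).trans ?_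
  rw [← Functor.map_comp, ← Functor.map_comp]
  rfl

/-- Degree zero cohomology is the module of sections. -/
def gamma (M : ModuleCat.{u} A) : Coh.HH (U : Scheme.{u}) (tM U M) 0 ≃ₗ[A] (sect U M : Type u) :=
  { (HomSh.h0Equiv (tM U M)).trans (sectEquiv U M) with
    map_smul' := fun a x => by
      change sectEquiv U M (HomSh.h0Equiv (tM U M) (a • x)) = a • sectEquiv U M (HomSh.h0Equiv (tM U M) x)
      rw [Exist.h0Equiv_smul, sectEquiv_smul] }

theorem gamma_natural {M N : ModuleCat.{u} A} (g : M ⟶ N) (x : Coh.HH (U : Scheme.{u}) (tM U M) 0) :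
    gamma U N (CohLinear.hmap (tg U g) 0 x) =
      ((modulesSpecToSheaf.map ((tilde.functor (CommRingCat.of A)).map g)).hom.app (op U)).hom (gamma U M x) := by
  change sectEquiv U N (HomSh.h0Equiv (tM U N) (CohLinear.hmap (tg U g) 0 x)) = _
  rw [show HomSh.h0Equiv (tM U N) (CohLinear.hmap (tg U g) 0 x) = (tg U g).app ⊤ (HomSh.h0Equiv (tM U M) x) from
    HomSh.h0Equiv_map (tg U g) x]
  exact (ConcreteCategory.congr_hom (((tilde.functor (CommRingCat.of A)).map g).mapPresheaf.naturality
    (eqToIso U.ι_image_top.symm).hom.op) (HomSh.h0Equiv (tM U M) x)).symm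

end Open

variable [IsNoetherianRing A] (I : Ideal A)

local notation "Uo" => LocCoh.puncturedOpen A I

theorem subsingleton_of_injective (E : ModuleCat.{u} A) [Injective E] (p : ℕ) :
    Subsingleton (Coh.HH (Uo : Scheme.{u}) (tM Uo E) (p + 1)) := by
  obtain ⟨e⟩ := Groth.L04.Koszul.Cech.nonempty_hhon_punctured_localCohomology I E (p + 1) (by omega)
  haveI := subsingleton_H_succ_of_injective I (p + 1) E
  exact e.toEquiv.subsingleton

theorem surjective_toOpen_of_injective (E : ModuleCat.{u} A) [Injective E] :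
    Function.Surjective (tilde.toOpen (R := CommRingCat.of A) E Uo).hom := by
  obtain ⟨-, ⟨e⟩⟩ := Groth.L04.Koszul.Cech.exists_toOpen_punctured I E
  haveI := subsingleton_H_succ_of_injective I 0 E
  haveI := e.toEquiv.subsingleton
  intro y
  exact (Submodule.Quotient.mk_eq_zero (R := A)
    (LinearMap.range (tilde.toOpen (R := CommRingCat.of A) E Uo).hom)).1 (Subsingleton.elim _ _)

/-- `H^i(U, M~) ≅ H^{i+1}_I(M)` linearly. -/
theorem nonempty_equiv (p : ℕ) : ∀ M : ModuleCat.{u} A,
    Nonempty (Coh.HH (Uo : Scheme.{u}) (tM Uo M) (p + 1) ≃ₗ[A] (localCohomology I (p + 2)).obj M) := by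
  induction p with
  | zero =>
    intro M
    let E := Injective.under M
    let S := ShortComplex.mk (Injective.ι M) (cokernel.π (Injective.ι M)) (cokernel.condition _)
    have hS : S.ShortExact :=
      { exact := ShortComplex.exact_cokernel _ }
    haveI := subsingleton_of_injective I E 0
    have hT := sS_shortExact Uo hS
    let δ := CohLinear.overLin A (CohLinear.delta hT 0)
    let g := CohLinear.overLin A (CohLinear.hmap (sS Uo S).g 0)
    have hsurj : Function.Surjective δ := fun y =>
      (CohLinear.exact_delta_hmap hT 0 y).1 (Subsingleton.elim (α := Coh.HH (Uo : Scheme.{u}) (tM Uo E) 1) _ _)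
    have hker : LinearMap.ker δ = LinearMap.range g := LinearMap.exact_iff.1 (CohLinear.exact_hmap_delta hT 0)
    have hmap : (LinearMap.range g).map (gamma Uo S.X₃).toLinearMap =
        LinearMap.range (tilde.toOpen (R := CommRingCat.of A) S.X₃ Uo).hom := by
      have hn : ∀ e, ((modulesSpecToSheaf.map ((tilde.functor (CommRingCat.of A)).map S.g)).hom.app (op Uo)).hom
          ((tilde.toOpen (R := CommRingCat.of A) S.X₂ Uo).hom e) =
            (tilde.toOpen (R := CommRingCat.of A) S.X₃ Uo).hom (S.g.hom e) := fun e =>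
        ConcreteCategory.congr_hom (tilde.toOpen_map_app (R := CommRingCat.of A) S.g Uo) e
      apply le_antisymm
      · rintro _ ⟨_, ⟨x, rfl⟩, rfl⟩
        obtain ⟨e, he⟩ := surjective_toOpen_of_injective I E (gamma Uo S.X₂ x)
        refine ⟨S.g.hom e, ?_⟩
        rw [← hn, he]
        exact (gamma_natural Uo S.g x).symm
      · rintro _ ⟨q, rfl⟩
        obtain ⟨e, rfl⟩ := (ModuleCat.epi_iff_surjective S.g).1 hS.epi_g q
        refine ⟨g ((gamma Uo S.X₂).symm ((tilde.toOpen (R := CommRingCat.of A) S.X₂ Uo).hom e)), ⟨_, rfl⟩, ?_⟩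
        refine (gamma_natural Uo S.g _).trans ?_
        rw [LinearEquiv.apply_symm_apply]
        exact hn e
    obtain ⟨-, ⟨c⟩⟩ := Groth.L04.Koszul.Cech.exists_toOpen_punctured I S.X₃
    have hb : Function.Bijective (Hδ I hS 1) := by
      haveI := subsingleton_H_succ_of_injective I 0 E
      haveI := subsingleton_H_succ_of_injective I 1 E
      exact ⟨fun a b hab => sub_eq_zero.1 (by
        obtain ⟨z, hz⟩ := (H_exact₃ I hS 1 (a - b)).1 (by rw [map_sub, hab, sub_self])
        rw [← hz, Subsingleton.elim (α := (localCohomology I 1).obj E) z 0, map_zero]),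
        fun y => (H_exact₁ I hS 1 y).1 (Subsingleton.elim (α := (localCohomology I 2).obj E) _ _)⟩
    exact ⟨(δ.quotKerEquivOfSurjective hsurj).symm ≪≫ₗ
      Submodule.Quotient.equiv _ _ (gamma Uo S.X₃) (by rw [hker]; exact hmap) ≪≫ₗ c ≪≫ₗ
      LinearEquiv.ofBijective (Hδ I hS 1) hb⟩
  | succ p ih =>
    intro M
    let E := Injective.under M
    let S := ShortComplex.mk (Injective.ι M) (cokernel.π (Injective.ι M)) (cokernel.condition _)
    have hS : S.ShortExact :=
      { exact := ShortComplex.exact_cokernel _ }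
    have hT := sS_shortExact Uo hS
    haveI := subsingleton_of_injective I E p
    haveI := subsingleton_of_injective I E (p + 1)
    let δ := CohLinear.overLin A (CohLinear.delta hT (p + 1))
    have h1 : Function.Bijective δ := ⟨fun a b hab => sub_eq_zero.1 (by
        obtain ⟨z, hz⟩ := (CohLinear.exact_hmap_delta hT (p + 1) (a - b)).1 (by
          change δ (a - b) = 0
          rw [map_sub, hab, sub_self])
        rw [← hz, Subsingleton.elim (α := Coh.HH (Uo : Scheme.{u}) (tM Uo E) (p + 1)) z 0]
        exact map_zero _),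
      fun y => (CohLinear.exact_delta_hmap hT (p + 1) y).1
        (Subsingleton.elim (α := Coh.HH (Uo : Scheme.{u}) (tM Uo E) (p + 2)) _ _)⟩
    have hb : Function.Bijective (Hδ I hS (p + 2)) := by
      haveI := subsingleton_H_succ_of_injective I (p + 1) E
      haveI := subsingleton_H_succ_of_injective I (p + 2) E
      exact ⟨fun a b hab => sub_eq_zero.1 (by
        obtain ⟨z, hz⟩ := (H_exact₃ I hS (p + 2) (a - b)).1 (by rw [map_sub, hab, sub_self])
        rw [← hz, Subsingleton.elim (α := (localCohomology I (p + 2)).obj E) z 0, map_zero]),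
        fun y => (H_exact₁ I hS (p + 2) y).1 (Subsingleton.elim (α := (localCohomology I (p + 3)).obj E) _ _)⟩
    obtain ⟨e⟩ := ih S.X₃
    exact ⟨(LinearEquiv.ofBijective δ h1).symm ≪≫ₗ e ≪≫ₗ LinearEquiv.ofBijective (Hδ I hS (p + 2)) hb⟩

end Groth.L04.PunctLin
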