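import Groth.Agent.L04.LC.Torsion
import Groth.Agent.L04.Essential
import Groth.Agent.L04.Depth
import Mathlib.RingTheory.Ideal.AssociatedPrime.Basic

/-!
# Vanishing of local cohomology in low degrees, `Ext` and depth
-/

universe u

open CategoryTheory Limits Abelian

namespace Groth.L04.LC

variable {R : Type u} [CommRing R] (I : Ideal R)

theorem torsionSub_eq_bot_of_essential {G E : Type u} [AddCommGroup G] [Module R G]
    [AddCommGroup E] [Module R E] {f : G →ₗ[R] E} (hf : InjHull.IsEssentialInj f)
    (hG : DRing.torsionSub I G = ⊥) : DRing.torsionSub I E = ⊥ := by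
  by_contra h
  obtain ⟨y, ⟨hy, ⟨x, rfl⟩⟩, hy0⟩ := Submodule.exists_mem_ne_zero_of_ne_bot (hf.essential _ h)
  obtain ⟨n, hn⟩ := hy
  have : x ∈ DRing.torsionSub I G :=
    ⟨n, fun a ha => hf.injective (by rw [map_smul, map_zero, hn a ha])⟩
  rw [hG, Submodule.mem_bot] at this
  exact hy0 (by rw [this, map_zero])

theorem subsingleton_H0_iff (M : Type u) [AddCommGroup M] [Module R M] :
    Subsingleton (LocCoh.H I 0 M) ↔ DRing.torsionSub I M = ⊥ := by
  rw [(H0Equiv I (ModuleCat.of R M)).toEquiv.subsingleton_congr, Submodule.subsingleton_iff_eq_bot]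

theorem subsingleton_hom_of_torsion {F G : Type u} [AddCommGroup F] [Module R F] [AddCommGroup G]
    [Module R G] (hF : LocCoh.IsPowerTorsion I F) (hG : DRing.torsionSub I G = ⊥) :
    Subsingleton (F →ₗ[R] G) := by
  refine subsingleton_of_forall_eq 0 fun φ => LinearMap.ext fun x => ?_
  obtain ⟨n, hn⟩ := hF x
  have : φ x ∈ DRing.torsionSub I G := ⟨n, fun a ha => by rw [← map_smul, hn a ha, map_zero]⟩
  rwa [hG, Submodule.mem_bot] at this

/-- `Ext⁰` is `Hom`. -/
noncomputable def ext0Equiv (F G : ModuleCat.{u} R) : Ext F G 0 ≃ₗ[R] (F →ₗ[R] G) :=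
  Ext.linearEquiv₀.trans ModuleCat.homLinearEquiv

section Shift

variable {S : ShortComplex (ModuleCat.{u} R)} (hS : S.ShortExact) (X : ModuleCat.{u} R)

theorem extClassComp_bijective (i : ℕ) (h0 : Subsingleton (Ext X S.X₂ i))
    (h1 : Subsingleton (Ext X S.X₂ (i + 1))) :
    Function.Bijective (extClassComp R hS X i) := by
  constructor
  · rw [← LinearMap.ker_eq_bot, Submodule.eq_bot_iff]
    intro x hx
    obtain ⟨y, rfl⟩ := Ext.covariant_sequence_exact₃ X hS x rfl hx
    rw [Subsingleton.elim y 0, Ext.zero_comp]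
  · intro x
    exact Ext.covariant_sequence_exact₁ X hS x (Subsingleton.elim _ _) rfl

end Shift

theorem subsingleton_ext_succ_injective (X : ModuleCat.{u} R) (E : Type u) [AddCommGroup E]
    [Module R E] (hE : Module.Injective R E) (i : ℕ) :
    Subsingleton (Ext X (ModuleCat.of R E) (i + 1)) := by
  haveI : Injective (ModuleCat.of R E) := Module.injective_object_of_injective_module R E
  exact subsingleton_of_forall_eq 0 fun a => Ext.eq_zero_of_injective a

/-- Dimension shifting along an injective hull of a module without torsion. -/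
theorem exists_shift (G : Type u) [AddCommGroup G] [Module R G]
    (hG : DRing.torsionSub I G = ⊥) :
    ∃ (Q : Type u) (_ : AddCommGroup Q) (_ : Module R Q),
      (∀ i, Nonempty (LocCoh.H I i Q ≃ₗ[R] LocCoh.H I (i + 1) G)) ∧
      ∀ (F : Type u) [AddCommGroup F] [Module R F], LocCoh.IsPowerTorsion I F → ∀ i,
        Nonempty (Ext (ModuleCat.of R F) (ModuleCat.of R Q) i ≃ₗ[R]
          Ext (ModuleCat.of R F) (ModuleCat.of R G) (i + 1)) := by
  obtain ⟨E, _, _, f, hf⟩ := Groth.L04.exists_injectiveHull (R := R) G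
  have hE0 := torsionSub_eq_bot_of_essential I hf.toIsEssentialInj hG
  have hS := quotient_shortExact f hf.injective
  refine ⟨E ⧸ LinearMap.range f, inferInstance, inferInstance, fun i => ?_, fun F _ _ hF i => ?_⟩
  · exact ⟨LinearEquiv.ofBijective _ (Hδ_bijective I hS i (by
      cases i with
      | zero => exact (subsingleton_H0_iff I E).2 hE0
      | succ j => exact subsingleton_H_injective I E hf.isInjective j)
      (subsingleton_H_injective I E hf.isInjective i))⟩
  · exact ⟨LinearEquiv.ofBijective _ (extClassComp_bijective hS (ModuleCat.of R F) i (by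
      cases i with
      | zero =>
        haveI := subsingleton_hom_of_torsion I hF hE0
        exact (ext0Equiv (ModuleCat.of R F) (ModuleCat.of R E)).toEquiv.subsingleton
      | succ j => exact subsingleton_ext_succ_injective _ E hf.isInjective j)
      (subsingleton_ext_succ_injective _ E hf.isInjective i))⟩

theorem subsingleton_ext_of_H : ∀ (n : ℕ) (G : Type u) [AddCommGroup G] [Module R G],
    (∀ i < n, Subsingleton (LocCoh.H I i G)) → ∀ (F : Type u) [AddCommGroup F] [Module R F],
      LocCoh.IsPowerTorsion I F → ∀ i < n,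
        Subsingleton (Ext (ModuleCat.of R F) (ModuleCat.of R G) i) := by
  intro n
  induction n with
  | zero => intro G _ _ _ F _ _ _ i hi; omega
  | succ n ih =>
    intro G _ _ hG F _ _ hF i hi
    have h0 := (subsingleton_H0_iff I G).1 (hG 0 n.succ_pos)
    cases i with
    | zero =>
      haveI := subsingleton_hom_of_torsion I hF h0
      exact (ext0Equiv (ModuleCat.of R F) (ModuleCat.of R G)).toEquiv.subsingleton
    | succ i =>
      obtain ⟨Q, _, _, hH, hExt⟩ := exists_shift I G h0
      haveI := ih Q (fun j hj => by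
        haveI := hG (j + 1) (by omega)
        exact (hH j).some.toEquiv.subsingleton) F hF i (by omega)
      exact (hExt F hF i).some.symm.toEquiv.subsingleton

/-- `Hom(F, G) ≠ 0` when `F` is finite and `G` has torsion at an associated prime in its support. -/
theorem torsionSub_eq_bot_of_subsingleton_hom [IsNoetherianRing R] {F G : Type u} [AddCommGroup F]
    [Module R F] [Module.Finite R F] [AddCommGroup G] [Module R G]
    (hF : PrimeSpectrum.zeroLocus (I : Set R) ⊆ Module.support R F)
    (h : Subsingleton (F →ₗ[R] G)) : DRing.torsionSub I G = ⊥ := by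
  rw [eq_bot_iff]
  intro z hz
  by_contra hz0
  obtain ⟨n, hn⟩ := hz
  obtain ⟨P, hP, hzP⟩ := exists_le_isAssociatedPrime_of_isNoetherianRing R z hz0
  have hPp : P.IsPrime := hP.isPrime
  obtain ⟨g, hg⟩ := ((isAssociatedPrime_iff_exists_injective_linearMap P G).1 hP).2
  have hIP : I ≤ P := fun a ha => hPp.mem_of_pow_mem n
    (hzP (Submodule.mem_colon_singleton.2 (by simp [hn _ (Ideal.pow_mem_pow ha n)])))
  haveI : Subsingleton (F →ₗ[R] R ⧸ P) := ⟨fun a b => LinearMap.ext fun x =>
    hg (LinearMap.congr_fun (Subsingleton.elim (g.comp a) (g.comp b)) x)⟩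
  obtain ⟨r, hr, hreg⟩ := IsSMulRegular.subsingleton_linearMap_iff.1 this
  have hmem : (⟨P, hPp⟩ : PrimeSpectrum R) ∈ Module.support R F := hF hIP
  rw [Module.mem_support_iff_of_finite] at hmem
  have h1 : r • (1 : R ⧸ P) = r • 0 := by
    rw [smul_zero, Algebra.smul_def, mul_one, Ideal.Quotient.algebraMap_eq,
      Ideal.Quotient.eq_zero_iff_mem]
    exact hmem hr
  exact hPp.ne_top ((Ideal.eq_top_iff_one _).2 (Ideal.Quotient.eq_zero_iff_mem.1 (hreg h1)))

theorem H_subsingleton_of_ext [IsNoetherianRing R] {F : Type u} [AddCommGroup F] [Module R F]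
    [Module.Finite R F] (hF : LocCoh.IsPowerTorsion I F)
    (hsupp : PrimeSpectrum.zeroLocus (I : Set R) ⊆ Module.support R F) :
    ∀ (n : ℕ) (G : Type u) [AddCommGroup G] [Module R G],
      (∀ i < n, Subsingleton (Ext (ModuleCat.of R F) (ModuleCat.of R G) i)) →
        ∀ i < n, Subsingleton (LocCoh.H I i G) := by
  intro n
  induction n with
  | zero => intro G _ _ _ i hi; omega
  | succ n ih =>
    intro G _ _ hG i hi
    haveI := hG 0 n.succ_pos
    have h0 := torsionSub_eq_bot_of_subsingleton_hom I hsupp
      (ext0Equiv (ModuleCat.of R F) (ModuleCat.of R G)).symm.toEquiv.subsingleton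
    cases i with
    | zero => exact (subsingleton_H0_iff I G).2 h0
    | succ i =>
      obtain ⟨Q, _, _, hH, hExt⟩ := exists_shift I G h0
      haveI := ih Q (fun j hj => by
        haveI := hG (j + 1) (by omega)
        exact (hExt F hF j).some.toEquiv.subsingleton) i (by omega)
      exact (hH i).some.symm.toEquiv.subsingleton

theorem isPowerTorsion_of_support_subset [IsNoetherianRing R] {F : Type u} [AddCommGroup F]
    [Module R F] [Module.Finite R F]
    (h : Module.support R F ⊆ PrimeSpectrum.zeroLocus (I : Set R)) :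
    LocCoh.IsPowerTorsion I F := by
  rw [Module.support_eq_zeroLocus, PrimeSpectrum.zeroLocus_subset_zeroLocus_iff] at h
  obtain ⟨n, hn⟩ := Ideal.exists_pow_le_of_le_radical_of_fg h (IsNoetherian.noetherian I)
  exact fun x => ⟨n, fun a ha => Module.mem_annihilator.1 (hn ha) x⟩

theorem support_quotient_self (I : Ideal R) :
    Module.support R (R ⧸ I) = PrimeSpectrum.zeroLocus (I : Set R) := by
  rw [Module.support_eq_zeroLocus, Ideal.annihilator_quotient]

theorem forall_H_subsingleton_iff_ext [IsNoetherianRing R] (G : Type u) [AddCommGroup G]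
    [Module R G] (n : ℕ) :
    (∀ i < n, Subsingleton (LocCoh.H I i G)) ↔
      ∀ i < n, Subsingleton (Ext (ModuleCat.of R (R ⧸ I)) (ModuleCat.of R G) i) :=
  ⟨fun h => subsingleton_ext_of_H I n G h (R ⧸ I)
      (isPowerTorsion_of_support_subset I (support_quotient_self I).subset),
    H_subsingleton_of_ext I (isPowerTorsion_of_support_subset I (support_quotient_self I).subset)
      (support_quotient_self I).superset n G⟩

theorem le_idealDepth_iff_H [IsNoetherianRing R] (M : Type u) [AddCommGroup M] [Module R M]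
    [Module.Finite R M] (n : ℕ) :
    (n : ℕ∞) ≤ LocCoh.idealDepth I M ↔ ∀ i < n, Subsingleton (LocCoh.H I i M) := by
  rw [le_idealDepth_iff_extVanish, forall_H_subsingleton_iff_ext]
  rfl

theorem idealDepth_eq_iff_H [IsNoetherianRing R] (M : Type u) [AddCommGroup M] [Module R M]
    [Module.Finite R M] (n : ℕ) :
    LocCoh.idealDepth I M = n ↔
      (∀ i < n, Subsingleton (LocCoh.H I i M)) ∧ Nontrivial (LocCoh.H I n M) := by
  constructor
  · intro h
    refine ⟨(le_idealDepth_iff_H I M n).1 h.ge, ?_⟩
    by_contra hn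
    rw [not_nontrivial_iff_subsingleton] at hn
    have h2 := (le_idealDepth_iff_H I M (n + 1)).2 fun i hi => by
      rcases Nat.lt_succ_iff_lt_or_eq.1 hi with hi | rfl
      · exact (le_idealDepth_iff_H I M n).1 h.ge i hi
      · exact hn
    rw [h] at h2
    have : n + 1 ≤ n := by exact_mod_cast h2
    omega
  · rintro ⟨h1, h2⟩
    refine le_antisymm ?_ ((le_idealDepth_iff_H I M n).2 h1)
    by_contra h
    rw [not_le] at h
    have h3 := (le_idealDepth_iff_H I M (n + 1)).1
      (by push_cast; exact Order.add_one_le_of_lt h) n n.lt_succ_self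
    exact not_subsingleton (LocCoh.H I n M) h3

/-- The first nonvanishing local cohomology as an `Ext`. -/
theorem nonempty_ext_equiv_hom_H : ∀ (n : ℕ) (G : Type u) [AddCommGroup G] [Module R G],
    (∀ i < n, Subsingleton (LocCoh.H I i G)) → ∀ (F : Type u) [AddCommGroup F] [Module R F],
      LocCoh.IsPowerTorsion I F →
        Nonempty (Ext (ModuleCat.of R F) (ModuleCat.of R G) n ≃ₗ[R] (F →ₗ[R] LocCoh.H I n G)) := by
  intro n
  induction n with
  | zero =>
    intro G _ _ _ F _ _ hF
    let e : LocCoh.H I 0 G ≃ₗ[R] DRing.torsionSub I G := H0Equiv I (ModuleCat.of R G)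
    let cor : (F →ₗ[R] G) ≃ₗ[R] (F →ₗ[R] DRing.torsionSub I G) :=
      LinearEquiv.ofLinear
        { toFun := fun φ => φ.codRestrict _ fun x => by
            obtain ⟨n, hn⟩ := hF x
            exact ⟨n, fun a ha => by rw [← map_smul, hn a ha, map_zero]⟩
          map_add' := fun _ _ => rfl
          map_smul' := fun _ _ => rfl }
        { toFun := fun φ => (DRing.torsionSub I G).subtype.comp φ
          map_add' := fun _ _ => rfl
          map_smul' := fun _ _ => rfl } (by ext; rfl) (by ext; rfl)
    exact ⟨((ext0Equiv (ModuleCat.of R F) (ModuleCat.of R G)).trans cor).trans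
      ((LinearEquiv.refl R F).arrowCongr e.symm)⟩
  | succ n ih =>
    intro G _ _ hG F _ _ hF
    obtain ⟨Q, _, _, hH, hExt⟩ := exists_shift I G ((subsingleton_H0_iff I G).1 (hG 0 n.succ_pos))
    obtain ⟨φ⟩ := ih Q (fun j hj => by
      haveI := hG (j + 1) (by omega)
      exact (hH j).some.toEquiv.subsingleton) F hF
    exact ⟨((hExt F hF n).some.symm.trans φ).trans ((LinearEquiv.refl R F).arrowCongr (hH n).some)⟩

end Groth.L04.LC
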