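import Groth.Agent.L04.LC.Depth
import Groth.Agent.L04.Torsion
import Mathlib.RingTheory.Ideal.AssociatedPrime.Finiteness
import Mathlib.RingTheory.KrullDimension.Regular

/-!
# Vanishing theorems for local cohomology
-/

universe u

open CategoryTheory Limits Abelian

namespace Groth.L04.LC

variable {R : Type u} [CommRing R]

section Directed

/-- A class in `Ext^i(X, M)`, `X` finite, comes from a finite submodule of `M`. -/
theorem exists_fg_ext_factor [IsNoetherianRing R] {M : Type u} [AddCommGroup M] [Module R M] :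
    ∀ (i : ℕ) (X : Type u) [AddCommGroup X] [Module R X], Module.Finite R X →
      ∀ a : Ext (ModuleCat.of R X) (ModuleCat.of R M) i,
        ∃ (N : Submodule R M), N.FG ∧ ∃ b : Ext (ModuleCat.of R X) (ModuleCat.of R N) i,
          b.comp (Ext.mk₀ (ModuleCat.ofHom N.subtype)) (add_zero i) = a := by
  intro i
  induction i with
  | zero =>
    intro X _ _ hX a
    obtain ⟨f, rfl⟩ := Ext.homEquiv₀.symm.surjective a
    let N := LinearMap.range f.hom
    refine ⟨N, ?_, Ext.mk₀ (ModuleCat.ofHom f.hom.rangeRestrict), ?_⟩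
    · rw [show N = Submodule.map f.hom ⊤ from LinearMap.range_eq_map _]
      exact Module.Finite.fg_top.map _
    · rw [Ext.mk₀_comp_mk₀]
      rfl
  | succ i ih =>
    intro X _ _ hX a
    haveI := hX
    obtain ⟨k, g, hg⟩ := Module.Finite.exists_fin' R X
    have hS := ses_shortExact (LinearMap.ker g).subtype g (LinearMap.ker g).injective_subtype hg
      g.exact_subtype_ker_map
    haveI : Projective (ModuleCat.of R (Fin k → R)) :=
      (IsProjective.iff_projective (R := R) (Fin k → R)).1 inferInstance
    obtain ⟨b, hb⟩ := Ext.contravariant_sequence_exact₃ hS (ModuleCat.of R M) a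
      (Ext.eq_zero_of_projective _) (add_comm 1 i)
    obtain ⟨N, hN, b', hb'⟩ := ih (LinearMap.ker g)
      (Module.Finite.of_fg (IsNoetherian.noetherian _)) b
    refine ⟨N, hN, hS.extClass.comp b' (add_comm 1 i), ?_⟩
    rw [Ext.comp_assoc _ _ _ (add_comm 1 i) (add_zero i) (by omega), hb', hb]

/-- Local cohomology vanishes if it vanishes on all finite submodules. -/
theorem subsingleton_H_of_fg [IsNoetherianRing R] (I : Ideal R) (i : ℕ) (M : Type u) [AddCommGroup M]
    [Module R M] (h : ∀ N : Submodule R M, N.FG → Subsingleton (LocCoh.H I i N)) :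
    Subsingleton (LocCoh.H I i M) := by
  refine subsingleton_of_forall_eq 0 fun x => ?_
  obtain ⟨n, a, rfl⟩ := Hι_surjective I i (ModuleCat.of R M) x
  obtain ⟨N, hN, b, rfl⟩ := exists_fg_ext_factor i (R ⧸ I ^ n) inferInstance a
  rw [← map_Hι, @Subsingleton.elim _ (h N hN) (Hι I i n (ModuleCat.of R N) b) 0, map_zero]

/-- It suffices to check vanishing on finite modules. -/
theorem subsingleton_H_of_finite [IsNoetherianRing R] (I : Ideal R) (i : ℕ)
    (h : ∀ (N : Type u) [AddCommGroup N] [Module R N], Module.Finite R N →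
      Subsingleton (LocCoh.H I i N)) (M : Type u) [AddCommGroup M] [Module R M] :
    Subsingleton (LocCoh.H I i M) :=
  subsingleton_H_of_fg I i M fun N hN => h N (Module.Finite.of_fg hN)

end Directed

section Scalar

variable (I : Ideal R) (i : ℕ)

theorem map_smul_id (M : ModuleCat.{u} R) (r : R) (x : (localCohomology I i).obj M) :
    ((localCohomology I i).map (r • 𝟙 M)).hom x = r • x := by
  obtain ⟨n, a, rfl⟩ := Hι_surjective I i M x
  rw [map_Hι, Ext.mk₀_smul, Ext.comp_smul, Ext.comp_mk₀_id, map_smul]

theorem smul_bijective_H {M : Type u} [AddCommGroup M] [Module R M] {r : R}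
    (h : Function.Bijective (fun m : M => r • m)) :
    Function.Bijective (fun x : LocCoh.H I i M => r • x) := by
  have hfun : (r • 𝟙 (ModuleCat.of R M) : _).hom = (r • LinearMap.id : M →ₗ[R] M) := rfl
  haveI : IsIso (r • 𝟙 (ModuleCat.of R M)) := by
    rw [ConcreteCategory.isIso_iff_bijective]
    exact h
  have h1 := (ConcreteCategory.isIso_iff_bijective
    ((localCohomology I i).map (r • 𝟙 (ModuleCat.of R M)))).1 inferInstance
  convert h1 using 1
  funext x
  exact (map_smul_id I i (ModuleCat.of R M) r x).symm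

/-- A module on which some element of `I` acts bijectively has no local cohomology. -/
theorem subsingleton_H_of_bijective {M : Type u} [AddCommGroup M] [Module R M] {r : R} (hr : r ∈ I)
    (h : Function.Bijective (fun m : M => r • m)) : Subsingleton (LocCoh.H I i M) := by
  refine subsingleton_of_forall_eq 0 fun x => ?_
  obtain ⟨n, hn⟩ := isPowerTorsion_H I i (ModuleCat.of R M) x
  have hb := (smul_bijective_H I i h).1
  have key : ∀ k : ℕ, r ^ k • x = 0 → x = 0 := fun k => by
    induction k with
    | zero => simp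
    | succ k ih =>
      intro hk
      refine ih (hb ?_)
      simp only [smul_zero]
      rw [← mul_smul, ← pow_succ', hk]
  exact key n (hn _ (Ideal.pow_mem_pow hr n))

end Scalar

section DimVanish

variable [IsNoetherianRing R] (I : Ideal R)

theorem supportDim_quotSMulTop_add_one_le {p : Ideal R} (hp : p.IsPrime) {x : R} (hx : x ∉ p) :
    Module.supportDim R (QuotSMulTop x (R ⧸ p)) + 1 ≤ Module.supportDim R (R ⧸ p) := by
  refine Module.supportDim_quotSMulTop_succ_le_of_notMem_minimalPrimes fun q hq hxq => ?_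
  rw [Ideal.annihilator_quotient, Ideal.minimalPrimes_eq_subsingleton_self] at hq
  exact hx (Set.mem_singleton_iff.1 hq ▸ hxq)

theorem subsingleton_H_of_supportDim_lt_finite : ∀ (d : ℕ) (M : Type u) [AddCommGroup M]
    [Module R M], Module.Finite R M → Module.supportDim R M < (d : WithBot ℕ∞) →
      ∀ i, d ≤ i → Subsingleton (LocCoh.H I i M) := by
  intro d
  induction d using Nat.strong_induction_on with
  | _ d ih =>
  intro M _ _ hM
  refine IsNoetherianRing.induction_on_isQuotientEquivQuotientPrime R (M := M) hM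
    (motive := fun M _ _ _ => Module.supportDim R M < (d : WithBot ℕ∞) →
      ∀ i, d ≤ i → Subsingleton (LocCoh.H I i M)) ?_ ?_ ?_
  · intro N _ _ _ _ _ i _
    cases i with
    | zero => exact (subsingleton_H0_iff I N).2 (Subsingleton.elim _ _)
    | succ j => exact subsingleton_H_of_isPowerTorsion I j N (fun x => ⟨0, fun a _ => Subsingleton.elim _ _⟩)
  · intro N _ _ _ p e hN i hi
    have hiso : LocCoh.H I i N ≃ₗ[R] LocCoh.H I i (R ⧸ p.asIdeal) :=
      ((localCohomology I i).mapIso e.toModuleIso).toLinearEquiv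
    haveI : Nontrivial (R ⧸ p.asIdeal) := Ideal.Quotient.nontrivial_iff.2 p.isPrime.ne_top
    rw [Module.supportDim_eq_of_equiv e] at hN
    obtain ⟨s, hs⟩ := WithBot.ne_bot_iff_exists.1
      (Module.supportDim_ne_bot_of_nontrivial R (R ⧸ p.asIdeal))
    have hd : 0 < d := by
      rw [← hs] at hN
      have : s < (d : ℕ∞) := by exact_mod_cast hN
      exact_mod_cast zero_le.trans_lt this
    obtain ⟨j, rfl⟩ : ∃ j, i = j + 1 := ⟨i - 1, by omega⟩
    suffices Subsingleton (LocCoh.H I (j + 1) (R ⧸ p.asIdeal)) from hiso.toEquiv.subsingleton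
    by_cases hIp : I ≤ p.asIdeal
    · refine subsingleton_H_of_isPowerTorsion I j _ fun x => ⟨1, fun a ha => ?_⟩
      obtain ⟨x, rfl⟩ := Ideal.Quotient.mk_surjective x
      rw [Algebra.smul_def, Ideal.Quotient.algebraMap_eq, ← map_mul,
        Ideal.Quotient.eq_zero_iff_mem]
      exact Ideal.mul_mem_right _ _ (hIp (by simpa using ha))
    · obtain ⟨x, hx, hxp⟩ := SetLike.not_le_iff_exists.1 hIp
      have hreg : IsSMulRegular (R ⧸ p.asIdeal) x := by
        intro a b hab
        obtain ⟨a, rfl⟩ := Ideal.Quotient.mk_surjective a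
        obtain ⟨b, rfl⟩ := Ideal.Quotient.mk_surjective b
        have h1 : x * a - x * b ∈ p.asIdeal := Ideal.Quotient.eq.1 hab
        rw [← mul_sub] at h1
        exact Ideal.Quotient.eq.2 ((p.isPrime.mem_or_mem h1).resolve_left hxp)
      have hS := (show IsSMulRegular (ModuleCat.of R (R ⧸ p.asIdeal)) x from
        hreg).smulShortComplex_shortExact
      have hlt : Module.supportDim R (QuotSMulTop x (R ⧸ p.asIdeal)) <
          ((d - 1 : ℕ) : WithBot ℕ∞) := by
        have h1 := (supportDim_quotSMulTop_add_one_le p.isPrime hxp).trans_lt hN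
        by_contra h
        rw [not_lt] at h
        have h2 := (add_le_add h (le_refl (1 : WithBot ℕ∞))).trans_lt h1
        have h3 : (d - 1) + 1 < d := by exact_mod_cast h2
        omega
      have h3 : Subsingleton (LocCoh.H I j (QuotSMulTop x (R ⧸ p.asIdeal))) :=
        ih (d - 1) (by omega) _ inferInstance hlt j (by omega)
      refine subsingleton_of_forall_eq 0 fun y => ?_
      have hinj : ∀ z : LocCoh.H I (j + 1) (R ⧸ p.asIdeal), x • z = 0 → z = 0 := by
        intro z hz
        have hz' : ((localCohomology I (j + 1)).map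
            (ModuleCat.smulShortComplex (ModuleCat.of R (R ⧸ p.asIdeal)) x).f).hom z = 0 := by
          rw [ModuleCat.smulShortComplex_f_eq_smul_id]
          exact (map_smul_id I (j + 1) (ModuleCat.of R (R ⧸ p.asIdeal)) x z).trans hz
        obtain ⟨w, rfl⟩ := (H_exact₁ I hS j z).1 hz'
        haveI : Subsingleton ((localCohomology I j).obj
          ((ModuleCat.of R (R ⧸ p.asIdeal)).smulShortComplex x).X₃) := h3
        rw [Subsingleton.elim w 0, map_zero]
        rfl
      obtain ⟨n, hn⟩ := isPowerTorsion_H I (j + 1) (ModuleCat.of R (R ⧸ p.asIdeal)) y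
      have key : ∀ k : ℕ, x ^ k • y = 0 → y = 0 := fun k => by
        induction k with
        | zero => simp
        | succ k ihk => exact fun hk => ihk (hinj _ (by rw [← mul_smul, ← pow_succ', hk]))
      exact key n (hn _ (Ideal.pow_mem_pow hx n))
  · intro N₁ _ _ _ N₂ _ _ _ N₃ _ _ _ f g hf hg hfg h₁ h₃ hN i hi
    exact subsingleton_H_mid I (ses_shortExact f g hf hg hfg) i
      (h₁ ((Module.supportDim_le_of_injective f hf).trans_lt hN) i hi)
      (h₃ ((Module.supportDim_le_of_surjective g hg).trans_lt hN) i hi)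

theorem subsingleton_H_of_supportDim_lt (M : Type u) [AddCommGroup M] [Module R M] (i : ℕ)
    (hi : Module.supportDim R M < (i : WithBot ℕ∞)) : Subsingleton (LocCoh.H I i M) :=
  subsingleton_H_of_fg I i M fun N hN =>
    subsingleton_H_of_supportDim_lt_finite I i N (Module.Finite.of_fg hN)
      ((Module.supportDim_le_of_injective N.subtype N.injective_subtype).trans_lt hi) i le_rfl

theorem cdLE_of_ringKrullDim_le (d : ℕ) (hd : ringKrullDim R ≤ d) : LocCoh.CdLE R I d :=
  fun M _ _ i hi => subsingleton_H_of_supportDim_lt I M i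
    (((Module.supportDim_le_ringKrullDim R M).trans hd).trans_lt (by exact_mod_cast hi))

end DimVanish

section Sup

variable [IsNoetherianRing R] (I J : Ideal R)

omit [IsNoetherianRing R] in
theorem mem_torsionSub_sup {N : Type u} [AddCommGroup N] [Module R N]
    (hN : LocCoh.IsPowerTorsion J N) {x : N} :
    x ∈ DRing.torsionSub (I ⊔ J) N ↔ x ∈ DRing.torsionSub I N := by
  constructor
  · rintro ⟨n, hn⟩
    exact ⟨n, fun a ha => hn a (Ideal.pow_right_mono le_sup_left n ha)⟩
  · rintro ⟨n, hn⟩
    obtain ⟨k, hk⟩ := hN x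
    refine ⟨n + k, fun a ha => ?_⟩
    obtain ⟨b, hb, c, hc, rfl⟩ := Submodule.mem_sup.1 (Ideal.sup_pow_add_le_pow_sup_pow ha)
    rw [add_smul, hn b hb, hk c hc, add_zero]

/-- For `J`-torsion modules, vanishing of `H_I` gives that of `H_{I + J}`. -/
theorem subsingleton_H_sup_of_torsion : ∀ (i : ℕ) (N : Type u) [AddCommGroup N] [Module R N],
    LocCoh.IsPowerTorsion J N → Subsingleton (LocCoh.H I i N) →
      Subsingleton (LocCoh.H (I ⊔ J) i N) := by
  intro i
  induction i with
  | zero =>
    intro N _ _ hN h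
    rw [subsingleton_H0_iff] at h ⊢
    exact eq_bot_iff.2 fun x hx => h.le ((mem_torsionSub_sup I J hN).1 hx)
  | succ j ih =>
    intro N _ _ hN h
    obtain ⟨E₀, _, _, f₀, hf₀, hE₀⟩ := exists_injective_embedding (R := R) N
    let f : N →ₗ[R] powTorsion J E₀ := f₀.codRestrict _ fun x => mem_powTorsion.2 (by
      obtain ⟨n, hn⟩ := hN x
      exact ⟨n, fun a ha => by rw [← map_smul, hn a ha, map_zero]⟩)
    have hf : Function.Injective f := fun a b hab => hf₀ (congrArg Subtype.val hab)
    have hE := injective_powTorsion hE₀ J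
    have hEt := isPowerTorsion_powTorsion J E₀
    have hQt := isPowerTorsion_of_surjective J (LinearMap.range f).mkQ
      (Submodule.mkQ_surjective _) hEt
    have hS := quotient_shortExact f hf
    cases j with
    | succ j =>
      refine subsingleton_H_left (I ⊔ J) hS (j + 1) (ih _ hQt ?_)
        (subsingleton_H_injective (I ⊔ J) _ hE (j + 1))
      exact subsingleton_H_right I hS (j + 1) (subsingleton_H_injective I _ hE j) h
    | zero =>
      refine subsingleton_of_forall_eq 0 fun y => ?_
      obtain ⟨q, rfl⟩ :=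
        Hδ_surjective (I ⊔ J) hS 0 (subsingleton_H_injective (I ⊔ J) _ hE 0) y
      set Q := powTorsion J E₀ ⧸ LinearMap.range f
      let q0 : Q := (H0Equiv (I ⊔ J) (ModuleCat.of R Q) q : _)
      have hq : q0 ∈ DRing.torsionSub I Q :=
        (mem_torsionSub_sup I J hQt).1 (H0Equiv (I ⊔ J) (ModuleCat.of R Q) q).2
      obtain ⟨e, he⟩ := (H_exact₃ I hS 0
        ((H0Equiv I (ModuleCat.of R Q)).symm ⟨q0, hq⟩)).1 (@Subsingleton.elim _ h _ _)
      let e0 : powTorsion J E₀ := evalZero I (ModuleCat.of R (powTorsion J E₀)) e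
      have he0 : e0 ∈ DRing.torsionSub (I ⊔ J) (powTorsion J E₀) :=
        (mem_torsionSub_sup I J hEt).2 (H0Equiv I (ModuleCat.of R (powTorsion J E₀)) e).2
      refine (H_exact₃ (I ⊔ J) hS 0 q).2
        ⟨(H0Equiv (I ⊔ J) (ModuleCat.of R (powTorsion J E₀))).symm ⟨e0, he0⟩, ?_⟩
      refine evalZero_injective (I ⊔ J) (ModuleCat.of R Q) ?_
      rw [evalZero_natural, ← H0Equiv_apply, LinearEquiv.apply_symm_apply]
      have := congrArg (evalZero I (ModuleCat.of R Q)) he
      rw [evalZero_natural, ← H0Equiv_apply I, ← H0Equiv_apply I, LinearEquiv.apply_symm_apply] at this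
      exact this

theorem subsingleton_H_sup_of_forall {M : Type u} [AddCommGroup M] [Module R M]
    (h : ∀ i, Subsingleton (LocCoh.H J i M)) (i : ℕ) : Subsingleton (LocCoh.H (I ⊔ J) i M) := by
  refine (forall_H_subsingleton_iff_ext (I ⊔ J) M (i + 1)).2 (fun j hj => ?_) i i.lt_succ_self
  exact subsingleton_ext_of_H J (i + 1) M (fun k _ => h k) (R ⧸ (I ⊔ J))
    (isPowerTorsion_of_support_subset J ((support_quotient_self (I ⊔ J)).subset.trans
      (PrimeSpectrum.zeroLocus_anti_mono (SetLike.coe_subset_coe.2 le_sup_right)))) j hj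

theorem subsingleton_H_sup_of_lt (a : ℕ) (hI : LocCoh.CdLE R I a) :
    ∀ (b : ℕ) (M : Type u) [AddCommGroup M] [Module R M],
      (∀ i, b < i → Subsingleton (LocCoh.H J i M)) →
        ∀ i, a + b < i → Subsingleton (LocCoh.H (I ⊔ J) i M) := by
  intro b
  induction b with
  | zero =>
    intro M _ _ hM i hi
    set T := DRing.torsionSub J M
    have hS := ses_shortExact T.subtype T.mkQ T.injective_subtype T.mkQ_surjective
      (LinearMap.exact_subtype_mkQ T)
    refine subsingleton_H_mid (I ⊔ J) hS i
      (subsingleton_H_sup_of_torsion I J i _ (isPowerTorsion_torsionSub J M) (hI _ i (by omega)))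
      (subsingleton_H_sup_of_forall I J (fun k => ?_) i)
    cases k with
    | zero => exact (subsingleton_H0_iff J (M ⧸ T)).2 (torsionBy_eq_bot_iff_torsionSub.1
        (torsionBy_quotient_torsionSub (IsNoetherian.noetherian J) M))
    | succ k =>
      haveI := hM (k + 1) k.succ_pos
      exact (LinearEquiv.ofBijective _
        (H_map_mkQ_torsionSub_bijective J M k.succ_pos)).symm.toEquiv.subsingleton
  | succ b ih =>
    intro M _ _ hM i hi
    set T := DRing.torsionSub J M
    have hS := ses_shortExact T.subtype T.mkQ T.injective_subtype T.mkQ_surjective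
      (LinearMap.exact_subtype_mkQ T)
    refine subsingleton_H_mid (I ⊔ J) hS i
      (subsingleton_H_sup_of_torsion I J i _ (isPowerTorsion_torsionSub J M) (hI _ i (by omega))) ?_
    have h0 : DRing.torsionSub J (M ⧸ T) = ⊥ := torsionBy_eq_bot_iff_torsionSub.1
        (torsionBy_quotient_torsionSub (IsNoetherian.noetherian J) M)
    obtain ⟨E, _, _, f, hf⟩ := Groth.L04.exists_injectiveHull (R := R) (M ⧸ T)
    have hE0 := torsionSub_eq_bot_of_essential J hf.toIsEssentialInj h0
    have hS' := quotient_shortExact f hf.injective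
    have hEall : ∀ k, Subsingleton (LocCoh.H J k E) := fun k => by
      cases k with
      | zero => exact (subsingleton_H0_iff J E).2 hE0
      | succ k => exact subsingleton_H_injective J E hf.isInjective k
    obtain ⟨i', rfl⟩ : ∃ i', i = i' + 1 := ⟨i - 1, by omega⟩
    refine subsingleton_H_left (I ⊔ J) hS' i' (ih _ (fun k hk => ?_) i' (by omega))
      (subsingleton_H_sup_of_forall I J hEall (i' + 1))
    refine subsingleton_H_right J hS' k (hEall k) ?_
    haveI := hM (k + 1) (by omega)
    exact (LinearEquiv.ofBijective _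
      (H_map_mkQ_torsionSub_bijective J M k.succ_pos)).symm.toEquiv.subsingleton

theorem cdLE_sup {a b : ℕ} (hI : LocCoh.CdLE R I a) (hJ : LocCoh.CdLE R J b) :
    LocCoh.CdLE R (I ⊔ J) (a + b) := fun M _ _ i hi =>
  subsingleton_H_sup_of_lt I J a hI b M (fun k hk => hJ M k hk) i hi

theorem cdLE_bot : LocCoh.CdLE R (⊥ : Ideal R) 0 := fun M _ _ i hi =>
  subsingleton_H_pos_of_isPowerTorsion ⊥ hi M fun x => ⟨1, fun a ha => by
    rw [pow_one, Ideal.mem_bot] at ha
    rw [ha, zero_smul]⟩

theorem cdLE_span_singleton (x : R) : LocCoh.CdLE R (Ideal.span {x}) 1 := by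
  intro M _ _ i hi
  set J := Ideal.span {x}
  set T := DRing.torsionSub J M
  obtain ⟨k, rfl⟩ : ∃ k, i = k + 1 := ⟨i - 1, by omega⟩
  have hk : 0 < k := by omega
  suffices Subsingleton (LocCoh.H J (k + 1) (M ⧸ T)) from
    (LinearEquiv.ofBijective _ (H_map_mkQ_torsionSub_bijective J M k.succ_pos)).toEquiv.subsingleton
  have h0 : DRing.torsionSub J (M ⧸ T) = ⊥ := torsionBy_eq_bot_iff_torsionSub.1
    (torsionBy_quotient_torsionSub (IsNoetherian.noetherian J) M)
  let f := LocalizedModule.mkLinearMap (Submonoid.powers x) (M ⧸ T)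
  have hpow : ∀ (n : ℕ) (a : R), a ∈ J ^ n → ∃ c, a = c * x ^ n := fun n a ha => by
    rw [Ideal.span_singleton_pow, Ideal.mem_span_singleton'] at ha
    obtain ⟨c, rfl⟩ := ha
    exact ⟨c, rfl⟩
  have hf : Function.Injective f := by
    rw [← LinearMap.ker_eq_bot, Submodule.eq_bot_iff]
    intro y hy
    obtain ⟨⟨_, n, rfl⟩, hn⟩ := (IsLocalizedModule.eq_zero_iff (Submonoid.powers x) f).1 hy
    have : y ∈ DRing.torsionSub J (M ⧸ T) := ⟨n, fun a ha => by
      obtain ⟨c, rfl⟩ := hpow n a ha
      rw [mul_smul]
      exact (congrArg (c • ·) hn).trans (smul_zero c)⟩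
    rwa [h0, Submodule.mem_bot] at this
  have hS := quotient_shortExact f hf
  refine subsingleton_H_left J hS k
    (subsingleton_H_pos_of_isPowerTorsion J hk _ fun q => ?_)
    (subsingleton_H_of_bijective J (k + 1) (Ideal.mem_span_singleton_self x) ?_)
  · obtain ⟨z, rfl⟩ := Submodule.mkQ_surjective _ q
    obtain ⟨⟨y, ⟨_, n, rfl⟩⟩, hy⟩ := IsLocalizedModule.surj (Submonoid.powers x) f z
    refine ⟨n, fun a ha => ?_⟩
    obtain ⟨c, rfl⟩ := hpow n a ha
    rw [← map_smul, Submodule.mkQ_apply, Submodule.Quotient.mk_eq_zero, mul_smul]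
    exact Submodule.smul_mem _ c ⟨y, hy.symm⟩
  · exact ((Module.End.isUnit_iff _).1
      (IsLocalizedModule.map_units f ⟨x, Submonoid.mem_powers x⟩) :)

theorem cdLE_span_finset (s : Finset R) : LocCoh.CdLE R (Ideal.span (s : Set R)) s.card := by
  classical
  induction s using Finset.induction_on with
  | empty =>
    rw [Finset.coe_empty, Ideal.span_empty, Finset.card_empty]
    exact cdLE_bot
  | @insert a s ha ih =>
    rw [Finset.coe_insert, Ideal.span_insert, sup_comm, Finset.card_insert_of_notMem ha]
    exact cdLE_sup (Ideal.span (s : Set R)) (Ideal.span {a}) ih (cdLE_span_singleton a)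

end Sup

section Ring

variable [IsNoetherianRing R] (I : Ideal R)

theorem cdLE_of_ring {d : ℕ} (h : ∀ i, d < i → Subsingleton (LocCoh.H I i R)) :
    LocCoh.CdLE R I d := by
  obtain ⟨s, hs⟩ := (IsNoetherian.noetherian I)
  have key : ∀ (k : ℕ) (i : ℕ), d < i → s.card < i + k → ∀ (N : Type u) [AddCommGroup N]
      [Module R N], Module.Finite R N → Subsingleton (LocCoh.H I i N) := by
    intro k
    induction k with
    | zero =>
      intro i _ hi N _ _ _
      have := cdLE_span_finset s N i (by omega)
      rwa [show Ideal.span (s : Set R) = I from hs] at this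
    | succ k ih =>
      intro i hdi hi N _ _ hN
      haveI := hN
      obtain ⟨m, g, hg⟩ := Module.Finite.exists_fin' R N
      have hS := ses_shortExact (LinearMap.ker g).subtype g (LinearMap.ker g).injective_subtype hg
        g.exact_subtype_ker_map
      refine subsingleton_H_right I hS i ?_
        (ih (i + 1) (by omega) (by omega) _ (Module.Finite.of_fg (IsNoetherian.noetherian _)))
      have hfree : ∀ m : ℕ, Subsingleton (LocCoh.H I i (Fin m → R)) := by
        intro m
        induction m with
        | zero =>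
          cases i with
          | zero => exact (subsingleton_H0_iff I _).2 (Subsingleton.elim _ _)
          | succ j =>
            exact subsingleton_H_of_isPowerTorsion I j (Fin 0 → R) (fun x => ⟨0, fun a _ => Subsingleton.elim _ _⟩)
        | succ m ihm =>
          haveI : Subsingleton (LocCoh.H I i (R × (Fin m → R))) :=
            subsingleton_H_mid I (ses_shortExact (LinearMap.inl R R (Fin m → R)) (LinearMap.snd R R _)
              LinearMap.inl_injective LinearMap.snd_surjective Function.Exact.inl_snd) i (h i hdi) ihm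
          exact ((localCohomology I i).mapIso
            (Fin.consLinearEquiv R fun _ : Fin (m + 1) => R).symm.toModuleIso).toLinearEquiv.toEquiv.subsingleton
      exact hfree m
  exact fun M _ _ i hi => subsingleton_H_of_finite I i
    (fun N _ _ hN => key (s.card + 1) i hi (by omega) N hN) M

theorem cdLE_iff_ring {d : ℕ} :
    (∀ i, d < i → Subsingleton (LocCoh.H I i R)) ↔ LocCoh.CdLE R I d :=
  ⟨cdLE_of_ring I, fun h i hi => h R i hi⟩

end Ring

end Groth.L04.LC
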