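import Groth.Agent.L04.LC.Depth
import Groth.Agent.L04.Torsion

/-!
# `Ext^n(F, G) = Hom(F, H^n_I G)` under vanishing in degree `n - 1`
-/

universe u

open CategoryTheory Limits Abelian

namespace Groth.L04.LC

variable {R : Type u} [CommRing R] [IsNoetherianRing R] (I : Ideal R)

theorem isPowerTorsion_of_killed {M : Type u} [AddCommGroup M] [Module R M] {k : ℕ}
    (hk : (I ^ k) • (⊤ : Submodule R M) = ⊥) : LocCoh.IsPowerTorsion I M := fun x =>
  ⟨k, fun a ha => by
    have h : a • x ∈ (I ^ k) • (⊤ : Submodule R M) := Submodule.smul_mem_smul ha trivial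
    rwa [hk, Submodule.mem_bot] at h⟩

omit [IsNoetherianRing R] in
theorem support_subset_of_isPowerTorsion {F : Type u} [AddCommGroup F] [Module R F]
    (h : LocCoh.IsPowerTorsion I F) :
    Module.support R F ⊆ PrimeSpectrum.zeroLocus (I : Set R) := by
  intro p hp
  obtain ⟨m, hm⟩ := Module.mem_support_iff'.1 hp
  obtain ⟨k, hk⟩ := h m
  intro a ha
  by_contra hap
  exact hm (a ^ k) (fun hh => hap (p.isPrime.mem_of_pow_mem k hh)) (hk _ (Ideal.pow_mem_pow ha k))

theorem injective_torsionSub (G : Type u) [AddCommGroup G] [Module R G]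
    (hG : ∀ (F : Type u) [AddCommGroup F] [Module R F], Module.Finite R F →
      LocCoh.IsPowerTorsion I F →
        Subsingleton (Ext (ModuleCat.of R F) (ModuleCat.of R G) 1)) :
    Module.Injective R (DRing.torsionSub I G) := by
  refine injective_of_powerTorsion (isPowerTorsion_torsionSub I G) fun M _ _ hfin hk N g => ?_
  obtain ⟨k, hk⟩ := hk
  have hM := isPowerTorsion_of_killed I hk
  have hS := ses_shortExact N.subtype N.mkQ N.injective_subtype N.mkQ_surjective
    (LinearMap.exact_subtype_mkQ N)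
  haveI := hG (M ⧸ N) inferInstance (isPowerTorsion_of_surjective I N.mkQ N.mkQ_surjective hM)
  let g' : N →ₗ[R] G := (DRing.torsionSub I G).subtype.comp g
  obtain ⟨a, ha⟩ := Ext.contravariant_sequence_exact₁ hS (ModuleCat.of R G)
    (Ext.mk₀ (ModuleCat.ofHom g')) (n₁ := 1) rfl (Subsingleton.elim _ _)
  obtain ⟨h, rfl⟩ := Ext.homEquiv₀.symm.surjective a
  change (Ext.mk₀ (ModuleCat.ofHom N.subtype)).comp (Ext.mk₀ h) (zero_add 0) =
    Ext.mk₀ (ModuleCat.ofHom g') at ha
  rw [Ext.mk₀_comp_mk₀] at ha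
  have h2 := (Ext.mk₀_bijective _ _).1 ha
  refine ⟨h.hom.codRestrict _ fun x => ?_, LinearMap.ext fun x => Subtype.ext ?_⟩
  · obtain ⟨n, hn⟩ := hM x
    exact ⟨n, fun a ha => by rw [← map_smul, hn a ha, map_zero]⟩
  · exact LinearMap.congr_fun (ModuleCat.hom_ext_iff.1 h2) x

theorem nonempty_ext_equiv_hom_H_two (G : Type u) [AddCommGroup G] [Module R G]
    (hG : ∀ (F : Type u) [AddCommGroup F] [Module R F], Module.Finite R F →
      LocCoh.IsPowerTorsion I F →
        Subsingleton (Ext (ModuleCat.of R F) (ModuleCat.of R G) 1))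
    (F : Type u) [AddCommGroup F] [Module R F] (hFf : Module.Finite R F)
    (hF : LocCoh.IsPowerTorsion I F) :
    Nonempty (Ext (ModuleCat.of R F) (ModuleCat.of R G) 2 ≃ₗ[R] (F →ₗ[R] LocCoh.H I 2 G)) := by
  set T := DRing.torsionSub I G
  have hinj : Module.Injective R T := injective_torsionSub I G hG
  have hS := ses_shortExact T.subtype T.mkQ T.injective_subtype T.mkQ_surjective
    (LinearMap.exact_subtype_mkQ T)
  have hq : DRing.torsionSub I (G ⧸ T) = ⊥ := torsionBy_eq_bot_iff_torsionSub.1
    (torsionBy_quotient_torsionSub (IsNoetherian.noetherian I) G)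
  have hlow : ∀ i < 2, Subsingleton (LocCoh.H I i (G ⧸ T)) := by
    refine H_subsingleton_of_ext I
      (isPowerTorsion_of_support_subset I (support_quotient_self I).subset)
      (support_quotient_self I).superset 2 (G ⧸ T) fun i hi => ?_
    have htor := isPowerTorsion_of_support_subset I (support_quotient_self I).subset
    interval_cases i
    · haveI := subsingleton_hom_of_torsion I htor hq
      exact (ext0Equiv (ModuleCat.of R (R ⧸ I)) (ModuleCat.of R (G ⧸ T))).toEquiv.subsingleton
    · refine subsingleton_of_forall_eq 0 fun x => ?_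
      obtain ⟨y, rfl⟩ := Ext.covariant_sequence_exact₃ _ hS x rfl
        (@Subsingleton.elim _ (subsingleton_ext_succ_injective _ T hinj 1) _ _)
      rw [@Subsingleton.elim _ (hG (R ⧸ I) inferInstance htor) y 0, Ext.zero_comp]
  obtain ⟨φ⟩ := nonempty_ext_equiv_hom_H I 2 (G ⧸ T) hlow F hF
  let ψ : Ext (ModuleCat.of R F) (ModuleCat.of R G) 2 →ₗ[R]
      Ext (ModuleCat.of R F) (ModuleCat.of R (G ⧸ T)) 2 :=
    (Ext.mk₀ (ModuleCat.ofHom T.mkQ)).postcompOfLinear R (ModuleCat.of R F) (add_zero 2)
  have hψ : Function.Bijective ψ := by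
    constructor
    · rw [← LinearMap.ker_eq_bot, Submodule.eq_bot_iff]
      intro x hx
      obtain ⟨y, rfl⟩ := Ext.covariant_sequence_exact₂ (ModuleCat.of R F) hS x hx
      rw [@Subsingleton.elim _ (subsingleton_ext_succ_injective _ T hinj 1) y 0, Ext.zero_comp]
    · intro x
      exact Ext.covariant_sequence_exact₃ (ModuleCat.of R F) hS x rfl
        (@Subsingleton.elim _ (subsingleton_ext_succ_injective _ T hinj 2) _ _)
  let χ : LocCoh.H I 2 G ≃ₗ[R] LocCoh.H I 2 (G ⧸ T) :=
    LinearEquiv.ofBijective _ (H_map_mkQ_torsionSub_bijective I G two_pos)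
  exact ⟨((LinearEquiv.ofBijective ψ hψ).trans φ).trans ((LinearEquiv.refl R F).arrowCongr χ.symm)⟩

theorem nonempty_ext_equiv_hom_H_of_pred : ∀ (n : ℕ) (G : Type u) [AddCommGroup G] [Module R G],
    (∀ (F : Type u) [AddCommGroup F] [Module R F], Module.Finite R F →
      LocCoh.IsPowerTorsion I F → ∀ i, i + 1 = n →
        Subsingleton (Ext (ModuleCat.of R F) (ModuleCat.of R G) i)) →
    ∀ (F : Type u) [AddCommGroup F] [Module R F], Module.Finite R F →
      LocCoh.IsPowerTorsion I F →
        Nonempty (Ext (ModuleCat.of R F) (ModuleCat.of R G) n ≃ₗ[R] (F →ₗ[R] LocCoh.H I n G))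
  | 0, G, _, _, _, F, _, _, _, hF =>
    nonempty_ext_equiv_hom_H I 0 G (fun i hi => absurd hi (Nat.not_lt_zero i)) F hF
  | 1, G, _, _, hG, F, _, _, _, hF => by
    refine nonempty_ext_equiv_hom_H I 1 G (fun i hi => ?_) F hF
    obtain rfl : i = 0 := by omega
    have htor := isPowerTorsion_of_support_subset I (support_quotient_self I).subset
    haveI := hG (R ⧸ I) inferInstance htor 0 rfl
    exact (subsingleton_H0_iff I G).2 (torsionSub_eq_bot_of_subsingleton_hom I
      (support_quotient_self I).superset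
      (ext0Equiv (ModuleCat.of R (R ⧸ I)) (ModuleCat.of R G)).symm.toEquiv.subsingleton)
  | 2, G, _, _, hG, F, _, _, hFf, hF =>
    nonempty_ext_equiv_hom_H_two I G (fun F' _ _ h1 h2 => hG F' h1 h2 1 rfl) F hFf hF
  | (n + 3), G, _, _, hG, F, _, _, hFf, hF => by
    obtain ⟨E, _, _, f, hf, hE⟩ := exists_injective_embedding (R := R) G
    have hS := quotient_shortExact f hf
    have he : ∀ (F' : Type u) [AddCommGroup F'] [Module R F'] (i : ℕ),
        Function.Bijective (extClassComp R hS (ModuleCat.of R F') (i + 1)) := fun F' _ _ i =>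
      extClassComp_bijective hS _ (i + 1) (subsingleton_ext_succ_injective _ E hE i)
        (subsingleton_ext_succ_injective _ E hE (i + 1))
    have hH : Function.Bijective (Hδ I hS (n + 2)) :=
      Hδ_bijective I hS (n + 2) (subsingleton_H_injective I E hE (n + 1))
        (subsingleton_H_injective I E hE (n + 2))
    obtain ⟨φ⟩ := nonempty_ext_equiv_hom_H_of_pred (n + 2) (E ⧸ LinearMap.range f)
      (fun F' _ _ h1 h2 i hi => by
        obtain rfl : i = n + 1 := by omega
        haveI := hG F' h1 h2 (n + 2) rfl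
        exact (LinearEquiv.ofBijective _ (he F' n)).toEquiv.subsingleton) F hFf hF
    exact ⟨((LinearEquiv.ofBijective _ (he F (n + 1))).symm.trans φ).trans
      ((LinearEquiv.refl R F).arrowCongr (LinearEquiv.ofBijective _ hH))⟩

end Groth.L04.LC
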