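import Groth.Agent.L04.LC.Vanish
import Groth.Agent.L04.LC.ExtHom
import Mathlib.RingTheory.Flat.Basic
import Mathlib.LinearAlgebra.TensorProduct.RightExactness
import Mathlib.RingTheory.TensorProduct.Basic

/-!
# Change of rings and flat base change for local cohomology

Both comparisons are obtained by dimension shifting from degree zero, using that
restrictions / base changes of injective modules are acyclic.
-/

universe u

open CategoryTheory Limits Abelian

open scoped TensorProduct

namespace Groth.L04.LC

variable {R : Type u} [CommRing R]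

section Acyclic

/-- If the identity factors through finitely many modules without `H^i_I`, then `H^i_I` vanishes. -/
theorem subsingleton_H_of_factor (I : Ideal R) (i : ℕ) {M : Type u} [AddCommGroup M] [Module R M]
    {N₀ : Type u} [AddCommGroup N₀] [Module R N₀] (f₀ : M →ₗ[R] N₀) (g₀ : N₀ →ₗ[R] M)
    {κ : Type*} [Fintype κ] {N : κ → Type u} [∀ k, AddCommGroup (N k)] [∀ k, Module R (N k)]
    (f : ∀ k, M →ₗ[R] N k) (g : ∀ k, N k →ₗ[R] M)
    (hfg : ∀ x, g₀ (f₀ x) + ∑ k, g k (f k x) = x) (h₀ : Subsingleton (LocCoh.H I i N₀))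
    (h : ∀ k, Subsingleton (LocCoh.H I i (N k))) : Subsingleton (LocCoh.H I i M) := by
  refine subsingleton_of_forall_eq 0 fun x => ?_
  obtain ⟨n, a, rfl⟩ := Hι_surjective I i (ModuleCat.of R M) x
  have hid : 𝟙 (ModuleCat.of R M) = ModuleCat.ofHom f₀ ≫ ModuleCat.ofHom g₀ +
      ∑ k, (ModuleCat.ofHom (f k) ≫ ModuleCat.ofHom (g k)) := by
    refine ModuleCat.hom_ext (LinearMap.ext fun x => ?_)
    simp [ModuleCat.hom_sum, hfg x]
  have hzero : ∀ (P : Type u) [AddCommGroup P] [Module R P] (p : M →ₗ[R] P) (q : P →ₗ[R] M),
      Subsingleton (LocCoh.H I i P) → Hι I i n (ModuleCat.of R M)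
        (a.comp (Ext.mk₀ (ModuleCat.ofHom p ≫ ModuleCat.ofHom q)) (add_zero i)) = 0 := by
    intro P _ _ p q hP
    rw [← map_Hι, Functor.map_comp, ModuleCat.hom_comp, LinearMap.comp_apply]
    haveI : Subsingleton ((localCohomology I i).obj (ModuleCat.of R P)) := hP
    rw [Subsingleton.elim
      (((localCohomology I i).map (ModuleCat.ofHom p)).hom (Hι I i n (ModuleCat.of R M) a)) 0,
      map_zero]
  conv_lhs => rw [← Ext.comp_mk₀_id a, hid]
  rw [Ext.mk₀_add, Ext.mk₀_sum, Ext.comp_add, Ext.comp_sum, map_add, map_sum,
    hzero N₀ f₀ g₀ h₀, zero_add]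
  exact Finset.sum_eq_zero fun k _ => hzero (N k) (f k) (g k) (h k)

/-- An injective module is a retract, up to its torsion, of finitely many localizations at generators of
`I`. -/
theorem exists_injective_factor [IsNoetherianRing R] (I : Ideal R) {t : ℕ} (a : Fin t → R)
    (ha : Ideal.span (Set.range a) = I) (E : Type u) [AddCommGroup E] [Module R E]
    (hE : Module.Injective R E) :
    ∃ (π : E →ₗ[R] DRing.torsionSub I E)
      (s : ∀ k, LocalizedModule (Submonoid.powers (a k)) E →ₗ[R] E),
      ∀ x, (π x : E) + ∑ k, s k (LocalizedModule.mkLinearMap (Submonoid.powers (a k)) E x) = x := by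
  classical
  set T := DRing.torsionSub I E with hT
  haveI : Module.Injective R T := by
    rw [show T = powTorsion I E from Submodule.ext fun x => mem_powTorsion.symm]
    exact injective_powTorsion hE I
  obtain ⟨π, hπ⟩ := Module.Injective.out (Q := T) T.subtype T.injective_subtype LinearMap.id
  let Fk : E →ₗ[R] ∀ k, LocalizedModule (Submonoid.powers (a k)) E :=
    LinearMap.pi fun k => LocalizedModule.mkLinearMap (Submonoid.powers (a k)) E
  have hker : LinearMap.ker Fk = T := by
    ext x
    rw [LinearMap.mem_ker, hT, ← ha, mem_torsionSub_span_iff, funext_iff]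
    rfl
  let e : E →ₗ[R] E := LinearMap.id - T.subtype.comp π
  have he : LinearMap.ker Fk ≤ LinearMap.ker e := by
    intro x hx
    rw [hker] at hx
    rw [LinearMap.mem_ker, LinearMap.sub_apply, LinearMap.id_apply, LinearMap.comp_apply]
    have : π x = ⟨x, hx⟩ := hπ ⟨x, hx⟩
    rw [this, Submodule.subtype_apply, sub_self]
  haveI := hE
  obtain ⟨s, hs⟩ := Module.Injective.out (Q := E) ((LinearMap.ker Fk).liftQ Fk le_rfl)
    (LinearMap.ker_eq_bot.1 (Submodule.ker_liftQ_eq_bot _ _ _ le_rfl))
    ((LinearMap.ker Fk).liftQ e he)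
  refine ⟨π, fun k => s ∘ₗ LinearMap.single R (fun k => LocalizedModule (Submonoid.powers (a k)) E) k, fun x => ?_⟩
  have hsum : ∑ k, s (LinearMap.single R (fun k => LocalizedModule (Submonoid.powers (a k)) E) k
      (LocalizedModule.mkLinearMap (Submonoid.powers (a k)) E x)) = e x := by
    rw [← map_sum]
    have h1 : ∑ k, LinearMap.single R (fun k => LocalizedModule (Submonoid.powers (a k)) E) k
        (LocalizedModule.mkLinearMap (Submonoid.powers (a k)) E x) = Fk x :=
      Finset.univ_sum_single (Fk x)
    rw [h1]
    exact hs (Submodule.Quotient.mk x)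
  simp only [LinearMap.comp_apply]
  rw [hsum, LinearMap.sub_apply, LinearMap.id_apply, LinearMap.comp_apply, Submodule.subtype_apply]
  abel

theorem bijective_smul_localized (b : R) (M : Type u) [AddCommGroup M] [Module R M] :
    Function.Bijective (fun x : LocalizedModule (Submonoid.powers b) M => b • x) :=
  ((Module.End.isUnit_iff _).1 (IsLocalizedModule.map_units
    (LocalizedModule.mkLinearMap (Submonoid.powers b) M) ⟨b, Submonoid.mem_powers b⟩) :)

theorem exists_fin_span_eq [IsNoetherianRing R] (I : Ideal R) :
    ∃ (t : ℕ) (a : Fin t → R), Ideal.span (Set.range a) = I ∧ ∀ k, a k ∈ I := by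
  obtain ⟨t, a, ha⟩ := Submodule.fg_iff_exists_fin_generating_family.1 (IsNoetherian.noetherian I)
  exact ⟨t, a, ha, fun k => ha ▸ Ideal.subset_span ⟨k, rfl⟩⟩

variable {R' : Type u} [CommRing R'] [Algebra R R'] (I : Ideal R)

theorem pow_smul_eq_zero_iff_map {M' : Type u} [AddCommGroup M'] [Module R' M'] [Module R M']
    [IsScalarTower R R' M'] (n : ℕ) (x : M') :
    (∀ r ∈ (I.map (algebraMap R R')) ^ n, r • x = 0) ↔ ∀ r ∈ I ^ n, r • x = 0 := by
  rw [← Ideal.map_pow]
  constructor
  · intro h r hr
    rw [← algebraMap_smul R' r x]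
    exact h _ (Ideal.mem_map_of_mem _ hr)
  · intro h r hr
    have hle : (I ^ n).map (algebraMap R R') ≤ LinearMap.ker (LinearMap.toSpanSingleton R' M' x) :=
      Ideal.map_le_iff_le_comap.2 fun r hr => by
        simpa [algebraMap_smul] using h r hr
    simpa using hle hr

theorem mem_torsionSub_map_iff {M' : Type u} [AddCommGroup M'] [Module R' M'] [Module R M']
    [IsScalarTower R R' M'] (x : M') :
    x ∈ DRing.torsionSub (I.map (algebraMap R R')) M' ↔ x ∈ DRing.torsionSub I M' :=
  exists_congr fun n => pow_smul_eq_zero_iff_map I n x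

/-- S11611: injective `R'`-modules are `Γ_I`-acyclic. -/
theorem subsingleton_H_restrict_of_injective [IsNoetherianRing R] [IsNoetherianRing R']
    (E : Type u) [AddCommGroup E] [Module R' E] [Module R E] [IsScalarTower R R' E]
    (hE : Module.Injective R' E) {i : ℕ} (hi : 0 < i) : Subsingleton (LocCoh.H I i E) := by
  classical
  obtain ⟨t, a, ha, hmem⟩ := exists_fin_span_eq I
  have ha' : Ideal.span (Set.range fun k => algebraMap R R' (a k)) = I.map (algebraMap R R') := by
    rw [← ha, Ideal.map_span, ← Set.range_comp]
    rfl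
  obtain ⟨π, s, hs⟩ := exists_injective_factor (I.map (algebraMap R R')) _ ha' E hE
  refine subsingleton_H_of_factor I i (π.restrictScalars R)
    ((DRing.torsionSub (I.map (algebraMap R R')) E).subtype.restrictScalars R)
    (fun k => (LocalizedModule.mkLinearMap (Submonoid.powers (algebraMap R R' (a k))) E).restrictScalars R)
    (fun k => (s k).restrictScalars R) (fun x => hs x) ?_ fun k => ?_
  · exact subsingleton_H_pos_of_isPowerTorsion I hi _ fun x =>
      (mem_torsionSub_map_iff I x).1 (isPowerTorsion_torsionSub (I.map (algebraMap R R')) E x)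
  · refine subsingleton_H_of_bijective I i (hmem k) ?_
    simpa only [algebraMap_smul] using bijective_smul_localized (algebraMap R R' (a k)) E

/-- S11613: base changes of injective modules are acyclic. -/
theorem subsingleton_H_baseChange_of_injective [IsNoetherianRing R] [IsNoetherianRing R']
    (E : Type u) [AddCommGroup E] [Module R E] (hE : Module.Injective R E) {i : ℕ} (hi : 0 < i) :
    Subsingleton (LocCoh.H (I.map (algebraMap R R')) i (R' ⊗[R] E)) := by
  classical
  obtain ⟨t, a, ha, hmem⟩ := exists_fin_span_eq I
  obtain ⟨π, s, hs⟩ := exists_injective_factor I a ha E hE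
  refine subsingleton_H_of_factor _ i (π.baseChange R')
    ((DRing.torsionSub I E).subtype.baseChange R')
    (fun k => (LocalizedModule.mkLinearMap (Submonoid.powers (a k)) E).baseChange R')
    (fun k => (s k).baseChange R') (fun x => ?_) ?_ fun k => ?_
  · induction x using TensorProduct.induction_on with
    | zero => simp
    | tmul r x =>
      simp only [LinearMap.baseChange_tmul, Submodule.subtype_apply]
      rw [← TensorProduct.tmul_sum, ← TensorProduct.tmul_add, hs x]
    | add x y hx hy =>
      simp only [map_add, Finset.sum_add_distrib]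
      conv_rhs => rw [← hx, ← hy]
      abel
  · refine subsingleton_H_pos_of_isPowerTorsion _ hi _ fun x => ?_
    refine (mem_torsionSub_map_iff (M' := R' ⊗[R] DRing.torsionSub I E) I x).2 ?_
    induction x using TensorProduct.induction_on with
    | zero => exact Submodule.zero_mem _
    | tmul r x =>
      obtain ⟨n, hn⟩ := isPowerTorsion_torsionSub I E x
      exact ⟨n, fun b hb => by rw [TensorProduct.smul_tmul', TensorProduct.smul_tmul, hn b hb,
        TensorProduct.tmul_zero]⟩
    | add x y hx hy => exact Submodule.add_mem _ hx hy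
  · refine subsingleton_H_of_bijective (r := algebraMap R R' (a k)) _ i
      (Ideal.mem_map_of_mem _ (hmem k)) ?_
    have h1 := bijective_smul_localized (a k) E
    let u : LocalizedModule (Submonoid.powers (a k)) E ≃ₗ[R]
        LocalizedModule (Submonoid.powers (a k)) E :=
      LinearEquiv.ofBijective (a k • LinearMap.id) h1
    have h2 : (fun x : R' ⊗[R] LocalizedModule (Submonoid.powers (a k)) E =>
        algebraMap R R' (a k) • x) = u.baseChange R R' _ _ := by
      funext x
      induction x using TensorProduct.induction_on with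
      | zero => simp
      | tmul r x =>
        simp only [LinearEquiv.baseChange_tmul, algebraMap_smul]
        rw [TensorProduct.smul_tmul', TensorProduct.smul_tmul]
        rfl
      | add x y hx hy =>
        simp only [smul_add, map_add] at hx hy ⊢
        rw [hx, hy]
    change Function.Bijective (fun x : R' ⊗[R] LocalizedModule (Submonoid.powers (a k)) E =>
        algebraMap R R' (a k) • x)
    rw [h2]
    exact LinearEquiv.bijective _

end Acyclic

section Equiv

/-- Two surjections with corresponding kernels have isomorphic targets. -/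
theorem exists_addEquiv_of_surjective {A A' B B' : Type*} [AddCommGroup A] [AddCommGroup A']
    [AddCommGroup B] [AddCommGroup B'] (f : A →+ B) (g : A' →+ B') (hf : Function.Surjective f)
    (hg : Function.Surjective g) (e : A ≃+ A') (h : ∀ a, g (e a) = 0 ↔ f a = 0) :
    ∃ φ : B ≃+ B', ∀ a, φ (f a) = g (e a) := by
  have hwd : ∀ a b, f a = f b → g (e a) = g (e b) := fun a b hab => by
    rw [← sub_eq_zero, ← map_sub, ← map_sub, h, map_sub, sub_eq_zero]
    exact hab
  let φ : B →+ B' := AddMonoidHom.mk' (fun b => g (e (Function.surjInv hf b))) fun b c => by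
    rw [← map_add, ← map_add]
    exact hwd _ _ (by rw [map_add, Function.surjInv_eq hf, Function.surjInv_eq hf,
      Function.surjInv_eq hf])
  have hφ : ∀ a, φ (f a) = g (e a) := fun a => hwd _ _ (Function.surjInv_eq hf (f a))
  refine ⟨AddEquiv.ofBijective φ ⟨?_, fun b' => ?_⟩, hφ⟩
  · rw [injective_iff_map_eq_zero]
    intro b hb
    obtain ⟨a, rfl⟩ := hf b
    rw [hφ, h] at hb
    exact hb
  · obtain ⟨a', rfl⟩ := hg b'
    exact ⟨f (e.symm a'), by rw [hφ, e.apply_symm_apply]⟩

end Equiv

section Restrict

variable {R' : Type u} [CommRing R'] [Algebra R R'] (I : Ideal R)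

/-- S11614 in degree zero. -/
theorem exists_H0_restrict_equiv (M : Type u) [AddCommGroup M] [Module R' M] [Module R M]
    [IsScalarTower R R' M] :
    ∃ φ : LocCoh.H (I.map (algebraMap R R')) 0 M ≃+ LocCoh.H I 0 M,
      (∀ (r : R) x, φ (algebraMap R R' r • x) = r • φ x) ∧
      ∀ x, evalZero I (ModuleCat.of R M) (φ x) =
        evalZero (I.map (algebraMap R R')) (ModuleCat.of R' M) x := by
  let e1 := H0Equiv (I.map (algebraMap R R')) (ModuleCat.of R' M)
  let e2 := H0Equiv I (ModuleCat.of R M)
  let e : DRing.torsionSub (I.map (algebraMap R R')) M ≃+ DRing.torsionSub I M :=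
    { toFun := fun x => ⟨x, (mem_torsionSub_map_iff I _).1 x.2⟩
      invFun := fun x => ⟨x, (mem_torsionSub_map_iff I _).2 x.2⟩
      left_inv := fun _ => rfl
      right_inv := fun _ => rfl
      map_add' := fun _ _ => rfl }
  let φ : LocCoh.H (I.map (algebraMap R R')) 0 M ≃+ LocCoh.H I 0 M :=
    (e1.toAddEquiv.trans e).trans e2.symm.toAddEquiv
  have hφ : ∀ x, evalZero I (ModuleCat.of R M) (φ x) =
      evalZero (I.map (algebraMap R R')) (ModuleCat.of R' M) x := fun x => by
    rw [← H0Equiv_apply, ← H0Equiv_apply]
    exact congrArg Subtype.val (e2.apply_symm_apply (e (e1 x)))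
  refine ⟨φ, fun r x => evalZero_injective I (ModuleCat.of R M) ?_, hφ⟩
  rw [hφ, map_smul, map_smul, hφ]
  exact algebraMap_smul R' r _

/-- S11614: change of rings. -/
theorem exists_H_restrict_equiv [IsNoetherianRing R] [IsNoetherianRing R'] :
    ∀ (i : ℕ) (M : Type u) [AddCommGroup M] [Module R' M] [Module R M] [IsScalarTower R R' M],
      ∃ φ : LocCoh.H (I.map (algebraMap R R')) i M ≃+ LocCoh.H I i M,
        ∀ (r : R) x, φ (algebraMap R R' r • x) = r • φ x := by
  intro i
  induction i with
  | zero =>
    intro M _ _ _ _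
    obtain ⟨φ, hφ, -⟩ := exists_H0_restrict_equiv (R' := R') I M
    exact ⟨φ, hφ⟩
  | succ i ih =>
    intro M _ _ _ _
    obtain ⟨E, _, _, f, hf, hE⟩ := exists_injective_embedding (R := R') M
    letI : Module R E := Module.compHom E (algebraMap R R')
    haveI : IsScalarTower R R' E := IsScalarTower.of_algebraMap_smul fun _ _ => rfl
    set g := (LinearMap.range f).mkQ with hg
    have hS' := quotient_shortExact f hf
    have hS := ses_shortExact (f.restrictScalars R) (g.restrictScalars R) hf
      (Submodule.mkQ_surjective _) (LinearMap.exact_map_mkQ_range f)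
    have hE' : ∀ k, Subsingleton (LocCoh.H (I.map (algebraMap R R')) (k + 1) E) :=
      fun k => subsingleton_H_injective _ E hE k
    have hE0 : ∀ k, Subsingleton (LocCoh.H I (k + 1) E) :=
      fun k => subsingleton_H_restrict_of_injective (R' := R') I E hE k.succ_pos
    cases i with
    | succ j =>
      obtain ⟨ψ, hψ⟩ := ih (E ⧸ LinearMap.range f)
      let d' := LinearEquiv.ofBijective (Hδ (I.map (algebraMap R R')) hS' (j + 1))
        (Hδ_bijective _ hS' (j + 1) (hE' j) (hE' (j + 1)))
      let d := LinearEquiv.ofBijective (Hδ I hS (j + 1))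
        (Hδ_bijective _ hS (j + 1) (hE0 j) (hE0 (j + 1)))
      refine ⟨(d'.symm.toAddEquiv.trans ψ).trans d.toAddEquiv, fun r x => ?_⟩
      change d (ψ (d'.symm (algebraMap R R' r • x))) = r • d (ψ (d'.symm x))
      rw [map_smul, hψ, map_smul]
    | zero =>
      obtain ⟨φE, -, hφE⟩ := exists_H0_restrict_equiv (R' := R') I E
      obtain ⟨φQ, hφQ, hφQ'⟩ := exists_H0_restrict_equiv (R' := R') I (E ⧸ LinearMap.range f)
      have hsurj' := Hδ_surjective (I.map (algebraMap R R')) hS' 0 (hE' 0)
      have hsurj := Hδ_surjective I hS 0 (hE0 0)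
      have hcomm : ∀ y, φQ (((localCohomology (I.map (algebraMap R R')) 0).map
          (ModuleCat.ofHom g)).hom y) =
          ((localCohomology I 0).map (ModuleCat.ofHom (g.restrictScalars R))).hom (φE y) := fun y => by
        refine evalZero_injective I (ModuleCat.of R (E ⧸ LinearMap.range f)) ?_
        rw [hφQ', evalZero_natural, evalZero_natural, hφE]
        rfl
      obtain ⟨φ, hφ⟩ := exists_addEquiv_of_surjective
        (Hδ (I.map (algebraMap R R')) hS' 0).toAddMonoidHom (Hδ I hS 0).toAddMonoidHom hsurj' hsurj
        φQ fun q => by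
          constructor
          · intro hq
            obtain ⟨e, he⟩ := (H_exact₃ I hS 0 (φQ q)).1 hq
            obtain ⟨e', rfl⟩ := φE.surjective e
            exact (H_exact₃ _ hS' 0 q).2 ⟨e', φQ.injective ((hcomm e').trans he)⟩
          · intro hq
            obtain ⟨e', rfl⟩ := (H_exact₃ _ hS' 0 q).1 hq
            exact (H_exact₃ I hS 0 _).2 ⟨φE e', (hcomm e').symm⟩
      refine ⟨φ, fun r x => ?_⟩
      obtain ⟨q, rfl⟩ := hsurj' x
      have h1 := hφ (algebraMap R R' r • q)
      have h2 := hφ q
      simp only [LinearMap.toAddMonoidHom_coe, map_smul] at h1 h2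
      rw [h1, h2, hφQ, map_smul]

theorem subsingleton_H_map_iff [IsNoetherianRing R] [IsNoetherianRing R'] (i : ℕ) (M : Type u)
    [AddCommGroup M] [Module R' M] [Module R M] [IsScalarTower R R' M] :
    Subsingleton (LocCoh.H (I.map (algebraMap R R')) i M) ↔ Subsingleton (LocCoh.H I i M) := by
  obtain ⟨φ, -⟩ := exists_H_restrict_equiv (R' := R') I i M
  exact φ.toEquiv.subsingleton_congr

theorem cdLE_map [IsNoetherianRing R] [IsNoetherianRing R'] {d : ℕ} (h : LocCoh.CdLE R I d) :
    LocCoh.CdLE R' (I.map (algebraMap R R')) d := fun M _ _ i hi => by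
  letI : Module R M := Module.compHom M (algebraMap R R')
  haveI : IsScalarTower R R' M := IsScalarTower.of_algebraMap_smul fun _ _ => rfl
  exact (subsingleton_H_map_iff I i M).2 (h M i hi)

end Restrict

section BaseChange

variable [IsNoetherianRing R] {R' : Type u} [CommRing R'] [Algebra R R'] [Module.Flat R R']
  (I : Ideal R)

theorem baseChange_injective {M N : Type u} [AddCommGroup M] [Module R M] [AddCommGroup N]
    [Module R N] (f : M →ₗ[R] N) (hf : Function.Injective f) :
    Function.Injective (f.baseChange R') := by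
  rw [LinearMap.baseChange_eq_ltensor]
  exact Module.Flat.lTensor_preserves_injective_linearMap f hf

/-- S11616. -/
theorem range_baseChange_torsionSub (M : Type u) [AddCommGroup M] [Module R M] :
    LinearMap.range ((DRing.torsionSub I M).subtype.baseChange R') =
      DRing.torsionSub (I.map (algebraMap R R')) (R' ⊗[R] M) := by
  classical
  refine le_antisymm ?_ fun x hx => ?_
  · rintro _ ⟨y, rfl⟩
    rw [mem_torsionSub_map_iff]
    induction y using TensorProduct.induction_on with
    | zero => simp
    | tmul r y =>
      obtain ⟨n, hn⟩ := y.2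
      refine ⟨n, fun b hb => ?_⟩
      rw [LinearMap.baseChange_tmul, TensorProduct.smul_tmul', TensorProduct.smul_tmul,
        Submodule.subtype_apply, hn b hb, TensorProduct.tmul_zero]
    | add y z hy hz => rw [map_add]; exact Submodule.add_mem _ hy hz
  · obtain ⟨n, hn⟩ := (mem_torsionSub_map_iff I x).1 hx
    obtain ⟨t, b, hb, hmem⟩ := exists_fin_span_eq (I ^ n)
    let F : M →ₗ[R] (Fin t → M) := LinearMap.pi fun k => b k • LinearMap.id
    have hexact : Function.Exact ((LinearMap.ker F).subtype.lTensor R') (F.lTensor R') :=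
      Module.Flat.lTensor_exact R' F.exact_subtype_ker_map
    have hFx : F.lTensor R' x = 0 := by
      apply (TensorProduct.piRight R R R' (fun _ : Fin t => M)).injective
      rw [map_zero]
      funext k
      have : ∀ y : R' ⊗[R] M,
          TensorProduct.piRight R R R' (fun _ : Fin t => M) (F.lTensor R' y) k = b k • y := by
        intro y
        have hF : ((LinearMap.proj k).comp
            (TensorProduct.piRight R R R' (fun _ : Fin t => M)).toLinearMap).comp (F.lTensor R') =
            b k • LinearMap.id := TensorProduct.ext' fun r y => by simp [F, TensorProduct.tmul_smul]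
        exact LinearMap.congr_fun hF y
      rw [this, hn _ (hmem k)]
      rfl
    obtain ⟨z, rfl⟩ := (hexact x).1 hFx
    have hle : LinearMap.ker F ≤ DRing.torsionSub I M := fun m hm => ⟨n, fun a ha => by
      rw [← hb] at ha
      have hsp : Ideal.span (Set.range b) ≤ LinearMap.ker (LinearMap.toSpanSingleton R M m) :=
        Ideal.span_le.2 (by
          rintro _ ⟨k, rfl⟩
          simpa [F] using congrFun hm k)
      simpa using hsp ha⟩
    refine ⟨(Submodule.inclusion hle).baseChange R' z, ?_⟩
    clear hx hn hFx
    induction z using TensorProduct.induction_on with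
    | zero => simp
    | tmul r m => rfl
    | add y z hy hz => simp only [map_add, hy, hz]

/-- Flat base change in degree zero. -/
theorem exists_H0_baseChange_equiv (M : Type u) [AddCommGroup M] [Module R M] :
    ∃ φ : R' ⊗[R] LocCoh.H I 0 M ≃ₗ[R'] LocCoh.H (I.map (algebraMap R R')) 0 (R' ⊗[R] M),
      ∀ x, evalZero (I.map (algebraMap R R')) (ModuleCat.of R' (R' ⊗[R] M)) (φ x) =
        (evalZero I (ModuleCat.of R M)).baseChange R' x := by
  let a : R' ⊗[R] LocCoh.H I 0 M →ₗ[R'] R' ⊗[R] M :=
    (evalZero I (ModuleCat.of R M)).baseChange R'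
  have ha : Function.Injective a := baseChange_injective _ (evalZero_injective I _)
  have hrange : LinearMap.range a = DRing.torsionSub (I.map (algebraMap R R')) (R' ⊗[R] M) := by
    rw [← range_baseChange_torsionSub]
    have : a = ((DRing.torsionSub I M).subtype.baseChange R').comp
        ((H0Equiv I (ModuleCat.of R M)).baseChange R R' _ _).toLinearMap := by
      refine TensorProduct.AlgebraTensorModule.ext fun r x => ?_
      rfl
    rw [this, LinearMap.range_comp_of_range_eq_top]
    exact LinearEquiv.range _
  let e' := H0Equiv (I.map (algebraMap R R')) (ModuleCat.of R' (R' ⊗[R] M))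
  let φ := ((LinearEquiv.ofInjective a ha).trans (LinearEquiv.ofEq _ _ hrange)).trans e'.symm
  refine ⟨φ, fun x => ?_⟩
  rw [← H0Equiv_apply]
  exact congrArg Subtype.val (e'.apply_symm_apply _)

/-- S11617: flat base change. -/
theorem nonempty_H_baseChange_equiv [IsNoetherianRing R'] :
    ∀ (i : ℕ) (M : Type u) [AddCommGroup M] [Module R M],
      Nonempty (R' ⊗[R] LocCoh.H I i M ≃ₗ[R']
        LocCoh.H (I.map (algebraMap R R')) i (R' ⊗[R] M)) := by
  intro i
  induction i with
  | zero =>
    intro M _ _
    obtain ⟨φ, -⟩ := exists_H0_baseChange_equiv (R' := R') I M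
    exact ⟨φ⟩
  | succ i ih =>
    intro M _ _
    obtain ⟨E, _, _, f, hf, hE⟩ := exists_injective_embedding (R := R) M
    set g := (LinearMap.range f).mkQ with hg
    have hS := quotient_shortExact f hf
    have hex : Function.Exact f g := LinearMap.exact_map_mkQ_range f
    have hg' : Function.Surjective (g.baseChange R') := by
      rw [LinearMap.baseChange_eq_ltensor]
      exact LinearMap.lTensor_surjective R' (Submodule.mkQ_surjective _)
    have hex' : Function.Exact (f.baseChange R') (g.baseChange R') := by
      rw [LinearMap.baseChange_eq_ltensor, LinearMap.baseChange_eq_ltensor]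
      exact Module.Flat.lTensor_exact R' hex
    have hS' := ses_shortExact (f.baseChange R') (g.baseChange R')
      (baseChange_injective f hf) hg' hex'
    have hE' : ∀ k, Subsingleton (LocCoh.H (I.map (algebraMap R R')) (k + 1) (R' ⊗[R] E)) :=
      fun k => subsingleton_H_baseChange_of_injective I E hE k.succ_pos
    have hE0 : ∀ k, Subsingleton (LocCoh.H I (k + 1) E) :=
      fun k => subsingleton_H_injective _ E hE k
    cases i with
    | succ j =>
      obtain ⟨ψ⟩ := ih (E ⧸ LinearMap.range f)
      let d' := LinearEquiv.ofBijective (Hδ (I.map (algebraMap R R')) hS' (j + 1))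
        (Hδ_bijective _ hS' (j + 1) (hE' j) (hE' (j + 1)))
      let d := LinearEquiv.ofBijective (Hδ I hS (j + 1))
        (Hδ_bijective _ hS (j + 1) (hE0 j) (hE0 (j + 1)))
      exact ⟨((d.symm.baseChange R R' _ _).trans ψ).trans d'⟩
    | zero =>
      obtain ⟨φE, hφE⟩ := exists_H0_baseChange_equiv (R' := R') I E
      obtain ⟨φQ, hφQ⟩ := exists_H0_baseChange_equiv (R' := R') I (E ⧸ LinearMap.range f)
      let δ := Hδ I hS 0
      let δb := δ.baseChange R'
      let δ' := Hδ (I.map (algebraMap R R')) hS' 0
      let gb := ((localCohomology I 0).map (ModuleCat.ofHom g)).hom.baseChange R'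
      let g' := ((localCohomology (I.map (algebraMap R R')) 0).map
        (ModuleCat.ofHom (g.baseChange R'))).hom
      have hsurjb : Function.Surjective δb := by
        simp only [δb]
        rw [LinearMap.baseChange_eq_ltensor]
        exact LinearMap.lTensor_surjective R' (Hδ_surjective I hS 0 (hE0 0))
      have hsurj' : Function.Surjective δ' := Hδ_surjective _ hS' 0 (hE' 0)
      have hexb : Function.Exact gb δb := by
        simp only [gb, δb]
        rw [LinearMap.baseChange_eq_ltensor, LinearMap.baseChange_eq_ltensor]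
        exact Module.Flat.lTensor_exact R' (H_exact₃ I hS 0)
      have hcomm : ∀ y, φQ (gb y) = g' (φE y) := fun y => by
        refine evalZero_injective (I.map (algebraMap R R'))
          (ModuleCat.of R' (R' ⊗[R] (E ⧸ LinearMap.range f))) ?_
        rw [hφQ, evalZero_natural, hφE]
        induction y using TensorProduct.induction_on with
        | zero => simp
        | tmul r y =>
          simp only [gb, LinearMap.baseChange_tmul]
          rw [evalZero_natural]
          rfl
        | add y z hy hz => simp only [map_add, hy, hz]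
      obtain ⟨φ, hφ⟩ := exists_addEquiv_of_surjective δb.toAddMonoidHom δ'.toAddMonoidHom hsurjb
        hsurj' φQ.toAddEquiv fun q => by
          constructor
          · intro hq
            obtain ⟨e, he⟩ := (H_exact₃ _ hS' 0 (φQ q)).1 hq
            obtain ⟨e', rfl⟩ := φE.surjective e
            exact (hexb q).2 ⟨e', φQ.injective ((hcomm e').trans he)⟩
          · intro hq
            obtain ⟨e', rfl⟩ := (hexb q).1 hq
            exact (H_exact₃ _ hS' 0 _).2 ⟨φE e', (hcomm e').symm⟩
      refine ⟨φ.toLinearEquiv fun r x => ?_⟩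
      obtain ⟨q, rfl⟩ := hsurjb x
      have h1 := hφ (r • q)
      have h2 := hφ q
      simp only [LinearMap.toAddMonoidHom_coe, LinearEquiv.coe_toAddEquiv, map_smul] at h1 h2
      rw [h1, h2]
      change δ' (φQ (r • q)) = r • δ' (φQ q)
      rw [map_smul, map_smul]

theorem cdLE_of_faithfullyFlat [IsNoetherianRing R'] [Module.FaithfullyFlat R R'] {d : ℕ}
    (h : LocCoh.CdLE R' (I.map (algebraMap R R')) d) : LocCoh.CdLE R I d := fun M _ _ i hi => by
  obtain ⟨φ⟩ := nonempty_H_baseChange_equiv (R' := R') I i M
  haveI := h (R' ⊗[R] M) i hi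
  haveI : Subsingleton (R' ⊗[R] LocCoh.H I i M) := φ.toEquiv.subsingleton
  exact (Module.FaithfullyFlat.subsingleton_tensorProduct_iff_right (M := R') R).1 ‹_›

end BaseChange

section Localization

variable [IsNoetherianRing R] (I : Ideal R)

/-- `R' ⊗ M` for a localization `R'` is any localized module. -/
noncomputable def tensorLocalizationEquiv (S : Submonoid R) (R' : Type u) [CommRing R']
    [Algebra R R'] [IsLocalization S R'] (M : Type u) [AddCommGroup M] [Module R M]
    (N : Type u) [AddCommGroup N] [Module R N] [Module R' N] [IsScalarTower R R' N]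
    (f : M →ₗ[R] N) [IsLocalizedModule S f] : R' ⊗[R] M ≃ₗ[R'] N :=
  (IsLocalizedModule.isBaseChange S R' f).equiv

/-- S11618. -/
theorem nonempty_localized_H_equiv (S : Submonoid R) (R' : Type u) [CommRing R'] [Algebra R R']
    [IsLocalization S R'] (i : ℕ) (M : Type u) [AddCommGroup M] [Module R M]
    (N : Type u) [AddCommGroup N] [Module R N] [Module R' N] [IsScalarTower R R' N]
    (f : M →ₗ[R] N) [IsLocalizedModule S f]
    (P : Type u) [AddCommGroup P] [Module R P] [Module R' P] [IsScalarTower R R' P]
    (g : LocCoh.H I i M →ₗ[R] P) [IsLocalizedModule S g] :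
    Nonempty (P ≃ₗ[R'] LocCoh.H (I.map (algebraMap R R')) i N) := by
  haveI : Module.Flat R R' := IsLocalization.flat R' S
  haveI : IsNoetherianRing R' := IsLocalization.isNoetherianRing S R' inferInstance
  obtain ⟨φ⟩ := nonempty_H_baseChange_equiv (R' := R') I i M
  exact ⟨((tensorLocalizationEquiv S R' _ P g).symm.trans φ).trans
    ((localCohomology (I.map (algebraMap R R')) i).mapIso
      (tensorLocalizationEquiv S R' M N f).toModuleIso).toLinearEquiv⟩

theorem nonempty_localizedModule_H_equiv (S : Submonoid R) (i : ℕ) (M : Type u) [AddCommGroup M]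
    [Module R M] :
    Nonempty (LocalizedModule S (LocCoh.H I i M) ≃ₗ[Localization S]
      LocCoh.H (I.map (algebraMap R (Localization S))) i (LocalizedModule S M)) :=
  nonempty_localized_H_equiv I S (Localization S) i M _ (LocalizedModule.mkLinearMap S M) _
    (LocalizedModule.mkLinearMap S _)

/-- S0380. -/
theorem cdLE_iff_atPrime (d : ℕ) : LocCoh.CdLE R I d ↔ ∀ (p : Ideal R) [p.IsPrime],
    LocCoh.CdLE (Localization.AtPrime p) (I.map (algebraMap R (Localization.AtPrime p))) d := by
  constructor
  · intro h p _
    haveI : IsNoetherianRing (Localization.AtPrime p) :=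
      IsLocalization.isNoetherianRing p.primeCompl _ inferInstance
    exact cdLE_map I h
  · intro h M _ _ i hi
    refine subsingleton_of_forall_eq 0 fun x => Module.eq_zero_of_localization_maximal
      (fun (P : Ideal R) _ => LocalizedModule P.primeCompl (LocCoh.H I i M))
      (fun P _ => LocalizedModule.mkLinearMap P.primeCompl (LocCoh.H I i M)) x fun P _ => ?_
    obtain ⟨e⟩ := nonempty_localizedModule_H_equiv I P.primeCompl i M
    haveI := h P (LocalizedModule P.primeCompl M) i hi
    haveI := e.toEquiv.subsingleton
    exact Subsingleton.elim _ _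

end Localization

end Groth.L04.LC
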