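import Groth.Agent.L04.LC.SingleDegree
import Groth.Agent.L04.SupportLoc
import Groth.Prelude.Def_SGA2
import Mathlib.RingTheory.Spectrum.Prime.RingHom

/-!
# The codimension function `c(p)` and finiteness over quotients of regular rings

SGA 2 VIII 2: finiteness of local cohomology via the primes with `c(p) = 1`.
-/

universe u

open CategoryTheory Limits Abelian IsLocalRing

namespace Groth.L04.LC

section Heights

variable {A : Type u} [CommRing A]

/-- The height above `p` in the prime spectrum is the height in `A/p`. -/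
theorem orderHeight_Ici (p q : PrimeSpectrum A) (hpq : p ≤ q) :
    Order.height (⟨q, hpq⟩ : Set.Ici p) = (q.asIdeal.map (Ideal.Quotient.mk p.asIdeal)).height := by
  let toQ : Set.Ici p → PrimeSpectrum (A ⧸ p.asIdeal) := fun r =>
    ⟨r.1.asIdeal.map (Ideal.Quotient.mk p.asIdeal),
      haveI := r.1.2
      Ideal.map_isPrime_of_surjective Ideal.Quotient.mk_surjective (by
        rw [Ideal.mk_ker]; exact r.2)⟩
  have hc : ∀ r : Set.Ici p, (toQ r).asIdeal.comap (Ideal.Quotient.mk p.asIdeal) = r.1.asIdeal :=
    fun r => by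
      rw [Ideal.comap_map_of_surjective' _ Ideal.Quotient.mk_surjective, Ideal.mk_ker]
      exact sup_eq_left.2 r.2
  let e : Set.Ici p ≃o PrimeSpectrum (A ⧸ p.asIdeal) :=
    { toFun := toQ
      invFun := fun Q => ⟨PrimeSpectrum.comap (Ideal.Quotient.mk p.asIdeal) Q, fun r hr => by
        change Ideal.Quotient.mk p.asIdeal r ∈ Q.asIdeal
        rw [Ideal.Quotient.eq_zero_iff_mem.2 hr]
        exact Q.asIdeal.zero_mem⟩
      left_inv := fun r => Subtype.ext (PrimeSpectrum.ext (hc r))
      right_inv := fun Q => PrimeSpectrum.ext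
        (Ideal.map_comap_of_surjective _ Ideal.Quotient.mk_surjective _)
      map_rel_iff' := fun {r r'} => ⟨fun h => by
        have := Ideal.comap_mono (f := Ideal.Quotient.mk p.asIdeal)
          (show (toQ r).asIdeal ≤ (toQ r').asIdeal from h)
        rwa [hc, hc] at this, fun h => Ideal.map_mono h⟩ }
  rw [← Order.height_orderIso e ⟨q, hpq⟩, ← PrimeSpectrum.height_eq_orderHeight]
  rfl

theorem relCodim_eq_height (I : Ideal A) (p : PrimeSpectrum A) :
    SGA2.relCodim I p = ((I ⊔ p.asIdeal).map (Ideal.Quotient.mk p.asIdeal)).height := by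
  refine le_antisymm ?_ ?_
  · rw [Ideal.height_eq_inf_minimalPrimes]
    refine le_iInf₂ fun J hJ => ?_
    haveI := hJ.isPrime
    have hle : I ⊔ p.asIdeal ≤ J.comap (Ideal.Quotient.mk p.asIdeal) := fun r hr =>
      hJ.1.2 (Ideal.mem_map_of_mem _ hr)
    let q : PrimeSpectrum A := PrimeSpectrum.comap (Ideal.Quotient.mk p.asIdeal) ⟨J, hJ.isPrime⟩
    refine iInf_le_of_le ⟨q, show p.asIdeal ≤ q.asIdeal from le_sup_right.trans hle,
      le_sup_left.trans hle⟩ ?_
    rw [orderHeight_Ici]
    exact le_of_eq (congrArg Ideal.height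
      (Ideal.map_comap_of_surjective _ Ideal.Quotient.mk_surjective J))
  · refine le_iInf fun q => ?_
    rw [orderHeight_Ici]
    exact Ideal.height_mono (Ideal.map_mono (sup_le q.2.2 q.2.1))

theorem relCodim_le {I : Ideal A} {p q : PrimeSpectrum A} (hpq : p ≤ q) (hq : I ≤ q.asIdeal) :
    SGA2.relCodim I p ≤ (q.asIdeal.map (Ideal.Quotient.mk p.asIdeal)).height :=
  (iInf_le_of_le ⟨q, hpq, hq⟩ le_rfl).trans (orderHeight_Ici p q hpq).le

variable [IsNoetherianRing A]

theorem exists_of_relCodim_eq {I : Ideal A} {p : PrimeSpectrum A} {c : ℕ}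
    (h : SGA2.relCodim I p = c) :
    ∃ q : PrimeSpectrum A, p ≤ q ∧ I ≤ q.asIdeal ∧
      (q.asIdeal.map (Ideal.Quotient.mk p.asIdeal)).height = c := by
  rw [relCodim_eq_height] at h
  obtain ⟨q, hq, hpq, hIq, hqh⟩ := exists_prime_height_le I p.asIdeal h
  exact ⟨⟨q, hq⟩, hpq, hIq, hqh⟩

theorem one_le_relCodim {I : Ideal A} {p : PrimeSpectrum A} (hp : ¬ I ≤ p.asIdeal) :
    1 ≤ SGA2.relCodim I p := by
  refine Order.one_le_iff_ne_zero.2 fun h => ?_
  obtain ⟨q, hpq, hIq, hqh⟩ := exists_of_relCodim_eq (c := 0) (by simpa using h)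
  haveI : (q.asIdeal.map (Ideal.Quotient.mk p.asIdeal)).IsPrime :=
    Ideal.map_isPrime_of_surjective Ideal.Quotient.mk_surjective (by rw [Ideal.mk_ker]; exact hpq)
  refine hp fun r hr => ?_
  have h0 := (Ideal.height_eq_zero_iff_eq_bot).1 (hqh.trans Nat.cast_zero)
  have hmem : Ideal.Quotient.mk p.asIdeal r ∈ q.asIdeal.map (Ideal.Quotient.mk p.asIdeal) :=
    Ideal.mem_map_of_mem _ (hIq hr)
  rwa [h0, Ideal.mem_bot, Ideal.Quotient.eq_zero_iff_mem] at hmem

theorem relCodim_eq_one {I : Ideal A} {p q : PrimeSpectrum A} (hp : ¬ I ≤ p.asIdeal) (hpq : p ≤ q)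
    (hq : I ≤ q.asIdeal) (h : (q.asIdeal.map (Ideal.Quotient.mk p.asIdeal)).height = 1) :
    SGA2.relCodim I p = 1 :=
  le_antisymm ((relCodim_le hpq hq).trans h.le) (one_le_relCodim hp)

theorem height_quot_eq_one_iff_covBy {p q : PrimeSpectrum A} (hpq : p ≤ q) :
    (q.asIdeal.map (Ideal.Quotient.mk p.asIdeal)).height = 1 ↔ p ⋖ q := by
  rw [← orderHeight_Ici p q hpq]
  constructor
  · intro h
    refine ⟨lt_of_le_of_ne hpq fun he => ?_, fun r hpr hrq => ?_⟩
    · subst he
      rw [Order.height_eq_zero.2 (fun y _ => y.2)] at h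
      exact zero_ne_one h
    · have h1 := (Order.height_le_coe_iff (n := 1)).1 h.le
        (⟨r, hpr.le⟩ : Set.Ici p) hrq
      have h0 : Order.height (⟨r, hpr.le⟩ : Set.Ici p) = 0 := ENat.lt_one_iff_eq_zero.1 h1
      rw [Order.height_eq_zero] at h0
      exact hpr.not_ge (h0 (b := ⟨p, le_refl p⟩) hpr.le)
  · intro h
    refine le_antisymm ((Order.height_le_coe_iff (n := 1)).2 fun y hy => ?_)
      (Order.one_le_iff_ne_zero.2 fun h0 => ?_)
    · have : y.1 = p := by
        by_contra hne
        exact h.2 (lt_of_le_of_ne y.2 (Ne.symm hne)) hy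
      rw [Order.height_eq_zero.2 (fun z _ => show y.1 ≤ z.1 from this.le.trans z.2)]
      exact zero_lt_one
    · rw [Order.height_eq_zero] at h0
      exact h.1.not_ge (h0 (b := ⟨p, le_refl p⟩) hpq)

/-- A point of codimension `c + 1` specializes in `c` steps to a point of codimension one. -/
theorem exists_cover_of_relCodim {I : Ideal A} {p : PrimeSpectrum A} {c : ℕ}
    (h : SGA2.relCodim I p = (c + 1 : ℕ)) :
    ∃ P q : PrimeSpectrum A, p ≤ P ∧ P ≤ q ∧ ¬ I ≤ P.asIdeal ∧ I ≤ q.asIdeal ∧
      (q.asIdeal.map (Ideal.Quotient.mk P.asIdeal)).height = 1 ∧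
      (P.asIdeal.map (Ideal.Quotient.mk p.asIdeal)).height = c := by
  obtain ⟨q, hpq, hIq, hqh⟩ := exists_of_relCodim_eq h
  rw [← orderHeight_Ici p q hpq] at hqh
  obtain ⟨s, hs, hlen⟩ := Order.exists_series_of_height_eq_coe _ hqh
  let i : Fin s.length := ⟨c, by omega⟩
  set P := s i.castSucc with hP
  have hPq : P < ⟨q, hpq⟩ := by
    rw [← hs, RelSeries.last]
    exact s.strictMono (Fin.lt_def.2 (by simp [i]; omega))
  have hge : (c : ℕ∞) ≤ Order.height P := by
    exact Order.index_le_height s i.castSucc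
  have hle : Order.height P ≤ (c : ℕ∞) := by
    have h1 := (Order.height_le_coe_iff (n := c + 1)).1 hqh.le P hPq
    exact ENat.lt_coe_add_one_iff.1 (by exact_mod_cast h1)
  have hPh := le_antisymm hle hge
  have hPq' : P.1 ≤ q := hPq.le
  refine ⟨P.1, q, P.2, hPq', fun hIP => ?_, hIq, (height_quot_eq_one_iff_covBy hPq').2
    ⟨hPq, fun r hPr hrq => ?_⟩, (orderHeight_Ici p P.1 P.2).symm.trans hPh⟩
  · have h1 := relCodim_le (I := I) P.2 hIP
    rw [h, ← orderHeight_Ici p P.1 P.2, hPh] at h1
    exact absurd (show c + 1 ≤ c by exact_mod_cast h1) (by omega)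
  · let r' : Set.Ici p := ⟨r, P.2.trans hPr.le⟩
    have h1 := (Order.height_le_coe_iff (n := c + 1)).1 hqh.le r' hrq
    have h2 := Order.height_add_one_le (show P < r' from hPr)
    rw [hPh] at h2
    exact absurd (lt_of_le_of_lt h2 h1) (by exact_mod_cast lt_irrefl (c + 1))

end Heights

section Generic

variable {A : Type u} [CommRing A] [IsNoetherianRing A]

/-- `depth M_p ≥ n` in terms of local cohomology. -/
theorem le_depth_iff_locZero (p : Ideal A) [p.IsPrime] (M : Type u) [AddCommGroup M] [Module A M]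
    [Module.Finite A M] (n : ℕ) :
    (n : ℕ∞) ≤ LocCoh.depth (Localization.AtPrime p) (LocalizedModule p.primeCompl M) ↔
      ∀ j < n, LocZero p j M :=
  le_depth_atPrime_iff p M n

/-- Finiteness up to `n` forces vanishing below `n` at the primes of codimension one. -/
theorem coverHyp_of_finite (I : Ideal A) (M : Type u) [AddCommGroup M] [Module A M]
    [Module.Finite A M] {n j : ℕ} (hj : j < n)
    (hfin : ∀ i ≤ n, Module.Finite A (LocCoh.H I i M)) : CoverHyp I j M := by
  intro p q hp hq hpq hone x
  obtain ⟨J, hIJ, hJ⟩ := (finite_H_iff_killed I M n).1 hfin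
  obtain ⟨c, hcI, hcp⟩ := SetLike.not_le_iff_exists.1 hp
  obtain ⟨K, hK⟩ := hIJ hcI
  exact exists_smul_eq_zero_of_killed I M p.asIdeal q.asIdeal hpq hq 1 j (by simp [hone])
    (fun h => hcp (p.2.mem_of_pow_mem K h)) (fun i hi => hJ i (by omega) _ hK) le_rfl x

/-- S5172. -/
theorem depth_gt_sub_codim_iff (I : Ideal A) (M : Type u) [AddCommGroup M] [Module A M]
    [Module.Finite A M] (n : ℕ) :
    (∀ p : PrimeSpectrum A, ¬ I ≤ p.asIdeal → (n : ℕ∞) <
      LocCoh.depth (Localization.AtPrime p.asIdeal) (LocalizedModule p.asIdeal.primeCompl M) +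
        SGA2.relCodim I p) ↔
    (∀ p : PrimeSpectrum A, ¬ I ≤ p.asIdeal → SGA2.relCodim I p = 1 → (n : ℕ∞) ≤
      LocCoh.depth (Localization.AtPrime p.asIdeal) (LocalizedModule p.asIdeal.primeCompl M)) := by
  refine ⟨fun h p hp h1 => ?_, fun h p hp => ?_⟩
  · have := h p hp
    rw [h1] at this
    exact Order.le_of_lt_add_one this
  · rcases eq_or_ne (SGA2.relCodim I p) ⊤ with htop | hne
    · rw [htop, add_top]
      exact ENat.coe_lt_top n
    obtain ⟨c, hc⟩ := ENat.ne_top_iff_exists.1 hne
    have h1 := one_le_relCodim hp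
    rw [← hc] at h1
    obtain ⟨c, rfl⟩ : ∃ c', c = c' + 1 :=
      ⟨c - 1, by have : 1 ≤ c := by exact_mod_cast h1
                 omega⟩
    obtain ⟨P, q, hpP, hPq, hP, hq, hone, hPh⟩ := exists_cover_of_relCodim hc.symm
    have h2 := (h P hP (relCodim_eq_one hP hPq hq hone)).trans (depth_localized_le_add_height hpP)
    rw [hPh] at h2
    rw [← hc]
    generalize LocCoh.depth (Localization.AtPrime p.asIdeal)
      (LocalizedModule p.asIdeal.primeCompl M) = e at h2 ⊢
    induction e with
    | top => simp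
    | coe e =>
      have h3 : n ≤ e + c := by exact_mod_cast h2
      exact_mod_cast (by omega : n < e + (c + 1))

end Generic

section Quotient

variable {S A : Type u} [CommRing S] [IsRegularRing S] [CommRing A] [IsNoetherianRing A]

omit [IsRegularRing S] [IsNoetherianRing A] in
/-- Heights in `A/P` can be computed in `S`. -/
theorem height_quot_comap (π : S →+* A) (hπ : Function.Surjective π) (P Q : Ideal A) :
    ((Q.comap π).map (Ideal.Quotient.mk (P.comap π))).height =
      (Q.map (Ideal.Quotient.mk P)).height := by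
  let f : S ⧸ P.comap π →+* A ⧸ P := Ideal.Quotient.lift (P.comap π) ((Ideal.Quotient.mk P).comp π)
    fun r hr => Ideal.Quotient.eq_zero_iff_mem.2 hr
  have hf : Function.Bijective f := by
    refine ⟨(injective_iff_map_eq_zero f).2 fun z hz => ?_,
      Ideal.Quotient.lift_surjective_of_surjective _ _ (Ideal.Quotient.mk_surjective.comp hπ)⟩
    obtain ⟨r, rfl⟩ := Ideal.Quotient.mk_surjective z
    exact Ideal.Quotient.eq_zero_iff_mem.2
      (show π r ∈ P from Ideal.Quotient.eq_zero_iff_mem.1 hz)
  have hfe : ((Q.comap π).map (Ideal.Quotient.mk (P.comap π))).map (RingEquiv.ofBijective f hf) =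
      Q.map (Ideal.Quotient.mk P) := by
    change Ideal.map f (Ideal.map (Ideal.Quotient.mk (P.comap π)) (Q.comap π)) = _
    rw [Ideal.map_map]
    conv_rhs => rw [← Ideal.map_comap_of_surjective π hπ Q, Ideal.map_map]
    rfl
  rw [← hfe, RingEquiv.height_map]

variable (π : S →+* A) (hπ : Function.Surjective π)

include hπ in
/-- `ht(q/p) + ht(r/q) = ht(r/p)` in a quotient of a regular ring. -/
theorem height_quot_add {p q r : Ideal A} [p.IsPrime] [q.IsPrime] [r.IsPrime] (hpq : p ≤ q)
    (hqr : q ≤ r) :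
    (q.map (Ideal.Quotient.mk p)).height + (r.map (Ideal.Quotient.mk q)).height =
      (r.map (Ideal.Quotient.mk p)).height := by
  rw [← height_quot_comap π hπ p q, ← height_quot_comap π hπ q r, ← height_quot_comap π hπ p r]
  have h1 := height_add_height_quotient (p.comap π) (q.comap π) (Ideal.comap_mono hpq)
  have h2 := height_add_height_quotient (q.comap π) (r.comap π) (Ideal.comap_mono hqr)
  have h3 := height_add_height_quotient (p.comap π) (r.comap π) (Ideal.comap_mono (hpq.trans hqr))
  have hne : ((p.comap π).height : ℕ∞) ≠ ⊤ := Ideal.height_ne_top (Ideal.IsPrime.ne_top inferInstance)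
  rw [← h1, ← h3, add_assoc] at h2
  exact (ENat.add_left_injective_of_ne_top hne) (by simpa [add_comm] using h2)

variable (M : Type u) [AddCommGroup M] [Module A M]

omit [IsNoetherianRing A] in
theorem isPowerTorsion_comap {P : PrimeSpectrum S} (hker : ¬ RingHom.ker π ≤ P.asIdeal) :
    ∃ s, s ∉ P.asIdeal ∧ π s = 0 := by
  obtain ⟨s, hs, hsP⟩ := SetLike.not_le_iff_exists.1 hker
  exact ⟨s, hsP, hs⟩

variable [Algebra S A] [Module S M] [IsScalarTower S A M]

omit [IsRegularRing S] in
/-- `H^j_P(M)_P = 0` does not depend on the ring. -/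
theorem locZero_comap_iff [IsNoetherianRing S] (hsurj : Function.Surjective (algebraMap S A)) (P : Ideal A) (j : ℕ) :
    LocZero (P.comap (algebraMap S A)) j M ↔ LocZero P j M := by
  have hP : (P.comap (algebraMap S A)).map (algebraMap S A) = P :=
    Ideal.map_comap_of_surjective _ hsurj P
  have key : ∀ P' : Ideal A, (P.comap (algebraMap S A)).map (algebraMap S A) = P' →
      ∃ φ : LocCoh.H P' j M ≃+ LocCoh.H (P.comap (algebraMap S A)) j M,
        ∀ (r : S) x, φ (algebraMap S A r • x) = r • φ x := by
    rintro P' rfl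
    exact exists_H_restrict_equiv (R' := A) (P.comap (algebraMap S A)) j M
  obtain ⟨φ, hφ⟩ := key P hP
  constructor
  · intro h y
    obtain ⟨s, hs, hsy⟩ := h (φ y)
    exact ⟨algebraMap S A s, hs, φ.injective (by rw [hφ, hsy, map_zero])⟩
  · intro h x
    obtain ⟨y, rfl⟩ := φ.surjective x
    obtain ⟨r, hr, hry⟩ := h y
    obtain ⟨s, rfl⟩ := hsurj r
    exact ⟨s, hr, by rw [← hφ, hry, map_zero]⟩

/-- `H^{j+h}_q(M)_q = 0` implies `H^j_p(M)_p = 0` in a quotient of a regular ring. -/
theorem locZero_of_le (hsurj : Function.Surjective (algebraMap S A)) [Module.Finite A M]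
    (p q : Ideal A) [p.IsPrime] [q.IsPrime] (hpq : p ≤ q) {h j : ℕ}
    (hh : (q.map (Ideal.Quotient.mk p)).height = h) (hq : LocZero q (j + h) M) : LocZero p j M := by
  haveI : Module.Finite S A := Module.Finite.of_surjective (Algebra.linearMap S A) hsurj
  haveI : Module.Finite S M := Module.Finite.trans A M
  rw [← locZero_comap_iff M hsurj p j, ← subsingleton_local_iff_locZero]
  refine subsingleton_local_H_of_le M (p.comap (algebraMap S A)) (q.comap (algebraMap S A))
    (Ideal.comap_mono hpq) ((height_quot_comap (algebraMap S A) hsurj p q).trans hh) ?_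
  rw [subsingleton_local_iff_locZero, locZero_comap_iff M hsurj q (j + h)]
  exact hq

/-- S2929, in degree `i + 1`. -/
theorem finite_H_succ_of_coverHyp_quotient (hsurj : Function.Surjective (algebraMap S A))
    [Module.Finite A M] (I : Ideal A) (i : ℕ) (h : CoverHyp I i M) :
    Module.Finite A (LocCoh.H I (i + 1) M) := by
  haveI : Module.Finite S A := Module.Finite.of_surjective (Algebra.linearMap S A) hsurj
  haveI : Module.Finite S M := Module.Finite.trans A M
  set I' := I.comap (algebraMap S A) with hI'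
  have h' : CoverHyp I' i M := by
    intro p q hp hq hpq hone
    by_cases hker : RingHom.ker (algebraMap S A) ≤ p.asIdeal
    · let p₀ : PrimeSpectrum A := ⟨p.asIdeal.map (algebraMap S A),
        Ideal.map_isPrime_of_surjective hsurj hker⟩
      let q₀ : PrimeSpectrum A := ⟨q.asIdeal.map (algebraMap S A),
        Ideal.map_isPrime_of_surjective hsurj (hker.trans hpq)⟩
      have hcp : p₀.asIdeal.comap (algebraMap S A) = p.asIdeal := by
        rw [Ideal.comap_map_of_surjective' _ hsurj, sup_eq_left.2 hker]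
      have hcq : q₀.asIdeal.comap (algebraMap S A) = q.asIdeal := by
        rw [Ideal.comap_map_of_surjective' _ hsurj, sup_eq_left.2 (hker.trans hpq)]
      have h0 := (locZero_comap_iff (S := S) M hsurj p₀.asIdeal i).2 (h p₀ q₀
        (fun hle => hp (hcp ▸ Ideal.comap_mono hle))
        ((Ideal.map_comap_of_surjective _ hsurj I).ge.trans (Ideal.map_mono hq))
        (Ideal.map_mono hpq)
        (by rw [← height_quot_comap (algebraMap S A) hsurj, hcp, hcq]; exact hone))
      rwa [hcp] at h0
    · obtain ⟨s, hs, hsp⟩ := SetLike.not_le_iff_exists.1 hker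
      exact fun x => ⟨s, hsp, smul_H_eq_zero_of_annihilator _ i
        (fun m => by rw [← algebraMap_smul A s m, show algebraMap S A s = 0 from hs, zero_smul]) x⟩
  have hfin := finite_H_succ_of_coverHyp I' i M h'
  have key : ∀ P' : Ideal A, I'.map (algebraMap S A) = P' →
      ∃ φ : LocCoh.H P' (i + 1) M ≃+ LocCoh.H I' (i + 1) M,
        ∀ (r : S) x, φ (algebraMap S A r • x) = r • φ x := by
    rintro P' rfl
    exact exists_H_restrict_equiv (R' := A) I' (i + 1) M
  obtain ⟨φ, hφ⟩ := key I (Ideal.map_comap_of_surjective _ hsurj I)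
  letI : Module S (LocCoh.H I (i + 1) M) := Module.compHom _ (algebraMap S A)
  haveI : IsScalarTower S A (LocCoh.H I (i + 1) M) := IsScalarTower.of_algebraMap_smul fun _ _ => rfl
  let φl : LocCoh.H I (i + 1) M ≃ₗ[S] LocCoh.H I' (i + 1) M :=
    { φ with map_smul' := fun r x => hφ r x }
  haveI := hfin
  haveI : Module.Finite S (LocCoh.H I (i + 1) M) := Module.Finite.equiv φl.symm
  exact Module.Finite.of_restrictScalars_finite S A _

end Quotient

section Main

variable {S A : Type u} [CommRing S] [IsRegularRing S] [CommRing A] [IsNoetherianRing A]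
  (π : S →+* A) (hπ : Function.Surjective π) (I : Ideal A) (M : Type u) [AddCommGroup M] [Module A M]
  [Module.Finite A M]

include hπ in
theorem locZero_of_le' (p q : Ideal A) [p.IsPrime] [q.IsPrime] (hpq : p ≤ q) {h j : ℕ}
    (hh : (q.map (Ideal.Quotient.mk p)).height = h) (hq : LocZero q (j + h) M) : LocZero p j M := by
  letI : Algebra S A := π.toAlgebra
  letI : Module S M := Module.compHom M π
  haveI : IsScalarTower S A M := IsScalarTower.of_algebraMap_smul fun _ _ => rfl
  exact locZero_of_le (S := S) M hπ p q hpq hh hq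

include hπ in
theorem finite_H_succ_of_coverHyp' (i : ℕ) (h : CoverHyp I i M) :
    Module.Finite A (LocCoh.H I (i + 1) M) := by
  letI : Algebra S A := π.toAlgebra
  letI : Module S M := Module.compHom M π
  haveI : IsScalarTower S A M := IsScalarTower.of_algebraMap_smul fun _ _ => rfl
  exact finite_H_succ_of_coverHyp_quotient (S := S) M hπ I i h

include hπ in
/-- S2929. -/
theorem finite_H_of_stalk_vanishing (i : ℕ)
    (h : ∀ p : PrimeSpectrum A, ¬ I ≤ p.asIdeal → ∀ c j : ℕ, SGA2.relCodim I p = c → j + c = i →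
      Subsingleton (LocCoh.H (maximalIdeal (Localization.AtPrime p.asIdeal)) j
        (LocalizedModule p.asIdeal.primeCompl M))) :
    Module.Finite A (LocCoh.H I i M) := by
  rcases i with _ | i
  · exact H_finite_zero I M
  refine finite_H_succ_of_coverHyp' π hπ I M i fun p q hp hq hpq hone => ?_
  exact (subsingleton_local_iff_locZero p.asIdeal i M).1
    (h p hp 1 i (by simpa using relCodim_eq_one hp hpq hq hone) rfl)

include hπ in
/-- S5164. -/
theorem stalk_vanishing_iff_codim_one (i : ℕ) :
    (∀ p : PrimeSpectrum A, ¬ I ≤ p.asIdeal → ∀ (c j : ℕ), SGA2.relCodim I p = c → j + c = i →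
      Subsingleton (LocCoh.H (maximalIdeal (Localization.AtPrime p.asIdeal)) j
        (LocalizedModule p.asIdeal.primeCompl M))) ↔
    (∀ p : PrimeSpectrum A, ¬ I ≤ p.asIdeal → SGA2.relCodim I p = 1 → ∀ j : ℕ, j + 1 = i →
      Subsingleton (LocCoh.H (maximalIdeal (Localization.AtPrime p.asIdeal)) j
        (LocalizedModule p.asIdeal.primeCompl M))) := by
  refine ⟨fun h p hp h1 j hj => h p hp 1 j (by simpa using h1) hj, fun h p hp c j hc hj => ?_⟩
  have h1 := one_le_relCodim hp
  rw [hc] at h1
  obtain ⟨c, rfl⟩ : ∃ c', c = c' + 1 :=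
    ⟨c - 1, by have : 1 ≤ c := by exact_mod_cast h1
               omega⟩
  obtain ⟨P, q, hpP, hPq, hP, hq, hone, hPh⟩ := exists_cover_of_relCodim hc
  rw [subsingleton_local_iff_locZero]
  refine locZero_of_le' π hπ M p.asIdeal P.asIdeal hpP hPh ?_
  exact (subsingleton_local_iff_locZero P.asIdeal (j + c) M).1
    (h P hP (relCodim_eq_one hP hPq hq hone) (j + c) (by omega))

include hπ in
/-- S2930. -/
theorem finite_H_below_iff_depth (n : ℕ) :
    (∀ i : ℕ, i ≤ n → Module.Finite A (LocCoh.H I i M)) ↔ ∀ p q : PrimeSpectrum A,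
      ¬ I ≤ p.asIdeal → I ≤ q.asIdeal → p ⋖ q → (n : ℕ∞) ≤
        LocCoh.depth (Localization.AtPrime p.asIdeal) (LocalizedModule p.asIdeal.primeCompl M) := by
  refine ⟨fun h p q hp hq hcov => (le_depth_iff_locZero p.asIdeal M n).2 fun j hj =>
    coverHyp_of_finite I M hj h p q hp hq hcov.le
      ((height_quot_eq_one_iff_covBy hcov.le).2 hcov), fun h i hi => ?_⟩
  rcases i with _ | i
  · exact H_finite_zero I M
  refine finite_H_succ_of_coverHyp' π hπ I M i fun p q hp hq hpq hone => ?_
  exact (le_depth_iff_locZero p.asIdeal M n).1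
    (h p q hp hq ((height_quot_eq_one_iff_covBy hpq).1 hone)) i hi

include hπ in
/-- S2931. -/
theorem finite_H_below_iff_relCodim
    (hCM : ∀ p : PrimeSpectrum A, ¬ I ≤ p.asIdeal →
      Subsingleton (LocalizedModule p.asIdeal.primeCompl M) ∨
        LocCoh.IsCohenMacaulayModule (Localization.AtPrime p.asIdeal)
          (LocalizedModule p.asIdeal.primeCompl M)) (n : ℕ) :
    (∀ i : ℕ, i ≤ n → Module.Finite A (LocCoh.H I i M)) ↔ ∀ p : PrimeSpectrum A,
      ¬ I ≤ p.asIdeal → p.asIdeal ∈ (Module.annihilator A M).minimalPrimes →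
        (n : ℕ∞) < SGA2.relCodim I p := by
  rw [finite_H_below_iff_depth π hπ I M n]
  have hiff : (∀ p q : PrimeSpectrum A, ¬ I ≤ p.asIdeal → I ≤ q.asIdeal → p ⋖ q → (n : ℕ∞) ≤
      LocCoh.depth (Localization.AtPrime p.asIdeal) (LocalizedModule p.asIdeal.primeCompl M)) ↔
      ∀ p : PrimeSpectrum A, ¬ I ≤ p.asIdeal → (n : ℕ∞) <
        LocCoh.depth (Localization.AtPrime p.asIdeal) (LocalizedModule p.asIdeal.primeCompl M) +
          SGA2.relCodim I p := by
    rw [depth_gt_sub_codim_iff]
    refine ⟨fun h p hp h1 => ?_, fun h p q hp hq hcov =>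
      h p hp (relCodim_eq_one hp hcov.le hq ((height_quot_eq_one_iff_covBy hcov.le).2 hcov))⟩
    obtain ⟨q, hpq, hIq, hqh⟩ := exists_of_relCodim_eq (c := 1) (by simpa using h1)
    exact h p q hp hIq ((height_quot_eq_one_iff_covBy hpq).1 (by simpa using hqh))
  rw [hiff]
  constructor
  · intro h p hp hmin
    have h1 := h p hp
    have hne : Nontrivial (LocalizedModule p.asIdeal.primeCompl M) :=
      Module.mem_support_iff.1 (Module.mem_support_iff_of_finite.2 hmin.1.2)
    haveI : Module.Finite (Localization.AtPrime p.asIdeal) (LocalizedModule p.asIdeal.primeCompl M) :=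
      Module.Finite.of_isLocalizedModule p.asIdeal.primeCompl
        (LocalizedModule.mkLinearMap p.asIdeal.primeCompl M)
    haveI : IsNoetherianRing (Localization.AtPrime p.asIdeal) :=
      IsLocalization.isNoetherianRing p.asIdeal.primeCompl _ inferInstance
    haveI : Subsingleton (Module.support (Localization.AtPrime p.asIdeal)
        (LocalizedModule p.asIdeal.primeCompl M)) := by
      refine ⟨fun a b => Subtype.ext ?_⟩
      suffices H : ∀ Q ∈ Module.support (Localization.AtPrime p.asIdeal)
          (LocalizedModule p.asIdeal.primeCompl M),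
          PrimeSpectrum.comap (algebraMap A (Localization.AtPrime p.asIdeal)) Q = p from
        PrimeSpectrum.localization_comap_injective (Localization.AtPrime p.asIdeal)
          p.asIdeal.primeCompl ((H a.1 a.2).trans (H b.1 b.2).symm)
      intro Q hQ
      have h2 := Module.mem_support_iff_of_finite.1 ((support_localization p.asIdeal Q).1 hQ)
      have h3 : (PrimeSpectrum.comap (algebraMap A (Localization.AtPrime p.asIdeal)) Q).asIdeal ≤
          p.asIdeal := by
        intro a ha
        by_contra hap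
        exact Q.isPrime.ne_top (Ideal.eq_top_of_isUnit_mem _ ha
          (IsLocalization.map_units _ (⟨a, hap⟩ : p.asIdeal.primeCompl)))
      exact le_antisymm h3 (hmin.2 ⟨PrimeSpectrum.isPrime _, h2⟩ h3)
    have hd : LocCoh.depth (Localization.AtPrime p.asIdeal)
        (LocalizedModule p.asIdeal.primeCompl M) = 0 := by
      have h4 := (depth_le_supportDim (R := Localization.AtPrime p.asIdeal)
        (M := LocalizedModule p.asIdeal.primeCompl M)).trans Order.krullDim_nonpos_of_subsingleton
      rw [← WithBot.coe_zero, WithBot.coe_le_coe] at h4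
      exact nonpos_iff_eq_zero.1 h4
    rwa [hd, zero_add] at h1
  · intro h p hp
    rcases hCM p hp with hsub | hcm
    · have htop : LocCoh.depth (Localization.AtPrime p.asIdeal)
          (LocalizedModule p.asIdeal.primeCompl M) = ⊤ := idealDepth_eq_top (Subsingleton.elim _ _)
      rw [htop, top_add]
      exact ENat.coe_lt_top n
    rcases eq_or_ne (SGA2.relCodim I p) ⊤ with htop | hne
    · rw [htop, add_top]
      exact ENat.coe_lt_top n
    obtain ⟨c, hc⟩ := ENat.ne_top_iff_exists.1 hne
    obtain ⟨q, hpq, hIq, hqh⟩ := exists_of_relCodim_eq hc.symm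
    haveI : Module.Finite (Localization.AtPrime p.asIdeal) (LocalizedModule p.asIdeal.primeCompl M) :=
      Module.Finite.of_isLocalizedModule p.asIdeal.primeCompl
        (LocalizedModule.mkLinearMap p.asIdeal.primeCompl M)
    haveI : IsNoetherianRing (Localization.AtPrime p.asIdeal) :=
      IsLocalization.isNoetherianRing p.asIdeal.primeCompl _ inferInstance
    haveI hnt := nontrivial_of_isCohenMacaulayModule hcm
    have hsupp : p ∈ Module.support A M := Module.mem_support_iff.2 hnt
    obtain ⟨p₀, hp₀, hp₀p⟩ := Ideal.exists_minimalPrimes_le (Module.mem_support_iff_of_finite.1 hsupp)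
    haveI := hp₀.isPrime
    let P₀ : PrimeSpectrum A := ⟨p₀, hp₀.isPrime⟩
    have hdim : ((p.asIdeal.map (Ideal.Quotient.mk p₀)).height : WithBot ℕ∞) ≤
        Module.supportDim (Localization.AtPrime p.asIdeal) (LocalizedModule p.asIdeal.primeCompl M) := by
      rw [← ringKrullDim_localization_quotient (s := p.asIdeal) (p := p₀) hp₀p,
        ← Module.supportDim_quotient_eq_ringKrullDim]
      refine Order.krullDim_le_of_strictMono (Set.inclusion ?_) fun _ _ hab => hab
      intro Q hQ
      rw [Module.support_eq_zeroLocus, Ideal.annihilator_quotient, PrimeSpectrum.mem_zeroLocus] at hQ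
      refine (support_localization p.asIdeal Q).2 (Module.mem_support_mono (p := P₀) ?_
        (Module.mem_support_iff_of_finite.2 hp₀.1.2))
      exact fun a ha => hQ (Ideal.mem_map_of_mem _ ha)
    rw [hcm, WithBot.coe_le_coe] at hdim
    have hlt := h P₀ (fun hle => hp (hle.trans hp₀p)) hp₀
    have hsum := height_quot_add π hπ (p := p₀) (q := p.asIdeal) (r := q.asIdeal) hp₀p hpq
    refine hlt.trans_le ((relCodim_le (show P₀ ≤ q from hp₀p.trans hpq) hIq).trans ?_)
    refine hsum.ge.trans ?_
    rw [hqh, hc]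
    exact add_le_add hdim le_rfl

end Main

section Local

variable {S A : Type u} [CommRing S] [IsRegularLocalRing S] [CommRing A] [IsLocalRing A]
  [IsNoetherianRing A] (π : S →+* A) (hπ : Function.Surjective π) (M : Type u) [AddCommGroup M]
  [Module A M] [Module.Finite A M]

theorem isRegularRing_of_regularLocal (R : Type u) [CommRing R] [IsRegularLocalRing R] :
    IsRegularRing R :=
  isRegularRing_iff.2 fun p _ => Groth.Agent.S0564.result R p

theorem height_map_maximalIdeal_eq {p : PrimeSpectrum A} {e : ℕ}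
    (he : ringKrullDim (A ⧸ p.asIdeal) = e) :
    ((maximalIdeal A).map (Ideal.Quotient.mk p.asIdeal)).height = e := by
  haveI := Groth.L01.isLocalRing_quotient (I := p.asIdeal) p.2.ne_top
  rw [← maximalIdeal_height_eq_ringKrullDim, Groth.L01.maximalIdeal_quotient_eq_map] at he
  exact_mod_cast he

omit [IsNoetherianRing A] in
theorem map_comap_maximalIdeal (π : S →+* A) (hπ : Function.Surjective π) :
    (maximalIdeal A).comap π = maximalIdeal S :=
  eq_maximalIdeal (Ideal.comap_isMaximal_of_surjective _ hπ)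

include hπ in
/-- S2934. -/
theorem isFiniteLength_H_iff (i : ℕ) :
    IsFiniteLength A (LocCoh.H (maximalIdeal A) i M) ↔ ∀ p : PrimeSpectrum A,
      p.asIdeal ≠ maximalIdeal A → ∀ (e j : ℕ), ringKrullDim (A ⧸ p.asIdeal) = e → j + e = i →
        Subsingleton (LocCoh.H (maximalIdeal (Localization.AtPrime p.asIdeal)) j
          (LocalizedModule p.asIdeal.primeCompl M)) := by
  haveI := isRegularRing_of_regularLocal S
  letI : Algebra S A := π.toAlgebra
  letI : Module S M := Module.compHom M π
  haveI : IsScalarTower S A M := IsScalarTower.of_algebraMap_smul fun _ _ => rfl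
  haveI : Module.Finite S A := Module.Finite.of_surjective (Algebra.linearMap S A) hπ
  haveI : Module.Finite S M := Module.Finite.trans A M
  constructor
  · intro hfl p hp e j he hje
    obtain ⟨hN, hAr⟩ := isFiniteLength_iff_isNoetherian_isArtinian.1 hfl
    obtain ⟨K, hK⟩ := exists_pow_smul_eq_zero_of_finite (maximalIdeal A)
      (H := LocCoh.H (maximalIdeal A) i M)
      (isPowerTorsion_H (maximalIdeal A) i (ModuleCat.of A M))
    rw [subsingleton_local_iff_locZero, ← locZero_comap_iff (S := S) M hπ,
      ← subsingleton_local_iff_locZero]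
    set p' := p.asIdeal.comap (algebraMap S A) with hp'
    obtain ⟨d, hd⟩ := ENat.ne_top_iff_exists.1 (Ideal.height_ne_top
      (Ideal.IsPrime.ne_top (inferInstance : p'.IsPrime)) : p'.height ≠ ⊤)
    rcases Nat.lt_or_ge d j with hdj | hdj
    · exact subsingleton_local_H_of_height_lt M p' hd.symm hdj
    have hle : p' ≤ maximalIdeal S := le_maximalIdeal (Ideal.IsPrime.ne_top inferInstance)
    have hh : ((maximalIdeal S).map (Ideal.Quotient.mk p')).height = e := by
      rw [← map_comap_maximalIdeal π hπ]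
      exact (height_quot_comap π hπ p.asIdeal (maximalIdeal A)).trans (height_map_maximalIdeal_eq he)
    have hsum := height_add_height_quotient p' (maximalIdeal S) hle
    rw [← hd, hh, ← Nat.cast_add] at hsum
    have hD : ringKrullDim S = (d + e : ℕ) := by
      rw [← maximalIdeal_height_eq_ringKrullDim, ← hsum]
      rfl
    rw [subsingleton_local_H_iff_ext M p' hd.symm j hdj]
    rw [LocalizedModule.subsingleton_iff]
    obtain ⟨c, hcm, hcp⟩ := SetLike.not_le_iff_exists.1
      (fun h => hp (le_antisymm (le_maximalIdeal p.2.ne_top) h) :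
        ¬ maximalIdeal A ≤ p.asIdeal)
    obtain ⟨c, rfl⟩ := hπ c
    intro z
    refine ⟨c ^ K, fun hmem => hcp ((Ideal.IsPrime.mem_of_pow_mem inferInstance K hmem :)), ?_⟩
    have key : ∀ P' : Ideal A, (maximalIdeal S).map (algebraMap S A) = P' →
        (∀ x : LocCoh.H P' i M, algebraMap S A (c ^ K) • x = 0) →
        ∀ x : LocCoh.H (maximalIdeal S) i M, c ^ K • x = 0 := by
      rintro P' rfl hkill x
      obtain ⟨φ, hφ⟩ := exists_H_restrict_equiv (R' := A) (maximalIdeal S) i M
      obtain ⟨y, rfl⟩ := φ.surjective x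
      rw [← hφ, hkill, map_zero]
    have hkillS := key (maximalIdeal A)
      (by rw [← map_comap_maximalIdeal π hπ]; exact Ideal.map_comap_of_surjective π hπ _)
      (fun x => hK _ (by rw [map_pow]; exact Ideal.pow_mem_pow hcm K) x)
    have hann := annihilator_H_eq_ext M hD i (by omega)
    rw [show d + e - i = d - j by omega] at hann
    exact Module.mem_annihilator.1 (hann ▸ Module.mem_annihilator.2 hkillS) z
  · intro h
    haveI : Module.Finite A (LocCoh.H (maximalIdeal A) i M) := by
      rcases i with _ | i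
      · exact H_finite_zero _ M
      refine finite_H_succ_of_coverHyp' π hπ (maximalIdeal A) M i fun p q hp hq hpq hone => ?_
      have hqm : q.asIdeal = maximalIdeal A := le_antisymm (le_maximalIdeal q.2.ne_top) hq
      rw [hqm] at hone
      refine (subsingleton_local_iff_locZero p.asIdeal i M).1
        (h p (fun he => hp he.ge) 1 i ?_ rfl)
      haveI := Groth.L01.isLocalRing_quotient (I := p.asIdeal) p.2.ne_top
      rw [← maximalIdeal_height_eq_ringKrullDim, Groth.L01.maximalIdeal_quotient_eq_map, hone]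
      rfl
    haveI := isArtinian_H_maximalIdeal (R := A) i M
    exact isFiniteLength_iff_isNoetherian_isArtinian.2
      ⟨isNoetherian_of_isNoetherianRing_of_finite A _, inferInstance⟩

include hπ in
/-- S5167. -/
theorem isFiniteLength_H_below_iff (n : ℕ) :
    (∀ i : ℕ, i ≤ n → IsFiniteLength A (LocCoh.H (maximalIdeal A) i M)) ↔ ∀ p : PrimeSpectrum A,
      p.asIdeal ≠ maximalIdeal A → ∀ e : ℕ, ringKrullDim (A ⧸ p.asIdeal) = e → (n : ℕ∞) <
        LocCoh.depth (Localization.AtPrime p.asIdeal) (LocalizedModule p.asIdeal.primeCompl M) + e := by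
  simp only [isFiniteLength_H_iff π hπ M]
  constructor
  · intro h p hp e he
    rcases Nat.lt_or_ge n e with hne | hne
    · exact lt_of_lt_of_le (show (n : ℕ∞) < e by exact_mod_cast hne) le_add_self
    have h1 := (le_depth_iff_locZero p.asIdeal M (n - e + 1)).2 fun j hj =>
      (subsingleton_local_iff_locZero p.asIdeal j M).1 (h (j + e) (by omega) p hp e j he rfl)
    refine lt_of_lt_of_le ?_ (add_le_add h1 le_rfl)
    exact_mod_cast (by omega : n < n - e + 1 + e)
  · intro h i hi p hp e j he hje
    rw [subsingleton_local_iff_locZero]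
    refine (le_depth_iff_locZero p.asIdeal M (j + 1)).1 ?_ j j.lt_succ_self
    have h1 := h p hp e he
    generalize LocCoh.depth (Localization.AtPrime p.asIdeal)
      (LocalizedModule p.asIdeal.primeCompl M) = D at h1 ⊢
    induction D with
    | top => exact le_top
    | coe D =>
      have h2 : n < D + e := by exact_mod_cast h1
      exact_mod_cast (by omega : j + 1 ≤ D)

end Local

end Groth.L04.LC
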