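import Groth.Agent.L04.LC.Hmap

/-!
# The Mayer–Vietoris sequence for local cohomology

`H^i_{I+J} → H^i_I ⊕ H^i_J → H^i_{I∩J} → H^{i+1}_{I+J}`.
-/

universe u

open CategoryTheory Limits Abelian Opposite

noncomputable section

namespace Groth.L04.LC.MV

variable {R : Type u} [CommRing R]

/-- The cyclic module `R ⧸ A`. -/
abbrev Q (A : Ideal R) : ModuleCat.{u} R := ModuleCat.of R (R ⧸ A)

/-- The projection between cyclic modules. -/
abbrev fq {A B : Ideal R} (h : A ≤ B) : Q A ⟶ Q B := ModuleCat.ofHom (Submodule.factor h)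

theorem fq_mk {A B : Ideal R} (h : A ≤ B) (r : R) :
    (fq h).hom (Submodule.Quotient.mk r) = Submodule.Quotient.mk r := rfl

theorem fq_comp {A B C : Ideal R} (h : A ≤ B) (h' : B ≤ C) : fq h ≫ fq h' = fq (h.trans h') := by
  refine ModuleCat.hom_ext (LinearMap.ext fun x => ?_)
  obtain ⟨r, rfl⟩ := Submodule.Quotient.mk_surjective _ x
  rfl

theorem fq_refl {A : Ideal R} (h : A ≤ A) : fq h = 𝟙 (Q A) := by
  refine ModuleCat.hom_ext (LinearMap.ext fun x => ?_)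
  obtain ⟨r, rfl⟩ := Submodule.Quotient.mk_surjective _ x
  rfl

/-- Precomposition on `Ext`. -/
def pre {X Y : ModuleCat.{u} R} (f : X ⟶ Y) (i : ℕ) (M : ModuleCat.{u} R) :
    Ext Y M i →ₗ[R] Ext X M i where
  toFun a := (Ext.mk₀ f).comp a (zero_add i)
  map_add' a b := Ext.comp_add _ a b _
  map_smul' r a := by simp only [RingHom.id_apply, Ext.comp_smul]

variable {i : ℕ} {M : ModuleCat.{u} R}

theorem pre_pre {X Y Z : ModuleCat.{u} R} (f : X ⟶ Y) (g : Y ⟶ Z) (a : Ext Z M i) :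
    pre f i M (pre g i M a) = pre (f ≫ g) i M a := by
  show (Ext.mk₀ f).comp ((Ext.mk₀ g).comp a (zero_add i)) (zero_add i) = _
  rw [Ext.mk₀_comp_mk₀_assoc]
  rfl

theorem pre_fq_fq {A B C : Ideal R} (h : A ≤ B) (h' : B ≤ C) (a : Ext (Q C) M i) :
    pre (fq h) i M (pre (fq h') i M a) = pre (fq (h.trans h')) i M a := by rw [pre_pre, fq_comp]

theorem pre_id {X : ModuleCat.{u} R} (a : Ext X M i) : pre (𝟙 X) i M a = a := Ext.mk₀_id_comp a

theorem pre_fq_refl {A : Ideal R} (h : A ≤ A) (a : Ext (Q A) M i) : pre (fq h) i M a = a := by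
  rw [fq_refl, pre_id]

theorem pre_add {X Y : ModuleCat.{u} R} (f g : X ⟶ Y) (a : Ext Y M i) :
    pre (f + g) i M a = pre f i M a + pre g i M a := by
  show (Ext.mk₀ (f + g)).comp a (zero_add i) = _
  rw [Ext.mk₀_add, Ext.add_comp]
  rfl

theorem pre_zero {X Y : ModuleCat.{u} R} (a : Ext Y M i) : pre (0 : X ⟶ Y) i M a = 0 := by
  show (Ext.mk₀ (0 : X ⟶ Y)).comp a (zero_add i) = _
  rw [Ext.mk₀_zero, Ext.zero_comp]

theorem pre_neg {X Y : ModuleCat.{u} R} (f : X ⟶ Y) (a : Ext Y M i) :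
    pre (-f) i M a = -pre f i M a :=
  eq_neg_of_add_eq_zero_left (by rw [← pre_add, neg_add_cancel, pre_zero])

section Classes

variable (I : Ideal R) (i) (M)

/-- The class of an element of `Ext^i(R ⧸ A, M)`, for an `I`-open ideal `A`. -/
def cl {A : Ideal R} (h : ∃ n, I ^ n ≤ A) : Ext (Q A) M i →ₗ[R] (localCohomology I i).obj M :=
  (Hι I i h.choose M).comp (pre (fq h.choose_spec) i M)

variable {i M}

theorem cl_eq {A : Ideal R} (h : ∃ n, I ^ n ≤ A) {n : ℕ} (hn : I ^ n ≤ A) (a : Ext (Q A) M i) :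
    cl i M I h a = Hι I i n M (pre (fq hn) i M a) := by
  show Hι I i h.choose M (pre (fq h.choose_spec) i M a) = _
  rw [← Hι_map I i (le_max_left h.choose n), ← Hι_map I i (le_max_right h.choose n)]
  congr 1
  exact (pre_fq_fq (Ideal.pow_le_pow_right (le_max_left h.choose n)) h.choose_spec a).trans
    (pre_fq_fq (Ideal.pow_le_pow_right (le_max_right h.choose n)) hn a).symm

theorem cl_pre {A B : Ideal R} (hAB : A ≤ B) (hA : ∃ n, I ^ n ≤ A) (hB : ∃ n, I ^ n ≤ B)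
    (b : Ext (Q B) M i) : cl i M I hA (pre (fq hAB) i M b) = cl i M I hB b := by
  obtain ⟨n, hn⟩ := hA
  rw [cl_eq I _ hn, cl_eq I hB (hn.trans hAB), pre_fq_fq]

theorem cl_surjective (x : (localCohomology I i).obj M) :
    ∃ (n : ℕ) (a : Ext (Q (I ^ n)) M i), cl i M I ⟨n, le_rfl⟩ a = x := by
  obtain ⟨n, a, rfl⟩ := Hι_surjective I i M x
  exact ⟨n, a, by rw [cl_eq I _ (le_refl (I ^ n)), pre_fq_refl]⟩

theorem cl_eq_zero {A : Ideal R} {h : ∃ n, I ^ n ≤ A} {a : Ext (Q A) M i} (ha : cl i M I h a = 0) :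
    ∃ n, I ^ n ≤ A ∧ ∀ (B : Ideal R) (_ : B ≤ I ^ n) (hBA : B ≤ A), pre (fq hBA) i M a = 0 := by
  obtain ⟨n, hn⟩ := h
  rw [cl_eq I _ hn, Hι_eq_zero_iff] at ha
  obtain ⟨m, hnm, hm⟩ := ha
  refine ⟨m, (Ideal.pow_le_pow_right hnm).trans hn, fun B hB hBA => ?_⟩
  have h0 : pre (fq (Ideal.pow_le_pow_right hnm)) i M (pre (fq hn) i M a) = 0 := hm
  rw [pre_fq_fq] at h0
  rw [show fq hBA = fq hB ≫ fq ((Ideal.pow_le_pow_right hnm).trans hn) from (fq_comp _ _).symm,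
    ← pre_pre, h0, map_zero]

theorem qmap_eq {I' : Ideal R} (h : I ≤ I') (n : ℕ) : qmap h n = fq (Ideal.pow_right_mono h n) := by
  refine ModuleCat.hom_ext (LinearMap.ext fun x => ?_)
  obtain ⟨r, rfl⟩ := Submodule.Quotient.mk_surjective _ x
  exact qmap_apply h n r

theorem Hmap_cl {I' : Ideal R} (h : I ≤ I') {A : Ideal R} (hA' : ∃ n, I' ^ n ≤ A) (hA : ∃ n, I ^ n ≤ A)
    (a : Ext (Q A) M i) : Hmap h i M (cl i M I' hA' a) = cl i M I hA a := by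
  obtain ⟨n, hn⟩ := hA'
  rw [cl_eq I' _ hn, Hmap_Hι, cl_eq I hA ((Ideal.pow_right_mono h n).trans hn), qmap_eq I h]
  congr 1
  exact pre_fq_fq _ _ a

end Classes

attribute [irreducible] cl

section Sequence

variable (A B : Ideal R)

/-- `R ⧸ A × R ⧸ B`. -/
abbrev QQ : ModuleCat.{u} R := ModuleCat.of R ((R ⧸ A) × (R ⧸ B))

/-- The left map. -/
def mvf : Q (A ⊓ B) ⟶ QQ A B :=
  ModuleCat.ofHom ((Submodule.factor (inf_le_left : A ⊓ B ≤ A)).prod (Submodule.factor inf_le_right))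

/-- The right map. -/
def mvg : QQ A B ⟶ Q (A ⊔ B) :=
  ModuleCat.ofHom ((Submodule.factor (le_sup_left : A ≤ A ⊔ B)) ∘ₗ LinearMap.fst R (R ⧸ A) (R ⧸ B) -
    (Submodule.factor (le_sup_right : B ≤ A ⊔ B)) ∘ₗ LinearMap.snd R (R ⧸ A) (R ⧸ B))

/-- The first inclusion. -/
def inA : Q A ⟶ QQ A B := ModuleCat.ofHom (LinearMap.inl R (R ⧸ A) (R ⧸ B))

/-- The second inclusion. -/
def inB : Q B ⟶ QQ A B := ModuleCat.ofHom (LinearMap.inr R (R ⧸ A) (R ⧸ B))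

/-- The first projection. -/
def prA : QQ A B ⟶ Q A := ModuleCat.ofHom (LinearMap.fst R (R ⧸ A) (R ⧸ B))

/-- The second projection. -/
def prB : QQ A B ⟶ Q B := ModuleCat.ofHom (LinearMap.snd R (R ⧸ A) (R ⧸ B))

theorem inA_mvg : inA A B ≫ mvg A B = fq le_sup_left := by
  refine ModuleCat.hom_ext (LinearMap.ext fun x => ?_)
  obtain ⟨r, rfl⟩ := Submodule.Quotient.mk_surjective _ x
  simp [inA, mvg]

theorem inB_mvg : inB A B ≫ mvg A B = -fq le_sup_right := by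
  refine ModuleCat.hom_ext (LinearMap.ext fun x => ?_)
  obtain ⟨r, rfl⟩ := Submodule.Quotient.mk_surjective _ x
  simp [inB, mvg]

theorem mvf_prA : mvf A B ≫ prA A B = fq inf_le_left := rfl

theorem mvf_prB : mvf A B ≫ prB A B = fq inf_le_right := rfl

theorem inA_prA : inA A B ≫ prA A B = 𝟙 _ := rfl

theorem inB_prB : inB A B ≫ prB A B = 𝟙 _ := rfl

theorem inA_prB : inA A B ≫ prB A B = 0 := rfl

theorem inB_prA : inB A B ≫ prA A B = 0 := rfl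

theorem total : prA A B ≫ inA A B + prB A B ≫ inB A B = 𝟙 (QQ A B) := by
  refine ModuleCat.hom_ext (LinearMap.ext fun x => ?_)
  simp [inA, inB, prA, prB]

/-- The short complex `R/(A∩B) → R/A × R/B → R/(A+B)`. -/
def mvS : ShortComplex (ModuleCat.{u} R) :=
  ShortComplex.mk (mvf A B) (mvg A B) (by
    refine ModuleCat.hom_ext (LinearMap.ext fun x => ?_)
    obtain ⟨r, rfl⟩ := Submodule.Quotient.mk_surjective _ x
    simp [mvf, mvg])

theorem mvS_shortExact : (mvS A B).ShortExact := by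
  refine ses_shortExact (mvf A B).hom (mvg A B).hom (LinearMap.ker_eq_bot.1 (eq_bot_iff.2 ?_)) ?_ ?_
  · intro x hx
    obtain ⟨r, rfl⟩ := Submodule.Quotient.mk_surjective _ x
    rw [LinearMap.mem_ker] at hx
    have h1 := congrArg Prod.fst hx
    have h2 := congrArg Prod.snd hx
    rw [Submodule.mem_bot]
    exact (Submodule.Quotient.mk_eq_zero _).2
      ⟨(Submodule.Quotient.mk_eq_zero _).1 h1, (Submodule.Quotient.mk_eq_zero _).1 h2⟩
  · intro x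
    obtain ⟨r, rfl⟩ := Submodule.Quotient.mk_surjective _ x
    exact ⟨(Submodule.Quotient.mk r, 0), by simp [mvg]⟩
  · rintro ⟨x, y⟩
    obtain ⟨a, rfl⟩ := Submodule.Quotient.mk_surjective _ x
    obtain ⟨b, rfl⟩ := Submodule.Quotient.mk_surjective _ y
    constructor
    · intro h
      have h' : (Submodule.Quotient.mk (a - b) : R ⧸ (A ⊔ B)) = 0 := by simpa [mvg] using h
      obtain ⟨p, hp, q, hq, hpq⟩ := Submodule.mem_sup.1 ((Submodule.Quotient.mk_eq_zero _).1 h')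
      refine ⟨Submodule.Quotient.mk (a - p), Prod.ext ?_ ?_⟩
      · exact (Submodule.Quotient.eq _).2 (by simpa using hp)
      · refine (Submodule.Quotient.eq _).2 ?_
        show a - p - b ∈ B
        rwa [show a - p - b = q by linear_combination -hpq]
    · rintro ⟨z, hz⟩
      rw [← hz]
      exact LinearMap.congr_fun (ModuleCat.hom_ext_iff.1 (mvS A B).zero) z

variable {A B}

/-- The morphism of short complexes for smaller ideals. -/
def mvMap {A' B' : Ideal R} (hA : A' ≤ A) (hB : B' ≤ B) : mvS A' B' ⟶ mvS A B where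
  τ₁ := fq (inf_le_inf hA hB)
  τ₂ := ModuleCat.ofHom ((Submodule.factor hA).prodMap (Submodule.factor hB))
  τ₃ := fq (sup_le_sup hA hB)
  comm₁₂ := by
    refine ModuleCat.hom_ext (LinearMap.ext fun x => ?_)
    obtain ⟨r, rfl⟩ := Submodule.Quotient.mk_surjective _ x
    rfl
  comm₂₃ := by
    refine ModuleCat.hom_ext (LinearMap.ext fun x => ?_)
    obtain ⟨a, ha⟩ := Submodule.Quotient.mk_surjective _ x.1
    obtain ⟨b, hb⟩ := Submodule.Quotient.mk_surjective _ x.2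
    obtain ⟨x₁, x₂⟩ := x
    subst ha hb
    rfl

variable (A B i M)

/-- The connecting map on `Ext`. -/
def dext : Ext (Q (A ⊓ B)) M i →ₗ[R] Ext (Q (A ⊔ B)) M (i + 1) where
  toFun a := (mvS_shortExact A B).extClass.comp a (Nat.add_comm 1 i)
  map_add' a b := Ext.comp_add _ a b _
  map_smul' r a := by
    show (mvS_shortExact A B).extClass.comp (r • a) _ = r • (mvS_shortExact A B).extClass.comp a _
    exact Ext.comp_smul _ _ _ _

variable {A B i M}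

theorem dext_natural {A' B' : Ideal R} (hA : A' ≤ A) (hB : B' ≤ B) (a : Ext (Q (A ⊓ B)) M i) :
    dext i M A' B' (pre (fq (inf_le_inf hA hB)) i M a) =
      pre (fq (sup_le_sup hA hB)) (i + 1) M (dext i M A B a) := by
  show (mvS_shortExact A' B').extClass.comp ((Ext.mk₀ (mvMap hA hB).τ₁).comp a (zero_add i)) (Nat.add_comm 1 i) =
    (Ext.mk₀ (mvMap hA hB).τ₃).comp ((mvS_shortExact A B).extClass.comp a (Nat.add_comm 1 i)) (zero_add (i + 1))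
  rw [← Ext.comp_assoc _ _ _ (add_zero 1) (zero_add i) (by omega),
    ShortComplex.ShortExact.extClass_naturality (mvS_shortExact A' B') (mvS_shortExact A B) (mvMap hA hB),
    Ext.comp_assoc _ _ _ (zero_add 1) (Nat.add_comm 1 i) (by omega)]

theorem pre_mvg_dext (a : Ext (Q (A ⊓ B)) M i) : pre (mvg A B) (i + 1) M (dext i M A B a) = 0 :=
  (mvS_shortExact A B).comp_extClass_assoc a (Nat.add_comm 1 i)

theorem dext_apply (a : Ext (Q (A ⊓ B)) M i) :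
    dext i M A B a = (mvS_shortExact A B).extClass.comp a (Nat.add_comm 1 i) := rfl

theorem dext_pre_mvf (e : Ext (QQ A B) M i) : dext i M A B (pre (mvf A B) i M e) = 0 :=
  (mvS_shortExact A B).extClass_comp_assoc e (h := Nat.add_comm 1 i)

end Sequence

attribute [irreducible] dext

section Long

variable (I J : Ideal R)

theorem exists_sup_pow_le {A B : Ideal R} (hA : ∃ n, I ^ n ≤ A) (hB : ∃ n, J ^ n ≤ B) :
    ∃ n, (I ⊔ J) ^ n ≤ A ⊔ B := by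
  obtain ⟨a, ha⟩ := hA
  obtain ⟨b, hb⟩ := hB
  exact ⟨a + b, Ideal.sup_pow_add_le_pow_sup_pow.trans (sup_le_sup ha hb)⟩

theorem exists_inf_pow_le {A B : Ideal R} (hA : ∃ n, I ^ n ≤ A) (hB : ∃ n, J ^ n ≤ B) :
    ∃ n, (I ⊓ J) ^ n ≤ A ⊓ B := by
  obtain ⟨a, ha⟩ := hA
  obtain ⟨b, hb⟩ := hB
  exact ⟨max a b, le_inf
    (((Ideal.pow_le_pow_right (le_max_left a b)).trans (Ideal.pow_right_mono inf_le_left a)).trans ha)
    (((Ideal.pow_le_pow_right (le_max_right a b)).trans (Ideal.pow_right_mono inf_le_right b)).trans hb)⟩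

variable (i M)

/-- The connecting map with values in local cohomology. -/
def dH {A B : Ideal R} (hA : ∃ n, I ^ n ≤ A) (hB : ∃ n, J ^ n ≤ B) :
    Ext (Q (A ⊓ B)) M i →ₗ[R] (localCohomology (I ⊔ J) (i + 1)).obj M :=
  (cl (i + 1) M (I ⊔ J) (exists_sup_pow_le I J hA hB)).comp (dext i M A B)

variable {i M}

theorem dH_apply {A B : Ideal R} (hA : ∃ n, I ^ n ≤ A) (hB : ∃ n, J ^ n ≤ B)
    (a : Ext (Q (A ⊓ B)) M i) :
    dH i M I J hA hB a = cl (i + 1) M (I ⊔ J) (exists_sup_pow_le I J hA hB) (dext i M A B a) := rfl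

theorem dH_pre {A B A' B' : Ideal R} (hA : ∃ n, I ^ n ≤ A) (hB : ∃ n, J ^ n ≤ B)
    (hA' : ∃ n, I ^ n ≤ A') (hB' : ∃ n, J ^ n ≤ B') (h : A' ≤ A) (h' : B' ≤ B)
    (a : Ext (Q (A ⊓ B)) M i) :
    dH i M I J hA' hB' (pre (fq (inf_le_inf h h')) i M a) = dH i M I J hA hB a := by
  simp only [dH, LinearMap.comp_apply]
  rw [dext_natural h h', cl_pre]

variable [IsNoetherianRing R]

/-- Artin–Rees: high powers of `I` and `J` meet inside a given power of `I ∩ J`. -/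
theorem exists_pow_inf_pow_le (n : ℕ) : ∃ k, n ≤ k ∧ I ^ k ⊓ J ^ k ≤ (I ⊓ J) ^ n := by
  obtain ⟨c, hc⟩ := Ideal.exists_pow_inf_eq_pow_smul I (J ^ n : Submodule R R)
  refine ⟨c + n, le_add_self, ?_⟩
  have h := hc (c + n) le_self_add
  rw [Nat.add_sub_cancel_left, smul_eq_mul, Ideal.mul_top, smul_eq_mul, smul_eq_mul, Ideal.mul_top] at h
  calc I ^ (c + n) ⊓ J ^ (c + n) ≤ I ^ (c + n) ⊓ J ^ n := inf_le_inf le_rfl (Ideal.pow_le_pow_right le_add_self)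
    _ = I ^ n * (I ^ c ⊓ J ^ n) := h
    _ ≤ I ^ n * J ^ n := Ideal.mul_mono le_rfl inf_le_right
    _ ≤ (I ⊓ J) ^ n := by rw [← mul_pow]; exact Ideal.pow_right_mono Ideal.mul_le_inf n

/-- A bound for `exists_pow_inf_pow_le`. -/
def bnd (n : ℕ) : ℕ := (exists_pow_inf_pow_le I J n).choose

theorem bnd_spec (n : ℕ) : I ^ bnd I J n ⊓ J ^ bnd I J n ≤ (I ⊓ J) ^ n :=
  (exists_pow_inf_pow_le I J n).choose_spec.2

theorem dH_bnd_compat {A B : Ideal R} (hA : ∃ n, I ^ n ≤ A) (hB : ∃ n, J ^ n ≤ B) {C : Ideal R}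
    {n : ℕ} (hn : (I ⊓ J) ^ n ≤ C) (hC : A ⊓ B ≤ C) (a : Ext (Q C) M i) :
    dH i M I J (A := I ^ bnd I J n) (B := J ^ bnd I J n) ⟨_, le_rfl⟩ ⟨_, le_rfl⟩
      (pre (fq ((bnd_spec I J n).trans hn)) i M a) = dH i M I J hA hB (pre (fq hC) i M a) := by
  obtain ⟨α, hα⟩ := hA
  obtain ⟨β, hβ⟩ := hB
  have h1 : ∃ k, I ^ k ≤ I ^ bnd I J n ⊓ A := ⟨max (bnd I J n) α,
    le_inf (Ideal.pow_le_pow_right (le_max_left _ _)) ((Ideal.pow_le_pow_right (le_max_right _ _)).trans hα)⟩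
  have h2 : ∃ k, J ^ k ≤ J ^ bnd I J n ⊓ B := ⟨max (bnd I J n) β,
    le_inf (Ideal.pow_le_pow_right (le_max_left _ _)) ((Ideal.pow_le_pow_right (le_max_right _ _)).trans hβ)⟩
  rw [← dH_pre I J _ _ h1 h2 inf_le_left inf_le_left, ← dH_pre I J _ _ h1 h2 inf_le_right inf_le_right,
    pre_fq_fq, pre_fq_fq]

variable (i M)

theorem mvδ_compat {s t : ℕ} (h : t ≤ s) (a : Ext (Q ((I ⊓ J) ^ t)) M i) :
    dH i M I J (A := I ^ bnd I J s) (B := J ^ bnd I J s) ⟨_, le_rfl⟩ ⟨_, le_rfl⟩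
      (pre (fq (bnd_spec I J s)) i M (pre (fq (Ideal.pow_le_pow_right h)) i M a)) =
    dH i M I J (A := I ^ bnd I J t) (B := J ^ bnd I J t) ⟨_, le_rfl⟩ ⟨_, le_rfl⟩
      (pre (fq (bnd_spec I J t)) i M a) := by
  rw [pre_fq_fq]
  exact (dH_bnd_compat I J ⟨_, le_rfl⟩ ⟨_, le_rfl⟩ (n := t) le_rfl _ a).symm

attribute [irreducible] dH

/-- The Mayer–Vietoris connecting map. -/
def mvδ : (localCohomology (I ⊓ J) i).obj M →ₗ[R] (localCohomology (I ⊔ J) (i + 1)).obj M :=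
  desc R (P (I ⊓ J)) i
    (fun t => (dH i M I J (A := I ^ bnd I J t.unop) (B := J ^ bnd I J t.unop) ⟨_, le_rfl⟩ ⟨_, le_rfl⟩).comp
      (pre (fq (bnd_spec I J t.unop)) i M))
    (fun s t w a => by
      obtain ⟨s⟩ := s
      obtain ⟨t⟩ := t
      rw [show (P (I ⊓ J)).map w = quotMap (I ⊓ J) w.unop.le from map_P (I ⊓ J) w.unop.le]
      exact mvδ_compat i M I J w.unop.le a)

variable {i M}

theorem mvδ_cl {A B : Ideal R} (hA : ∃ n, I ^ n ≤ A) (hB : ∃ n, J ^ n ≤ B)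
    (a : Ext (Q (A ⊓ B)) M i) :
    mvδ i M I J (cl i M (I ⊓ J) (exists_inf_pow_le I J hA hB) a) = dH i M I J hA hB a := by
  obtain ⟨n, hn⟩ := exists_inf_pow_le I J hA hB
  rw [cl_eq _ _ hn]
  show desc R (P (I ⊓ J)) i _ _ (ι R (P (I ⊓ J)) i (op n) M _) = _
  rw [desc_ι]
  show dH i M I J _ _ (pre (fq (bnd_spec I J n)) i M (pre (fq hn) i M a)) = _
  rw [pre_fq_fq, dH_bnd_compat I J hA hB hn le_rfl a, pre_fq_refl]

theorem cl_inf_surjective (x : (localCohomology (I ⊓ J) i).obj M) :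
    ∃ (k : ℕ) (a : Ext (Q (I ^ k ⊓ J ^ k)) M i),
      cl i M (I ⊓ J) (exists_inf_pow_le I J ⟨k, le_rfl⟩ ⟨k, le_rfl⟩) a = x := by
  obtain ⟨n, b, rfl⟩ := cl_surjective (I ⊓ J) x
  exact ⟨bnd I J n, pre (fq (bnd_spec I J n)) i M b, cl_pre _ _ _ _ b⟩

theorem mvδ_Hmap_left (x : (localCohomology I i).obj M) :
    mvδ i M I J (Hmap (inf_le_left : I ⊓ J ≤ I) i M x) = 0 := by
  obtain ⟨n, a, rfl⟩ := cl_surjective I x
  rw [Hmap_cl _ _ _ ⟨n, Ideal.pow_right_mono inf_le_left n⟩,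
    ← cl_pre (I ⊓ J) (inf_le_left : I ^ n ⊓ J ^ n ≤ I ^ n) (exists_inf_pow_le I J ⟨n, le_rfl⟩ ⟨n, le_rfl⟩),
    mvδ_cl I J ⟨n, le_rfl⟩ ⟨n, le_rfl⟩, ← mvf_prA, ← pre_pre]
  rw [dH_apply, dext_pre_mvf, map_zero]

theorem mvδ_Hmap_right (x : (localCohomology J i).obj M) :
    mvδ i M I J (Hmap (inf_le_right : I ⊓ J ≤ J) i M x) = 0 := by
  obtain ⟨n, a, rfl⟩ := cl_surjective J x
  rw [Hmap_cl _ _ _ ⟨n, Ideal.pow_right_mono inf_le_right n⟩,
    ← cl_pre (I ⊓ J) (inf_le_right : I ^ n ⊓ J ^ n ≤ J ^ n) (exists_inf_pow_le I J ⟨n, le_rfl⟩ ⟨n, le_rfl⟩),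
    mvδ_cl I J ⟨n, le_rfl⟩ ⟨n, le_rfl⟩, ← mvf_prB, ← pre_pre]
  rw [dH_apply, dext_pre_mvf, map_zero]

theorem Hmap_left_mvδ (x : (localCohomology (I ⊓ J) i).obj M) :
    Hmap (le_sup_left : I ≤ I ⊔ J) (i + 1) M (mvδ i M I J x) = 0 := by
  obtain ⟨k, a, rfl⟩ := cl_inf_surjective I J x
  rw [mvδ_cl I J ⟨k, le_rfl⟩ ⟨k, le_rfl⟩]
  rw [dH_apply, Hmap_cl _ _ _ ⟨k, le_sup_left⟩,
    ← cl_pre I (le_sup_left : I ^ k ≤ I ^ k ⊔ J ^ k) ⟨k, le_rfl⟩, ← inA_mvg, ← pre_pre, pre_mvg_dext,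
    map_zero, map_zero]

theorem Hmap_right_mvδ (x : (localCohomology (I ⊓ J) i).obj M) :
    Hmap (le_sup_right : J ≤ I ⊔ J) (i + 1) M (mvδ i M I J x) = 0 := by
  obtain ⟨k, a, rfl⟩ := cl_inf_surjective I J x
  rw [mvδ_cl I J ⟨k, le_rfl⟩ ⟨k, le_rfl⟩]
  rw [dH_apply, Hmap_cl _ _ _ ⟨k, le_sup_right⟩,
    ← cl_pre J (le_sup_right : J ^ k ≤ I ^ k ⊔ J ^ k) ⟨k, le_rfl⟩,
    show fq (le_sup_right : J ^ k ≤ I ^ k ⊔ J ^ k) = -(inB (I ^ k) (J ^ k) ≫ mvg (I ^ k) (J ^ k)) by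
      rw [inB_mvg, neg_neg], pre_neg, ← pre_pre, pre_mvg_dext, map_zero, neg_zero, map_zero]

/-- Exactness at `H^{i+1}_{I+J}`. -/
theorem exists_mvδ_eq (w : (localCohomology (I ⊔ J) (i + 1)).obj M)
    (h₁ : Hmap (le_sup_left : I ≤ I ⊔ J) (i + 1) M w = 0)
    (h₂ : Hmap (le_sup_right : J ≤ I ⊔ J) (i + 1) M w = 0) : ∃ x, mvδ i M I J x = w := by
  obtain ⟨n, b, rfl⟩ := cl_surjective (I ⊔ J) w
  rw [Hmap_cl _ _ _ ⟨n, Ideal.pow_right_mono le_sup_left n⟩] at h₁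
  rw [Hmap_cl _ _ _ ⟨n, Ideal.pow_right_mono le_sup_right n⟩] at h₂
  obtain ⟨p, hp, hp'⟩ := cl_eq_zero I h₁
  obtain ⟨q, hq, hq'⟩ := cl_eq_zero J h₂
  have hle : I ^ p ⊔ J ^ q ≤ (I ⊔ J) ^ n := sup_le hp hq
  have hg : pre (mvg (I ^ p) (J ^ q)) (i + 1) M (pre (fq hle) (i + 1) M b) = 0 := by
    rw [← pre_id (pre (mvg _ _) (i + 1) M _), ← total, pre_add, ← pre_pre, ← pre_pre,
      pre_pre (inA _ _), inA_mvg, pre_pre (inB _ _), inB_mvg, pre_neg, pre_fq_fq, pre_fq_fq,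
      hp' _ le_rfl, hq' _ le_rfl, map_zero, neg_zero, map_zero, add_zero]
  obtain ⟨a, ha⟩ := Ext.contravariant_sequence_exact₃ (mvS_shortExact (I ^ p) (J ^ q)) M _ hg
    (Nat.add_comm 1 i)
  refine ⟨cl i M (I ⊓ J) (exists_inf_pow_le I J ⟨p, le_rfl⟩ ⟨q, le_rfl⟩) a, ?_⟩
  rw [mvδ_cl I J ⟨p, le_rfl⟩ ⟨q, le_rfl⟩]
  rw [dH_apply, show dext i M (I ^ p) (J ^ q) a = _ from (dext_apply a).trans ha, cl_pre]

/-- Exactness at `H^i_I ⊕ H^i_J`. -/
theorem exists_Hmap_eq (x : (localCohomology I i).obj M) (y : (localCohomology J i).obj M)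
    (h : Hmap (inf_le_left : I ⊓ J ≤ I) i M x = Hmap (inf_le_right : I ⊓ J ≤ J) i M y) :
    ∃ w, Hmap (le_sup_left : I ≤ I ⊔ J) i M w = x ∧ Hmap (le_sup_right : J ≤ I ⊔ J) i M w = y := by
  obtain ⟨m, a, rfl⟩ := cl_surjective I x
  obtain ⟨n, b, rfl⟩ := cl_surjective J y
  have hinf : ∃ k, (I ⊓ J) ^ k ≤ I ^ m ⊓ J ^ n := exists_inf_pow_le I J ⟨m, le_rfl⟩ ⟨n, le_rfl⟩
  rw [Hmap_cl _ _ _ ⟨m, Ideal.pow_right_mono inf_le_left m⟩,
    Hmap_cl _ _ _ ⟨n, Ideal.pow_right_mono inf_le_right n⟩,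
    ← cl_pre (I ⊓ J) (inf_le_left : I ^ m ⊓ J ^ n ≤ I ^ m) hinf,
    ← cl_pre (I ⊓ J) (inf_le_right : I ^ m ⊓ J ^ n ≤ J ^ n) hinf, ← sub_eq_zero, ← map_sub] at h
  obtain ⟨k, hk, hk'⟩ := cl_eq_zero (I ⊓ J) h
  let A : Ideal R := I ^ max m (bnd I J k)
  let B : Ideal R := J ^ max n (bnd I J k)
  have hA : A ≤ I ^ m := Ideal.pow_le_pow_right (le_max_left _ _)
  have hB : B ≤ J ^ n := Ideal.pow_le_pow_right (le_max_left _ _)
  have hz := hk' (A ⊓ B) (le_trans (inf_le_inf (Ideal.pow_le_pow_right (le_max_right _ _))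
    (Ideal.pow_le_pow_right (le_max_right _ _))) (bnd_spec I J k)) (inf_le_inf hA hB)
  rw [map_sub, pre_fq_fq, pre_fq_fq] at hz
  let e : Ext (QQ A B) M i := pre (prA A B) i M (pre (fq hA) i M a) - pre (prB A B) i M (pre (fq hB) i M b)
  have he : pre (mvf A B) i M e = 0 := by
    rw [show e = _ from rfl, map_sub, pre_pre (mvf A B), mvf_prA, pre_pre (mvf A B), mvf_prB,
      pre_fq_fq, pre_fq_fq]
    exact hz
  obtain ⟨c, hc⟩ := Ext.contravariant_sequence_exact₂ (mvS_shortExact A B) M e he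
  change pre (mvg A B) i M c = e at hc
  have h1 : pre (fq (le_sup_left : A ≤ A ⊔ B)) i M c = pre (fq hA) i M a := by
    rw [← inA_mvg, ← pre_pre, hc, show e = _ from rfl, map_sub, pre_pre (inA A B), inA_prA, pre_id,
      pre_pre (inA A B), inA_prB, pre_zero, sub_zero]
  have h2 : pre (fq (le_sup_right : B ≤ A ⊔ B)) i M c = pre (fq hB) i M b := by
    rw [← neg_neg (fq (le_sup_right : B ≤ A ⊔ B)), ← inB_mvg, pre_neg, ← pre_pre, hc, show e = _ from rfl,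
      map_sub, pre_pre (inB A B), inB_prA, pre_zero, pre_pre (inB A B), inB_prB, pre_id, zero_sub, neg_neg]
  refine ⟨cl i M (I ⊔ J) (exists_sup_pow_le I J ⟨_, le_rfl⟩ ⟨_, le_rfl⟩) c, ?_, ?_⟩
  · rw [Hmap_cl _ _ _ ⟨_, le_sup_left⟩, ← cl_pre I le_sup_left ⟨max m (bnd I J k), le_rfl⟩, h1, cl_pre]
  · rw [Hmap_cl _ _ _ ⟨_, le_sup_right⟩, ← cl_pre J le_sup_right ⟨max n (bnd I J k), le_rfl⟩, h2, cl_pre]

/-- Exactness at `H^i_{I∩J}`. -/
theorem exists_sub_eq (z : (localCohomology (I ⊓ J) i).obj M) (h : mvδ i M I J z = 0) :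
    ∃ x y, Hmap (inf_le_left : I ⊓ J ≤ I) i M x - Hmap (inf_le_right : I ⊓ J ≤ J) i M y = z := by
  obtain ⟨k, a, rfl⟩ := cl_inf_surjective I J z
  rw [mvδ_cl I J ⟨k, le_rfl⟩ ⟨k, le_rfl⟩] at h
  rw [dH_apply] at h
  obtain ⟨n, hn, hn'⟩ := cl_eq_zero (I ⊔ J) h
  let A : Ideal R := I ^ max k n
  let B : Ideal R := J ^ max k n
  have hA : A ≤ I ^ k := Ideal.pow_le_pow_right (le_max_left _ _)
  have hB : B ≤ J ^ k := Ideal.pow_le_pow_right (le_max_left _ _)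
  have hU : A ⊔ B ≤ (I ⊔ J) ^ n := sup_le
    ((Ideal.pow_le_pow_right (le_max_right _ _)).trans (Ideal.pow_right_mono le_sup_left n))
    ((Ideal.pow_le_pow_right (le_max_right _ _)).trans (Ideal.pow_right_mono le_sup_right n))
  have hz := hn' _ hU (sup_le_sup hA hB)
  rw [← dext_natural hA hB, dext_apply] at hz
  obtain ⟨e, he⟩ := Ext.contravariant_sequence_exact₁ (mvS_shortExact A B) M _ (Nat.add_comm 1 i) hz
  change pre (mvf A B) i M e = _ at he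
  refine ⟨cl i M I (A := A) ⟨_, le_rfl⟩ (pre (inA A B) i M e),
    cl i M J (A := B) ⟨_, le_rfl⟩ (-pre (inB A B) i M e), ?_⟩
  rw [Hmap_cl _ _ _ ⟨_, Ideal.pow_right_mono inf_le_left _⟩,
    Hmap_cl _ _ _ ⟨_, Ideal.pow_right_mono inf_le_right _⟩, map_neg, sub_neg_eq_add,
    ← cl_pre (I ⊓ J) (inf_le_left : A ⊓ B ≤ A) (exists_inf_pow_le I J ⟨_, le_rfl⟩ ⟨_, le_rfl⟩),
    ← cl_pre (I ⊓ J) (inf_le_right : A ⊓ B ≤ B) (exists_inf_pow_le I J ⟨_, le_rfl⟩ ⟨_, le_rfl⟩),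
    ← map_add, ← mvf_prA, ← mvf_prB, ← pre_pre, ← pre_pre, pre_pre (prA A B), pre_pre (prB A B),
    ← map_add, ← pre_add, total, pre_id, he, cl_pre]

/-- Vanishing consequence. -/
theorem subsingleton_H_sup (N : Type u) [AddCommGroup N] [Module R N]
    (h : Subsingleton (LocCoh.H (I ⊓ J) i N)) (h₁ : Subsingleton (LocCoh.H I (i + 1) N))
    (h₂ : Subsingleton (LocCoh.H J (i + 1) N)) : Subsingleton (LocCoh.H (I ⊔ J) (i + 1) N) := by
  refine subsingleton_of_forall_eq 0 fun w => ?_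
  obtain ⟨x, hx⟩ := exists_mvδ_eq I J (M := ModuleCat.of R N) w (@Subsingleton.elim _ h₁ _ _)
    (@Subsingleton.elim _ h₂ _ _)
  rw [← hx, @Subsingleton.elim _ h x 0, map_zero]

end Long

end Groth.L04.LC.MV
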