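import Groth.Agent.L04.LC.Hmap
import Mathlib.Algebra.Homology.DerivedCategory.Ext.Map
import Mathlib.Algebra.Category.ModuleCat.Localization

/-!
# Localization of local cohomology, naturally in the module
-/

set_option autoImplicit false
set_option linter.style.haveILetI false
universe u

open CategoryTheory Limits Abelian Opposite IsLocalRing

noncomputable section

namespace Groth.L04.LC

variable {R : Type u} [CommRing R] (S : Submonoid R)

/-- Localization of modules. -/
@[simps]
def locF : ModuleCat.{u} R ⥤ ModuleCat.{u} (Localization S) where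
  obj M := ModuleCat.of _ (LocalizedModule S M)
  map f := ModuleCat.ofHom (LocalizedModule.map S f.hom)
  map_id M := by
    ext x
    induction x using LocalizedModule.induction_on with
    | h m s => simp [LocalizedModule.map_mk]
  map_comp f g := by
    ext x
    induction x using LocalizedModule.induction_on with
    | h m s => simp [LocalizedModule.map_mk]

instance : (locF S).Additive where
  map_add {M N} {f g} := by
    refine ModuleCat.hom_ext ?_
    exact map_add (LocalizedModule.map S) f.hom g.hom

theorem locF_map_exact (T : ShortComplex (ModuleCat.{u} R)) (h : T.Exact) : (T.map (locF S)).Exact := by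
  rw [CategoryTheory.ShortComplex.ShortExact.moduleCat_exact_iff_function_exact] at h ⊢
  exact LocalizedModule.map_exact S T.f.hom T.g.hom h

instance : PreservesFiniteLimits (locF S) :=
  by
    have := ((Functor.exact_tfae (locF S)).out 1 3).mp (locF_map_exact S)
    exact this.1

instance : PreservesFiniteColimits (locF S) :=
  by
    have := ((Functor.exact_tfae (locF S)).out 1 3).mp (locF_map_exact S)
    exact this.2

theorem locF_map_smul_id (r : R) (X : ModuleCat.{u} R) :
    (locF S).map (r • 𝟙 X) = algebraMap R (Localization S) r • 𝟙 _ := by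
  refine ModuleCat.hom_ext (LinearMap.ext fun (x : LocalizedModule S X) => ?_)
  induction x using LocalizedModule.induction_on with
  | h m s =>
    refine (LocalizedModule.map_mk S (r • 𝟙 X : X ⟶ X).hom m s).trans ?_
    refine Eq.trans ?_ (algebraMap_smul (Localization S) r (LocalizedModule.mk m s)).symm
    rw [LocalizedModule.smul'_mk]
    rfl

variable (K : Ideal R)

/-- The extended ideal. -/
abbrev KS : Ideal (Localization S) := K.map (algebraMap R (Localization S))

theorem smul_mk_one_eq_zero (n : ℕ) {b : Localization S} (hb : b ∈ KS S K ^ n) :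
    b • LocalizedModule.mk (S := S) (Submodule.Quotient.mk (p := K ^ n) (1 : R)) 1 = 0 := by
  have hle : KS S K ^ n ≤ LinearMap.ker (LinearMap.toSpanSingleton (Localization S) _
      (LocalizedModule.mk (S := S) (Submodule.Quotient.mk (p := K ^ n) (1 : R)) 1)) := by
    rw [← Ideal.map_pow, Ideal.map_le_iff_le_comap]
    intro a ha
    rw [Ideal.mem_comap, LinearMap.mem_ker, LinearMap.toSpanSingleton_apply, algebraMap_smul,
      LocalizedModule.smul'_mk, ← Submodule.Quotient.mk_smul, smul_eq_mul, mul_one,
      (Submodule.Quotient.mk_eq_zero _).2 ha, LocalizedModule.zero_mk]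
  exact hle hb

/-- `B ⧸ (KB)ⁿ → (R ⧸ Kⁿ)_S`. -/
def ρ (n : ℕ) : quot (KS S K) n ⟶ (locF S).obj (quot K n) :=
  ModuleCat.ofHom ((KS S K ^ n).liftQ (LinearMap.toSpanSingleton (Localization S) _
    (LocalizedModule.mk (S := S) (Submodule.Quotient.mk (p := K ^ n) (1 : R)) 1))
      fun _ hb => smul_mk_one_eq_zero S K n hb)

theorem ρ_quotMap {n m : ℕ} (h : n ≤ m) :
    ρ S K m ≫ (locF S).map (quotMap K h) = quotMap (KS S K) h ≫ ρ S K n := by
  refine ModuleCat.hom_ext (Submodule.linearMap_qext _ (LinearMap.ext_ring ?_))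
  change LocalizedModule.map S (quotMap K h).hom ((1 : Localization S) • LocalizedModule.mk _ 1) =
    (1 : Localization S) • LocalizedModule.mk _ 1
  rw [one_smul, one_smul, LocalizedModule.map_mk]
  rfl

variable [IsNoetherianRing R] (i : ℕ)

/-- The level maps. -/
def locLevel (n : ℕ) (M : ModuleCat.{u} R) :
    Ext (quot K n) M i →+ (localCohomology (KS S K) i).obj ((locF S).obj M) :=
  (Hι (KS S K) i n ((locF S).obj M)).toAddMonoidHom.comp
    (((Ext.mk₀ (ρ S K n)).precomp _ (zero_add i)).comp ((locF S).mapExtAddHom _ _ i))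

theorem locLevel_apply (n : ℕ) (M : ModuleCat.{u} R) (a : Ext (quot K n) M i) :
    locLevel S K i n M a =
      Hι (KS S K) i n _ ((Ext.mk₀ (ρ S K n)).comp (a.mapExactFunctor (locF S)) (zero_add i)) := rfl

theorem locLevel_map {n m : ℕ} (h : n ≤ m) (M : ModuleCat.{u} R) (a : Ext (quot K n) M i) :
    locLevel S K i m M ((Ext.mk₀ (quotMap K h)).comp a (zero_add i)) = locLevel S K i n M a := by
  rw [locLevel_apply, locLevel_apply, Ext.mapExactFunctor_comp, Ext.mapExactFunctor_mk₀,
    Ext.mk₀_comp_mk₀_assoc, ρ_quotMap, ← Ext.mk₀_comp_mk₀_assoc, Hι_map]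

theorem locLevel_eq_of_eq {n n' : ℕ} {M : ModuleCat.{u} R} {a : Ext (quot K n) M i}
    {a' : Ext (quot K n') M i} (h : Hι K i n M a = Hι K i n' M a') :
    locLevel S K i n M a = locLevel S K i n' M a' := by
  have h0 : Hι K i (max n n') M ((Ext.mk₀ (quotMap K (le_max_left n n'))).comp a (zero_add i) -
      (Ext.mk₀ (quotMap K (le_max_right n n'))).comp a' (zero_add i)) = 0 := by
    rw [map_sub, Hι_map, Hι_map, h, sub_self]
  obtain ⟨m, hm, hm0⟩ := (Hι_eq_zero_iff K i).1 h0
  have h1 := congrArg (locLevel S K i m M) hm0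
  rw [locLevel_map, map_zero, map_sub, locLevel_map, locLevel_map, sub_eq_zero] at h1
  exact h1

/-- The underlying function of `locH`. -/
def locHFun (M : ModuleCat.{u} R) (x : (localCohomology K i).obj M) :
    (localCohomology (KS S K) i).obj ((locF S).obj M) :=
  locLevel S K i (Hι_surjective K i M x).choose M (Hι_surjective K i M x).choose_spec.choose

theorem locHFun_Hι (n : ℕ) (M : ModuleCat.{u} R) (a : Ext (quot K n) M i) :
    locHFun S K i M (Hι K i n M a) = locLevel S K i n M a :=
  locLevel_eq_of_eq S K i (Hι_surjective K i M _).choose_spec.choose_spec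

theorem locHFun_add (M : ModuleCat.{u} R) (x y : (localCohomology K i).obj M) :
    locHFun S K i M (x + y) = locHFun S K i M x + locHFun S K i M y := by
  obtain ⟨n, a, rfl⟩ := Hι_surjective K i M x
  obtain ⟨n', a', rfl⟩ := Hι_surjective K i M y
  have hz : Hι K i (max n n') M ((Ext.mk₀ (quotMap K (le_max_left n n'))).comp a (zero_add i) +
      (Ext.mk₀ (quotMap K (le_max_right n n'))).comp a' (zero_add i)) = Hι K i n M a + Hι K i n' M a' := by
    rw [map_add, Hι_map, Hι_map]
  refine (congrArg (locHFun S K i M) hz.symm).trans ?_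
  refine (locHFun_Hι S K i (max n n') M _).trans ?_
  refine (map_add (locLevel S K i (max n n') M) _ _).trans ?_
  exact congrArg₂ (· + ·) ((locLevel_map S K i _ M a).trans (locHFun_Hι S K i n M a).symm)
    ((locLevel_map S K i _ M a').trans (locHFun_Hι S K i n' M a').symm)

/-- Localization of local cohomology. -/
def locH (M : ModuleCat.{u} R) :
    (localCohomology K i).obj M →+ (localCohomology (KS S K) i).obj ((locF S).obj M) :=
  AddMonoidHom.mk' (locHFun S K i M) (locHFun_add S K i M)

theorem locH_Hι (n : ℕ) (M : ModuleCat.{u} R) (a : Ext (quot K n) M i) :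
    locH S K i M (Hι K i n M a) = locLevel S K i n M a :=
  locHFun_Hι S K i n M a

theorem locH_smul (M : ModuleCat.{u} R) (r : R) (x : (localCohomology K i).obj M) :
    locH S K i M (r • x) = algebraMap R (Localization S) r • locH S K i M x := by
  obtain ⟨n, a, rfl⟩ := Hι_surjective K i M x
  rw [← map_smul, locH_Hι, locH_Hι, locLevel_apply, locLevel_apply, ← map_smul, ← Ext.comp_smul]
  congr 2
  conv_lhs => rw [← Ext.mk₀_id_comp a, ← Ext.smul_comp, ← Ext.mk₀_smul, Ext.mapExactFunctor_comp,
    Ext.mapExactFunctor_mk₀, locF_map_smul_id, Ext.mk₀_smul, Ext.smul_comp, Ext.mk₀_id_comp]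

theorem locH_natural {M N : ModuleCat.{u} R} (g : M ⟶ N) (x : (localCohomology K i).obj M) :
    locH S K i N (((localCohomology K i).map g).hom x) =
      ((localCohomology (KS S K) i).map ((locF S).map g)).hom (locH S K i M x) := by
  obtain ⟨n, a, rfl⟩ := Hι_surjective K i M x
  rw [map_Hι, locH_Hι, locH_Hι, locLevel_apply, locLevel_apply, map_Hι, Ext.mapExactFunctor_comp,
    Ext.mapExactFunctor_mk₀]
  congr 1
  exact (Ext.comp_assoc_of_third_deg_zero _ _ _ _).symm

theorem locH_Hδ {T : ShortComplex (ModuleCat.{u} R)} (hT : T.ShortExact)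
    (x : (localCohomology K i).obj T.X₃) :
    locH S K (i + 1) T.X₁ (Hδ K hT i x) = Hδ (KS S K) (hT.map_of_exact (locF S)) i (locH S K i T.X₃ x) := by
  obtain ⟨n, a, rfl⟩ := Hι_surjective K i T.X₃ x
  rw [Hδ_Hι, locH_Hι, locH_Hι, locLevel_apply, locLevel_apply]
  refine Eq.trans ?_ (Hδ_Hι (KS S K) (hT.map_of_exact (locF S)) i n _).symm
  rw [Ext.mapExactFunctor_comp, Ext.mapExactFunctor_extClass]
  congr 1
  exact (Ext.comp_assoc _ _ _ (zero_add i) rfl (by omega)).symm

theorem evalZero_locH (M : ModuleCat.{u} R) (x : (localCohomology K 0).obj M) :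
    evalZero (KS S K) ((locF S).obj M) (locH S K 0 M x) = LocalizedModule.mk (evalZero K M x) 1 := by
  obtain ⟨n, a, rfl⟩ := Hι_surjective K 0 M x
  obtain ⟨f, rfl⟩ := Ext.homEquiv₀.symm.surjective a
  change evalZero _ _ (locH S K 0 M (Hι K 0 n M (Ext.mk₀ f))) = LocalizedModule.mk (evalZero K M (Hι K 0 n M (Ext.mk₀ f))) 1
  rw [locH_Hι, locLevel_apply, Ext.mapExactFunctor_mk₀, Ext.mk₀_comp_mk₀, evalZero_Hι, evalZero_Hι]
  change LocalizedModule.map S f.hom ((1 : Localization S) • LocalizedModule.mk _ 1) = _
  rw [one_smul, LocalizedModule.map_mk]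

theorem subsingleton_H_locF_of_injective (E : Type u) [AddCommGroup E] [Module R E]
    (hE : Module.Injective R E) (j : ℕ) :
    Subsingleton ((localCohomology (KS S K) (j + 1)).obj ((locF S).obj (ModuleCat.of R E))) := by
  haveI : Module.Flat R (Localization S) := IsLocalization.flat (Localization S) S
  haveI : IsNoetherianRing (Localization S) := IsLocalization.isNoetherianRing S _ inferInstance
  haveI := subsingleton_H_baseChange_of_injective (R' := Localization S) K E hE j.succ_pos
  exact ((localCohomology (KS S K) (j + 1)).mapIso (tensorLocalizationEquiv S (Localization S) E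
    (LocalizedModule S E) (LocalizedModule.mkLinearMap S E)).toModuleIso).toLinearEquiv.symm.toEquiv.subsingleton

/-- `locH` is a localization: denominators and kernel. -/
theorem locH_spec : ∀ (i : ℕ) (M : Type u) [AddCommGroup M] [Module R M],
    (∀ y, ∃ (x : LocCoh.H K i M) (s : S), algebraMap R (Localization S) s • y = locH S K i (ModuleCat.of R M) x) ∧
      ∀ x : LocCoh.H K i M, locH S K i (ModuleCat.of R M) x = 0 → ∃ s : S, (s : R) • x = 0 := by
  intro i
  induction i with
  | zero =>
    intro M _ _
    refine ⟨fun y => ?_, fun x hx => ?_⟩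
    · classical
      obtain ⟨n, hn⟩ := (H0Equiv (KS S K) ((locF S).obj (ModuleCat.of R M)) y).2
      obtain ⟨w, hy⟩ : ∃ w : LocalizedModule S M,
          evalZero (KS S K) ((locF S).obj (ModuleCat.of R M)) y = w := ⟨_, rfl⟩
      have hw : ∀ b ∈ KS S K ^ n, b • w = 0 := fun b hb =>
        (congrArg (b • ·) hy).symm.trans (hn b hb)
      clear hn
      induction w using LocalizedModule.induction_on with
      | h m t =>
        obtain ⟨G, hG⟩ := IsNoetherian.noetherian (K ^ n)
        have hr : ∀ g : G, ∃ u : S, (u : R) • (g : R) • m = 0 := fun g => by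
          have h := hw (algebraMap R (Localization S) g)
            (by rw [← Ideal.map_pow]; exact Ideal.mem_map_of_mem _ (hG ▸ Submodule.subset_span g.2))
          rw [algebraMap_smul, LocalizedModule.smul'_mk, ← LocalizedModule.zero_mk t,
            LocalizedModule.mk_eq] at h
          obtain ⟨u, hu⟩ := h
          refine ⟨u * t, ?_⟩
          simp only [Submonoid.smul_def, smul_zero] at hu
          rw [Submonoid.coe_mul, mul_smul, hu]
        choose u hu using hr
        let v : S := ∏ g, u g
        have hv : ∀ r ∈ K ^ n, r • (v : R) • m = 0 := by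
          intro r hr
          rw [← hG] at hr
          induction hr using Submodule.span_induction with
          | mem g hg =>
            rw [smul_comm, show v = (∏ g' ∈ Finset.univ.erase (⟨g, hg⟩ : G), u g') * u ⟨g, hg⟩ from
              (Finset.prod_erase_mul _ _ (Finset.mem_univ _)).symm, Submonoid.coe_mul, mul_smul, hu ⟨g, hg⟩,
              smul_zero]
          | zero => rw [zero_smul]
          | add a b _ _ ha hb => rw [add_smul, ha, hb, add_zero]
          | smul c a _ ha => rw [smul_eq_mul, mul_smul, ha, smul_zero]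
        refine ⟨(H0Equiv K (ModuleCat.of R M)).symm ⟨(v : R) • m, ⟨n, hv⟩⟩, v * t, evalZero_injective _ _ ?_⟩
        rw [map_smul, hy, evalZero_locH,
          show evalZero K (ModuleCat.of R M) ((H0Equiv K (ModuleCat.of R M)).symm ⟨(v : R) • m, ⟨n, hv⟩⟩) =
            (v : R) • m from congrArg Subtype.val ((H0Equiv K (ModuleCat.of R M)).apply_symm_apply _)]
        change algebraMap R (Localization S) ((v * t : S) : R) • LocalizedModule.mk m t =
          LocalizedModule.mk ((v : R) • m) 1
        rw [algebraMap_smul, LocalizedModule.smul'_mk, LocalizedModule.mk_eq]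
        exact ⟨1, by simp [Submonoid.smul_def, ← mul_smul, mul_comm]⟩
    · have h := congrArg (evalZero (KS S K) _) hx
      rw [evalZero_locH, map_zero] at h
      have h' : LocalizedModule.mk (evalZero K (ModuleCat.of R M) x) (1 : S) = LocalizedModule.mk 0 1 :=
        h.trans (LocalizedModule.zero_mk (1 : S)).symm
      obtain ⟨u, hu⟩ := LocalizedModule.mk_eq.1 h'
      refine ⟨u, evalZero_injective K _ ?_⟩
      rw [map_smul, map_zero]
      simpa [Submonoid.smul_def] using hu
  | succ i ih =>
    intro M _ _
    obtain ⟨E, _, _, f, hf, hE⟩ := exists_injective_embedding (R := R) M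
    have hS := quotient_shortExact f hf
    have hS' := hS.map_of_exact (locF S)
    obtain ⟨ihs, ihk⟩ := ih (E ⧸ LinearMap.range f)
    have hsurj := Hδ_surjective K hS i (subsingleton_H_injective K E hE i)
    have hsurj' := Hδ_surjective (KS S K) hS' i (subsingleton_H_locF_of_injective S K E hE i)
    refine ⟨fun y => ?_, fun x hx => ?_⟩
    · obtain ⟨q', rfl⟩ := hsurj' y
      obtain ⟨q, s, hq⟩ := ihs q'
      exact ⟨Hδ K hS i q, s, (((Hδ (KS S K) hS' i).map_smul _ q').symm.trans
        (congrArg (Hδ (KS S K) hS' i) hq)).trans (locH_Hδ S K i hS q).symm⟩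
    · obtain ⟨q, rfl⟩ := hsurj x
      obtain ⟨e', he'⟩ := (H_exact₃ (KS S K) hS' i _).1 ((locH_Hδ S K i hS q).symm.trans hx)
      obtain ⟨e, s, he⟩ := (ih E).1 e'
      let g' := ((localCohomology K i).map (ModuleCat.ofHom (LinearMap.range f).mkQ)).hom
      obtain ⟨t, ht⟩ := ihk ((s : R) • q - g' e) (by
        rw [map_sub, locH_smul, sub_eq_zero]
        refine Eq.trans ?_ (locH_natural S K i (ModuleCat.ofHom (LinearMap.range f).mkQ) e).symm
        rw [← he, map_smul]
        exact congrArg (fun z => algebraMap R (Localization S) (s : R) • z) he'.symm)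
      refine ⟨t * s, ?_⟩
      rw [Submonoid.coe_mul, mul_smul, ← map_smul, ← map_smul]
      have h0 : Hδ K hS i (g' e) = 0 := (H_exact₃ K hS i _).2 ⟨e, rfl⟩
      have h1 := congrArg (Hδ K hS i) ht
      rw [map_zero, map_smul, map_sub, h0, sub_zero] at h1
      rwa [map_smul]

end Groth.L04.LC
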