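import Groth.Agent.L04.LC.Nonvanish
import Groth.Prelude.Def_DualLC
import Mathlib.RingTheory.Localization.BaseChange

/-!
# The comparison maps `H^i_{I'} ⟶ H^i_I` and localization at one element

The sequence `H^i_{a+(b)}(M) → H^i_a(M) → H^i_a(M_b) → H^{i+1}_{a+(b)}(M)`.
-/

universe u

open CategoryTheory Limits Abelian Opposite IsLocalRing

namespace Groth.L04.LC

variable {R : Type u} [CommRing R]

section Basic

variable {I I' : Ideal R} (h : I ≤ I')

/-- The comparison map. -/
noncomputable abbrev Hmap (i : ℕ) (M : ModuleCat.{u} R) :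
    (localCohomology I' i).obj M →ₗ[R] (localCohomology I i).obj M :=
  ((Dual2.HmapOfLE h i).app M).hom

/-- The surjection `R ⧸ I ^ n ⟶ R ⧸ I' ^ n`. -/
noncomputable abbrev qmap (n : ℕ) : quot I n ⟶ quot I' n :=
  (Dual2.quotMapOfLE h).app (op n)

theorem qmap_apply (n : ℕ) (r : R) :
    (qmap h n).hom (Submodule.Quotient.mk r) = Submodule.Quotient.mk r := rfl

theorem Hmap_Hι (i n : ℕ) (M : ModuleCat.{u} R) (a : Ext (quot I' n) M i) :
    Hmap h i M (Hι I' i n M a) = Hι I i n M ((Ext.mk₀ (qmap h n)).comp a (zero_add i)) := by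
  let η := Functor.whiskerRight (NatTrans.op (Dual2.quotMapOfLE h))
    (_root_.Ext R (ModuleCat.{u} R) i)
  have h1 : colimit.ι (extDiag R (P I') i) (op (op n)) ≫ colimMap η =
      η.app (op (op n)) ≫ colimit.ι (extDiag R (P I) i) (op (op n)) :=
    ι_colimMap η (op (op n))
  have h2 := LinearMap.congr_fun (ModuleCat.hom_ext_iff.1 (congrArg (fun φ => φ.app M) h1))
    (toDiag R (P I') i (op n) M a)
  have h3 : ((η.app (op (op n))).app M).hom (toDiag R (P I') i (op n) M a) =
      toDiag R (P I) i (op n) M ((Ext.mk₀ (qmap h n)).comp a (zero_add i)) :=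
    extEquiv_naturality_left (R := R) i (qmap h n) M a
  simp only [NatTrans.comp_app, ModuleCat.hom_comp, LinearMap.comp_apply] at h2
  refine h2.trans ?_
  rw [h3]
  rfl

theorem Hmap_natural (i : ℕ) {M N : ModuleCat.{u} R} (g : M ⟶ N) (x) :
    ((localCohomology I i).map g).hom (Hmap h i M x) =
      Hmap h i N (((localCohomology I' i).map g).hom x) :=
  (LinearMap.congr_fun (ModuleCat.hom_ext_iff.1 ((Dual2.HmapOfLE h i).naturality g)) x).symm

theorem evalZero_Hmap (M : ModuleCat.{u} R) (x) :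
    evalZero I M (Hmap h 0 M x) = evalZero I' M x := by
  obtain ⟨n, a, rfl⟩ := Hι_surjective I' 0 M x
  obtain ⟨f, rfl⟩ := Ext.homEquiv₀.symm.surjective a
  change evalZero I M (Hmap h 0 M (Hι I' 0 n M (Ext.mk₀ f))) =
    evalZero I' M (Hι I' 0 n M (Ext.mk₀ f))
  rw [Hmap_Hι, Ext.mk₀_comp_mk₀, evalZero_Hι, evalZero_Hι]
  rfl

theorem Hmap_zero_injective (M : ModuleCat.{u} R) : Function.Injective (Hmap h 0 M) := fun x y hxy =>
  evalZero_injective I' M (by rw [← evalZero_Hmap h M x, hxy, evalZero_Hmap h M y])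

theorem Hmap_Hδ {S : ShortComplex (ModuleCat.{u} R)} (hS : S.ShortExact) (i : ℕ) (x) :
    Hmap h (i + 1) S.X₁ (Hδ I' hS i x) = Hδ I hS i (Hmap h i S.X₃ x) := by
  obtain ⟨n, a, rfl⟩ := Hι_surjective I' i S.X₃ x
  rw [Hδ_Hι, Hmap_Hι, Hmap_Hι, Hδ_Hι, Ext.comp_assoc _ _ _ (zero_add i) rfl (by omega)]

theorem Hmap_trans {I'' : Ideal R} (h' : I' ≤ I'') (i : ℕ) (M : ModuleCat.{u} R) (x) :
    Hmap h i M (Hmap h' i M x) = Hmap (h.trans h') i M x := by
  obtain ⟨n, a, rfl⟩ := Hι_surjective I'' i M x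
  rw [Hmap_Hι, Hmap_Hι, Hmap_Hι, ← Ext.comp_assoc _ _ _ (zero_add 0) (zero_add i) (by omega),
    Ext.mk₀_comp_mk₀]
  have hq : qmap h n ≫ qmap h' n = qmap (h.trans h') n := by
    refine ModuleCat.hom_ext (LinearMap.ext fun z => ?_)
    obtain ⟨z, rfl⟩ := Submodule.Quotient.mk_surjective _ z
    rfl
  rw [hq]

theorem Hmap_refl (i : ℕ) (M : ModuleCat.{u} R) (x) : Hmap (le_refl I) i M x = x := by
  obtain ⟨n, a, rfl⟩ := Hι_surjective I i M x
  rw [Hmap_Hι]
  congr 1
  have : qmap (le_refl I) n = 𝟙 _ := by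
    refine ModuleCat.hom_ext (LinearMap.ext fun z => ?_)
    obtain ⟨z, rfl⟩ := Submodule.Quotient.mk_surjective _ z
    rfl
  rw [this, Ext.mk₀_id_comp]

theorem Hmap_bijective_of_eq (heq : I = I') (i : ℕ) (M : ModuleCat.{u} R) :
    Function.Bijective (Hmap h i M) := by
  subst heq
  rw [show ⇑(Hmap h i M) = id from funext fun x => Hmap_refl i M x]
  exact Function.bijective_id

end Basic

section Loc

variable (b : R)

/-- `M_b` as an `R`-module. -/
abbrev loc (M : Type u) [AddCommGroup M] [Module R M] : Type u :=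
  LocalizedModule (Submonoid.powers b) M

/-- `M → M_b`. -/
noncomputable abbrev locι (M : Type u) [AddCommGroup M] [Module R M] : M →ₗ[R] loc b M :=
  LocalizedModule.mkLinearMap (Submonoid.powers b) M

variable {M N P : Type u} [AddCommGroup M] [Module R M] [AddCommGroup N] [Module R N]
  [AddCommGroup P] [Module R P]

/-- The localization of a linear map. -/
noncomputable abbrev locMap (f : M →ₗ[R] N) : loc b M →ₗ[R] loc b N :=
  IsLocalizedModule.map (Submonoid.powers b) (locι b M) (locι b N) f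

theorem locMap_locι (f : M →ₗ[R] N) (m : M) : locMap b f (locι b M m) = locι b N (f m) :=
  IsLocalizedModule.map_apply _ _ _ f m

theorem loc_shortExact (f : M →ₗ[R] N) (g : N →ₗ[R] P) (hf : Function.Injective f)
    (hg : Function.Surjective g) (hfg : Function.Exact f g) :
    (ses (locMap b f) (locMap b g)
      (IsLocalizedModule.map_exact _ (locι b M) (locι b N) (locι b P) f g hfg).linearMap_comp_eq_zero
        ).ShortExact :=
  ses_shortExact _ _ (IsLocalizedModule.map_injective _ _ _ f hf)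
    (IsLocalizedModule.map_surjective _ _ _ g hg)
    (IsLocalizedModule.map_exact _ (locι b M) (locι b N) (locι b P) f g hfg)

/-- The map of short exact sequences into the localized one. -/
noncomputable def locHom (f : M →ₗ[R] N) (g : N →ₗ[R] P) (h : g.comp f = 0)
    (h' : (locMap b g).comp (locMap b f) = 0) :
    ses f g h ⟶ ses (locMap b f) (locMap b g) h' where
  τ₁ := ModuleCat.ofHom (locι b M)
  τ₂ := ModuleCat.ofHom (locι b N)
  τ₃ := ModuleCat.ofHom (locι b P)
  comm₁₂ := ModuleCat.hom_ext (LinearMap.ext fun m => locMap_locι b f m)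
  comm₂₃ := ModuleCat.hom_ext (LinearMap.ext fun m => locMap_locι b g m)

/-- The map induced on local cohomology by `M → M_b`. -/
noncomputable abbrev Hloc (I : Ideal R) (i : ℕ) (M : Type u) [AddCommGroup M] [Module R M] :
    LocCoh.H I i M →ₗ[R] LocCoh.H I i (loc b M) :=
  ((localCohomology I i).map (ModuleCat.ofHom (locι b M))).hom

theorem Hloc_natural (I : Ideal R) (i : ℕ) (f : M →ₗ[R] N) (x : LocCoh.H I i M) :
    Hloc b I i N (((localCohomology I i).map (ModuleCat.ofHom f)).hom x) =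
      ((localCohomology I i).map (ModuleCat.ofHom (locMap b f))).hom (Hloc b I i M x) := by
  rw [← LinearMap.comp_apply, ← ModuleCat.hom_comp, ← Functor.map_comp, ← LinearMap.comp_apply,
    ← ModuleCat.hom_comp, ← Functor.map_comp]
  congr 3
  exact (ModuleCat.hom_ext (LinearMap.ext fun m => locMap_locι b f m)).symm

theorem bijective_smul_H_loc (I : Ideal R) (i : ℕ) :
    Function.Bijective (fun x : LocCoh.H I i (loc b M) => b • x) :=
  smul_bijective_H I i (bijective_smul_localized b M)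

theorem eq_zero_of_pow_smul_eq_zero (I : Ideal R) (i : ℕ) {x : LocCoh.H I i (loc b M)} {n : ℕ}
    (hx : b ^ n • x = 0) : x = 0 := by
  induction n with
  | zero => simpa using hx
  | succ n ih =>
    refine ih ((bijective_smul_H_loc b I i).1 ?_)
    simp only [smul_zero]
    rw [← mul_smul, ← pow_succ', hx]

variable (a : Ideal R)

/-- The comparison from `a + (b)` to `a`. -/
noncomputable abbrev Hsup (i : ℕ) (M : Type u) [AddCommGroup M] [Module R M] :
    LocCoh.H (a ⊔ Ideal.span {b}) i M →ₗ[R] LocCoh.H a i M :=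
  Hmap (le_sup_left : a ≤ a ⊔ Ideal.span {b}) i (ModuleCat.of R M)

theorem exists_pow_smul_Hsup (i : ℕ) (y : LocCoh.H (a ⊔ Ideal.span {b}) i M) :
    ∃ n : ℕ, b ^ n • y = 0 := by
  obtain ⟨n, hn⟩ := isPowerTorsion_H _ i (ModuleCat.of R M) y
  exact ⟨n, hn _ (Ideal.pow_mem_pow
    (Submodule.mem_sup_right (Ideal.mem_span_singleton_self b)) n)⟩

theorem Hloc_Hsup (i : ℕ) (y : LocCoh.H (a ⊔ Ideal.span {b}) i M) :
    Hloc b a i M (Hsup b a i M y) = 0 := by
  obtain ⟨n, hn⟩ := exists_pow_smul_Hsup b a i y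
  exact eq_zero_of_pow_smul_eq_zero b a i (n := n) (by rw [← map_smul, ← map_smul, hn, map_zero, map_zero])

variable [IsNoetherianRing R]

/-- Localizations of injective modules are acyclic. -/
theorem subsingleton_H_loc_of_injective (E : Type u) [AddCommGroup E] [Module R E]
    (hE : Module.Injective R E) {i : ℕ} (hi : 0 < i) : Subsingleton (LocCoh.H a i (loc b E)) := by
  haveI : IsNoetherianRing (Localization (Submonoid.powers b)) :=
    IsLocalization.isNoetherianRing (Submonoid.powers b) _ inferInstance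
  haveI := subsingleton_H_baseChange_of_injective (R' := Localization (Submonoid.powers b)) a E hE hi
  let e := tensorLocalizationEquiv (Submonoid.powers b) (Localization (Submonoid.powers b)) E
    (loc b E) (locι b E)
  haveI : Subsingleton (LocCoh.H (a.map (algebraMap R (Localization (Submonoid.powers b)))) i (loc b E)) :=
    ((localCohomology _ i).mapIso e.toModuleIso).toLinearEquiv.symm.toEquiv.subsingleton
  exact (subsingleton_H_map_iff (R' := Localization (Submonoid.powers b)) a i (loc b E)).1 ‹_›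

/-- `T → T_b` is surjective for injective `T`. -/
theorem locι_surjective_of_injective (T : Type u) [AddCommGroup T] [Module R T]
    (hT : Module.Injective R T) : Function.Surjective (locι b T) := by
  intro y
  obtain ⟨⟨t, ⟨_, m, rfl⟩⟩, hy⟩ := IsLocalizedModule.surj (Submonoid.powers b) (locι b T) y
  obtain ⟨N, hN⟩ := monotone_stabilizes_iff_noetherian.2 inferInstance
    (⟨fun k => LinearMap.ker (LinearMap.toSpanSingleton R R (b ^ k)), monotone_nat_of_le_succ
      fun k r hr => by
        simp only [LinearMap.mem_ker, LinearMap.toSpanSingleton_apply, smul_eq_mul] at hr ⊢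
        rw [pow_succ, ← mul_assoc, hr, zero_mul]⟩ : ℕ →o Ideal R)
  let L := LinearMap.toSpanSingleton R R (b ^ (N + m))
  let g := LinearMap.toSpanSingleton R T (b ^ N • t)
  have hle : LinearMap.ker L ≤ LinearMap.ker g := by
    intro r hr
    have hr' : r ∈ LinearMap.ker (LinearMap.toSpanSingleton R R (b ^ N)) := by
      have := hN (N + m) (Nat.le_add_right N m)
      exact this.ge hr
    simp only [g, LinearMap.mem_ker, LinearMap.toSpanSingleton_apply, smul_eq_mul] at hr' ⊢
    rw [← mul_smul, hr', zero_smul]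
  haveI := hT
  obtain ⟨h, hh⟩ := Module.Injective.out (Q := T) ((LinearMap.ker L).liftQ L le_rfl)
    (LinearMap.ker_eq_bot.1 (Submodule.ker_liftQ_eq_bot _ _ _ le_rfl))
    ((LinearMap.ker L).liftQ g hle)
  have h1 : b ^ (N + m) • h 1 = b ^ N • t := by
    rw [← map_smul, smul_eq_mul, mul_one]
    refine Eq.trans ?_ ((hh (Submodule.Quotient.mk 1)).trans (one_smul R _))
    exact congrArg h (one_smul R (b ^ (N + m))).symm
  refine ⟨h 1, ?_⟩
  have hinj : ∀ k : ℕ, Function.Injective (fun z : loc b T => b ^ k • z) := fun k =>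
    ((Module.End.isUnit_iff _).1 (IsLocalizedModule.map_units (locι b T)
      (⟨b ^ k, k, rfl⟩ : Submonoid.powers b))).1
  refine hinj (N + m) ?_
  simp only
  rw [← map_smul, h1, map_smul, pow_add, mul_smul]
  congr 1
  exact hy.symm

theorem Hloc_surjective_of_injective (i : ℕ) (E : Type u) [AddCommGroup E] [Module R E]
    (hE : Module.Injective R E) : Function.Surjective (Hloc b a i E) := by
  rcases Nat.eq_zero_or_pos i with rfl | hi
  · intro y
    obtain ⟨n, hn⟩ := (H0Equiv a (ModuleCat.of R (loc b E)) y).2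
    set y0 := evalZero a (ModuleCat.of R (loc b E)) y with hy0
    obtain ⟨⟨e, ⟨_, k, rfl⟩⟩, he⟩ :=
      IsLocalizedModule.surj (Submonoid.powers b) (locι b E) y0
    have hJ : ∀ r ∈ a ^ n, ∃ l : ℕ, ∀ c ∈ (Ideal.span {b}) ^ l, (c * r) • e = 0 := by
      intro r hr
      have h0 : locι b E (r • e) = 0 := by
        rw [map_smul, ← he, smul_comm, show r • y0 = 0 from hn r hr, smul_zero]
      obtain ⟨⟨_, l, rfl⟩, hl⟩ := (IsLocalizedModule.eq_zero_iff (Submonoid.powers b) (locι b E)).1 h0
      refine ⟨l, fun c hc => ?_⟩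
      rw [Ideal.span_singleton_pow, Ideal.mem_span_singleton'] at hc
      obtain ⟨c, rfl⟩ := hc
      rw [mul_smul, mul_smul]
      exact (congrArg (c • ·) hl).trans (smul_zero c)
    obtain ⟨l, hl⟩ := exists_pow_of_forall_exists (IsNoetherian.noetherian (Ideal.span {b}))
      (IsNoetherian.noetherian (a ^ n)) hJ
    let T := powTorsion a E
    have hmem : b ^ l • e ∈ T := mem_powTorsion.2 ⟨n, fun r hr => by
      rw [← mul_smul, mul_comm]
      exact hl _ (Ideal.mul_mem_mul (Ideal.pow_mem_pow (Ideal.mem_span_singleton_self b) l) hr)⟩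
    obtain ⟨u, hu⟩ := locι_surjective_of_injective b T (injective_powTorsion hE a)
      (LocalizedModule.mk ⟨_, hmem⟩ (⟨b ^ (k + l), k + l, rfl⟩ : Submonoid.powers b))
    have hu2 : b ^ (k + l) • locι b E (u : E) = locι b E (b ^ l • e) := by
      have h3 := congrArg (locMap b T.subtype) (congrArg (b ^ (k + l) • ·) hu)
      have h4 : (b ^ (k + l)) • LocalizedModule.mk (⟨_, hmem⟩ : T) (⟨b ^ (k + l), k + l, rfl⟩ : Submonoid.powers b) =
          locι b T ⟨_, hmem⟩ := by
        rw [LocalizedModule.smul'_mk, LocalizedModule.mkLinearMap_apply]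
        exact LocalizedModule.mk_cancel (⟨b ^ (k + l), k + l, rfl⟩ : Submonoid.powers b) _
      rw [map_smul] at h3
      rw [h4, locMap_locι, locMap_locι] at h3
      exact h3
    let x := (H0Equiv a (ModuleCat.of R E)).symm ⟨(u : E), mem_powTorsion.1 u.2⟩
    refine ⟨x, evalZero_injective a _ ?_⟩
    rw [evalZero_natural, ← H0Equiv_apply, LinearEquiv.apply_symm_apply]
    have hinj : Function.Injective (fun z : loc b E => b ^ (k + l) • z) :=
      ((Module.End.isUnit_iff _).1 (IsLocalizedModule.map_units (locι b E)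
        (⟨b ^ (k + l), k + l, rfl⟩ : Submonoid.powers b))).1
    refine hinj ?_
    refine hu2.trans ?_
    rw [map_smul, ← he]
    simp only [add_comm k l, pow_add, mul_smul]
    rfl
  · haveI := subsingleton_H_loc_of_injective b a E hE hi
    exact fun y => ⟨0, Subsingleton.elim _ _⟩

theorem exists_Hsup_of_Hloc_eq_zero : ∀ (i : ℕ) (M : Type u) [AddCommGroup M] [Module R M]
    (x : LocCoh.H a i M), Hloc b a i M x = 0 → ∃ y, Hsup b a i M y = x := by
  intro i
  induction i with
  | zero =>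
    intro M _ _ x hx
    set x0 := evalZero a (ModuleCat.of R M) x with hx0
    have h1 : locι b M x0 = 0 := by
      have := congrArg (evalZero a (ModuleCat.of R (loc b M))) hx
      rwa [evalZero_natural, map_zero] at this
    obtain ⟨⟨_, k, rfl⟩, hk⟩ := (IsLocalizedModule.eq_zero_iff (Submonoid.powers b) (locι b M)).1 h1
    obtain ⟨n, hn⟩ := (H0Equiv a (ModuleCat.of R M) x).2
    have hmem : x0 ∈ DRing.torsionSub (a ⊔ Ideal.span {b}) M := by
      refine ⟨n + k, fun r hr => ?_⟩
      obtain ⟨p, hp, q, hq, rfl⟩ := Submodule.mem_sup.1 (Ideal.sup_pow_add_le_pow_sup_pow hr)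
      rw [Ideal.span_singleton_pow, Ideal.mem_span_singleton'] at hq
      obtain ⟨c, rfl⟩ := hq
      rw [add_smul, mul_smul, show p • x0 = 0 from hn p hp,
        show b ^ k • x0 = 0 from hk, smul_zero, add_zero]
    refine ⟨(H0Equiv _ (ModuleCat.of R M)).symm ⟨x0, hmem⟩, evalZero_injective a _ ?_⟩
    rw [evalZero_Hmap, ← H0Equiv_apply, LinearEquiv.apply_symm_apply]
  | succ i ih =>
    intro M _ _ x hx
    obtain ⟨E, _, _, f, hf, hE⟩ := exists_injective_embedding (R := R) M
    set g := (LinearMap.range f).mkQ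
    have hex := LinearMap.exact_map_mkQ_range f
    have hS := ses_shortExact f g hf (Submodule.mkQ_surjective _) hex
    have hS' := loc_shortExact b f g hf (Submodule.mkQ_surjective _) hex
    obtain ⟨q, rfl⟩ := Hδ_surjective a hS i (subsingleton_H_injective a E hE i) x
    have hnat := LinearMap.congr_fun (Hδ_naturality a hS hS'
      (locHom b f g hex.linearMap_comp_eq_zero
        (IsLocalizedModule.map_exact _ (locι b M) (locι b E) (locι b _) f g hex).linearMap_comp_eq_zero) i) q
    obtain ⟨e', he'⟩ := (H_exact₃ a hS' i (Hloc b a i _ q)).1 (hnat.symm.trans hx)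
    obtain ⟨e, rfl⟩ := Hloc_surjective_of_injective b a i E hE e'
    obtain ⟨y, hy⟩ := ih _ (q - ((localCohomology a i).map (ModuleCat.ofHom g)).hom e) (by
      rw [map_sub, Hloc_natural, sub_eq_zero]
      exact he'.symm)
    refine ⟨Hδ _ hS i y, ?_⟩
    refine (Hmap_Hδ _ hS i y).trans ?_
    refine (congrArg (Hδ a hS i) hy).trans ?_
    rw [map_sub, sub_eq_self]
    exact (H_exact₃ a hS i _).2 ⟨e, rfl⟩

theorem exact_Hsup_Hloc (i : ℕ) (M : Type u) [AddCommGroup M] [Module R M] :
    Function.Exact (Hsup b a i M) (Hloc b a i M) := fun x =>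
  ⟨fun hx => exists_Hsup_of_Hloc_eq_zero b a i M x hx, by rintro ⟨y, rfl⟩; exact Hloc_Hsup b a i y⟩

theorem nonempty_coker_Hloc_equiv : ∀ (i : ℕ) (M : Type u) [AddCommGroup M] [Module R M],
    Nonempty ((LocCoh.H a i (loc b M) ⧸ LinearMap.range (Hloc b a i M)) ≃ₗ[R]
      LinearMap.ker (Hsup b a (i + 1) M)) := by
  intro i
  induction i with
  | zero =>
    intro M _ _
    obtain ⟨E, _, _, f, hf, hE⟩ := exists_injective_embedding (R := R) M
    set g := (LinearMap.range f).mkQ with hgdef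
    let Q := E ⧸ LinearMap.range f
    have hex := LinearMap.exact_map_mkQ_range f
    have hS := ses_shortExact f g hf (Submodule.mkQ_surjective _) hex
    have hS' := loc_shortExact b f g hf (Submodule.mkQ_surjective _) hex
    let fa : LocCoh.H a 0 M →ₗ[R] LocCoh.H a 0 E := ((localCohomology a 0).map (ModuleCat.ofHom f)).hom
    let ga : LocCoh.H a 0 E →ₗ[R] LocCoh.H a 0 Q := ((localCohomology a 0).map (ModuleCat.ofHom g)).hom
    let fb : LocCoh.H a 0 (loc b M) →ₗ[R] LocCoh.H a 0 (loc b E) :=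
      ((localCohomology a 0).map (ModuleCat.ofHom (locMap b f))).hom
    let gb : LocCoh.H a 0 (loc b E) →ₗ[R] LocCoh.H a 0 (loc b Q) :=
      ((localCohomology a 0).map (ModuleCat.ofHom (locMap b g))).hom
    let gc : LocCoh.H (a ⊔ Ideal.span {b}) 0 E →ₗ[R] LocCoh.H (a ⊔ Ideal.span {b}) 0 Q :=
      ((localCohomology _ 0).map (ModuleCat.ofHom g)).hom
    let δc : LocCoh.H (a ⊔ Ideal.span {b}) 0 Q →ₗ[R] LocCoh.H (a ⊔ Ideal.span {b}) 1 M :=
      Hδ _ hS 0
    let δa : LocCoh.H a 0 Q →ₗ[R] LocCoh.H a 1 M := Hδ a hS 0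
    have hfb : Function.Injective fb := injective_H_map_f a hS'
    have hΘ : Function.Injective (Hsup b a 0 Q) := Hmap_zero_injective _ _
    let W := LinearMap.ker (gb.comp (Hloc b a 0 E))
    have hW : ∀ e : W, Hloc b a 0 E e ∈ LinearMap.range fb := fun e =>
      (H_exact₂ a hS' 0 _).1 e.2
    have hW' : ∀ e : W, ga e ∈ LinearMap.range (Hsup b a 0 Q) := fun e =>
      exists_Hsup_of_Hloc_eq_zero b a 0 Q _ ((Hloc_natural b a 0 g e.1).trans e.2)
    let α : W →ₗ[R] LocCoh.H a 0 (loc b M) ⧸ LinearMap.range (Hloc b a 0 M) :=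
      (LinearMap.range (Hloc b a 0 M)).mkQ ∘ₗ (LinearEquiv.ofInjective fb hfb).symm.toLinearMap ∘ₗ
        ((Hloc b a 0 E).comp W.subtype).codRestrict _ hW
    let β0 : W →ₗ[R] LocCoh.H (a ⊔ Ideal.span {b}) 1 M :=
      δc ∘ₗ (LinearEquiv.ofInjective _ hΘ).symm.toLinearMap ∘ₗ (ga.comp W.subtype).codRestrict _ hW'
    have hαspec : ∀ (e : W), ∃ m, fb m = Hloc b a 0 E e ∧ α e = Submodule.Quotient.mk m := fun e =>
      ⟨_, congrArg Subtype.val ((LinearEquiv.ofInjective fb hfb).apply_symm_apply ⟨_, hW e⟩), rfl⟩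
    have hβspec : ∀ (e : W), ∃ q, Hsup b a 0 Q q = ga e ∧ β0 e = δc q := fun e =>
      ⟨_, congrArg Subtype.val ((LinearEquiv.ofInjective _ hΘ).apply_symm_apply ⟨_, hW' e⟩), rfl⟩
    have hβker : ∀ e, β0 e ∈ LinearMap.ker (Hsup b a 1 M) := fun e => by
      obtain ⟨q, hq, hq'⟩ := hβspec e
      rw [LinearMap.mem_ker, hq']
      refine (Hmap_Hδ _ hS 0 q).trans ?_
      exact (congrArg δa hq).trans ((H_exact₃ a hS 0 _).2 ⟨(e : LocCoh.H a 0 E), rfl⟩)
    let β := β0.codRestrict _ hβker
    have hα : Function.Surjective α := fun z => by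
      obtain ⟨m, rfl⟩ := Submodule.Quotient.mk_surjective _ z
      obtain ⟨e, he⟩ := Hloc_surjective_of_injective b a 0 E hE (fb m)
      have heW : e ∈ W := by
        rw [LinearMap.mem_ker, LinearMap.comp_apply, he]
        exact (H_exact₂ a hS' 0 _).2 ⟨m, rfl⟩
      obtain ⟨m', hm', hm''⟩ := hαspec ⟨e, heW⟩
      refine ⟨⟨e, heW⟩, ?_⟩
      rw [hm'', hfb (hm'.trans he)]
    have hβ : Function.Surjective β := fun y => by
      obtain ⟨q, hq⟩ := Hδ_surjective _ hS 0 (subsingleton_H_injective _ E hE 0) y.1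
      obtain ⟨e, he⟩ := (H_exact₃ a hS 0 (Hsup b a 0 Q q)).1 (by
        refine (Hmap_Hδ _ hS 0 q).symm.trans ?_
        rw [hq]
        exact y.2)
      have heW : e ∈ W := by
        rw [LinearMap.mem_ker, LinearMap.comp_apply]
        refine (Hloc_natural b a 0 g e).symm.trans ?_
        exact (congrArg (Hloc b a 0 Q) he).trans (Hloc_Hsup b a 0 q)
      obtain ⟨q', hq', hq''⟩ := hβspec ⟨e, heW⟩
      refine ⟨⟨e, heW⟩, Subtype.ext ?_⟩
      change β0 ⟨e, heW⟩ = y.1
      rw [hq'', hΘ (hq'.trans he)]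
      exact hq
    have hker : LinearMap.ker α = LinearMap.ker β := by
      ext e
      obtain ⟨m, hm, hm'⟩ := hαspec e
      obtain ⟨q, hq, hq'⟩ := hβspec e
      rw [LinearMap.mem_ker, LinearMap.mem_ker, ← Subtype.coe_inj, hm', Submodule.Quotient.mk_eq_zero]
      change _ ↔ β0 e = 0
      rw [hq']
      constructor
      · rintro ⟨x, rfl⟩
        obtain ⟨y, hy⟩ := exists_Hsup_of_Hloc_eq_zero b a 0 E ((e : LocCoh.H a 0 E) - fa x) (by
          rw [map_sub, Hloc_natural, sub_eq_zero]
          exact hm.symm)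
        refine (H_exact₃ _ hS 0 q).2 ⟨y, hΘ ?_⟩
        refine (Hmap_natural _ 0 (ModuleCat.ofHom g) y).symm.trans ?_
        refine (congrArg ga hy).trans ?_
        rw [map_sub, show ga (fa x) = 0 from (H_exact₂ a hS 0 _).2 ⟨x, rfl⟩, sub_zero, hq]
      · intro h0
        obtain ⟨y, hy⟩ := (H_exact₃ _ hS 0 q).1 h0
        obtain ⟨x, hx⟩ := (H_exact₂ a hS 0 ((e : LocCoh.H a 0 E) - Hsup b a 0 E y)).1 (by
          refine (map_sub ga _ _).trans ?_
          rw [show ga (Hsup b a 0 E y) = Hsup b a 0 Q (gc y) from Hmap_natural _ 0 (ModuleCat.ofHom g) y,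
            show gc y = q from hy, hq, sub_self])
        refine ⟨x, hfb ?_⟩
        refine (Hloc_natural b a 0 f x).symm.trans ?_
        refine (congrArg (Hloc b a 0 E) hx).trans ?_
        rw [map_sub, Hloc_Hsup, sub_zero, hm]
    exact ⟨(α.quotKerEquivOfSurjective hα).symm.trans
      ((Submodule.quotEquivOfEq _ _ hker).trans (β.quotKerEquivOfSurjective hβ))⟩
  | succ i ih =>
    intro M _ _
    obtain ⟨E, _, _, f, hf, hE⟩ := exists_injective_embedding (R := R) M
    set g := (LinearMap.range f).mkQ with hgdef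
    let Q := E ⧸ LinearMap.range f
    have hex := LinearMap.exact_map_mkQ_range f
    have hS := ses_shortExact f g hf (Submodule.mkQ_surjective _) hex
    have hS' := loc_shortExact b f g hf (Submodule.mkQ_surjective _) hex
    have hnat : ∀ q, Hloc b a (i + 1) M (Hδ a hS i q) = Hδ a hS' i (Hloc b a i Q q) :=
      LinearMap.congr_fun (Hδ_naturality a hS hS'
        (locHom b f g hex.linearMap_comp_eq_zero
          (IsLocalizedModule.map_exact _ (locι b M) (locι b E) (locι b _) f g hex).linearMap_comp_eq_zero) i)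
    let δb : LocCoh.H a i (loc b Q) →ₗ[R] LocCoh.H a (i + 1) (loc b M) := Hδ a hS' i
    have hsurj : Function.Surjective δb :=
      Hδ_surjective a hS' i (subsingleton_H_loc_of_injective b a E hE i.succ_pos)
    let φ : LocCoh.H a i (loc b Q) →ₗ[R]
        LocCoh.H a (i + 1) (loc b M) ⧸ LinearMap.range (Hloc b a (i + 1) M) :=
      (LinearMap.range (Hloc b a (i + 1) M)).mkQ ∘ₗ δb
    have hker : LinearMap.ker φ = LinearMap.range (Hloc b a i Q) := by
      ext q
      rw [LinearMap.mem_ker, LinearMap.comp_apply, Submodule.mkQ_apply, Submodule.Quotient.mk_eq_zero]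
      constructor
      · rintro ⟨x, hx⟩
        obtain ⟨q', rfl⟩ := Hδ_surjective a hS i (subsingleton_H_injective a E hE i) x
        obtain ⟨e', he'⟩ := (H_exact₃ a hS' i (q - Hloc b a i Q q')).1 (by
          refine (map_sub δb _ _).trans (sub_eq_zero.2 ?_)
          exact hx.symm.trans (hnat q'))
        obtain ⟨e, rfl⟩ := Hloc_surjective_of_injective b a i E hE e'
        refine ⟨((localCohomology a i).map (ModuleCat.ofHom g)).hom e + q', ?_⟩
        rw [map_add, Hloc_natural]
        exact (congrArg (· + Hloc b a i Q q') he').trans (sub_add_cancel q _)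
      · rintro ⟨q', rfl⟩
        exact ⟨Hδ a hS i q', hnat q'⟩
    obtain ⟨e0⟩ := ih Q
    have hb1 := Hδ_bijective (a ⊔ Ideal.span {b}) hS (i + 1) (subsingleton_H_injective _ E hE i)
      (subsingleton_H_injective _ E hE (i + 1))
    have hb2 := Hδ_bijective a hS (i + 1) (subsingleton_H_injective _ E hE i)
      (subsingleton_H_injective _ E hE (i + 1))
    let d := LinearEquiv.ofBijective (Hδ (a ⊔ Ideal.span {b}) hS (i + 1)) hb1
    have hmap : (LinearMap.ker (Hsup b a (i + 1) Q)).map d.toLinearMap =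
        LinearMap.ker (Hsup b a (i + 2) M) := by
      ext y
      constructor
      · rintro ⟨q, hq, rfl⟩
        refine (Hmap_Hδ _ hS (i + 1) q).trans ?_
        exact (congrArg (Hδ a hS (i + 1)) hq).trans (map_zero _)
      · intro hy
        obtain ⟨q, rfl⟩ := d.surjective y
        exact ⟨q, hb2.1 (((Hmap_Hδ _ hS (i + 1) q).symm.trans hy).trans (map_zero _).symm), rfl⟩
    exact ⟨((φ.quotKerEquivOfSurjective (Submodule.mkQ_surjective _ |>.comp hsurj)).symm.trans
      ((Submodule.quotEquivOfEq _ _ hker).trans e0)).trans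
        ((d.submoduleMap _).trans (LinearEquiv.ofEq _ _ hmap))⟩

/-- `H^i_a (M_b) = H^i_a (M)_b`. -/
theorem isLocalizedModule_Hloc (i : ℕ) (M : Type u) [AddCommGroup M] [Module R M] :
    IsLocalizedModule (Submonoid.powers b) (Hloc b a i M) where
  map_units := by
    rintro ⟨_, n, rfl⟩
    rw [Module.End.isUnit_iff]
    have hfun : ∀ n : ℕ, Function.Bijective (fun x : LocCoh.H a i (loc b M) => b ^ n • x) := by
      intro n
      induction n with
      | zero =>
        simp only [pow_zero, one_smul]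
        exact Function.bijective_id
      | succ n ih =>
        have h2 := (bijective_smul_H_loc b (M := M) a i).comp ih
        convert h2 using 1
        funext x
        simp [pow_succ', mul_smul]
    exact hfun n
  surj y := by
    obtain ⟨e⟩ := nonempty_coker_Hloc_equiv b a i M
    obtain ⟨n, hn⟩ := exists_pow_smul_Hsup b a (i + 1) (e (Submodule.Quotient.mk y)).1
    have h1 : b ^ n • (Submodule.Quotient.mk y : _ ⧸ LinearMap.range (Hloc b a i M)) = 0 := by
      refine e.injective ?_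
      rw [map_smul, map_zero]
      exact Subtype.ext hn
    rw [← Submodule.Quotient.mk_smul, Submodule.Quotient.mk_eq_zero] at h1
    obtain ⟨x, hx⟩ := h1
    exact ⟨(x, ⟨b ^ n, n, rfl⟩), hx.symm⟩
  exists_of_eq {x₁ x₂} h := by
    obtain ⟨y, hy⟩ := exists_Hsup_of_Hloc_eq_zero b a i M (x₁ - x₂)
      (by rw [map_sub, h, sub_self])
    obtain ⟨n, hn⟩ := exists_pow_smul_Hsup b a i y
    refine ⟨⟨b ^ n, n, rfl⟩, ?_⟩
    change b ^ n • x₁ = b ^ n • x₂
    rw [← sub_eq_zero, ← smul_sub, ← hy, ← map_smul, hn, map_zero]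

theorem mem_range_Hsup_iff (i : ℕ) (M : Type u) [AddCommGroup M] [Module R M] (x : LocCoh.H a i M) :
    x ∈ LinearMap.range (Hsup b a i M) ↔ ∃ n : ℕ, b ^ n • x = 0 := by
  constructor
  · rintro ⟨y, rfl⟩
    obtain ⟨n, hn⟩ := exists_pow_smul_Hsup b a i y
    exact ⟨n, by rw [← map_smul, hn, map_zero]⟩
  · rintro ⟨n, hn⟩
    exact exists_Hsup_of_Hloc_eq_zero b a i M x
      (eq_zero_of_pow_smul_eq_zero b a i (n := n) (by rw [← map_smul, hn, map_zero]))

/-- The cokernel of `M → M_b` is `H¹_(b)`, for any ideal equal to `(b)`. -/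
theorem nonempty_coker_locι_equiv (J : Ideal R) (hJ : (⊥ : Ideal R) ⊔ Ideal.span {b} = J) (M : Type u)
    [AddCommGroup M] [Module R M] :
    Nonempty ((loc b M ⧸ LinearMap.range (locι b M)) ≃ₗ[R] LocCoh.H J 1 M) := by
  subst hJ
  obtain ⟨e⟩ := nonempty_coker_Hloc_equiv b (⊥ : Ideal R) 0 M
  have htors : ∀ (N : Type u) [AddCommGroup N] [Module R N], LocCoh.IsPowerTorsion (⊥ : Ideal R) N :=
    fun N _ _ x => ⟨1, fun r hr => by
      rw [pow_one, Ideal.mem_bot] at hr
      rw [hr, zero_smul]⟩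
  haveI : Subsingleton (LocCoh.H (⊥ : Ideal R) 1 M) :=
    subsingleton_H_of_isPowerTorsion ⊥ 0 M (htors M)
  have htop : LinearMap.ker (Hsup b (⊥ : Ideal R) 1 M) = ⊤ :=
    eq_top_iff.2 fun x _ => Subsingleton.elim _ _
  let e2 := H0TorsionEquiv (⊥ : Ideal R) (loc b M) (htors _)
  have hrange : (LinearMap.range (Hloc b (⊥ : Ideal R) 0 M)).map e2.toLinearMap =
      LinearMap.range (locι b M) := by
    have h0 : e2.toLinearMap.comp (Hloc b (⊥ : Ideal R) 0 M) =
        (locι b M).comp (H0TorsionEquiv (⊥ : Ideal R) M (htors _)).toLinearMap :=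
      LinearMap.ext fun x => evalZero_natural _ (ModuleCat.ofHom (locι b M)) x
    rw [← LinearMap.range_comp, h0, LinearMap.range_comp_of_range_eq_top]
    exact LinearEquiv.range _
  exact ⟨((Submodule.Quotient.equiv _ _ e2 hrange).symm.trans e).trans (LinearEquiv.ofTop _ htop)⟩

theorem nonempty_ker_Hsup_equiv (i : ℕ) (M : Type u) [AddCommGroup M] [Module R M] :
    Nonempty (LinearMap.ker (Hsup b a (i + 1) M) ≃ₗ[R]
      LocCoh.H (Ideal.span {b}) 1 (LocCoh.H a i M)) := by
  obtain ⟨e⟩ := nonempty_coker_Hloc_equiv b a i M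
  obtain ⟨e1⟩ := nonempty_coker_locι_equiv b (Ideal.span {b}) (bot_sup_eq _) (LocCoh.H a i M)
  haveI := isLocalizedModule_Hloc b a i M
  let L := IsLocalizedModule.iso (Submonoid.powers b) (Hloc b a i M)
  have hmap : (LinearMap.range (locι b (LocCoh.H a i M))).map L.toLinearMap =
      LinearMap.range (Hloc b a i M) := by
    rw [← LinearMap.range_comp]
    congr 1
    exact LinearMap.ext fun x => IsLocalizedModule.iso_apply_mk _ _ x 1 |>.trans (by simp)
  exact ⟨(e.symm.trans (Submodule.Quotient.equiv _ _ L hmap).symm).trans e1⟩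

end Loc

section Criterion

variable [IsNoetherianRing R] (b : R)

/-- If `H^j_{m_p}(M_p) = 0` at all primes `p ⊇ a` with `b ∉ p`, then `H^j_a(M)` is `b`-torsion. -/
theorem exists_pow_smul_eq_zero_of_local (j : ℕ) (M : Type u) [AddCommGroup M] [Module R M] :
    ∀ (a : Ideal R), (∀ p : PrimeSpectrum R, a ≤ p.asIdeal → b ∉ p.asIdeal →
      Subsingleton (LocCoh.H (maximalIdeal (Localization.AtPrime p.asIdeal)) j
        (LocalizedModule p.asIdeal.primeCompl M))) → ∀ x : LocCoh.H a j M, ∃ n : ℕ, b ^ n • x = 0 := by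
  intro a
  induction a using WellFoundedGT.induction with
  | _ a ih =>
  intro hp
  set T := DRing.torsionSub (Ideal.span {b}) (LocCoh.H a j M)
  have hT : ∀ x, x ∈ T ↔ ∃ n : ℕ, b ^ n • x = 0 := fun x =>
    ⟨fun ⟨n, hn⟩ => ⟨n, hn _ (Ideal.pow_mem_pow (Ideal.mem_span_singleton_self b) n)⟩,
      fun ⟨n, hn⟩ => ⟨n, fun c hc => by
        rw [Ideal.span_singleton_pow, Ideal.mem_span_singleton'] at hc
        obtain ⟨c, rfl⟩ := hc
        rw [mul_smul, hn, smul_zero]⟩⟩
  suffices hsub : Subsingleton (LocCoh.H a j M ⧸ T) from fun x =>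
    (hT x).1 ((Submodule.Quotient.mk_eq_zero T).1 (Subsingleton.elim _ _))
  by_contra hc
  rw [not_subsingleton_iff_nontrivial] at hc
  obtain ⟨p, hp'⟩ := associatedPrimes.nonempty R (LocCoh.H a j M ⧸ T)
  obtain ⟨hprime, f, hf⟩ := (isAssociatedPrime_iff_exists_injective_linearMap p _).1 hp'
  obtain ⟨x, hx⟩ := Submodule.Quotient.mk_surjective T (f (Submodule.Quotient.mk 1))
  have hann : ∀ r : R, r ∈ p ↔ r • x ∈ T := fun r => by
    rw [← Submodule.Quotient.mk_eq_zero T, Submodule.Quotient.mk_smul, hx, ← map_smul,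
      ← Submodule.Quotient.mk_smul, smul_eq_mul, mul_one, ← map_zero f, hf.eq_iff,
      Submodule.Quotient.mk_eq_zero]
  have hbp : b ∉ p := fun hb => hprime.ne_top ((Ideal.eq_top_iff_one p).2 ((hann 1).2 (by
    obtain ⟨n, hn⟩ := (hT _).1 ((hann b).1 hb)
    rw [one_smul, hT]
    exact ⟨n + 1, by rw [pow_succ, mul_smul, hn]⟩)))
  have hap : a ≤ p := by
    obtain ⟨n, hn⟩ := isPowerTorsion_H a j (ModuleCat.of R M) x
    refine hprime.le_of_pow_le (n := n) fun r hr => (hann r).2 ?_
    rw [hn r hr]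
    exact T.zero_mem
  rcases hap.lt_or_eq with hlt | heq
  · obtain ⟨c, hcp, hca⟩ := SetLike.exists_of_lt hlt
    obtain ⟨n, hn⟩ := (hT _).1 ((hann c).1 hcp)
    obtain ⟨y, hy⟩ := (mem_range_Hsup_iff c a j M (b ^ n • x)).2 ⟨1, by
      rw [pow_one, smul_comm, hn]⟩
    obtain ⟨k, hk⟩ := ih (a ⊔ Ideal.span {c})
      (lt_of_le_of_ne le_sup_left fun h => hca (h ▸ Submodule.mem_sup_right
        (Ideal.mem_span_singleton_self c)))
      (fun q hq => hp q (le_sup_left.trans hq)) y
    refine hprime.ne_top ((Ideal.eq_top_iff_one p).2 ((hann 1).2 ?_))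
    rw [one_smul, hT]
    exact ⟨k + n, by rw [pow_add, mul_smul, ← hy, ← map_smul, hk, map_zero]⟩
  · subst heq
    haveI := hprime
    obtain ⟨e⟩ := nonempty_localizedModule_H_equiv a a.primeCompl j M
    haveI : Subsingleton (LocCoh.H (a.map (algebraMap R (Localization a.primeCompl))) j
        (LocalizedModule a.primeCompl M)) := by
      have := hp ⟨a, hprime⟩ le_rfl hbp
      rwa [← IsLocalization.AtPrime.map_eq_maximalIdeal a (Localization.AtPrime a)] at this
    haveI := e.toEquiv.subsingleton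
    obtain ⟨⟨s, hs⟩, hsx⟩ := (IsLocalizedModule.eq_zero_iff a.primeCompl
      (LocalizedModule.mkLinearMap a.primeCompl (LocCoh.H a j M))).1
      (Subsingleton.elim (LocalizedModule.mkLinearMap a.primeCompl _ x) 0)
    exact hs ((hann s).2 (by rw [show s • x = 0 from hsx]; exact T.zero_mem))

theorem subsingleton_H_of_local (j : ℕ) (M : Type u) [AddCommGroup M] [Module R M] (a : Ideal R)
    (h : ∀ p : PrimeSpectrum R, a ≤ p.asIdeal →
      Subsingleton (LocCoh.H (maximalIdeal (Localization.AtPrime p.asIdeal)) j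
        (LocalizedModule p.asIdeal.primeCompl M))) : Subsingleton (LocCoh.H a j M) :=
  subsingleton_of_forall_eq 0 fun x => by
    obtain ⟨n, hn⟩ := exists_pow_smul_eq_zero_of_local (1 : R) j M a (fun p hp _ => h p hp) x
    simpa using hn

theorem subsingleton_Hloc_of_local (j : ℕ) (M : Type u) [AddCommGroup M] [Module R M] (a : Ideal R)
    (h : ∀ p : PrimeSpectrum R, a ≤ p.asIdeal → b ∉ p.asIdeal →
      Subsingleton (LocCoh.H (maximalIdeal (Localization.AtPrime p.asIdeal)) j
        (LocalizedModule p.asIdeal.primeCompl M))) : Subsingleton (LocCoh.H a j (loc b M)) := by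
  refine subsingleton_of_forall_eq 0 fun y => ?_
  haveI := isLocalizedModule_Hloc b a j M
  obtain ⟨⟨x, ⟨_, k, rfl⟩⟩, hx⟩ := IsLocalizedModule.surj (Submonoid.powers b) (Hloc b a j M) y
  obtain ⟨n, hn⟩ := exists_pow_smul_eq_zero_of_local b j M a h x
  refine eq_zero_of_pow_smul_eq_zero b a j (n := n + k) ?_
  rw [pow_add, mul_smul, show b ^ k • y = Hloc b a j M x from hx, ← map_smul, hn, map_zero]

/-- S1806. -/
theorem Hmap_surjective_injective (M : Type u) [AddCommGroup M] [Module R M] (I' : Ideal R) :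
    ∀ (I : Ideal R) (h : I ≤ I') (i : ℕ),
    ((∀ p : PrimeSpectrum R, I ≤ p.asIdeal → ¬ I' ≤ p.asIdeal →
      Subsingleton (LocCoh.H (maximalIdeal (Localization.AtPrime p.asIdeal)) i
        (LocalizedModule p.asIdeal.primeCompl M))) →
      Function.Surjective (Hmap h i (ModuleCat.of R M))) ∧
    ((∀ p : PrimeSpectrum R, I ≤ p.asIdeal → ¬ I' ≤ p.asIdeal → ∀ j : ℕ, j + 1 = i →
      Subsingleton (LocCoh.H (maximalIdeal (Localization.AtPrime p.asIdeal)) j
        (LocalizedModule p.asIdeal.primeCompl M))) →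
      Function.Injective (Hmap h i (ModuleCat.of R M))) := by
  intro I
  induction I using WellFoundedGT.induction with
  | _ I ih =>
  intro h i
  rcases h.lt_or_eq with hlt | heq
  swap
  · exact ⟨fun _ => (Hmap_bijective_of_eq h heq i _).2, fun _ => (Hmap_bijective_of_eq h heq i _).1⟩
  obtain ⟨c, hc', hc⟩ := SetLike.exists_of_lt hlt
  have hle : I ⊔ Ideal.span {c} ≤ I' := sup_le h ((Ideal.span_singleton_le_iff_mem _).2 hc')
  have hlt' : I < I ⊔ Ideal.span {c} := lt_of_le_of_ne le_sup_left fun h =>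
    hc (h ▸ Submodule.mem_sup_right (Ideal.mem_span_singleton_self c))
  have hrec := ih _ hlt' hle i
  have hcomp : ⇑(Hmap h i (ModuleCat.of R M)) =
      Hsup c I i M ∘ Hmap hle i (ModuleCat.of R M) :=
    funext fun x => (Hmap_trans _ hle i _ x).symm
  rw [hcomp]
  constructor
  · intro hp
    refine Function.Surjective.comp (fun x => ?_) (hrec.1 fun p hp1 => hp p (le_sup_left.trans hp1))
    haveI := subsingleton_Hloc_of_local c i M I fun p hp1 hp2 => hp p hp1 fun h' => hp2 (h' hc')
    exact exists_Hsup_of_Hloc_eq_zero c I i M x (Subsingleton.elim _ _)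
  · intro hp
    refine Function.Injective.comp ?_ (hrec.2 fun p hp1 => hp p (le_sup_left.trans hp1))
    cases i with
    | zero => exact Hmap_zero_injective _ _
    | succ j =>
      obtain ⟨e⟩ := nonempty_coker_Hloc_equiv c I j M
      haveI := subsingleton_Hloc_of_local c j M I fun p hp1 hp2 =>
        hp p hp1 (fun h' => hp2 (h' hc')) j rfl
      haveI := e.symm.toEquiv.subsingleton
      exact LinearMap.ker_eq_bot.1 (eq_bot_iff.2 fun y hy =>
        congrArg Subtype.val (Subsingleton.elim (⟨y, hy⟩ : LinearMap.ker (Hsup c I (j + 1) M)) 0))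

end Criterion

section Top

variable [IsNoetherianRing R] [IsLocalRing R] (d : ℕ) (hd : ringKrullDim R = d)

include hd in
theorem Hmap_top_surjective {I I' : Ideal R} (h : I ≤ I') (hI' : I' ≤ maximalIdeal R) (M : Type u)
    [AddCommGroup M] [Module R M] : Function.Surjective (Hmap h d (ModuleCat.of R M)) := by
  refine (Hmap_surjective_injective M I' I h d).1 fun p _ hp => ?_
  haveI : IsNoetherianRing (Localization.AtPrime p.asIdeal) :=
    IsLocalization.isNoetherianRing p.asIdeal.primeCompl _ inferInstance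
  refine subsingleton_H_of_supportDim_lt _ _ _ ((Module.supportDim_le_ringKrullDim _ _).trans_lt ?_)
  rw [IsLocalization.AtPrime.ringKrullDim_eq_height p.asIdeal (Localization.AtPrime p.asIdeal)]
  have hlt : p.asIdeal < maximalIdeal R :=
    lt_of_le_of_ne (le_maximalIdeal p.2.ne_top) fun h' => hp (h' ▸ hI')
  have h1 := Ideal.height_strict_mono_of_isPrime hlt
  have h2 : ((maximalIdeal R).height : WithBot ℕ∞) = d :=
    (IsLocalRing.maximalIdeal_height_eq_ringKrullDim (R := R)).trans hd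
  exact lt_of_lt_of_eq (WithBot.coe_lt_coe.2 h1) h2

omit [IsNoetherianRing R] in
theorem exists_prime_dim_one [IsNoetherianRing R] (I : Ideal R) (hI : 0 < ringKrullDim (R ⧸ I)) :
    ∃ p : Ideal R, p.IsPrime ∧ I ≤ p ∧ ringKrullDim (R ⧸ p) = 1 := by
  have hex : ∃ p : Ideal R, p.IsPrime ∧ I ≤ p ∧ p ≠ maximalIdeal R := by
    by_contra! hc
    refine absurd hI (not_lt.2 ?_)
    rw [ringKrullDim_quotient, Order.krullDim_nonpos_iff_forall_isMax]
    intro x y _
    exact le_of_eq (Subtype.ext (PrimeSpectrum.ext ((hc _ y.1.2 y.2).trans (hc _ x.1.2 x.2).symm)))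
  obtain ⟨p, ⟨hp, hIp, hpm⟩, hmax⟩ := set_has_maximal_iff_noetherian.2 inferInstance
    {p : Ideal R | p.IsPrime ∧ I ≤ p ∧ p ≠ maximalIdeal R} hex
  refine ⟨p, hp, hIp, le_antisymm ?_ ?_⟩
  · rw [ringKrullDim_quotient]
    refine iSup_le fun l => WithBot.coe_le_coe.2 (ENat.coe_le_coe.2 ?_)
    by_contra hl
    rw [not_le] at hl
    have h01 : (l ⟨0, by omega⟩).1.asIdeal < (l ⟨1, by omega⟩).1.asIdeal :=
      l.strictMono (by simp [Fin.lt_def])
    have h12 : (l ⟨1, by omega⟩).1.asIdeal < (l ⟨2, by omega⟩).1.asIdeal :=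
      l.strictMono (by simp [Fin.lt_def])
    have hne : (l ⟨1, by omega⟩).1.asIdeal ≠ maximalIdeal R := fun h =>
      h12.not_ge (h ▸ le_maximalIdeal (l ⟨2, by omega⟩).1.2.ne_top)
    exact hmax _ ⟨(l ⟨1, by omega⟩).1.2, hIp.trans ((l ⟨0, by omega⟩).2.trans h01.le), hne⟩
      (lt_of_le_of_lt (l ⟨0, by omega⟩).2 h01)
  · rw [ringKrullDim_quotient]
    refine Order.one_le_krullDim_iff.2 ⟨⟨⟨p, hp⟩, fun a ha => ha⟩,
      ⟨IsLocalRing.closedPoint R, le_maximalIdeal hp.ne_top⟩, ?_⟩
    exact lt_of_le_of_ne (le_maximalIdeal hp.ne_top) fun h => hpm (by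
      have h' := congrArg (fun q => q.1.asIdeal) h
      exact h')

include hd in
/-- S17763. -/
theorem forall_H_dim_subsingleton_iff :
    (∀ I : Ideal R, 0 < ringKrullDim (R ⧸ I) → Subsingleton (LocCoh.H I d R)) ↔
      ∀ (p : Ideal R) [p.IsPrime], ringKrullDim (R ⧸ p) = 1 → Subsingleton (LocCoh.H p d R) := by
  refine ⟨fun h p _ hp => h p (by rw [hp]; exact zero_lt_one), fun h I hI => ?_⟩
  obtain ⟨p, hp, hIp, hdim⟩ := exists_prime_dim_one I hI
  haveI := h p hdim
  exact (Hmap_top_surjective d hd hIp (le_maximalIdeal hp.ne_top) R).subsingleton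

include hd in
/-- S11640. -/
theorem isPrime_of_maximal (p : Ideal R) (hp : Nontrivial (LocCoh.H p d R))
    (hp' : 0 < ringKrullDim (R ⧸ p))
    (hmax : ∀ b : Ideal R, p < b → Nontrivial (LocCoh.H b d R) → ¬ 0 < ringKrullDim (R ⧸ b)) :
    p.IsPrime ∧ ringKrullDim (R ⧸ p) = 1 := by
  obtain ⟨q, hq, hpq, hdim⟩ := exists_prime_dim_one p hp'
  rcases hpq.lt_or_eq with hlt | rfl
  swap
  · exact ⟨hq, hdim⟩
  haveI := (Hmap_top_surjective d hd hpq (le_maximalIdeal hq.ne_top) R).nontrivial
  exact absurd (hdim ▸ zero_lt_one) (hmax q hlt inferInstance)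

end Top

end Groth.L04.LC
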