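import Groth.Agent.L04.LC.AnnihDuality
import Groth.Agent.L04.LC.Hmap
import Groth.Agent.L04.LC.Annihilate
import Groth.Prelude.Def_Formal2

/-!
# Comparing `H^i_J` for varying `J` with the same trace on `V(I)`
-/

set_option autoImplicit false
set_option linter.style.haveILetI false
set_option backward.isDefEq.respectTransparency false
universe u

open CategoryTheory IsLocalRing PrimeSpectrum

attribute [local instance] HasDerivedCategory.standard

noncomputable section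

namespace Groth.L04.AlgKill

open Groth.L29 Groth.L29.HomD Groth.L04.AnnihDual Groth.L04.LC

variable {A : Type u} [CommRing A] [IsNoetherianRing A] {ω : Dual.D A}

theorem dimBetween_eq (hω : Dual.IsDualizing A ω) (p q : PrimeSpectrum A) (hpq : p ≤ q) :
    Formal2.dimBetween A p.asIdeal q.asIdeal =
      (((dimFun hω p - dimFun hω q).toNat : ℕ) : WithBot ℕ∞) := by
  let B := Localization.AtPrime q.asIdeal
  let e := IsLocalization.AtPrime.primeSpectrumOrderIso B q.asIdeal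
  have hmem : ∀ P : PrimeSpectrum B,
      P ∈ zeroLocus (p.asIdeal.map (algebraMap A B) : Set B) ↔ p ≤ (e P).1 := fun P => by
    rw [mem_zeroLocus, SetLike.coe_subset_coe, Ideal.map_le_iff_le_comap]
    exact Iff.rfl
  let e2 : zeroLocus (p.asIdeal.map (algebraMap A B) : Set B) ≃o Set.Icc p q :=
    { toFun := fun P => ⟨(e P.1).1, (hmem P.1).1 P.2, (e P.1).2⟩
      invFun := fun r => ⟨e.symm ⟨r.1, r.2.2⟩, (hmem _).2 (by rw [OrderIso.apply_symm_apply]; exact r.2.1)⟩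
      left_inv := fun P => Subtype.ext (e.symm_apply_apply P.1)
      right_inv := fun r => Subtype.ext (by simp)
      map_rel_iff' := fun {P Q} => e.le_iff_le (x := P.1) (y := Q.1) }
  change ringKrullDim (B ⧸ _) = _
  rw [ringKrullDim_quotient, Order.krullDim_eq_of_orderIso e2, krullDim_Icc hω p q hpq]

variable (M : Type u) [AddCommGroup M] [Module A M] [Module.Finite A M]

/-- The depth at a prime. -/
abbrev dep (p : PrimeSpectrum A) : ℕ∞ :=
  LocCoh.depth (Localization.AtPrime p.asIdeal) (LocalizedModule p.asIdeal.primeCompl M)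

theorem subsingleton_of_lt_dep (p : PrimeSpectrum A) (s j : ℕ) (hj : j ≤ s)
    (h : (s : ℕ∞) < dep M p) :
    Subsingleton (LocCoh.H (maximalIdeal (Localization.AtPrime p.asIdeal)) j
      (LocalizedModule p.asIdeal.primeCompl M)) := by
  haveI : IsNoetherianRing (Localization.AtPrime p.asIdeal) :=
    IsLocalization.isNoetherianRing p.asIdeal.primeCompl _ inferInstance
  haveI : Module.Finite (Localization.AtPrime p.asIdeal) (LocalizedModule p.asIdeal.primeCompl M) :=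
    Module.Finite.of_isLocalizedModule p.asIdeal.primeCompl (LocalizedModule.mkLinearMap p.asIdeal.primeCompl M)
  refine (le_idealDepth_iff_H (maximalIdeal (Localization.AtPrime p.asIdeal))
    (LocalizedModule p.asIdeal.primeCompl M) (s + 1)).1 ?_ j (by omega)
  push_cast
  exact Order.add_one_le_of_lt h

theorem bijective_Hmap_of_lt_dep (s : ℕ) {K K' : Ideal A} (hle : K' ≤ K)
    (h : ∀ p : PrimeSpectrum A, K' ≤ p.asIdeal → ¬ K ≤ p.asIdeal → (s : ℕ∞) < dep M p) (i : ℕ)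
    (hi : i ≤ s) : Function.Bijective ((Dual2.HmapOfLE hle i).app (ModuleCat.of A M)).hom :=
  have := Hmap_surjective_injective M K K' hle i
  ⟨this.2 fun p hp hp' j hj => subsingleton_of_lt_dep M p s j (by omega) (h p hp hp'),
    this.1 fun p hp hp' => subsingleton_of_lt_dep M p s i hi (h p hp hp')⟩

/-- The numerical condition, for a pair of primes. -/
abbrev Big (hω : Dual.IsDualizing A ω) (s : ℕ) (p q : PrimeSpectrum A) : Prop :=
  ∀ m : ℕ, dep M p = m → (s : ℤ) < m + (dimFun hω p - dimFun hω q)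

/-- A power of `B` kills `H^i_K`. -/
theorem exists_pow_kills (hω : Dual.IsDualizing A ω) (s : ℕ) (K B : Ideal A)
    (h : ∀ p q : PrimeSpectrum A, ¬ B ≤ p.asIdeal → K ≤ q.asIdeal → p ≤ q → Big M hω s p q) :
    ∃ n : ℕ, ∀ a ∈ B ^ n, ∀ i : ℕ, i ≤ s → ∀ x : LocCoh.H K i M, a • x = 0 := by
  have hstab : ∀ X : Ideal A, StableUnderSpecialization (zeroLocus (X : Set A)) := fun X x y hxy hx =>
    (mem_zeroLocus _ _).2 fun a ha => (le_iff_specializes x y).2 hxy (hx ha)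
  obtain ⟨L, hL, hk⟩ := (annihilator_iff hω (zeroLocus (K : Set A)) (zeroLocus (B : Set A)) (hstab K)
    (hstab B) s M).2 fun p q hp hq hpq => (lt_depth_add_iff hω p q hpq s _).2 (h p q hp hq hpq)
  have hBL : B ≤ L.radical := by
    rw [L.radical_eq_sInf]
    exact le_sInf fun P hP => hL (show (⟨P, hP.2⟩ : PrimeSpectrum A) ∈ zeroLocus (L : Set A) from hP.1)
  obtain ⟨k, hk'⟩ := Ideal.exists_pow_le_of_le_radical_of_fg hBL (IsNoetherian.noetherian B)
  choose e he using HTlocal.exists_pow_kills_H (zeroLocus (K : Set A)) L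
  refine ⟨k * (Finset.range (s + 1)).sup e, fun a ha i hi x => ?_⟩
  refine he i ⟨K, fun q hq => hq⟩ 1 M (fun j hj r hr => hk j (hj.trans hi) r (by simpa using hr)) a ?_ x
  rw [pow_one]
  refine Ideal.pow_le_pow_right (Finset.le_sup (f := e) (b := i) (s := Finset.range (s + 1)) (Finset.mem_range.2 (by omega))) ?_
  exact Ideal.pow_right_mono hk' _ (by rwa [← pow_mul])

/-- An ideal containing the exceptional points of `T` in its zero locus. -/
theorem exists_exceptional (hω : Dual.IsDualizing A ω) (s : ℕ) (T : Set (PrimeSpectrum A))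
    (hT : StableUnderSpecialization T) (U : Set (PrimeSpectrum A))
    (h : ∀ P p : PrimeSpectrum A, P ≤ p → p ∈ T → p ∈ U → P ∉ T → Big M hω s P p) :
    ∃ K : Ideal A, zeroLocus (K : Set A) ⊆ T ∧
      ∀ p ∈ T, p ∈ U → dep M p ≤ s → K ≤ p.asIdeal := by
  obtain ⟨lo, hi', hrange⟩ := hω.finite_injective_dimension
  have hJ : ∀ l : ℤ, ∃ J : Ideal A, zeroLocus (J : Set A) ⊆ T ∧
      ∀ q : PrimeSpectrum A, (∀ p ∈ Module.support A (Dual.inD A M ⟶ ω⟦l⟧), p ≤ q → p ∈ T) →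
        ∀ r ∈ J, ∀ x : (Dual.inD A M ⟶ ω⟦l⟧), ∃ t ∉ q.asIdeal, t • r • x = 0 := fun l => by
    haveI := finite_hom ω (good_of_isDualizing hω) M l
    exact exists_ideal_kills T hT _
  choose Jl hJl hkl using hJ
  refine ⟨∏ l ∈ Finset.Icc lo hi', Jl l, fun q hq => ?_, fun p hp hpU hd => ?_⟩
  · obtain ⟨l, -, hl⟩ := (Ideal.IsPrime.prod_le q.isPrime).1 hq
    exact hJl l hl
  obtain ⟨m, hm, hms⟩ : ∃ m : ℕ, dep M p = m ∧ m ≤ s := by
    obtain ⟨m, hm⟩ := ENat.ne_top_iff_exists.1 (ne_top_of_le_ne_top (ENat.natCast_ne_top s) hd)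
    exact ⟨m, hm.symm, by exact_mod_cast hm.trans_le hd⟩
  have hmem := mem_support_of_depth hω p M m hm
  set l := -dimFun hω p - (m : ℤ) with hl
  have hlr : l ∈ Finset.Icc lo hi' := by
    by_contra hout
    rw [Finset.mem_Icc] at hout
    haveI := hrange M l (by lia)
    rw [Module.support_eq_empty] at hmem
    exact hmem
  refine le_trans ?_ (show Jl l ≤ p.asIdeal from ?_)
  · exact Ideal.prod_le_inf.trans (Finset.inf_le (f := Jl) hlr)
  intro r hr
  by_contra hrp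
  refine absurd hmem (Module.notMem_support_iff'.2 fun y => ?_)
  obtain ⟨t, ht, hty⟩ := hkl l p (fun P hP hPp => by
    by_contra hPT
    obtain ⟨m', hm', hle⟩ := depth_of_mem_support hω P M l hP
    have := h P p hPp hp hpU hPT m' hm'
    lia) r hr y
  exact ⟨t * r, fun hmem' => (p.isPrime.mem_or_mem hmem').elim ht hrp, by rw [mul_smul]; exact hty⟩

section main

variable (I J : Ideal A) (s d : ℕ) (T : Set (PrimeSpectrum A))

structure Hyp (hω : Dual.IsDualizing A ω) : Prop where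
  hT : ∀ p : PrimeSpectrum A, p ∈ T ↔ ∀ q : PrimeSpectrum A, p ≤ q → I ≤ q.asIdeal → J ≤ q.asIdeal
  h3 : ∀ p : PrimeSpectrum A, ¬ I ≤ p.asIdeal → p ∈ T → ∃ q : PrimeSpectrum A, p ≤ q ∧ J ≤ q.asIdeal ∧
    I ≤ q.asIdeal ∧ dimFun hω p - dimFun hω q ≤ (d : ℤ)
  h4 : ∀ p : PrimeSpectrum A, ¬ I ≤ p.asIdeal → p ∉ T → ∀ q : PrimeSpectrum A, p ≤ q → J ≤ q.asIdeal →
    I ≤ q.asIdeal → (s : ℕ∞) ≤ dep M p ∨
      ∀ m : ℕ, dep M p = m → ((d + s : ℕ) : ℤ) < m + (dimFun hω p - dimFun hω q)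

variable {M I J s d T}

theorem hyp_mk (hω : Dual.IsDualizing A ω)
    (hT : ∀ p : PrimeSpectrum A, p ∈ T ↔ ∀ q : PrimeSpectrum A, p ≤ q → I ≤ q.asIdeal → J ≤ q.asIdeal)
    (h3 : ∀ p : PrimeSpectrum A, ¬ I ≤ p.asIdeal → p ∈ T → ∃ q : PrimeSpectrum A, p ≤ q ∧ J ≤ q.asIdeal ∧
      I ≤ q.asIdeal ∧ Formal2.dimBetween A p.asIdeal q.asIdeal ≤ ((d : ℕ∞) : WithBot ℕ∞))
    (h4 : ∀ p : PrimeSpectrum A, ¬ I ≤ p.asIdeal → p ∉ T → ∀ q : PrimeSpectrum A, p ≤ q → J ≤ q.asIdeal →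
      I ≤ q.asIdeal → (s : ℕ∞) ≤ dep M p ∨ (((d + s : ℕ) : ℕ∞) : WithBot ℕ∞) <
        ((dep M p : ℕ∞) : WithBot ℕ∞) + Formal2.dimBetween A p.asIdeal q.asIdeal) :
    Hyp M I J s d T hω where
  hT := hT
  h3 p hp hpT := by
    obtain ⟨q, hpq, hJ, hI, hd⟩ := h3 p hp hpT
    rw [dimBetween_eq hω p q hpq] at hd
    have : (dimFun hω p - dimFun hω q).toNat ≤ d := by exact_mod_cast hd
    exact ⟨q, hpq, hJ, hI, by lia⟩
  h4 p hp hpT q hpq hJ hI := (h4 p hp hpT q hpq hJ hI).imp_right fun h => by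
    rw [dimBetween_eq hω p q hpq, ← krullDim_Icc hω p q hpq] at h
    exact (lt_depth_add_iff hω p q hpq (d + s) _).1 h

variable {hω : Dual.IsDualizing A ω} (H : Hyp M I J s d T hω)
include H

theorem Hyp.stable : StableUnderSpecialization T := fun x y hxy hx =>
  (H.hT y).2 fun q hq => (H.hT x).1 hx q (((le_iff_specializes x y).2 hxy).trans hq)

theorem Hyp.le_J {p : PrimeSpectrum A} (hp : p ∈ T) (hI : I ≤ p.asIdeal) : J ≤ p.asIdeal :=
  (H.hT p).1 hp p le_rfl hI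

theorem Hyp.mem_T {p : PrimeSpectrum A} (hJ : J ≤ p.asIdeal) : p ∈ T :=
  (H.hT p).2 fun _ hq _ => hJ.trans hq

theorem Hyp.big {P p : PrimeSpectrum A} (hPp : P ≤ p) (hP : P ∉ T) (hPI : ¬ I ≤ P.asIdeal)
    (hp : p ∈ T) : Big M hω s P p := by
  intro m hm
  have hlt := dimFun_strictAnti hω (lt_of_le_of_ne hPp fun h => hP (h ▸ hp))
  obtain ⟨q, hpq, hJq, hIq, hd⟩ : ∃ q : PrimeSpectrum A, p ≤ q ∧ J ≤ q.asIdeal ∧ I ≤ q.asIdeal ∧
      dimFun hω p - dimFun hω q ≤ (d : ℤ) := by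
    by_cases hI : I ≤ p.asIdeal
    · exact ⟨p, le_rfl, H.le_J hp hI, hI, by simp⟩
    · exact H.h3 p hI hp
  rcases H.h4 P hPI hP q (hPp.trans hpq) hJq hIq with h | h
  · rw [hm] at h
    have : s ≤ m := by exact_mod_cast h
    lia
  · have := h m hm
    push_cast at this
    lia

theorem Hyp.exists_J₀ : ∃ J₀ : Ideal A, J₀ ≤ J ∧ zeroLocus (J₀ : Set A) ⊆ T ∧
    zeroLocus (J₀ : Set A) ∩ zeroLocus (I : Set A) = zeroLocus (J : Set A) ∩ zeroLocus (I : Set A) ∧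
    ∀ p ∈ T, ¬ J₀ ≤ p.asIdeal → (s : ℕ∞) < dep M p := by
  obtain ⟨K, hK, hKd⟩ := exists_exceptional M hω s T H.stable {p | ¬ I ≤ p.asIdeal}
    fun P p hPp hp hpI hP => H.big hPp hP (fun h => hpI (h.trans hPp)) hp
  have hsub : zeroLocus ((J * K : Ideal A) : Set A) ⊆ T := fun q hq =>
    (q.isPrime.mul_le.1 hq).elim H.mem_T fun h => hK h
  refine ⟨J * K, Ideal.mul_le_left, hsub, ?_, fun p hp hp' => ?_⟩
  · exact Set.Subset.antisymm (fun q hq => ⟨H.le_J (hsub hq.1) hq.2, hq.2⟩)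
      (fun q hq => ⟨fun a ha => hq.1 (Ideal.mul_le_left ha), hq.2⟩)
  · by_contra hd
    refine hp' (Ideal.mul_le_right.trans (hKd p hp (fun hI => ?_) (not_lt.1 hd)))
    exact hp' (Ideal.mul_le_left.trans (H.le_J hp hI))

variable {J₀ : Ideal A} (hJ₀T : zeroLocus (J₀ : Set A) ⊆ T)
  (hdep : ∀ p ∈ T, ¬ J₀ ≤ p.asIdeal → (s : ℕ∞) < dep M p)
include hJ₀T hdep

theorem Hyp.big₀ {p q : PrimeSpectrum A} (hp : ¬ J₀ ≤ p.asIdeal) (hpI : ¬ I ≤ p.asIdeal)
    (hq : J₀ ≤ q.asIdeal) (hpq : p ≤ q) : Big M hω s p q := by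
  by_cases hpT : p ∈ T
  · intro m hm
    have h1 := hdep p hpT hp
    rw [hm] at h1
    have h2 : s < m := by exact_mod_cast h1
    have := (dimFun_strictAnti hω).antitone hpq
    lia
  · exact H.big hpq hpT hpI (hJ₀T hq)

theorem Hyp.killed : ∃ n : ℕ, ∀ a ∈ (J₀ * I) ^ n, ∀ i : ℕ, i ≤ s → ∀ x : LocCoh.H J₀ i M, a • x = 0 :=
  exists_pow_kills M hω s J₀ (J₀ * I) fun _ _ hp hq hpq => H.big₀ hJ₀T hdep
    (fun h => hp (Ideal.mul_le_left.trans h)) (fun h => hp (Ideal.mul_le_right.trans h)) hq hpq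

omit hJ₀T in
theorem Hyp.bijective_le (J' : Ideal A) (hJ' : J' ≤ J₀)
    (heq : zeroLocus (J' : Set A) ∩ zeroLocus (I : Set A) = zeroLocus (J : Set A) ∩ zeroLocus (I : Set A))
    (i : ℕ) (hi : i ≤ s) : Function.Bijective ((Dual2.HmapOfLE hJ' i).app (ModuleCat.of A M)).hom :=
  bijective_Hmap_of_lt_dep M s hJ' (fun p hp hp' => hdep p ((H.hT p).2 fun q hpq hI =>
    ((Set.ext_iff.1 heq q).1 ⟨hp.trans hpq, hI⟩).1) hp') i hi

theorem Hyp.finite
    (h2 : ∀ p : PrimeSpectrum A, I ≤ p.asIdeal → ¬ J ≤ p.asIdeal → ∀ q : PrimeSpectrum A, p ≤ q →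
      J ≤ q.asIdeal → I ≤ q.asIdeal → ((s : ℕ∞) : WithBot ℕ∞) <
        ((dep M p : ℕ∞) : WithBot ℕ∞) + Formal2.dimBetween A p.asIdeal q.asIdeal)
    (hle : J₀ ≤ J) (i : ℕ) (hi : i ≤ s) : Module.Finite A (LocCoh.H J₀ i M) := by
  obtain ⟨n, hn⟩ := exists_pow_kills M hω s J₀ J₀ fun p q hp hq hpq => by
    by_cases hI : I ≤ p.asIdeal
    · have hJq : J ≤ q.asIdeal := H.le_J (hJ₀T hq) (hI.trans hpq)
      have h := h2 p hI (fun h => hp (hle.trans h)) q hpq hJq (hI.trans hpq)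
      rw [dimBetween_eq hω p q hpq, ← krullDim_Icc hω p q hpq] at h
      exact (lt_depth_add_iff hω p q hpq s _).1 h
    · exact H.big₀ hJ₀T hdep hp hI hq hpq
  exact (finite_H_iff_killed J₀ M s).2
    ⟨J₀ ^ n, fun a ha => ⟨n, Ideal.pow_mem_pow ha n⟩, fun i hi a ha => hn a ha i hi⟩ i hi

end main

end Groth.L04.AlgKill
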