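import Groth.Agent.L04.LC.SupportsGlobal
import Groth.Agent.L04.LC.LocNat

/-!
# Inverse systems: from the points of `T` to local cohomology with supports in `T`
-/

set_option autoImplicit false
set_option linter.style.haveILetI false
universe u

open CategoryTheory Limits Abelian Opposite IsLocalRing

noncomputable section

namespace Groth.L04.HTsys

open Groth.L04.LC Groth.L04.HTsupp Groth.L04.HTlocal

variable {A : Type u} [CommRing A]

/-- The map induced on `H^i_K`. -/
abbrev Hm (K : Ideal A) (i : ℕ) {M N : Type u} [AddCommGroup M] [Module A M] [AddCommGroup N] [Module A N]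
    (g : M →ₗ[A] N) : LocCoh.H K i M →ₗ[A] LocCoh.H K i N :=
  ((localCohomology K i).map (ModuleCat.ofHom g)).hom

theorem Hm_comp (K : Ideal A) (i : ℕ) {M N P : Type u} [AddCommGroup M] [Module A M] [AddCommGroup N]
    [Module A N] [AddCommGroup P] [Module A P] (g : M →ₗ[A] N) (h : N →ₗ[A] P) (x : LocCoh.H K i M) :
    Hm K i (h.comp g) x = Hm K i h (Hm K i g x) := by
  change ((localCohomology K i).map (ModuleCat.ofHom g ≫ ModuleCat.ofHom h)).hom x = _
  rw [Functor.map_comp]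
  rfl

/-- The map induced on `H^i_max` of the localizations at a prime. -/
abbrev Hmx (q : PrimeSpectrum A) (i : ℕ) {M N : Type u} [AddCommGroup M] [Module A M] [AddCommGroup N]
    [Module A N] (g : M →ₗ[A] N) :
    LocCoh.H (maximalIdeal (Localization.AtPrime q.asIdeal)) i (LocalizedModule q.asIdeal.primeCompl M)
      →ₗ[Localization.AtPrime q.asIdeal]
    LocCoh.H (maximalIdeal (Localization.AtPrime q.asIdeal)) i (LocalizedModule q.asIdeal.primeCompl N) :=
  ((localCohomology (maximalIdeal (Localization.AtPrime q.asIdeal)) i).map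
    (ModuleCat.ofHom (LocalizedModule.map q.asIdeal.primeCompl g))).hom

theorem Hmx_comp (q : PrimeSpectrum A) (i : ℕ) {M N P : Type u} [AddCommGroup M] [Module A M]
    [AddCommGroup N] [Module A N] [AddCommGroup P] [Module A P] (g : M →ₗ[A] N) (h : N →ₗ[A] P) (x) :
    Hmx q i (h.comp g) x = Hmx q i h (Hmx q i g x) := by
  change ((localCohomology _ i).map ((locF q.asIdeal.primeCompl).map (ModuleCat.ofHom g ≫ ModuleCat.ofHom h))).hom x = _
  rw [Functor.map_comp, Functor.map_comp]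
  rfl

variable (T : Set (PrimeSpectrum A))

theorem θ_natural (K : Dual2.IdealsIn T) (i : ℕ) {M N : ModuleCat.{u} A} (g : M ⟶ N)
    (x : (localCohomology K.obj i).obj M) :
    ((localCohomology.ofDiagram.{u, u} (Dual2.idealsInDiagram T) i).map g).hom (θ T K i M x) =
      θ T K i N (((localCohomology K.obj i).map g).hom x) := by
  obtain ⟨n, a, rfl⟩ := Hι_surjective K.obj i M x
  rw [θ_Hι, map_Hι, θ_Hι]
  exact map_ι A (XT T) i (powObj T K n) g a

theorem exists_Hmap_eq_zero (K : Dual2.IdealsIn T) (i : ℕ) (M : ModuleCat.{u} A)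
    (z : (localCohomology K.obj i).obj M) (hz : θ T K i M z = 0) :
    ∃ (K' : Dual2.IdealsIn T) (h : K'.obj ≤ K.obj), Hmap h i M z = 0 := by
  obtain ⟨n, a, rfl⟩ := Hι_surjective K.obj i M z
  rw [θ_Hι] at hz
  obtain ⟨s, w, hw⟩ := ι_eq_zero A (XT T) i hz
  obtain ⟨U, f, g, -⟩ := IsCofilteredOrEmpty.cone_objs s K
  have hUK : U.obj ≤ K.obj := leOfHom g.hom
  refine ⟨U, hUK, ?_⟩
  rw [Hmap_Hι, Hι_eq_zero_iff]
  refine ⟨max n 1, le_max_left n 1, ?_⟩
  have hle : U.obj ^ max n 1 ≤ s.obj :=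
    ((Ideal.pow_le_pow_right (le_max_right n 1)).trans (pow_one U.obj).le).trans (leOfHom f.hom)
  let p : quot U.obj (max n 1) ⟶ (XT T).obj s := ModuleCat.ofHom (Submodule.factor hle)
  have hcomp : quotMap U.obj (le_max_left n 1) ≫ qmap hUK n = p ≫ (XT T).map w := by
    refine ModuleCat.hom_ext (LinearMap.ext fun y => ?_)
    obtain ⟨r, rfl⟩ := Submodule.Quotient.mk_surjective _ y
    rfl
  rw [Ext.mk₀_comp_mk₀_assoc, hcomp]
  exact (Ext.mk₀_comp_mk₀_assoc p ((XT T).map w) a).symm.trans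
    ((congrArg (fun c => (Ext.mk₀ p).comp c (zero_add i)) hw).trans (Ext.comp_zero _ _ _ _ _))

variable [IsNoetherianRing A]

/-- Near a minimal prime of the support the class comes from the closed point, naturally. -/
theorem exists_local (K : Ideal A) (q : PrimeSpectrum A) (hq : q.asIdeal ∈ K.minimalPrimes) (i : ℕ)
    (M : Type u) [AddCommGroup M] [Module A M] (x : LocCoh.H K i M) :
    ∃ z : LocCoh.H (maximalIdeal (Localization.AtPrime q.asIdeal)) i (LocalizedModule q.asIdeal.primeCompl M),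
      ∀ (N : Type u) [AddCommGroup N] [Module A N] (g : M →ₗ[A] N),
        (Hm K i g x = 0 → Hmx q i g z = 0) ∧
          (Hmx q i g z = 0 → ∃ s : A, s ∉ q.asIdeal ∧ s • Hm K i g x = 0) := by
  set S := q.asIdeal.primeCompl
  let B := Localization.AtPrime q.asIdeal
  haveI : IsNoetherianRing B := IsLocalization.isNoetherianRing S B inferInstance
  have hle : KS S K ≤ maximalIdeal B := by
    rw [← IsLocalization.AtPrime.map_eq_maximalIdeal q.asIdeal B]
    exact Ideal.map_mono hq.1.2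
  have hmax : ∀ p : PrimeSpectrum B, KS S K ≤ p.asIdeal → maximalIdeal B ≤ p.asIdeal := by
    intro p hp
    rw [← IsLocalization.AtPrime.map_eq_maximalIdeal q.asIdeal B, Ideal.map_le_iff_le_comap]
    exact hq.2 ⟨inferInstance, Ideal.map_le_iff_le_comap.1 hp⟩
      ((Ideal.comap_mono (le_maximalIdeal p.isPrime.ne_top)).trans
        (IsLocalization.AtPrime.comap_maximalIdeal B q.asIdeal).le)
  obtain ⟨z, hz⟩ := (Hmap_surjective_injective (LocalizedModule S M) (maximalIdeal B) (KS S K) hle i).1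
    (fun p hp hp' => absurd (hmax p hp) hp') (locH S K i (ModuleCat.of A M) x)
  refine ⟨z, fun N _ _ g => ?_⟩
  have key : Hmap hle i ((locF S).obj (ModuleCat.of A N)) (Hmx q i g z) =
      locH S K i (ModuleCat.of A N) (Hm K i g x) := by
    refine (Hmap_natural hle i ((locF S).map (ModuleCat.ofHom g)) z).symm.trans ?_
    refine Eq.trans ?_ (locH_natural S K i (ModuleCat.ofHom g) x).symm
    exact congrArg ((localCohomology (KS S K) i).map ((locF S).map (ModuleCat.ofHom g))).hom hz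
  refine ⟨fun h0 => ?_, fun h0 => ?_⟩
  · refine (Hmap_surjective_injective (LocalizedModule S N) (maximalIdeal B) (KS S K) hle i).2
      (fun p hp hp' => absurd (hmax p hp) hp') ?_
    refine key.trans ?_
    rw [h0, map_zero]
    exact (map_zero (Hmap hle i ((locF S).obj (ModuleCat.of A N)))).symm
  · obtain ⟨⟨s, hs⟩, hsx⟩ := (locH_spec S K i N).2 _
      (key.symm.trans ((congrArg _ h0).trans (map_zero _)))
    exact ⟨s, hs, hsx⟩

/-- A natural version of: the kernel of `H^{j+1}_{a+(b)} → H^{j+1}_a` comes from `H^j_a` of the localization. -/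
theorem Hm_eq_zero_of_Hsup_eq_zero (b : A) (a : Ideal A) : ∀ (j : ℕ) (M N : Type u) [AddCommGroup M]
    [Module A M] [AddCommGroup N] [Module A N] (g : M →ₗ[A] N),
    (∀ w : LocCoh.H a j (loc b M), Hm a j (locMap b g) w ∈ LinearMap.range (Hloc b a j N)) →
      ∀ z : LocCoh.H (a ⊔ Ideal.span {b}) (j + 1) M, Hsup b a (j + 1) M z = 0 →
        Hm (a ⊔ Ideal.span {b}) (j + 1) g z = 0 := by
  intro j
  induction j with
  | zero =>
    intro M N _ _ _ _ g hg z hz
    obtain ⟨E, _, _, fM, hfM, hE⟩ := exists_injective_embedding (R := A) M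
    obtain ⟨E', _, _, fN, hfN, hE'⟩ := exists_injective_embedding (R := A) N
    haveI := hE'
    obtain ⟨gE, hgE⟩ := Module.Injective.out (Q := E') fM hfM (fN.comp g)
    let gQ : (E ⧸ LinearMap.range fM) →ₗ[A] (E' ⧸ LinearMap.range fN) :=
      (LinearMap.range fM).mapQ (LinearMap.range fN) gE (by
        rintro _ ⟨m, rfl⟩
        exact ⟨g m, (hgE m).symm⟩)
    have hexM := LinearMap.exact_map_mkQ_range fM
    have hexN := LinearMap.exact_map_mkQ_range fN
    have hM := ses_shortExact fM (LinearMap.range fM).mkQ hfM (Submodule.mkQ_surjective _) hexM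
    have hN := ses_shortExact fN (LinearMap.range fN).mkQ hfN (Submodule.mkQ_surjective _) hexN
    have hM' := loc_shortExact b fM (LinearMap.range fM).mkQ hfM (Submodule.mkQ_surjective _) hexM
    have hN' := loc_shortExact b fN (LinearMap.range fN).mkQ hfN (Submodule.mkQ_surjective _) hexN
    let φ : ses fM (LinearMap.range fM).mkQ hexM.linearMap_comp_eq_zero ⟶
        ses fN (LinearMap.range fN).mkQ hexN.linearMap_comp_eq_zero :=
      { τ₁ := ModuleCat.ofHom g
        τ₂ := ModuleCat.ofHom gE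
        τ₃ := ModuleCat.ofHom gQ
        comm₁₂ := ModuleCat.hom_ext (LinearMap.ext fun m => (hgE m).symm)
        comm₂₃ := rfl }
    obtain ⟨q, rfl⟩ := Hδ_surjective _ hM 0 (subsingleton_H_injective _ E hE 0) z
    obtain ⟨e, he⟩ := (H_exact₃ a hM 0 _).1 ((Hmap_Hδ _ hM 0 q).symm.trans hz)
    obtain ⟨w, hw⟩ := (H_exact₂ a hM' 0 (Hloc b a 0 E e)).1 (by
      refine (Hloc_natural b a 0 (LinearMap.range fM).mkQ e).symm.trans ?_
      refine (congrArg (Hloc b a 0 (E ⧸ LinearMap.range fM)) he).trans ?_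
      exact Hloc_Hsup b a 0 q)
    obtain ⟨v, hv⟩ := hg w
    have h1 : Hloc b a 0 E' (Hm a 0 gE e - Hm a 0 fN v) = 0 := by
      rw [map_sub, sub_eq_zero, Hloc_natural, Hloc_natural, hv]
      refine ((congrArg (Hm a 0 (locMap b gE)) hw).symm).trans ?_
      rw [← Hm_comp]
      refine Eq.trans ?_ (Hm_comp a 0 _ _ w)
      congr 2
      refine IsLocalizedModule.linearMap_ext (Submonoid.powers b) (locι b M) (locι b E') ?_
      refine LinearMap.ext fun m => ?_
      simp only [LinearMap.comp_apply, locMap_locι, hgE m]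
    obtain ⟨y, hy⟩ := exists_Hsup_of_Hloc_eq_zero b a 0 E' _ h1
    have hq : Hm (a ⊔ Ideal.span {b}) 0 gQ q = Hm _ 0 (LinearMap.range fN).mkQ y := by
      refine Hmap_zero_injective (le_sup_left : a ≤ a ⊔ Ideal.span {b}) _ ?_
      refine (Hmap_natural _ 0 (ModuleCat.ofHom gQ) q).symm.trans ?_
      refine Eq.trans ?_ (Hmap_natural _ 0 (ModuleCat.ofHom (LinearMap.range fN).mkQ) y)
      change Hm a 0 gQ (Hsup b a 0 _ q) = Hm a 0 _ (Hsup b a 0 E' y)
      rw [hy, map_sub, show Hm a 0 (LinearMap.range fN).mkQ (Hm a 0 fN v) = 0 from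
        (H_exact₂ a hN 0 _).2 ⟨v, rfl⟩, sub_zero, ← Hm_comp]
      refine (congrArg (Hm a 0 gQ) he).symm.trans ?_
      exact (Hm_comp a 0 _ _ e).symm
    refine (LinearMap.congr_fun (Hδ_naturality _ hM hN φ 0) q).trans ?_
    exact (H_exact₃ _ hN 0 _).2 ⟨y, hq.symm⟩
  | succ j ih =>
    intro M N _ _ _ _ g hg z hz
    obtain ⟨E, _, _, fM, hfM, hE⟩ := exists_injective_embedding (R := A) M
    obtain ⟨E', _, _, fN, hfN, hE'⟩ := exists_injective_embedding (R := A) N
    haveI := hE'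
    obtain ⟨gE, hgE⟩ := Module.Injective.out (Q := E') fM hfM (fN.comp g)
    let gQ : (E ⧸ LinearMap.range fM) →ₗ[A] (E' ⧸ LinearMap.range fN) :=
      (LinearMap.range fM).mapQ (LinearMap.range fN) gE (by
        rintro _ ⟨m, rfl⟩
        exact ⟨g m, (hgE m).symm⟩)
    have hexM := LinearMap.exact_map_mkQ_range fM
    have hexN := LinearMap.exact_map_mkQ_range fN
    have hM := ses_shortExact fM (LinearMap.range fM).mkQ hfM (Submodule.mkQ_surjective _) hexM
    have hN := ses_shortExact fN (LinearMap.range fN).mkQ hfN (Submodule.mkQ_surjective _) hexN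
    have hM' := loc_shortExact b fM (LinearMap.range fM).mkQ hfM (Submodule.mkQ_surjective _) hexM
    have hN' := loc_shortExact b fN (LinearMap.range fN).mkQ hfN (Submodule.mkQ_surjective _) hexN
    let φ : ses fM (LinearMap.range fM).mkQ hexM.linearMap_comp_eq_zero ⟶
        ses fN (LinearMap.range fN).mkQ hexN.linearMap_comp_eq_zero :=
      { τ₁ := ModuleCat.ofHom g
        τ₂ := ModuleCat.ofHom gE
        τ₃ := ModuleCat.ofHom gQ
        comm₁₂ := ModuleCat.hom_ext (LinearMap.ext fun m => (hgE m).symm)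
        comm₂₃ := rfl }
    let φ' : ses (locMap b fM) (locMap b (LinearMap.range fM).mkQ)
        (IsLocalizedModule.map_exact _ (locι b M) (locι b E) (locι b _) fM _ hexM).linearMap_comp_eq_zero ⟶
        ses (locMap b fN) (locMap b (LinearMap.range fN).mkQ)
        (IsLocalizedModule.map_exact _ (locι b N) (locι b E') (locι b _) fN _ hexN).linearMap_comp_eq_zero :=
      { τ₁ := ModuleCat.ofHom (locMap b g)
        τ₂ := ModuleCat.ofHom (locMap b gE)
        τ₃ := ModuleCat.ofHom (locMap b gQ)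
        comm₁₂ := ModuleCat.hom_ext (IsLocalizedModule.linearMap_ext (Submonoid.powers b) (locι b M)
          (locι b E') (LinearMap.ext fun m => (congrArg (locMap b fN) (locMap_locι b g m)).trans
            ((locMap_locι b fN (g m)).trans ((congrArg (locι b E') (hgE m).symm).trans
              ((congrArg (locMap b gE) (locMap_locι b fM m)).trans (locMap_locι b gE (fM m))).symm))))
        comm₂₃ := ModuleCat.hom_ext (IsLocalizedModule.linearMap_ext (Submonoid.powers b) (locι b E)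
          (locι b _) (LinearMap.ext fun m => ((congrArg (locMap b (LinearMap.range fN).mkQ) (locMap_locι b gE m)).trans
            (locMap_locι b (LinearMap.range fN).mkQ (gE m))).trans
              ((congrArg (locMap b gQ) (locMap_locι b (LinearMap.range fM).mkQ m)).trans
                (locMap_locι b gQ _)).symm)) }
    obtain ⟨q, rfl⟩ := Hδ_surjective _ hM (j + 1) (subsingleton_H_injective _ E hE (j + 1)) z
    have hb := Hδ_bijective a hM (j + 1) (subsingleton_H_injective _ E hE j)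
      (subsingleton_H_injective _ E hE (j + 1))
    have hq0 : Hsup b a (j + 1) _ q = 0 :=
      hb.1 (((Hmap_Hδ _ hM (j + 1) q).symm.trans hz).trans (map_zero _).symm)
    have hq : Hm _ (j + 1) gQ q = 0 := by
      refine ih _ _ gQ (fun w => ?_) q hq0
      obtain ⟨v, hv⟩ := hg (Hδ a hM' j w)
      obtain ⟨q', rfl⟩ := Hδ_surjective a hN j (subsingleton_H_injective a E' hE' j) v
      have hnat := LinearMap.congr_fun (Hδ_naturality a hN hN'
        (locHom b fN (LinearMap.range fN).mkQ hexN.linearMap_comp_eq_zero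
          (IsLocalizedModule.map_exact _ (locι b N) (locι b E') (locι b _) fN _ hexN).linearMap_comp_eq_zero) j) q'
      obtain ⟨e', he'⟩ := (H_exact₃ a hN' j (Hm a j (locMap b gQ) w - Hloc b a j _ q')).1 (by
        refine (map_sub (Hδ a hN' j) _ _).trans (sub_eq_zero.2 ?_)
        exact ((LinearMap.congr_fun (Hδ_naturality a hM' hN' φ' j) w).symm.trans hv.symm).trans hnat)
      obtain ⟨e, rfl⟩ := Hloc_surjective_of_injective b a j E' hE' e'
      refine ⟨Hm a j (LinearMap.range fN).mkQ e + q', ?_⟩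
      rw [map_add, Hloc_natural]
      exact (congrArg (· + Hloc b a j _ q') he').trans (sub_add_cancel _ _)
    refine (LinearMap.congr_fun (Hδ_naturality _ hM hN φ (j + 1)) q).trans ?_
    exact (congrArg (Hδ _ hN (j + 1)) hq).trans (map_zero _)

variable {T}

/-- The codimension inside `T`, truncated to a natural number. -/
def hgt (T : Set (PrimeSpectrum A)) (q : PrimeSpectrum A) : ℕ :=
  open Classical in if h : q ∈ T then (Order.coheight (⟨q, h⟩ : T)).toNat else 0

theorem hgt_lt {e : ℕ} (he : Order.krullDim ↥T ≤ (e : WithBot ℕ∞)) {p q : PrimeSpectrum A}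
    (hp : p ∈ T) (hq : q ∈ T) (h : p < q) : hgt T q < hgt T p := by
  have hfin : ∀ x : T, Order.coheight x ≤ (e : ℕ∞) := fun x =>
    WithBot.coe_le_coe.1 (le_trans (Order.coheight_le_krullDim x) he)
  have hlt := Order.coheight_strictAnti (show (⟨p, hp⟩ : T) < ⟨q, hq⟩ from h)
    ((hfin _).trans_lt (WithTop.natCast_lt_top e))
  rw [hgt, dif_pos hq, hgt, dif_pos hp]
  obtain ⟨x, hx⟩ := ENat.ne_top_iff_exists.1 (ne_top_of_le_ne_top (WithTop.natCast_ne_top e) (hfin ⟨p, hp⟩))
  obtain ⟨y, hy⟩ := ENat.ne_top_iff_exists.1 (ne_top_of_le_ne_top (WithTop.natCast_ne_top e) (hfin ⟨q, hq⟩))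
  rw [← hx, ← hy] at hlt ⊢
  exact_mod_cast hlt

theorem hgt_le {e : ℕ} (he : Order.krullDim ↥T ≤ (e : WithBot ℕ∞)) (q : PrimeSpectrum A) :
    hgt T q ≤ e := by
  unfold hgt
  split
  · exact ENat.toNat_le_of_le_coe (WithBot.coe_le_coe.1 (le_trans (Order.coheight_le_krullDim _) he))
  · exact Nat.zero_le e

variable {e : ℕ} (he : Order.krullDim ↥T ≤ (e : WithBot ℕ∞))
  (M : ℕ → Type u) [∀ n, AddCommGroup (M n)] [∀ n, Module A (M n)]
  (φ : ∀ k m : ℕ, m ≤ k → (M k →ₗ[A] M m))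
  (hφ : ∀ (k l m : ℕ) (h₁ : m ≤ l) (h₂ : l ≤ k), φ k m (h₁.trans h₂) = φ l m h₁ ∘ₗ φ k l h₂)
  (i : ℕ) (m' : ℕ → ℕ) (hm' : ∀ m, m ≤ m' m)

include hm' in
theorem le_iterate (n m : ℕ) : m ≤ m'^[n] m :=
  Function.id_le_iterate_of_id_le (f := m') hm' n m

include hm' in
theorem iterate_mono {n n' : ℕ} (h : n ≤ n') (m : ℕ) : m'^[n] m ≤ m'^[n'] m :=
  Function.monotone_iterate_of_id_le (f := m') hm' h m

include hφ in
theorem Hm_φ (K : Ideal A) (j : ℕ) {k l m : ℕ} (h₁ : m ≤ l) (h₂ : l ≤ k) (x : LocCoh.H K j (M k)) :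
    Hm K j (φ k m (h₁.trans h₂)) x = Hm K j (φ l m h₁) (Hm K j (φ k l h₂) x) := by
  rw [hφ k l m h₁ h₂, Hm_comp]

include he hφ hm' in
/-- Vanishing of transition maps on the ideals of the family. -/
theorem Hm_eq_zero_of_pointwise
    (hloc : ∀ p ∈ T, ∀ (m k : ℕ) (h : m ≤ k), m' m ≤ k → ∀ z, Hmx p i (φ k m h) z = 0) :
    ∀ (n : ℕ) (K : Dual2.IdealsIn T), (∀ q : PrimeSpectrum A, K.obj ≤ q.asIdeal → hgt T q < n) →
      ∀ (m k : ℕ) (h : m ≤ k), m'^[n] m ≤ k → ∀ x : LocCoh.H K.obj i (M k), Hm K.obj i (φ k m h) x = 0 := by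
  intro n
  induction n with
  | zero =>
    intro K hK m k h _ x
    have htop : K.obj = ⊤ := by
      by_contra hne
      obtain ⟨P, hP, hle⟩ := Ideal.exists_le_maximal _ hne
      exact Nat.not_lt_zero _ (hK ⟨P, hP.isPrime⟩ hle)
    obtain ⟨d, hd⟩ := isPowerTorsion_H K.obj i (ModuleCat.of A (M k)) x
    have h1 := hd 1 (by rw [htop, Ideal.top_pow]; trivial)
    rw [one_smul] at h1
    rw [h1, map_zero]
  | succ n ih =>
    intro K hK m k h hk x
    rw [Function.iterate_succ_apply'] at hk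
    have hl1 : m ≤ m'^[n] m := le_iterate m' hm' n m
    have hl2 : m'^[n] m ≤ k := (hm' _).trans hk
    set y := Hm K.obj i (φ k (m'^[n] m) hl2) x with hy
    let N : Ideal A := LinearMap.ker (LinearMap.toSpanSingleton A (LocCoh.H K.obj i (M (m'^[n] m))) y)
    have hfin := Ideal.finite_minimalPrimes_of_isNoetherianRing A K.obj
    obtain ⟨c, hcN, hc⟩ := exists_mem_avoid N hfin.toFinset
      (fun q hq => ((Set.Finite.mem_toFinset _).1 hq).1.1)
      fun q hq hle => by
        have hq' := (Set.Finite.mem_toFinset _).1 hq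
        obtain ⟨z, hz⟩ := exists_local K.obj ⟨q, hq'.1.1⟩ hq' i (M k) x
        obtain ⟨s, hs, hsy⟩ := (hz _ (φ k (m'^[n] m) hl2)).2
          (hloc ⟨q, hq'.1.1⟩ (K.property hq'.1.2) _ k hl2 hk z)
        exact hs (hle hsy)
    obtain ⟨y', hy'⟩ := (mem_range_Hsup_iff c K.obj i (M (m'^[n] m)) y).2 ⟨1, by rw [pow_one]; exact hcN⟩
    let K' : Dual2.IdealsIn T := ⟨K.obj ⊔ Ideal.span {c}, fun q hq =>
      K.property ((le_sup_left (a := K.obj) (b := Ideal.span {c})).trans hq)⟩
    have hK' : ∀ q : PrimeSpectrum A, K'.obj ≤ q.asIdeal → hgt T q < n := fun q hq => by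
      obtain ⟨p, hp, hpq⟩ := Ideal.exists_minimalPrimes_le (I := K.obj) (J := q.asIdeal) (le_sup_left.trans hq)
      have hcq : c ∈ q.asIdeal := hq (Submodule.mem_sup_right (Ideal.mem_span_singleton_self c))
      have hcp : c ∉ p := hc p ((Set.Finite.mem_toFinset _).2 hp)
      have hlt : (⟨p, hp.1.1⟩ : PrimeSpectrum A) < q := lt_of_le_of_ne hpq fun heq => hcp (by
        have : p = q.asIdeal := congrArg PrimeSpectrum.asIdeal heq
        rwa [this])
      have h1 := hgt_lt he (K.property hp.1.2) (K'.property hq) hlt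
      have h2 := hK ⟨p, hp.1.1⟩ hp.1.2
      omega
    rw [Hm_φ M φ hφ K.obj i hl1 hl2, ← hy, ← hy']
    refine (Hmap_natural (le_sup_left : K.obj ≤ K'.obj) i (ModuleCat.ofHom (φ _ m hl1)) y').trans ?_
    exact (congrArg (Hmap (le_sup_left : K.obj ≤ K'.obj) i (ModuleCat.of A (M m)))
      (ih K' hK' m _ hl1 le_rfl y')).trans (map_zero _)

include he hφ hm' in
/-- S8940, with the sharper iterate. -/
theorem HT_map_eq_zero_of_pointwise
    (hloc : ∀ p ∈ T, ∀ (m k : ℕ) (h : m ≤ k), m' m ≤ k → ∀ z, Hmx p i (φ k m h) z = 0)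
    (m k : ℕ) (h : m ≤ k) (hk : m'^[e + 1] m ≤ k) :
    (localCohomology.ofDiagram.{u, u} (Dual2.idealsInDiagram T) i).map (ModuleCat.ofHom (φ k m h)) = 0 := by
  refine ModuleCat.hom_ext (LinearMap.ext fun x => ?_)
  obtain ⟨K, y, rfl⟩ := exists_θ_eq T i (ModuleCat.of A (M k)) x
  rw [θ_natural]
  refine (congrArg (θ T K i (ModuleCat.of A (M m))) (Hm_eq_zero_of_pointwise he M φ hφ i m' hm' hloc (e + 1) K
    (fun q _ => Nat.lt_succ_of_le (hgt_le he q)) m k h hk y)).trans ?_
  exact map_zero _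

include he hφ hm' in
/-- The kernel of a change of supports is killed by a long transition. -/
theorem Hm_eq_zero_of_Hmap_eq_zero
    (h1 : ∀ j : ℕ, j + 1 = i → ∀ p ∈ T, ∀ (m k : ℕ) (h : m ≤ k), m' m ≤ k → ∀ z, Hmx p j (φ k m h) z = 0) :
    ∀ (n : ℕ) (K K' : Dual2.IdealsIn T) (hKK : K'.obj ≤ K.obj),
      (∀ q : PrimeSpectrum A, K'.obj ≤ q.asIdeal → ¬ K.obj ≤ q.asIdeal → hgt T q < n) →
      ∀ (b a : ℕ) (h : b ≤ a), (m'^[e + 1])^[n] b ≤ a → ∀ z : LocCoh.H K.obj i (M a),
        Hmap hKK i (ModuleCat.of A (M a)) z = 0 → Hm K.obj i (φ a b h) z = 0 := by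
  intro n
  induction n with
  | zero =>
    intro K K' hKK hn b a h _ z hz
    have hinj := (Hmap_surjective_injective (M a) K.obj K'.obj hKK i).2
      fun p hp hp' => absurd (hn p hp hp') (Nat.not_lt_zero _)
    rw [hinj (hz.trans (map_zero _).symm), map_zero]
  | succ n ih =>
    intro K K' hKK hn b a h ha z hz
    rw [Function.iterate_succ_apply'] at ha
    set l := (m'^[e + 1])^[n] b with hldef
    have hg : ∀ m, m ≤ m'^[e + 1] m := fun m => le_iterate m' hm' _ m
    have hbl : b ≤ l := le_iterate _ hg n b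
    have hla : l ≤ a := (hg l).trans ha
    classical
    have hfin := Ideal.finite_minimalPrimes_of_isNoetherianRing A K'.obj
    obtain ⟨c, hcK, hc⟩ := exists_mem_avoid K.obj (hfin.toFinset.filter fun p => ¬ K.obj ≤ p)
      (fun q hq => ((Set.Finite.mem_toFinset _).1 (Finset.mem_filter.1 hq).1).1.1)
      fun q hq => (Finset.mem_filter.1 hq).2
    let K'' : Dual2.IdealsIn T := ⟨K'.obj ⊔ Ideal.span {c}, fun q hq =>
      K'.property ((le_sup_left (a := K'.obj) (b := Ideal.span {c})).trans hq)⟩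
    have hK'' : K''.obj ≤ K.obj := sup_le hKK ((Ideal.span_singleton_le_iff_mem _).2 hcK)
    have hn' : ∀ q : PrimeSpectrum A, K''.obj ≤ q.asIdeal → ¬ K.obj ≤ q.asIdeal → hgt T q < n := fun q hq hq' => by
      obtain ⟨p, hp, hpq⟩ := Ideal.exists_minimalPrimes_le (I := K'.obj) (J := q.asIdeal) (le_sup_left.trans hq)
      have hcq : c ∈ q.asIdeal := hq (Submodule.mem_sup_right (Ideal.mem_span_singleton_self c))
      have hKp : ¬ K.obj ≤ p := fun hle => hq' (hle.trans hpq)
      have hcp : c ∉ p := hc p (Finset.mem_filter.2 ⟨(Set.Finite.mem_toFinset _).2 hp, hKp⟩)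
      have hlt : (⟨p, hp.1.1⟩ : PrimeSpectrum A) < q := lt_of_le_of_ne hpq fun heq => hcp (by
        have : p = q.asIdeal := congrArg PrimeSpectrum.asIdeal heq
        rwa [this])
      have h1 := hgt_lt he (K'.property hp.1.2) (K''.property hq) hlt
      have h2 := hn ⟨p, hp.1.1⟩ hp.1.2 hKp
      omega
    set z'' := Hmap hK'' i (ModuleCat.of A (M a)) z
    have hz'' : Hsup c K'.obj i (M a) z'' = 0 := (Hmap_trans _ hK'' i _ z).trans hz
    have hzero : Hm K''.obj i (φ a l hla) z'' = 0 := by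
      rcases Nat.eq_zero_or_pos i with hi | hi
      · subst hi
        rw [Hmap_zero_injective _ _ (hz''.trans (map_zero _).symm), map_zero]
      · obtain ⟨j, rfl⟩ : ∃ j, i = j + 1 := ⟨i - 1, by omega⟩
        refine Hm_eq_zero_of_Hsup_eq_zero c K'.obj j _ _ (φ a l hla) (fun w => ?_) z'' hz''
        haveI := isLocalizedModule_Hloc c K'.obj j (M a)
        obtain ⟨⟨x, ⟨_, d, rfl⟩⟩, hx⟩ := IsLocalizedModule.surj (Submonoid.powers c) (Hloc c K'.obj j (M a)) w
        refine ⟨0, (map_zero _).trans (eq_zero_of_pow_smul_eq_zero c K'.obj j (n := d) ?_).symm⟩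
        rw [← map_smul, show c ^ d • w = Hloc c K'.obj j (M a) x from hx]
        refine (Hloc_natural c K'.obj j (φ a l hla) x).symm.trans ?_
        exact (congrArg (Hloc c K'.obj j (M l)) (Hm_eq_zero_of_pointwise he M φ hφ j m' hm' (h1 j rfl) (e + 1) K'
          (fun q _ => Nat.lt_succ_of_le (hgt_le he q)) l a hla ha x)).trans (map_zero _)
    rw [Hm_φ M φ hφ K.obj i hbl hla]
    refine ih K K'' hK'' hn' b l hbl le_rfl _ ?_
    exact (Hmap_natural hK'' i (ModuleCat.ofHom (φ a l hla)) z).symm.trans hzero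

include he hφ hm' in
theorem Hm_eq_zero_of_Hm_eq_zero
    (h1 : ∀ j : ℕ, j + 1 = i → ∀ p ∈ T, ∀ (m k : ℕ) (h : m ≤ k), m' m ≤ k → ∀ z, Hmx p j (φ k m h) z = 0)
    (h23 : ∀ p ∈ T, ∀ (m k : ℕ) (h : m ≤ k), m' m ≤ k → ∀ z,
      Hmx p i (φ k 0 (Nat.zero_le k)) z = 0 → Hmx p i (φ k m h) z = 0) :
    ∀ (n : ℕ) (K : Dual2.IdealsIn T), (∀ q : PrimeSpectrum A, K.obj ≤ q.asIdeal → hgt T q < n) →
      ∀ (m k : ℕ) (h : m ≤ k), m'^[n] m ≤ k → ∀ (hb : (m'^[e + 1])^[(e + 1) * n] 0 ≤ m) (x : LocCoh.H K.obj i (M k)),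
        Hm K.obj i (φ k ((m'^[e + 1])^[(e + 1) * n] 0) (hb.trans h)) x = 0 → Hm K.obj i (φ k m h) x = 0 := by
  intro n
  induction n with
  | zero =>
    intro K hK m k h _ _ x _
    have htop : K.obj = ⊤ := by
      by_contra hne
      obtain ⟨P, hP, hle⟩ := Ideal.exists_le_maximal _ hne
      exact Nat.not_lt_zero _ (hK ⟨P, hP.isPrime⟩ hle)
    obtain ⟨d, hd⟩ := isPowerTorsion_H K.obj i (ModuleCat.of A (M k)) x
    have h1 := hd 1 (by rw [htop, Ideal.top_pow]; trivial)
    rw [one_smul] at h1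
    rw [h1, map_zero]
  | succ n ih =>
    intro K hK m k h hk hb x hx
    rw [Function.iterate_succ_apply'] at hk
    set g := m'^[e + 1] with hgdef
    have hg : ∀ m, m ≤ g m := fun m => le_iterate m' hm' _ m
    have hl1 : m ≤ m'^[n] m := le_iterate m' hm' n m
    have hl2 : m'^[n] m ≤ k := (hm' _).trans hk
    set b₁ := g^[(e + 1) * (n + 1)] 0 with hb₁
    set b₀ := g^[(e + 1) * n] 0 with hb₀
    have hb01 : g^[e + 1] b₀ ≤ b₁ :=
      le_of_eq ((Function.iterate_add_apply g (e + 1) ((e + 1) * n) 0).symm.trans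
        (congrArg (fun t => g^[t] 0) (by rw [mul_add, mul_one, add_comm])))
    have hb0b1 : b₀ ≤ b₁ := (le_iterate g hg _ b₀).trans hb01
    set y := Hm K.obj i (φ k (m'^[n] m) hl2) x with hy
    let N : Ideal A := LinearMap.ker (LinearMap.toSpanSingleton A (LocCoh.H K.obj i (M (m'^[n] m))) y)
    have hfin := Ideal.finite_minimalPrimes_of_isNoetherianRing A K.obj
    obtain ⟨c, hcN, hc⟩ := exists_mem_avoid N hfin.toFinset
      (fun q hq => ((Set.Finite.mem_toFinset _).1 hq).1.1)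
      fun q hq hle => by
        have hq' := (Set.Finite.mem_toFinset _).1 hq
        obtain ⟨z, hz⟩ := exists_local K.obj ⟨q, hq'.1.1⟩ hq' i (M k) x
        have hz0 : Hmx ⟨q, hq'.1.1⟩ i (φ k 0 (Nat.zero_le k)) z = 0 := (hz _ (φ k 0 (Nat.zero_le k))).1 (by
          rw [Hm_φ M φ hφ K.obj i (Nat.zero_le b₁) (hb.trans h), hx, map_zero])
        obtain ⟨s, hs, hsy⟩ := (hz _ (φ k (m'^[n] m) hl2)).2
          (h23 ⟨q, hq'.1.1⟩ (K.property hq'.1.2) _ k hl2 hk z hz0)
        exact hs (hle hsy)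
    obtain ⟨y', hy'⟩ := (mem_range_Hsup_iff c K.obj i (M (m'^[n] m)) y).2 ⟨1, by rw [pow_one]; exact hcN⟩
    let K' : Dual2.IdealsIn T := ⟨K.obj ⊔ Ideal.span {c}, fun q hq =>
      K.property ((le_sup_left (a := K.obj) (b := Ideal.span {c})).trans hq)⟩
    have hK' : ∀ q : PrimeSpectrum A, K'.obj ≤ q.asIdeal → hgt T q < n := fun q hq => by
      obtain ⟨p, hp, hpq⟩ := Ideal.exists_minimalPrimes_le (I := K.obj) (J := q.asIdeal) (le_sup_left.trans hq)
      have hcq : c ∈ q.asIdeal := hq (Submodule.mem_sup_right (Ideal.mem_span_singleton_self c))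
      have hcp : c ∉ p := hc p ((Set.Finite.mem_toFinset _).2 hp)
      have hlt : (⟨p, hp.1.1⟩ : PrimeSpectrum A) < q := lt_of_le_of_ne hpq fun heq => hcp (by
        have : p = q.asIdeal := congrArg PrimeSpectrum.asIdeal heq
        rwa [this])
      have h1 := hgt_lt he (K.property hp.1.2) (K'.property hq) hlt
      have h2 := hK ⟨p, hp.1.1⟩ hp.1.2
      omega
    have hlb1 : b₁ ≤ m'^[n] m := hb.trans hl1
    have hy0 : Hm K'.obj i (φ (m'^[n] m) b₀ (hb0b1.trans hlb1)) y' = 0 := by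
      rw [Hm_φ M φ hφ K'.obj i hb0b1 hlb1]
      refine Hm_eq_zero_of_Hmap_eq_zero he M φ hφ i m' hm' h1 (e + 1) K' K le_sup_left
        (fun q _ _ => Nat.lt_succ_of_le (hgt_le he q)) b₀ b₁ hb0b1 hb01 _ ?_
      refine (Hmap_natural (le_sup_left : K.obj ≤ K'.obj) i (ModuleCat.ofHom (φ _ b₁ hlb1)) y').symm.trans ?_
      change Hm K.obj i (φ _ b₁ hlb1) (Hsup c K.obj i _ y') = 0
      rw [hy', hy, ← Hm_φ M φ hφ K.obj i hlb1 hl2]
      exact hx
    rw [Hm_φ M φ hφ K.obj i hl1 hl2, ← hy, ← hy']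
    refine (Hmap_natural (le_sup_left : K.obj ≤ K'.obj) i (ModuleCat.ofHom (φ _ m hl1)) y').trans ?_
    exact (congrArg (Hmap (le_sup_left : K.obj ≤ K'.obj) i (ModuleCat.of A (M m)))
      (ih K' hK' m _ hl1 le_rfl (hb0b1.trans hb) y' hy0)).trans (map_zero _)

include he hφ hm' in
/-- S8946 in elementwise form. -/
theorem exists_HT_injective_of_pointwise
    (h1 : ∀ j : ℕ, j + 1 = i → ∀ p ∈ T, ∀ (m k : ℕ) (h : m ≤ k), m' m ≤ k → ∀ z, Hmx p j (φ k m h) z = 0)
    (h23 : ∀ p ∈ T, ∀ (m k : ℕ) (h : m ≤ k), m' m ≤ k → ∀ z,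
      Hmx p i (φ k 0 (Nat.zero_le k)) z = 0 → Hmx p i (φ k m h) z = 0) :
    ∃ m₀ : ℕ, ∀ (m : ℕ) (hm : m₀ ≤ m) (k : ℕ) (h : m ≤ k), m'^[e + 1] m ≤ k →
      ∀ x : Dual2.HT T i (M k),
        (localCohomology.ofDiagram.{u, u} (Dual2.idealsInDiagram T) i).map (ModuleCat.ofHom (φ k m₀ (hm.trans h))) x = 0 →
        (localCohomology.ofDiagram.{u, u} (Dual2.idealsInDiagram T) i).map (ModuleCat.ofHom (φ k m h)) x = 0 := by
  set g := m'^[e + 1] with hgdef
  have hg : ∀ m, m ≤ g m := fun m => le_iterate m' hm' _ m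
  set b := g^[(e + 1) * (e + 1)] 0 with hb
  refine ⟨g^[e + 1] b, fun m hm k h hk x hx => ?_⟩
  obtain ⟨K, y, rfl⟩ := exists_θ_eq T i (ModuleCat.of A (M k)) x
  rw [θ_natural] at hx ⊢
  obtain ⟨K', hle, hK'⟩ := exists_Hmap_eq_zero T K i _ _ hx
  have hbm : b ≤ g^[e + 1] b := le_iterate g hg _ b
  have h0 : Hm K.obj i (φ k b (hbm.trans (hm.trans h))) y = 0 := by
    rw [Hm_φ M φ hφ K.obj i hbm (hm.trans h)]
    exact Hm_eq_zero_of_Hmap_eq_zero he M φ hφ i m' hm' h1 (e + 1) K K' hle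
      (fun q _ _ => Nat.lt_succ_of_le (hgt_le he q)) b _ hbm le_rfl _ hK'
  refine (congrArg (θ T K i (ModuleCat.of A (M m))) (Hm_eq_zero_of_Hm_eq_zero he M φ hφ i m' hm' h1 h23 (e + 1) K
    (fun q _ => Nat.lt_succ_of_le (hgt_le he q)) m k h hk (hbm.trans hm) y h0)).trans ?_
  exact map_zero _

end Groth.L04.HTsys
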