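import Groth.Agent.L04.LC.SupportsGlobal
import Groth.Agent.L29.Dual.NormLoc
import Groth.Agent.S1713
import Mathlib.Order.KrullDimension

/-!
# The annihilator theorem for local cohomology over a ring with a dualizing complex
-/

set_option autoImplicit false
set_option linter.style.haveILetI false
set_option backward.isDefEq.respectTransparency false
universe u

open CategoryTheory IsLocalRing
open scoped TensorProduct

attribute [local instance] HasDerivedCategory.standard

noncomputable section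

namespace Groth.L04.AnnihDual

open Groth.L29 Groth.L29.HomD

variable {A : Type u} [CommRing A] [IsNoetherianRing A] {ω : Dual.D A}

/-- The dualizing complex at `q`, shifted by the dimension function. -/
abbrev Wq (hω : Dual.IsDualizing A ω) (q : PrimeSpectrum A)
    [Module.Flat A (Localization.AtPrime q.asIdeal)] : Dual.D (Localization.AtPrime q.asIdeal) :=
  ((FlatBC.L A (Localization.AtPrime q.asIdeal)).obj ω)⟦-dimFun hω q⟧

theorem isNormalized_at (hω : Dual.IsDualizing A ω) (q : PrimeSpectrum A)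
    [Module.Flat A (Localization.AtPrime q.asIdeal)] :
    Dual.IsNormalized (Localization.AtPrime q.asIdeal) (Wq hω q) := by
  intro i hi
  obtain ⟨a, b, hab⟩ := hω.finite_injective_dimension
  haveI := isGE_of_lower a fun M _ _ i hi => hab M i (Or.inl hi)
  let B := Localization.AtPrime q.asIdeal
  have h := lz_of_ne hω q (i := -dimFun hω q + i) (by lia)
  rw [lz_iff, (LocalizedModule.equivTensorProduct q.asIdeal.primeCompl
    (Dual.inD A (A ⧸ q.asIdeal) ⟶ ω⟦-dimFun hω q + i⟧)).toEquiv.subsingleton_congr] at h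
  haveI := h
  let e1 : (B ⊗[A] (A ⧸ q.asIdeal)) ≃ₗ[B] ResidueField B :=
    (Algebra.TensorProduct.quotIdealMapEquivTensorQuot B q.asIdeal).toLinearEquiv.symm.trans
      (Submodule.quotEquivOfEq _ _ (IsLocalization.AtPrime.map_eq_maximalIdeal q.asIdeal B))
  haveI : Subsingleton (Dual.inD B (B ⊗[A] (A ⧸ q.asIdeal)) ⟶
      ((FlatBC.L A B).obj ω)⟦-dimFun hω q + i⟧) :=
    (FlatBC.homEquiv (B := B) (W := ω) a (A ⧸ q.asIdeal) (-dimFun hω q + i)).symm.toEquiv.subsingleton
  haveI := ((HomD.preEquiv ((FlatBC.L A B).obj ω) e1 (-dimFun hω q + i))).toEquiv.subsingleton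
  exact (homShiftEquiv _ _ (-dimFun hω q) i (-dimFun hω q + i) rfl).toEquiv.subsingleton

theorem depth_of_mem_support (hω : Dual.IsDualizing A ω) (p : PrimeSpectrum A) (M : Type u)
    [AddCommGroup M] [Module A M] [Module.Finite A M] (l : ℤ)
    (h : p ∈ Module.support A (Dual.inD A M ⟶ ω⟦l⟧)) :
    ∃ m : ℕ, LocCoh.depth (Localization.AtPrime p.asIdeal) (LocalizedModule p.asIdeal.primeCompl M) = m ∧
      (m : ℤ) ≤ -dimFun hω p - l := by
  haveI : Module.Flat A (Localization.AtPrime p.asIdeal) := IsLocalization.flat _ p.asIdeal.primeCompl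
  let B := Localization.AtPrime p.asIdeal
  let N := LocalizedModule p.asIdeal.primeCompl M
  let φ : (B ⊗[A] M) ≃ₗ[B] N := (LocalizedModule.equivTensorProduct p.asIdeal.primeCompl M).symm
  haveI : Module.Finite B N := Module.Finite.equiv φ
  have hB := isDualizing_shift (FlatBC.isDualizing_L_localization (B := B) p.asIdeal.primeCompl hω) (-dimFun hω p)
  have hn := isNormalized_at hω p
  haveI := hB.isNoetherianRing
  have hnt : Nontrivial (Dual.inD B N ⟶ (Wq hω p)⟦l + dimFun hω p⟧) :=
    (homShiftEquiv _ _ (-dimFun hω p) (l + dimFun hω p) l (by ring)).toEquiv.nontrivial_congr.2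
      ((Loci.mem_support_hom_iff p hω M N φ l).1 h)
  rcases subsingleton_or_nontrivial N with hN | hN
  · exact absurd (HomD.subsingleton_of_module _ _) (not_subsingleton_iff_nontrivial.2 hnt)
  obtain ⟨m, hm, h1, -⟩ := depth_spec hB hn N
  refine ⟨m, hm, ?_⟩
  by_contra hlt
  rcases lt_or_ge 0 (l + dimFun hω p) with hpos | hle
  · exact absurd (subsingleton_of_pos _ (good_of_isDualizing hB) hn N _ hpos)
      (not_subsingleton_iff_nontrivial.2 hnt)
  · obtain ⟨j, hj⟩ : ∃ j : ℕ, l + dimFun hω p = -(j : ℤ) := ⟨(-(l + dimFun hω p)).toNat, by lia⟩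
    rw [hj] at hnt
    exact absurd (h1 j (by lia)) (not_subsingleton_iff_nontrivial.2 hnt)

theorem mem_support_of_depth (hω : Dual.IsDualizing A ω) (p : PrimeSpectrum A) (M : Type u)
    [AddCommGroup M] [Module A M] [Module.Finite A M] (m : ℕ)
    (h : LocCoh.depth (Localization.AtPrime p.asIdeal) (LocalizedModule p.asIdeal.primeCompl M) = m) :
    p ∈ Module.support A (Dual.inD A M ⟶ ω⟦-dimFun hω p - m⟧) := by
  haveI : Module.Flat A (Localization.AtPrime p.asIdeal) := IsLocalization.flat _ p.asIdeal.primeCompl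
  let B := Localization.AtPrime p.asIdeal
  let N := LocalizedModule p.asIdeal.primeCompl M
  let φ : (B ⊗[A] M) ≃ₗ[B] N := (LocalizedModule.equivTensorProduct p.asIdeal.primeCompl M).symm
  haveI : Module.Finite B N := Module.Finite.equiv φ
  have hB := isDualizing_shift (FlatBC.isDualizing_L_localization (B := B) p.asIdeal.primeCompl hω) (-dimFun hω p)
  have hn := isNormalized_at hω p
  haveI := hB.isNoetherianRing
  rcases subsingleton_or_nontrivial N with hN | hN
  · have hd : LocCoh.depth B N = ⊤ := by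
      unfold LocCoh.depth LocCoh.idealDepth
      exact if_pos (Subsingleton.elim _ _)
    exact absurd (hd.symm.trans h).symm (ENat.natCast_ne_top m)
  obtain ⟨m', hm', -, h2⟩ := depth_spec hB hn N
  obtain rfl : m' = m := by exact_mod_cast hm'.symm.trans h
  exact (Loci.mem_support_hom_iff p hω M N φ _).2
    ((homShiftEquiv _ _ (-dimFun hω p) (-(m' : ℤ)) (-dimFun hω p - m') (by ring)).toEquiv.nontrivial_congr.1 h2)

/-- Annihilators at a point, through local duality. -/
theorem kills_H_iff (hω : Dual.IsDualizing A ω) (q : PrimeSpectrum A) (M : Type u) [AddCommGroup M]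
    [Module A M] [Module.Finite A M] (i : ℕ) (r : A) :
    (∀ x : LocCoh.H (maximalIdeal (Localization.AtPrime q.asIdeal)) i
        (LocalizedModule q.asIdeal.primeCompl M), algebraMap A (Localization.AtPrime q.asIdeal) r • x = 0) ↔
      ∀ x : Dual.inD A M ⟶ ω⟦-dimFun hω q - i⟧, ∃ t ∉ q.asIdeal, t • r • x = 0 := by
  haveI : Module.Flat A (Localization.AtPrime q.asIdeal) := IsLocalization.flat _ q.asIdeal.primeCompl
  obtain ⟨a, b, hab⟩ := hω.finite_injective_dimension
  haveI := isGE_of_lower a fun M _ _ i hi => hab M i (Or.inl hi)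
  let B := Localization.AtPrime q.asIdeal
  let N := LocalizedModule q.asIdeal.primeCompl M
  let φ : (B ⊗[A] M) ≃ₗ[B] N := (LocalizedModule.equivTensorProduct q.asIdeal.primeCompl M).symm
  haveI : Module.Finite B N := Module.Finite.equiv φ
  have hB := isDualizing_shift (FlatBC.isDualizing_L_localization (B := B) q.asIdeal.primeCompl hω) (-dimFun hω q)
  haveI := hB.isNoetherianRing
  let E := Dual.inD A M ⟶ ω⟦-dimFun hω q - i⟧
  let e : LocalizedModule q.asIdeal.primeCompl E ≃ₗ[B] (Dual.inD B N ⟶ (Wq hω q)⟦-(i : ℤ)⟧) :=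
    (LocalizedModule.equivTensorProduct q.asIdeal.primeCompl E).trans
      ((FlatBC.homEquiv (B := B) (W := ω) a M (-dimFun hω q - i)).trans
        ((HomD.preEquiv _ φ _).symm.trans
          (homShiftEquiv _ _ (-dimFun hω q) (-(i : ℤ)) (-dimFun hω q - i) (by ring)).symm))
  rw [← Module.mem_annihilator,
    ← Groth.Agent.S1713.result B (Wq hω q) hB (isNormalized_at hω q) N i, ← e.annihilator_eq,
    Module.mem_annihilator]
  constructor
  · intro h x
    have h1 := h (LocalizedModule.mkLinearMap q.asIdeal.primeCompl E x)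
    rw [algebraMap_smul, ← map_smul] at h1
    obtain ⟨⟨t, ht⟩, htx⟩ := (IsLocalizedModule.eq_zero_iff q.asIdeal.primeCompl
      (LocalizedModule.mkLinearMap q.asIdeal.primeCompl E)).1 h1
    exact ⟨t, ht, htx⟩
  · intro h y
    induction y using LocalizedModule.induction_on with
    | h x t =>
      obtain ⟨u, hu, hux⟩ := h x
      rw [algebraMap_smul, LocalizedModule.smul'_mk,
        ← LocalizedModule.zero_mk t, LocalizedModule.mk_eq]
      refine ⟨⟨u, hu⟩, ?_⟩
      simp only [smul_zero, Submonoid.smul_def]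
      rw [smul_comm, hux, smul_zero]

/-- An ideal with zero locus in `T'` killing a finite module wherever its support allows. -/
theorem exists_ideal_kills (T' : Set (PrimeSpectrum A)) (hT' : StableUnderSpecialization T')
    (E : Type*) [AddCommGroup E] [Module A E] [Module.Finite A E] :
    ∃ J : Ideal A, PrimeSpectrum.zeroLocus (J : Set A) ⊆ T' ∧
      ∀ q : PrimeSpectrum A, (∀ p ∈ Module.support A E, p ≤ q → p ∈ T') →
        ∀ r ∈ J, ∀ x : E, ∃ t ∉ q.asIdeal, t • r • x = 0 := by
  classical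
  let a := Module.annihilator A E
  let P := (Ideal.finite_minimalPrimes_of_isNoetherianRing A a).toFinset
  have hP : ∀ {Q}, Q ∈ P → Q ∈ a.minimalPrimes := fun h => (Set.Finite.mem_toFinset _).1 h
  let good : Ideal A → Prop := fun Q => ∀ h : Q.IsPrime, (⟨Q, h⟩ : PrimeSpectrum A) ∈ T'
  let Q := (P.filter good).inf id
  let R := (P.filter fun Q => ¬ good Q).inf id
  obtain ⟨n, hn⟩ := a.exists_radical_pow_le_of_fg (IsNoetherian.noetherian _)
  have hQR : Q * R ≤ a.radical := by
    refine Ideal.mul_le_inf.trans ?_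
    rw [← Ideal.sInf_minimalPrimes]
    refine le_sInf fun p hp => ?_
    have hpP : p ∈ P := (Set.Finite.mem_toFinset _).2 hp
    by_cases hg : good p
    · exact inf_le_left.trans (Finset.inf_le (f := id) (Finset.mem_filter.2 ⟨hpP, hg⟩))
    · exact inf_le_right.trans (Finset.inf_le (f := id) (Finset.mem_filter.2 ⟨hpP, hg⟩))
  refine ⟨Q ^ n, fun q hq => ?_, fun q hq r hr x => ?_⟩
  · rcases Nat.eq_zero_or_pos n with rfl | hpos
    · exact absurd (top_unique (by simpa [PrimeSpectrum.mem_zeroLocus] using hq)) q.isPrime.ne_top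
    have hle : Q ≤ q.asIdeal := fun c hc => q.isPrime.mem_of_pow_mem n (hq (Ideal.pow_mem_pow hc n))
    obtain ⟨p, hp, hpq⟩ := (Ideal.IsPrime.inf_le' q.isPrime).1 hle
    obtain ⟨hpP, hg⟩ := Finset.mem_filter.1 hp
    exact hT' ((PrimeSpectrum.le_iff_specializes ⟨p, (hP hpP).1.1⟩ q).1 hpq) (hg (hP hpP).1.1)
  · have hR : ¬ R ^ n ≤ q.asIdeal := by
      intro hle
      rcases Nat.eq_zero_or_pos n with rfl | hpos
      · exact q.isPrime.ne_top (top_unique (by simpa using hle))
      obtain ⟨p, hp, hpq⟩ := (Ideal.IsPrime.inf_le' q.isPrime).1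
        (show R ≤ q.asIdeal from fun c hc => q.isPrime.mem_of_pow_mem n (hle (Ideal.pow_mem_pow hc n)))
      obtain ⟨hpP, hg⟩ := Finset.mem_filter.1 hp
      refine hg fun h => hq ⟨p, h⟩ ?_ hpq
      rw [Module.support_eq_zeroLocus]
      exact (hP hpP).1.2
    obtain ⟨c, hc, hcq⟩ := SetLike.not_le_iff_exists.1 hR
    refine ⟨c, hcq, ?_⟩
    rw [← mul_smul]
    have : r * c ∈ a := hn (Ideal.pow_right_mono hQR n (by
      rw [mul_pow]; exact Ideal.mul_mem_mul hr hc))
    rw [mul_comm]
    exact Module.mem_annihilator.1 this x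

/-- Lengths of intervals of primes are given by the dimension function. -/
theorem krullDim_Icc (hω : Dual.IsDualizing A ω) (p q : PrimeSpectrum A) (hpq : p ≤ q) :
    Order.krullDim (Set.Icc p q) = (((dimFun hω p - dimFun hω q).toNat : ℕ) : WithBot ℕ∞) := by
  refine le_antisymm ?_ ?_
  · refine iSup_le fun l => ?_
    have key : ∀ k (hk : k < l.length + 1), dimFun hω (l ⟨k, hk⟩).1 + k ≤ dimFun hω p := by
      intro k
      induction k with
      | zero => intro hk; simpa using (dimFun_strictAnti hω).antitone (l ⟨0, hk⟩).2.1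
      | succ k ih =>
        intro hk
        have h1 := ih (by lia)
        have hlt : (l ⟨k, by lia⟩).1 < (l ⟨k + 1, hk⟩).1 := l.step ⟨k, by lia⟩
        have h2 := dimFun_strictAnti hω hlt
        push_cast
        lia
    have h1 := key l.length (by lia)
    have h2 := (dimFun_strictAnti hω).antitone (l ⟨l.length, by lia⟩).2.2
    exact_mod_cast (show l.length ≤ (dimFun hω p - dimFun hω q).toNat by lia)
  · suffices key : ∀ (n : ℕ) (r : PrimeSpectrum A), p ≤ r → dimFun hω p - dimFun hω r = n →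
        ∃ l : LTSeries (PrimeSpectrum A), l.head = p ∧ l.last = r ∧ l.length = n by
      have hle := (dimFun_strictAnti hω).antitone hpq
      obtain ⟨l, hl1, hl2, hl3⟩ := key (dimFun hω p - dimFun hω q).toNat q hpq (by lia)
      have hmem : ∀ k, l k ∈ Set.Icc p q := fun k =>
        ⟨hl1 ▸ l.monotone (Fin.zero_le k), hl2 ▸ l.monotone (Fin.le_last k)⟩
      rw [← hl3]
      exact Order.LTSeries.length_le_krullDim (α := Set.Icc p q)
        ⟨l.length, fun k => ⟨l k, hmem k⟩, fun k => l.step k⟩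
    intro n
    induction n with
    | zero =>
      intro r hr h0
      refine ⟨RelSeries.singleton _ p, rfl, ?_, rfl⟩
      rcases hr.eq_or_lt with rfl | hlt
      · rfl
      · have := dimFun_strictAnti hω hlt; lia
    | succ n ih =>
      intro r hr hn
      have hne : p < r := hr.lt_of_ne (by rintro rfl; lia)
      haveI : WellFoundedGT (PrimeSpectrum A) :=
        ⟨Subrelation.wf (fun {a b} (h : b < a) => (show b.asIdeal < a.asIdeal from h))
          (InvImage.wf (fun p : PrimeSpectrum A => p.asIdeal) wellFounded_gt)⟩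
      obtain ⟨s, ⟨hps, hsr⟩, hmax⟩ := wellFounded_gt.has_min {s | p ≤ s ∧ s < r} ⟨p, le_rfl, hne⟩
      have hcov : s ⋖ r := ⟨hsr, fun t hst htr => hmax t ⟨hps.trans hst.le, htr⟩ hst⟩
      have h1 := dimFun_covBy hω s r hcov
      obtain ⟨l, hl1, hl2, hl3⟩ := ih s hps (by push_cast at hn; lia)
      exact ⟨l.snoc r (show l.last < r from hl2 ▸ hsr), by simp [hl1], by simp, by simp [hl3]⟩

theorem lt_depth_add_iff (hω : Dual.IsDualizing A ω) (p q : PrimeSpectrum A) (hpq : p ≤ q) (s : ℕ)
    (x : ℕ∞) :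
    (s : WithBot ℕ∞) < (x : WithBot ℕ∞) + Order.krullDim (Set.Icc p q) ↔
      ∀ m : ℕ, x = m → (s : ℤ) < m + (dimFun hω p - dimFun hω q) := by
  have hle := (dimFun_strictAnti hω).antitone hpq
  rw [krullDim_Icc hω p q hpq]
  induction x using ENat.recTopCoe with
  | top =>
    refine iff_of_true ?_ fun m hm => absurd hm.symm (ENat.natCast_ne_top m)
    rw [show ((⊤ : ℕ∞) : WithBot ℕ∞) + (((dimFun hω p - dimFun hω q).toNat : ℕ) : WithBot ℕ∞) =
      (((⊤ : ℕ∞) + ((dimFun hω p - dimFun hω q).toNat : ℕ∞) : ℕ∞) : WithBot ℕ∞) from rfl, top_add]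
    exact WithBot.coe_lt_coe.2 (ENat.natCast_lt_top s)
  | coe k =>
    constructor
    · intro h m hm
      obtain rfl : k = m := by exact_mod_cast hm
      have h' : s < k + (dimFun hω p - dimFun hω q).toNat := by exact_mod_cast h
      lia
    · intro h
      have h' := h k rfl
      exact_mod_cast (show s < k + (dimFun hω p - dimFun hω q).toNat by lia)

/-- The annihilator theorem for `H^i_T`. -/
theorem annihilator_iff (hω : Dual.IsDualizing A ω) (T T' : Set (PrimeSpectrum A))
    (hT : StableUnderSpecialization T) (hT' : StableUnderSpecialization T') (s : ℕ) (M : Type u)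
    [AddCommGroup M] [Module A M] [Module.Finite A M] :
    (∃ J : Ideal A, PrimeSpectrum.zeroLocus (J : Set A) ⊆ T' ∧
        ∀ i : ℕ, i ≤ s → ∀ a ∈ J, ∀ x : Dual2.HT T i M, a • x = 0) ↔
      ∀ p q : PrimeSpectrum A, p ∉ T' → q ∈ T → p ≤ q → (s : WithBot ℕ∞) <
        ((LocCoh.depth (Localization.AtPrime p.asIdeal) (LocalizedModule p.asIdeal.primeCompl M) : ℕ∞) :
          WithBot ℕ∞) + Order.krullDim (Set.Icc p q) := by
  constructor
  · rintro ⟨J, hJ, hk⟩ p q hp hq hpq
    rw [lt_depth_add_iff hω p q hpq]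
    intro m hm
    by_contra hle
    have hd := (dimFun_strictAnti hω).antitone hpq
    obtain ⟨i, hi⟩ : ∃ i : ℕ, (i : ℤ) = m + (dimFun hω p - dimFun hω q) :=
      ⟨(m + (dimFun hω p - dimFun hω q)).toNat, by lia⟩
    obtain ⟨e, he⟩ := HTlocal.exists_pow_kills_point T hT J s M hk i (by lia)
    obtain ⟨c, hcJ, hcp⟩ := SetLike.not_le_iff_exists.1 (fun hle' : J ≤ p.asIdeal => hp (hJ hle'))
    have hk' := (kills_H_iff hω q M i (c ^ e)).1 (he q hq _ (Ideal.pow_mem_pow hcJ e))
    have hmem := mem_support_of_depth hω p M m hm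
    rw [show -dimFun hω p - (m : ℤ) = -dimFun hω q - (i : ℤ) by lia] at hmem
    refine absurd hmem (Module.notMem_support_iff'.2 fun y => ?_)
    obtain ⟨t, ht, hty⟩ := hk' y
    refine ⟨t * c ^ e, fun hmem' => ?_, by rw [mul_smul]; exact hty⟩
    rcases p.isPrime.mem_or_mem hmem' with h | h
    · exact ht (hpq h)
    · exact hcp (p.isPrime.mem_of_pow_mem e h)
  · intro h
    classical
    obtain ⟨lo, hi', hrange⟩ := hω.finite_injective_dimension
    obtain ⟨b, c, hbc⟩ := dimFun_bounded hω
    have hJ : ∀ l : ℤ, ∃ J : Ideal A, PrimeSpectrum.zeroLocus (J : Set A) ⊆ T' ∧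
        ∀ q : PrimeSpectrum A, (∀ p ∈ Module.support A (Dual.inD A M ⟶ ω⟦l⟧), p ≤ q → p ∈ T') →
          ∀ r ∈ J, ∀ x : (Dual.inD A M ⟶ ω⟦l⟧), ∃ t ∉ q.asIdeal, t • r • x = 0 := fun l => by
      haveI := finite_hom ω (good_of_isDualizing hω) M l
      exact exists_ideal_kills T' hT' _
    choose Jl hJl hkl using hJ
    let J := ∏ l ∈ Finset.Icc lo hi', Jl l
    refine ⟨J ^ ((c - b).toNat + 1), fun q hq => ?_, fun i hi a ha x => ?_⟩
    · have hle : J ≤ q.asIdeal := fun d hd => q.isPrime.mem_of_pow_mem _ (hq (Ideal.pow_mem_pow hd _))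
      obtain ⟨l, -, hl⟩ := (Ideal.IsPrime.prod_le q.isPrime).1 hle
      exact hJl l hl
    · refine HTlocal.exists_pow_kills_HT T (dimFun_strictAnti hω) b c (fun q => (hbc q).1)
        (fun q => (hbc q).2) J i M (fun q hq r hr => ?_) a ha x
      rw [kills_H_iff hω q M i r]
      set l := -dimFun hω q - (i : ℤ) with hldef
      by_cases hl : l ∈ Finset.Icc lo hi'
      · refine hkl l q (fun p hp hpq => ?_) r (Finset.inf_le (f := Jl) hl (Ideal.prod_le_inf hr))
        by_contra hpT
        obtain ⟨m, hm, hmle⟩ := depth_of_mem_support hω p M l hp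
        have := (lt_depth_add_iff hω p q hpq s _).1 (h p q hpT hq hpq) m hm
        lia
      · rw [Finset.mem_Icc] at hl
        haveI := hrange M l (by lia)
        exact fun x => ⟨1, fun h1 => q.isPrime.ne_top ((Ideal.eq_top_iff_one _).2 h1), Subsingleton.elim _ _⟩

/-- An element away from `p` killing `H^i_I`. -/
theorem exists_annihilator_away (hω : Dual.IsDualizing A ω) (I : Ideal A) (M : Type u) [AddCommGroup M]
    [Module A M] [Module.Finite A M] (p : PrimeSpectrum A) (hp : ¬ I ≤ p.asIdeal) (s : ℕ)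
    (h : ∀ p' q : PrimeSpectrum A, p' ≤ p → I ≤ q.asIdeal → p' ≤ q → (s : WithBot ℕ∞) <
      ((LocCoh.depth (Localization.AtPrime p'.asIdeal) (LocalizedModule p'.asIdeal.primeCompl M) : ℕ∞) :
        WithBot ℕ∞) + Order.krullDim (Set.Icc p' q)) :
    ∃ f : A, f ∉ p.asIdeal ∧ ∀ i : ℕ, i ≤ s → ∀ x : LocCoh.H I i M, f • x = 0 := by
  let T := PrimeSpectrum.zeroLocus (I : Set A)
  let T' : Set (PrimeSpectrum A) := {x | ¬ x ≤ p}
  have hT : StableUnderSpecialization T := fun x y hxy hx =>
    (PrimeSpectrum.mem_zeroLocus _ _).2 fun a ha => (PrimeSpectrum.le_iff_specializes x y).2 hxy (hx ha)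
  have hT' : StableUnderSpecialization T' := fun x y hxy hx hy =>
    hx (((PrimeSpectrum.le_iff_specializes x y).2 hxy).trans hy)
  obtain ⟨J, hJ, hk⟩ := (annihilator_iff hω T T' hT hT' s M).2
    fun p' q hp' hq hpq => h p' q (not_not.1 hp') hq hpq
  obtain ⟨c, hcJ, hcp⟩ := SetLike.not_le_iff_exists.1 (fun hle : J ≤ p.asIdeal => hJ hle le_rfl)
  choose e he using HTlocal.exists_pow_kills_H T J
  refine ⟨c ^ ((Finset.range (s + 1)).sup e), fun hmem => hcp (p.isPrime.mem_of_pow_mem _ hmem),
    fun i hi x => ?_⟩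
  refine he i ⟨I, fun q hq => hq⟩ 1 M (fun j hj r hr => hk j (hj.trans hi) r (by simpa using hr)) _ ?_ x
  rw [pow_one]
  exact Ideal.pow_le_pow_right (Finset.le_sup (Finset.mem_range.2 (by omega))) (Ideal.pow_mem_pow hcJ _)

end Groth.L04.AnnihDual
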