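import Groth.Agent.L04.LC.Nonvanish
import Groth.Agent.L12.Algz.ProML
import Groth.Prelude.Def_DerCA

/-!
# Inverse systems of Artinian modules
-/

set_option autoImplicit false
universe u

open CategoryTheory CategoryTheory.Limits Opposite

noncomputable section

namespace Groth.L04.ArtSys

variable {A : Type u} [CommRing A] (X : ARSys.PS (ModuleCat.{u} A))

theorem tr_tr_apply {a b c : ℕ} (h₁ : a ≤ b) (h₂ : b ≤ c) (x : X.obj (op c)) :
    (ARSys.tr X h₁).hom ((ARSys.tr X h₂).hom x) = (ARSys.tr X (h₁.trans h₂)).hom x := by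
  rw [← Groth.L12.Algz.tr_tr X h₁ h₂]
  rfl

theorem tr_refl_apply {a : ℕ} (x : X.obj (op a)) : (ARSys.tr X (le_refl a)).hom x = x := by
  change (X.map (𝟙 (op a))).hom x = x
  rw [X.map_id]
  rfl

/-- The images into a fixed term stabilize. -/
theorem exists_stable (hX : ∀ n, IsArtinian A (X.obj (op n))) (n : ℕ) :
    ∃ (k : ℕ) (hk : n ≤ k), ∀ (l : ℕ) (hl : n ≤ l) (x : X.obj (op k)),
      ∃ y : X.obj (op l), (ARSys.tr X hl).hom y = (ARSys.tr X hk).hom x := by
  haveI := hX n
  let f : ℕ →o (Submodule A (X.obj (op n)))ᵒᵈ :=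
    ⟨fun r => OrderDual.toDual (LinearMap.range (ARSys.tr X (Nat.le_add_right n r)).hom), by
      intro r r' h
      change LinearMap.range _ ≤ LinearMap.range _
      rintro _ ⟨y, rfl⟩
      exact ⟨_, tr_tr_apply X (Nat.le_add_right n r) (Nat.add_le_add_left h n) y⟩⟩
  obtain ⟨r, hr⟩ := IsArtinian.monotone_stabilizes f
  refine ⟨n + r, Nat.le_add_right n r, fun l hl x => ?_⟩
  have h := congrArg OrderDual.ofDual (hr (max r l) (le_max_left r l))
  change LinearMap.range _ = LinearMap.range _ at h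
  obtain ⟨y, hy⟩ := h.le (LinearMap.mem_range_self _ x)
  exact ⟨(ARSys.tr X (show l ≤ n + max r l by omega)).hom y, (tr_tr_apply X _ _ y).trans hy⟩

theorem isML (hX : ∀ n, IsArtinian A (X.obj (op n))) : ARSys.IsML X := by
  intro n
  obtain ⟨k, hk, hstab⟩ := exists_stable X hX n
  obtain ⟨r, rfl⟩ := Nat.exists_eq_add_of_le hk
  refine ⟨r, fun s hs => le_antisymm ?_ ?_⟩
  · refine Groth.L12.Algz.imageSubobject_le_of_comp_cokernel _ _ (ModuleCat.hom_ext (LinearMap.ext fun x => ?_))
    change (cokernel.π (ARSys.shiftMap X r n)).hom ((ARSys.tr X (Nat.le_add_right n s)).hom x) = 0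
    rw [← tr_tr_apply X hk (Nat.add_le_add_left hs n) x]
    exact ConcreteCategory.congr_hom (cokernel.condition (ARSys.shiftMap X r n)) _
  · refine Groth.L12.Algz.imageSubobject_le_of_comp_cokernel _ _ (ModuleCat.hom_ext (LinearMap.ext fun x => ?_))
    obtain ⟨y, hy⟩ := hstab (n + s) (Nat.le_add_right n s) x
    change (cokernel.π (ARSys.shiftMap X s n)).hom ((ARSys.tr X hk).hom x) = 0
    rw [← hy]
    exact ConcreteCategory.congr_hom (cokernel.condition (ARSys.shiftMap X s n)) _

/-- A cone bijective on the limit makes the system essentially constant. -/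
theorem isEssConstant {H : ModuleCat.{u} A} [IsArtinian A H] (hX : ∀ n, IsArtinian A (X.obj (op n)))
    (c : (Functor.const ℕᵒᵖ).obj H ⟶ X) (hinj : ∀ x : H, (∀ n : ℕ, (c.app (op n)).hom x = 0) → x = 0)
    (hsurj : ∀ y : (∀ n : ℕ, X.obj (op n)), (∀ (n m : ℕ) (h : n ≤ m), (ARSys.tr X h).hom (y m) = y n) →
      ∃ x : H, ∀ n : ℕ, (c.app (op n)).hom x = y n) : DerCA.IsEssConstant X H c := by
  have hc : ∀ {a b : ℕ} (h : a ≤ b) (x : H), (ARSys.tr X h).hom ((c.app (op b)).hom x) = (c.app (op a)).hom x := by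
    intro a b h x
    exact (ConcreteCategory.congr_hom (c.naturality (homOfLE h).op) x).symm
  choose k hk hstab using exists_stable X hX
  -- every stable element comes from the cone
  have himg : ∀ (n : ℕ) (x : X.obj (op (k n))), ∃ h : H, (c.app (op n)).hom h = (ARSys.tr X (hk n)).hom x := by
    intro n x
    let P : ∀ m : ℕ, X.obj (op (n + m)) → Prop := fun m z =>
      ∃ w : X.obj (op (k (n + m))), (ARSys.tr X (hk (n + m))).hom w = z
    have hstep : ∀ m z, P m z → ∃ z', P (m + 1) z' ∧ (ARSys.tr X (Nat.le_succ (n + m))).hom z' = z := by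
      rintro m _ ⟨w, rfl⟩
      obtain ⟨w', hw'⟩ := hstab (n + m) (k (n + m + 1)) ((Nat.le_succ _).trans (hk (n + m + 1))) w
      exact ⟨(ARSys.tr X (hk (n + m + 1))).hom w', ⟨w', rfl⟩, (tr_tr_apply X _ _ w').trans hw'⟩
    choose g hg1 hg2 using hstep
    let b : ∀ m, {z : X.obj (op (n + m)) // P m z} := fun m =>
      Nat.rec (motive := fun m => {z : X.obj (op (n + m)) // P m z}) ⟨(ARSys.tr X (hk n)).hom x, x, rfl⟩
        (fun m z => ⟨g m z.1 z.2, hg1 m z.1 z.2⟩) m
    have hb : ∀ (m m' : ℕ) (hm : m ≤ m'), (ARSys.tr X (Nat.add_le_add_left hm n)).hom (b m').1 = (b m).1 := by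
      intro m m' hm
      induction m', hm using Nat.le_induction with
      | base => exact tr_refl_apply X _
      | succ m' hm ih =>
        refine Eq.trans ?_ ih
        refine (tr_tr_apply X (Nat.add_le_add_left hm n) (Nat.le_succ (n + m')) _).symm.trans ?_
        exact congrArg (ARSys.tr X _).hom (hg2 m' _ (b m').2)
    obtain ⟨h, hh⟩ := hsurj (fun j => (ARSys.tr X (show j ≤ n + j by omega)).hom (b j).1) (fun a a' haa => by
      rw [tr_tr_apply, ← tr_tr_apply X (show a ≤ n + a by omega) (Nat.add_le_add_left haa n), hb a a' haa])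
    refine ⟨h, (hh n).trans ?_⟩
    exact hb 0 n (Nat.zero_le n)
  -- the kernels stabilize at zero
  let K : ℕ →o (Submodule A H)ᵒᵈ := ⟨fun n => OrderDual.toDual (LinearMap.ker (c.app (op n)).hom), by
    intro a b h x (hx : (c.app (op b)).hom x = 0)
    change (c.app (op a)).hom x = 0
    rw [← hc h x, hx, map_zero]⟩
  obtain ⟨i₀, hi₀⟩ := IsArtinian.monotone_stabilizes K
  have hinj₀ : Function.Injective (c.app (op i₀)).hom := by
    rw [injective_iff_map_eq_zero]
    intro x hx
    refine hinj x fun n => ?_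
    have h1 : x ∈ LinearMap.ker (c.app (op (max i₀ n))).hom :=
      (congrArg OrderDual.ofDual (hi₀ _ (le_max_left i₀ n))).le hx
    rw [← hc (le_max_right i₀ n) x, LinearMap.mem_ker.1 h1, map_zero]
  choose s hs using himg i₀
  let S : X.obj (op (k i₀)) →ₗ[A] H :=
    { toFun := s
      map_add' := fun x y => hinj₀ (by rw [map_add, hs, hs, hs, map_add])
      map_smul' := fun r x => hinj₀ (by rw [RingHom.id_apply, map_smul, hs, hs, map_smul]) }
  refine ⟨k i₀, ModuleCat.ofHom S, ModuleCat.hom_ext (LinearMap.ext fun x => hinj₀ ?_), fun j => ?_⟩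
  · exact (hs _).trans (hc (hk i₀) x)
  refine ⟨max (k (max i₀ j)) (k i₀), le_max_right _ _,
    ((le_max_right i₀ j).trans (hk _)).trans (le_max_left _ _), ModuleCat.hom_ext (LinearMap.ext fun x => ?_)⟩
  obtain ⟨h, hh⟩ := himg (max i₀ j) ((ARSys.tr X (le_max_left _ _)).hom x)
  rw [tr_tr_apply] at hh
  change _ = (c.app (op j)).hom (s ((ARSys.tr X (le_max_right _ _)).hom x))
  have h1 : s ((ARSys.tr X (le_max_right (k (max i₀ j)) (k i₀))).hom x) = h := hinj₀ (by
    rw [hs, tr_tr_apply, ← hc (le_max_left i₀ j) h, hh, tr_tr_apply])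
  rw [h1, ← hc (le_max_right i₀ j) h, hh, tr_tr_apply]

end Groth.L04.ArtSys
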