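import Groth.Agent.L04.LC.UniformVanish
import Mathlib.RingTheory.MvPolynomial.Homogeneous

/-!
# Ideals of cohomological dimension one
-/

set_option autoImplicit false
universe u

open CategoryTheory Limits Abelian

noncomputable section

namespace Groth.L04.LC

variable {A : Type u} [CommRing A] [IsNoetherianRing A] {r : ℕ} (f : Fin r → A)

theorem exists_splitting (h₁ : LocCoh.CdLE A (Ideal.span (Set.range f)) 1) :
    ∃ (c : ℕ) (φ : Fin r → (↥(Ideal.span (Set.range f) ^ (c + 1)) →ₗ[A] A)),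
      ∀ x : ↥(Ideal.span (Set.range f) ^ (c + 1)), (x : A) = ∑ j, f j * φ j x := by
  let I := Ideal.span (Set.range f)
  obtain ⟨m, h, hm⟩ := exists_uniform_kill I h₁ 1
  let L : (Fin r → A) →ₗ[A] A := Fintype.linearCombination A f
  have hL : LinearMap.range L = I ^ 1 := by
    rw [pow_one, Fintype.range_linearCombination]
  let L' : (Fin r → A) →ₗ[A] ↥(I ^ 1) := L.codRestrict (I ^ 1) fun v => by rw [← hL]; exact LinearMap.mem_range_self L v
  have hL' : Function.Surjective L' := fun y => by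
    obtain ⟨v, hv⟩ : y.1 ∈ LinearMap.range L := by rw [hL]; exact y.2
    exact ⟨v, Subtype.ext hv⟩
  have hK := ses_shortExact (LinearMap.ker L').subtype L' (Submodule.injective_subtype _) hL' L'.exact_subtype_ker_map
  have hQ : ∀ n : ℕ, (ses (Submodule.subtype (I ^ n)) (Submodule.mkQ (I ^ n))
      (LinearMap.exact_subtype_mkQ (I ^ n)).linearMap_comp_eq_zero).ShortExact := fun n =>
    ses_shortExact _ _ (Submodule.injective_subtype _) (Submodule.mkQ_surjective _) (LinearMap.exact_subtype_mkQ _)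
  have hle : I ^ m ≤ I ^ 1 := Ideal.pow_le_pow_right h
  let incl : ↥(I ^ m) →ₗ[A] ↥(I ^ 1) := Submodule.inclusion hle
  let φ : ses (Submodule.subtype (I ^ m)) (Submodule.mkQ (I ^ m)) (LinearMap.exact_subtype_mkQ (I ^ m)).linearMap_comp_eq_zero ⟶
      ses (Submodule.subtype (I ^ 1)) (Submodule.mkQ (I ^ 1)) (LinearMap.exact_subtype_mkQ (I ^ 1)).linearMap_comp_eq_zero :=
    { τ₁ := ModuleCat.ofHom incl
      τ₂ := 𝟙 _
      τ₃ := quotMap I h
      comm₁₂ := rfl
      comm₂₃ := rfl }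
  have hnat := ShortComplex.ShortExact.extClass_naturality (hQ m) (hQ 1) φ
  have hkill := hm 0 (LinearMap.ker L') ((hQ 1).extClass.comp hK.extClass rfl)
  change (Ext.mk₀ φ.τ₃).comp _ _ = 0 at hkill
  rw [← Ext.comp_assoc (a₁₂ := 1) _ _ _ (zero_add 1) (by omega) (by omega), ← hnat,
    Ext.comp_assoc (a₂₃ := 1) _ _ _ (add_zero 1) (zero_add 1) (by omega)] at hkill
  haveI : CategoryTheory.Projective (ModuleCat.of A A) :=
    (IsProjective.iff_projective A).1 inferInstance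
  obtain ⟨y, hy⟩ := Ext.contravariant_sequence_exact₁ (hQ m) _ ((Ext.mk₀ φ.τ₁).comp hK.extClass (zero_add 1))
    (by omega : 1 + 1 = 1 + 1 + 0) hkill
  rw [@Subsingleton.elim _ (Ext.subsingleton_of_projective (ModuleCat.of A A) _ _) y 0, Ext.comp_zero] at hy
  obtain ⟨x₂, hx₂⟩ := Ext.covariant_sequence_exact₃ (ModuleCat.of A ↥(I ^ m)) hK (Ext.mk₀ φ.τ₁) (zero_add 1) hy.symm
  let ℓ : ↥(I ^ m) →ₗ[A] (Fin r → A) := (Ext.homEquiv₀ x₂).hom
  have hℓ : L'.comp ℓ = incl := by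
    rw [← Ext.mk₀_homEquiv₀_apply x₂, Ext.mk₀_comp_mk₀] at hx₂
    exact congrArg ModuleCat.Hom.hom ((Ext.mk₀_bijective _ _).1 hx₂)
  obtain ⟨c, rfl⟩ := Nat.exists_eq_add_of_le h
  refine ⟨c, fun j => (LinearMap.proj j).comp (ℓ.comp (Submodule.inclusion (Ideal.pow_le_pow_right (by omega)))), fun x => ?_⟩
  let x' : ↥(I ^ (1 + c)) := Submodule.inclusion (Ideal.pow_le_pow_right (by omega)) x
  have h1 := congrArg Subtype.val (LinearMap.congr_fun hℓ x')
  change L (ℓ x') = (x : A) at h1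
  rw [← h1]
  simp [L, Fintype.linearCombination_apply, mul_comm, x']

/-- The iteration of a splitting. -/
def phiIter {I : Ideal A} {c : ℕ} (φ : Fin r → (↥(I ^ c) →ₗ[A] A)) : ℕ → A → MvPolynomial (Fin r) A := by
  classical
  exact fun n => Nat.rec (fun a => MvPolynomial.C a)
    (fun _ Φ g => if hg : g ∈ I ^ c then ∑ j, Φ (φ j ⟨g, hg⟩) * MvPolynomial.X j else 0) n

variable {I : Ideal A} {c : ℕ} (φ : Fin r → (↥(I ^ c) →ₗ[A] A))

omit [IsNoetherianRing A]

theorem phiIter_zero (a : A) : phiIter φ 0 a = MvPolynomial.C a := rfl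

theorem phiIter_succ (n : ℕ) {g : A} (hg : g ∈ I ^ c) :
    phiIter φ (n + 1) g = ∑ j, phiIter φ n (φ j ⟨g, hg⟩) * MvPolynomial.X j := by
  classical
  exact dif_pos hg

theorem phi_mem : ∀ (k : ℕ) (j : Fin r) {g : A} (hg : g ∈ I ^ c), g ∈ I ^ (k + c) → φ j ⟨g, hg⟩ ∈ I ^ k := by
  intro k j g hg hgk
  have hmem : (⟨g, hg⟩ : ↥(I ^ c)) ∈ (I ^ k) • (⊤ : Submodule A ↥(I ^ c)) := by
    have h' : g ∈ Submodule.map (Submodule.subtype (I ^ c)) ((I ^ k) • (⊤ : Submodule A ↥(I ^ c))) := by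
      rwa [Submodule.map_smul'', Submodule.map_subtype_top, smul_eq_mul, ← pow_add]
    obtain ⟨z, hz, hzg⟩ := h'
    rwa [show (⟨g, hg⟩ : ↥(I ^ c)) = z from Subtype.ext hzg.symm]
  have h := Submodule.mem_map_of_mem (f := φ j) hmem
  rw [Submodule.map_smul''] at h
  exact (Submodule.smul_le.2 fun a ha b _ => Ideal.mul_mem_right _ _ ha) h

theorem succ_le (n : ℕ) : I ^ ((n + 1) * c) ≤ I ^ c :=
  Ideal.pow_le_pow_right (Nat.le_mul_of_pos_left c n.succ_pos)

theorem phiIter_add : ∀ (n : ℕ), ∀ g ∈ I ^ (n * c), ∀ h ∈ I ^ (n * c),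
    phiIter φ n (g + h) = phiIter φ n g + phiIter φ n h := by
  intro n
  induction n with
  | zero => intro g _ h _; exact map_add _ _ _
  | succ n ih =>
    intro g hg h hh
    rw [phiIter_succ φ n (succ_le n (add_mem hg hh)), phiIter_succ φ n (succ_le n hg), phiIter_succ φ n (succ_le n hh),
      ← Finset.sum_add_distrib]
    refine Finset.sum_congr rfl fun j _ => ?_
    rw [show (⟨g + h, _⟩ : ↥(I ^ c)) = ⟨g, succ_le n hg⟩ + ⟨h, succ_le n hh⟩ from rfl, map_add,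
      ih _ (phi_mem φ (n * c) j _ (by rwa [← Nat.succ_mul])) _ (phi_mem φ (n * c) j _ (by rwa [← Nat.succ_mul])), add_mul]

theorem phiIter_smul : ∀ (n : ℕ) (a : A), ∀ g ∈ I ^ (n * c), phiIter φ n (a * g) = a • phiIter φ n g := by
  intro n
  induction n with
  | zero => intro a g _; rw [MvPolynomial.smul_eq_C_mul]; exact map_mul _ _ _
  | succ n ih =>
    intro a g hg
    rw [phiIter_succ φ n (succ_le n (Ideal.mul_mem_left _ a hg)), phiIter_succ φ n (succ_le n hg), Finset.smul_sum]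
    refine Finset.sum_congr rfl fun j _ => ?_
    rw [show (⟨a * g, _⟩ : ↥(I ^ c)) = a • ⟨g, succ_le n hg⟩ from rfl, map_smul, smul_eq_mul,
      ih a _ (phi_mem φ (n * c) j _ (by rwa [← Nat.succ_mul])), smul_mul_assoc]

theorem phiIter_homogeneous : ∀ (n : ℕ), ∀ g ∈ I ^ (n * c), (phiIter φ n g).IsHomogeneous n := by
  intro n
  induction n with
  | zero => intro g _; exact MvPolynomial.isHomogeneous_C _ _
  | succ n ih =>
    intro g hg
    rw [phiIter_succ φ n (succ_le n hg)]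
    exact MvPolynomial.IsHomogeneous.sum _ _ _ fun j _ =>
      (ih _ (phi_mem φ (n * c) j _ (by rwa [← Nat.succ_mul]))).mul (MvPolynomial.isHomogeneous_X A j)

theorem phiIter_mul : ∀ (n m : ℕ), ∀ g ∈ I ^ (n * c), ∀ h ∈ I ^ (m * c),
    phiIter φ (n + m) (g * h) = phiIter φ n g * phiIter φ m h := by
  intro n
  induction n with
  | zero =>
    intro m g _ h hh
    rw [Nat.zero_add, phiIter_smul φ m g h hh, phiIter_zero, MvPolynomial.smul_eq_C_mul]
  | succ n ih =>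
    intro m g hg h hh
    have hgh : g * h ∈ I ^ c := Ideal.mul_mem_right _ _ (succ_le n hg)
    rw [Nat.succ_add, phiIter_succ φ (n + m) hgh, phiIter_succ φ n (succ_le n hg), Finset.sum_mul]
    refine Finset.sum_congr rfl fun j _ => ?_
    rw [show (⟨g * h, hgh⟩ : ↥(I ^ c)) = h • ⟨g, succ_le n hg⟩ from Subtype.ext (mul_comm g h), map_smul,
      smul_eq_mul, mul_comm h, ih m _ (phi_mem φ (n * c) j _ (by rwa [← Nat.succ_mul])) h hh]
    ring

theorem phiIter_one (g : A) (hg : g ∈ I ^ c) :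
    phiIter φ 1 g = ∑ j, MvPolynomial.C (φ j ⟨g, hg⟩) * MvPolynomial.X j :=
  phiIter_succ φ 0 hg

theorem aeval_phiIter (hφ : ∀ x : ↥(I ^ c), (x : A) = ∑ j, f j * φ j x) :
    ∀ n : ℕ, ∀ g ∈ I ^ (n * c), MvPolynomial.aeval f (phiIter φ n g) = g := by
  intro n
  induction n with
  | zero => intro g _; exact MvPolynomial.aeval_C _ _
  | succ n ih =>
    intro g hg
    rw [phiIter_succ φ n (succ_le n hg), map_sum]
    conv_rhs => rw [show g = ((⟨g, succ_le n hg⟩ : ↥(I ^ c)) : A) from rfl, hφ]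
    refine Finset.sum_congr rfl fun j _ => ?_
    rw [map_mul, ih _ (phi_mem φ (n * c) j _ (by rwa [← Nat.succ_mul])), MvPolynomial.aeval_X, mul_comm]

theorem phiIter_unique (Ψ : ℕ → A → MvPolynomial (Fin r) A)
    (hadd : ∀ n : ℕ, ∀ g ∈ I ^ (n * c), ∀ h ∈ I ^ (n * c), Ψ (n) (g + h) = Ψ n g + Ψ n h)
    (hmul : ∀ n m : ℕ, ∀ g ∈ I ^ (n * c), ∀ h ∈ I ^ (m * c), Ψ (n + m) (g * h) = Ψ n g * Ψ m h)
    (h0 : ∀ a : A, Ψ 0 a = MvPolynomial.C a)
    (h1 : ∀ (g : A) (hg : g ∈ I ^ c), Ψ 1 g = ∑ j, MvPolynomial.C (φ j ⟨g, hg⟩) * MvPolynomial.X j) :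
    ∀ n : ℕ, ∀ g ∈ I ^ (n * c), Ψ n g = phiIter φ n g := by
  intro n
  induction n with
  | zero => intro g _; exact h0 g
  | succ n ih =>
    intro g hg
    have hg' : g ∈ I ^ c * I ^ (n * c) := by rwa [← pow_add, add_comm, ← Nat.succ_mul]
    refine Submodule.mul_induction_on' (C := fun x _ => Ψ (n + 1) x = phiIter φ (n + 1) x) ?_ ?_ hg'
    · intro a ha b hb
      rw [Nat.add_comm n 1, hmul 1 n a (by rwa [one_mul]) b hb, phiIter_mul φ 1 n a (by rwa [one_mul]) b hb, ih b hb,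
        h1 a ha, phiIter_one φ a ha]
    · intro x hx y hy ex ey
      have hx' : x ∈ I ^ ((n + 1) * c) := by rwa [← pow_add, add_comm, ← Nat.succ_mul] at hx
      have hy' : y ∈ I ^ ((n + 1) * c) := by rwa [← pow_add, add_comm, ← Nat.succ_mul] at hy
      rw [hadd (n + 1) x hx' y hy', phiIter_add φ (n + 1) x hx' y hy', ex, ey]

end Groth.L04.LC
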