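import Mathlib.Algebra.Category.ModuleCat.FilteredColimits
import Mathlib.Algebra.Category.ModuleCat.Colimits
import Mathlib.CategoryTheory.Limits.ConcreteCategory.WithAlgebraicStructures

/-!
# Elements of a filtered colimit of functors to modules
-/

universe u v w w'

open CategoryTheory Limits

namespace Groth.L04.LC

variable {R : Type u} [Ring R] {C : Type w} [Category.{w'} C] {J : Type v} [SmallCategory J]
  [HasColimitsOfShape J (ModuleCat.{u} R)] (F : J ⥤ C ⥤ ModuleCat.{u} R)

/-- The structure map of a colimit of functors, at an object. -/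
noncomputable def cι (j : J) (M : C) : (F.obj j).obj M →ₗ[R] (colimit F).obj M :=
  ((colimit.ι F j).app M).hom

theorem cι_w {j k : J} (w : j ⟶ k) (M : C) (x : (F.obj j).obj M) :
    cι F k M (((F.map w).app M).hom x) = cι F j M x := by
  unfold cι
  rw [← LinearMap.comp_apply, ← ModuleCat.hom_comp, ← NatTrans.comp_app, colimit.w]

theorem cι_natural (j : J) {M N : C} (g : M ⟶ N) (x : (F.obj j).obj M) :
    ((colimit F).map g).hom (cι F j M x) = cι F j N (((F.obj j).map g).hom x) := by
  unfold cι
  rw [← LinearMap.comp_apply, ← ModuleCat.hom_comp, ← LinearMap.comp_apply,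
    ← ModuleCat.hom_comp, ← (colimit.ι F j).naturality g]

/-- Evaluation of a colimit of functors. -/
noncomputable def evalIso (M : C) :
    (colimit F).obj M ≅ colimit (F ⋙ (evaluation _ _).obj M) :=
  colimitObjIsoColimitCompEvaluation F M

theorem evalIso_cι (j : J) (M : C) (x : (F.obj j).obj M) :
    (evalIso F M).hom.hom (cι F j M x) = (colimit.ι (F ⋙ (evaluation _ _).obj M) j).hom x :=
  LinearMap.congr_fun (ModuleCat.hom_ext_iff.1
    (colimitObjIsoColimitCompEvaluation_ι_app_hom F j M)) x

variable [IsFiltered J] [PreservesColimitsOfShape J (forget (ModuleCat.{u} R))]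

theorem cι_surjective (M : C) (x : (colimit F).obj M) : ∃ j y, cι F j M y = x := by
  obtain ⟨j, y, hy⟩ := Concrete.colimit_exists_rep (F ⋙ (evaluation _ _).obj M)
    ((evalIso F M).hom.hom x)
  exact ⟨j, y, (evalIso F M).toLinearEquiv.injective ((evalIso_cι F j M y).trans hy)⟩

theorem cι_eq_zero {j : J} {M : C} {x : (F.obj j).obj M} (h : cι F j M x = 0) :
    ∃ (k : J) (w : j ⟶ k), ((F.map w).app M).hom x = 0 := by
  have h' := (evalIso_cι F j M x).symm.trans
    ((congrArg (evalIso F M).hom.hom h).trans (map_zero _))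
  obtain ⟨k, a, b, hab⟩ := Concrete.colimit_exists_of_rep_eq (F ⋙ (evaluation _ _).obj M)
    (i := j) (j := j) x 0 (h'.trans (map_zero (colimit.ι (F ⋙ (evaluation _ _).obj M) j).hom).symm)
  exact ⟨k, a, hab.trans (map_zero _)⟩

omit [IsFiltered J] [PreservesColimitsOfShape J (forget (ModuleCat.{u} R))] in
/-- A compatible family of maps descends to the colimit. -/
noncomputable def cdesc {M : C} {N : ModuleCat.{u} R}
    (f : ∀ j, (F.obj j).obj M →ₗ[R] N)
    (hf : ∀ ⦃j k : J⦄ (w : j ⟶ k) (x : (F.obj j).obj M), f k (((F.map w).app M).hom x) = f j x) :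
    (colimit F).obj M →ₗ[R] N :=
  ((evalIso F M).hom ≫ colimit.desc (F ⋙ (evaluation _ _).obj M)
    { pt := N
      ι :=
        { app := fun j => ModuleCat.ofHom (f j)
          naturality := fun j k w => ModuleCat.hom_ext (LinearMap.ext fun x => hf w x) } }).hom

omit [IsFiltered J] [PreservesColimitsOfShape J (forget (ModuleCat.{u} R))] in
theorem cdesc_cι {M : C} {N : ModuleCat.{u} R}
    (f : ∀ j, (F.obj j).obj M →ₗ[R] N)
    (hf : ∀ ⦃j k : J⦄ (w : j ⟶ k) (x : (F.obj j).obj M), f k (((F.map w).app M).hom x) = f j x)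
    (j : J) (x : (F.obj j).obj M) : cdesc F f hf (cι F j M x) = f j x := by
  unfold cdesc
  rw [ModuleCat.hom_comp, LinearMap.comp_apply, evalIso_cι, ← LinearMap.comp_apply,
    ← ModuleCat.hom_comp, colimit.ι_desc]
  rfl

end Groth.L04.LC
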