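import Groth.Agent.L04.LC.AnnihDuality
import Groth.Agent.L04.CMBasic
import Groth.Agent.L02.CMMor.FlatDepth
import Groth.Agent.L04.FibStalk
import Groth.Agent.L29.Dual.DualFlat
import Groth.Agent.L01.AdicNoeth
import Mathlib.RingTheory.AdicCompletion.AsTensorProduct

/-!
# Depth and dimension functions along flat maps with dualizing complexes, and adic completions
-/

set_option autoImplicit false
set_option linter.style.haveILetI false
set_option backward.isDefEq.respectTransparency false
universe u

open CategoryTheory IsLocalRing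
open scoped TensorProduct

attribute [local instance] HasDerivedCategory.standard

noncomputable section

namespace Groth.L04.CplDim

open Groth.L29 Groth.L29.HomD Groth.L04.AnnihDual

theorem depth_congr {R : Type u} [CommRing R] [IsLocalRing R] {X Y : Type u} [AddCommGroup X] [Module R X]
    [AddCommGroup Y] [Module R Y] (e : X ≃ₗ[R] Y) : LocCoh.depth R X = LocCoh.depth R Y :=
  Groth.L04.idealDepth_congr e

variable {A : Type u} [CommRing A] [IsNoetherianRing A] {B : Type u} [CommRing B] [IsNoetherianRing B]
  [Algebra A B] [Module.Flat A B]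

/-- The image prime. -/
abbrev img (P : PrimeSpectrum B) : PrimeSpectrum A := PrimeSpectrum.comap (algebraMap A B) P

variable (A) in
/-- The depth of the closed fibre of `A_p → B_P`. -/
abbrev fibDepth (P : PrimeSpectrum B) : ℕ∞ :=
  LocCoh.depth (Localization.AtPrime P.asIdeal) (Localization.AtPrime P.asIdeal ⧸
    ((img (A := A) P).asIdeal.map (algebraMap A B)).map (algebraMap B (Localization.AtPrime P.asIdeal)))

/-- `depth (B ⊗ M)_P = depth M_p + depth of the fibre`. -/
theorem depth_baseChange (P : PrimeSpectrum B) (M : Type u) [AddCommGroup M] [Module A M] [Module.Finite A M] :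
    LocCoh.depth (Localization.AtPrime P.asIdeal) (LocalizedModule P.asIdeal.primeCompl (B ⊗[A] M)) =
      LocCoh.depth (Localization.AtPrime (img (A := A) P).asIdeal)
        (LocalizedModule (img (A := A) P).asIdeal.primeCompl M) + fibDepth A P := by
  let p := (img (A := A) P).asIdeal
  let Ap := Localization.AtPrime p
  let C := Localization.AtPrime P.asIdeal
  letI : Algebra Ap C := (Localization.localRingHom p P.asIdeal (algebraMap A B) rfl).toAlgebra
  haveI : IsLocalHom (algebraMap Ap C) := Localization.isLocalHom_localRingHom p P.asIdeal (algebraMap A B) rfl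
  haveI : IsScalarTower A Ap C := IsScalarTower.of_algebraMap_eq fun a => by
    rw [IsScalarTower.algebraMap_apply A B C]
    exact (Localization.localRingHom_to_map p P.asIdeal (algebraMap A B) rfl a).symm
  haveI : IsNoetherianRing Ap := IsLocalization.isNoetherianRing p.primeCompl Ap inferInstance
  haveI : IsNoetherianRing C := IsLocalization.isNoetherianRing P.asIdeal.primeCompl C inferInstance
  haveI : Module.Flat Ap C := (Module.flat_iff_of_isLocalization Ap p.primeCompl C).2
    (haveI : Module.Flat B C := IsLocalization.flat C P.asIdeal.primeCompl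
     Module.Flat.trans A B C)
  haveI : Module.Finite Ap (LocalizedModule p.primeCompl M) :=
    Module.Finite.of_isLocalizedModule p.primeCompl (LocalizedModule.mkLinearMap p.primeCompl M)
  let e : (C ⊗[Ap] LocalizedModule p.primeCompl M) ≃ₗ[C] LocalizedModule P.asIdeal.primeCompl (B ⊗[A] M) :=
    (TensorProduct.AlgebraTensorModule.congr (LinearEquiv.refl C C)
      (LocalizedModule.equivTensorProduct p.primeCompl M)).trans
    ((TensorProduct.AlgebraTensorModule.cancelBaseChange A Ap C C M).trans
    ((TensorProduct.AlgebraTensorModule.cancelBaseChange A B C C M).symm.trans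
      (LocalizedModule.equivTensorProduct P.asIdeal.primeCompl (B ⊗[A] M)).symm))
  rw [← depth_congr e, L02.CMMor.depth_tensor C (LocalizedModule p.primeCompl M)]
  congr 1
  refine depth_congr (Submodule.quotEquivOfEq _ _ ?_)
  have h : (maximalIdeal Ap).map (algebraMap Ap C) = (p.map (algebraMap A B)).map (algebraMap B C) := by
    rw [← IsLocalization.AtPrime.map_eq_maximalIdeal p Ap, Ideal.map_map, Ideal.map_map,
      ← IsScalarTower.algebraMap_eq A Ap C, ← IsScalarTower.algebraMap_eq A B C]
  rw [Ideal.smul_top_eq_map]
  rw [Algebra.algebraMap_self, Ideal.map_id]; exact h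

theorem nontrivial_fibre (P : PrimeSpectrum B) : Nontrivial (Localization.AtPrime P.asIdeal ⧸
    ((img (A := A) P).asIdeal.map (algebraMap A B)).map (algebraMap B (Localization.AtPrime P.asIdeal))) := by
  refine Ideal.Quotient.nontrivial_iff.2 (ne_top_of_le_ne_top (maximalIdeal.isMaximal _).ne_top ?_)
  rw [← IsLocalization.AtPrime.map_eq_maximalIdeal P.asIdeal (Localization.AtPrime P.asIdeal)]
  exact Ideal.map_mono (Ideal.map_le_iff_le_comap.2 le_rfl)

/-- At a minimal prime of the fibre the fibre has depth `0`. -/
theorem fibDepth_eq_zero (P : PrimeSpectrum B)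
    (hP : P.asIdeal ∈ ((img (A := A) P).asIdeal.map (algebraMap A B)).minimalPrimes) : fibDepth A P = 0 := by
  let C := Localization.AtPrime P.asIdeal
  haveI : IsNoetherianRing C := IsLocalization.isNoetherianRing P.asIdeal.primeCompl C inferInstance
  haveI := nontrivial_fibre (A := A) P
  have hdim : Module.supportDim C (C ⧸ ((img (A := A) P).asIdeal.map (algebraMap A B)).map (algebraMap B C)) = 0 := by
    rw [Module.supportDim_quotient_eq_ringKrullDim]
    refine le_antisymm ?_ ringKrullDim_nonneg_of_nontrivial
    rw [ringKrullDim_quotient, Order.krullDim_nonpos_iff_forall_isMax]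
    intro Q R _
    have h := IsLocalization.AtPrime.radical_map_of_mem_minimalPrimes C P.asIdeal _ hP
    rw [IsLocalization.AtPrime.map_eq_maximalIdeal P.asIdeal C] at h
    exact (le_maximalIdeal R.1.isPrime.ne_top).trans (h.ge.trans (Q.1.isPrime.radical_le_iff.2 Q.2))
  have h := Groth.L04.depth_le_supportDim (R := C)
    (M := C ⧸ ((img (A := A) P).asIdeal.map (algebraMap A B)).map (algebraMap B C))
  rw [hdim] at h
  exact le_antisymm (WithBot.coe_le_coe.1 h) zero_le

theorem fibDepth_eq_of_self (p' : PrimeSpectrum B) :
    LocCoh.depth (Localization.AtPrime p'.asIdeal)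
      (LocalizedModule p'.asIdeal.primeCompl (B ⊗[A] (A ⧸ (img (A := A) p').asIdeal))) = fibDepth A p' := by
  rw [depth_baseChange p' (A ⧸ (img (A := A) p').asIdeal)]
  let p := (img (A := A) p').asIdeal
  haveI : IsNoetherianRing (Localization.AtPrime p) :=
    IsLocalization.isNoetherianRing p.primeCompl _ inferInstance
  suffices h0 : LocCoh.depth (Localization.AtPrime p) (LocalizedModule p.primeCompl (A ⧸ p)) = 0 by
    rw [h0, zero_add]
  let e : LocalizedModule p.primeCompl (A ⧸ p) ≃ₗ[Localization.AtPrime p]
      ResidueField (Localization.AtPrime p) :=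
    (LocalizedModule.equivTensorProduct p.primeCompl (A ⧸ p)).trans
      ((Algebra.TensorProduct.quotIdealMapEquivTensorQuot (Localization.AtPrime p) p).toLinearEquiv.symm.trans
        (Submodule.quotEquivOfEq _ _ (IsLocalization.AtPrime.map_eq_maximalIdeal p (Localization.AtPrime p))))
  rw [depth_congr e]
  have hdim : Module.supportDim (Localization.AtPrime p) (ResidueField (Localization.AtPrime p)) = 0 := by
    exact (Module.supportDim_quotient_eq_ringKrullDim (maximalIdeal (Localization.AtPrime p))).trans
      (ringKrullDim_eq_zero_of_field (ResidueField (Localization.AtPrime p)))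
  have h := Groth.L04.depth_le_supportDim (R := Localization.AtPrime p)
    (M := ResidueField (Localization.AtPrime p))
  rw [hdim] at h
  exact le_antisymm (WithBot.coe_le_coe.1 h) zero_le

variable {ω : Dual.D A} (hω : Dual.IsDualizing A ω) (hωB : Dual.IsDualizing B ((FlatBC.L A B).obj ω))
include hω hωB

/-- The fibre depth is the drop of the dimension function. -/
theorem fibDepth_eq (P : PrimeSpectrum B) :
    ∃ f : ℕ, fibDepth A P = f ∧ (f : ℤ) = dimFun hω (img (A := A) P) - dimFun hωB P := by
  let p := img (A := A) P
  let N := B ⊗[A] (A ⧸ p.asIdeal)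
  have htop : fibDepth A P ≠ ⊤ := by
    intro htop
    haveI := nontrivial_fibre (A := A) P
    haveI : IsNoetherianRing (Localization.AtPrime P.asIdeal) :=
      IsLocalization.isNoetherianRing P.asIdeal.primeCompl _ inferInstance
    have h := Groth.L04.depth_le_supportDim (R := Localization.AtPrime P.asIdeal)
      (M := Localization.AtPrime P.asIdeal ⧸
        (p.asIdeal.map (algebraMap A B)).map (algebraMap B (Localization.AtPrime P.asIdeal)))
    rw [show LocCoh.depth _ _ = ⊤ from htop] at h
    have h2 : Module.supportDim (Localization.AtPrime P.asIdeal) (Localization.AtPrime P.asIdeal ⧸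
        (p.asIdeal.map (algebraMap A B)).map (algebraMap B (Localization.AtPrime P.asIdeal))) < ⊤ :=
      lt_of_le_of_lt (Module.supportDim_le_ringKrullDim _ _) ringKrullDim_lt_top
    exact absurd (h.trans_lt h2) (lt_irrefl _)
  obtain ⟨f, hf⟩ := ENat.ne_top_iff_exists.1 htop
  refine ⟨f, hf.symm, ?_⟩
  have hmem := mem_support_of_depth hωB P N f ((fibDepth_eq_of_self P).trans hf.symm)
  by_contra hne
  set l := -dimFun hωB P - (f : ℤ) with hl
  have hlz : LZ p.asIdeal (Dual.inD A (A ⧸ p.asIdeal) ⟶ ω⟦l⟧) := lz_of_ne hω p (by lia)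
  haveI := finite_hom ω (good_of_isDualizing hω) (A ⧸ p.asIdeal) l
  obtain ⟨s, hs, hsx⟩ := hlz.exists_smul
  obtain ⟨a, b, hab⟩ := hω.finite_injective_dimension
  haveI := isGE_of_lower a fun M _ _ i hi => hab M i (Or.inl hi)
  refine absurd hmem (Module.notMem_support_iff'.2 fun y => ⟨algebraMap A B s, hs, ?_⟩)
  obtain ⟨z, rfl⟩ := (FlatBC.homEquiv (B := B) (W := ω) a (A ⧸ p.asIdeal) l).surjective y
  rw [← map_smul]
  refine (congrArg _ ?_).trans (map_zero _)
  induction z using TensorProduct.induction_on with
  | zero => exact smul_zero _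
  | tmul c x => rw [algebraMap_smul, ← TensorProduct.tmul_smul, hsx, TensorProduct.tmul_zero]
  | add x y hx hy => rw [smul_add, hx, hy, add_zero]

/-- Where the fibre is a point the dimension functions agree. -/
theorem dimFun_eq_of_minimal (P : PrimeSpectrum B)
    (hP : P.asIdeal ∈ ((img (A := A) P).asIdeal.map (algebraMap A B)).minimalPrimes) :
    dimFun hωB P = dimFun hω (img (A := A) P) := by
  obtain ⟨f, hf, hf'⟩ := fibDepth_eq hω hωB P
  rw [fibDepth_eq_zero P hP] at hf
  have : f = 0 := by exact_mod_cast hf.symm
  lia

end Groth.L04.CplDim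

end

namespace Groth.L04.CplDim

open Groth.L29 AdicCompletion

variable {A : Type u} [CommRing A] [IsNoetherianRing A] (I : Ideal A)

theorem isDualizing_completion {ω : Dual.D A} (hω : Dual.IsDualizing A ω) :
    Dual.IsDualizing (AdicCompletion I A) ((FlatBC.L A (AdicCompletion I A)).obj ω) := by
  have hI : I.FG := IsNoetherian.noetherian I
  haveI := Groth.L01.AdicNoeth.isNoetherianRing_adicCompletion I hI
  haveI : IsAdicComplete (I.map (algebraMap A (AdicCompletion I A))) (AdicCompletion I A) :=
    AdicCompletion.isAdicComplete_self I hI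
  refine FlatBC.isDualizing_L_quot_iso I (fun y => ?_) (IsAdicComplete.le_jacobson_bot _) hω
  obtain ⟨y, rfl⟩ := Ideal.Quotient.mk_surjective y
  obtain ⟨x, hx⟩ := Ideal.Quotient.mk_surjective (AdicCompletion.evalOneₐ I y)
  refine ⟨x, Ideal.Quotient.eq.2 ?_⟩
  rw [← AdicCompletion.ker_evalOneₐ_eq_map I hI, RingHom.mem_ker, map_sub, sub_eq_zero]
  exact ((AdicCompletion.evalOneₐ I).commutes x).trans hx

/-- Primes containing `I` of the completion are extended from their contraction. -/
theorem map_comap_eq (Q : Ideal (AdicCompletion I A)) (hQ : I.map (algebraMap A (AdicCompletion I A)) ≤ Q) :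
    (Q.comap (algebraMap A (AdicCompletion I A))).map (algebraMap A (AdicCompletion I A)) = Q := by
  refine le_antisymm Ideal.map_comap_le fun y hy => ?_
  have hI : I.FG := IsNoetherian.noetherian I
  obtain ⟨x, hx⟩ := Ideal.Quotient.mk_surjective (AdicCompletion.evalOneₐ I y)
  have hmem : algebraMap A (AdicCompletion I A) x - y ∈ I.map (algebraMap A (AdicCompletion I A)) := by
    rw [← AdicCompletion.ker_evalOneₐ_eq_map I hI, RingHom.mem_ker, map_sub, sub_eq_zero]
    exact ((AdicCompletion.evalOneₐ I).commutes x).trans hx
  have hIle : I ≤ Q.comap (algebraMap A (AdicCompletion I A)) := Ideal.map_le_iff_le_comap.1 hQ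
  have hxm : x ∈ Q.comap (algebraMap A (AdicCompletion I A)) := by
    rw [Ideal.mem_comap]
    simpa using Q.add_mem (hQ hmem) hy
  simpa using Ideal.sub_mem _ (Ideal.mem_map_of_mem _ hxm) (Ideal.map_mono hIle hmem)

/-- The depth of a completed module at a prime. -/
theorem depth_completion (M : Type u) [AddCommGroup M] [Module A M] [Module.Finite A M]
    (P : PrimeSpectrum (AdicCompletion I A)) :
    LocCoh.depth (Localization.AtPrime P.asIdeal) (LocalizedModule P.asIdeal.primeCompl (AdicCompletion I M)) =
      LocCoh.depth (Localization.AtPrime (img (A := A) P).asIdeal)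
        (LocalizedModule (img (A := A) P).asIdeal.primeCompl M) + fibDepth A P := by
  haveI := Groth.L01.AdicNoeth.isNoetherianRing_adicCompletion I (IsNoetherian.noetherian I)
  rw [← depth_baseChange (B := AdicCompletion I A) P M]
  exact depth_congr ((LocalizedModule.equivTensorProduct P.asIdeal.primeCompl (AdicCompletion I M)).trans
    ((TensorProduct.AlgebraTensorModule.congr (LinearEquiv.refl _ (Localization.AtPrime P.asIdeal))
      (AdicCompletion.ofTensorProductEquivOfFiniteNoetherian I M).symm).trans
      (LocalizedModule.equivTensorProduct P.asIdeal.primeCompl (AdicCompletion I A ⊗[A] M)).symm))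

end Groth.L04.CplDim
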