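import Groth.Agent.L04.LC.DerivedAnnih
import Groth.Agent.L29.Dual.Biduality

/-!
# Objects with finite cohomology as iterated extensions of duals of modules
-/

set_option autoImplicit false
set_option linter.style.haveILetI false
set_option backward.isDefEq.respectTransparency false
universe u

open CategoryTheory CategoryTheory.Limits CategoryTheory.Pretriangulated Opposite IsLocalRing
open scoped TensorProduct

attribute [local instance] HasDerivedCategory.standard

noncomputable section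

namespace Groth.L04.DualPeel

open Groth.L29.HomD

variable {A : Type u} [CommRing A] (W : DRing.Cx A)

/-- The shifted dual of a module. -/
abbrev XD (N : ModuleCat.{u} A) (l : ℤ) : Dual.D A := (DRing.toD (HM W N))⟦l⟧

/-- Functoriality of the shifted dual. -/
abbrev XDmap {M N : ModuleCat.{u} A} (f : M ⟶ N) (l : ℤ) : XD W N l ⟶ XD W M l :=
  (DerivedCategory.Q.map (HMmap W f))⟦l⟧'

theorem XDmap_comp {M N P : ModuleCat.{u} A} (f : M ⟶ N) (g : N ⟶ P) (l : ℤ) :
    XDmap W (f ≫ g) l = XDmap W g l ≫ XDmap W f l := by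
  rw [XDmap, HMmap_comp, Functor.map_comp, Functor.map_comp]

@[reassoc]
theorem XDmap_comp' {M N P : ModuleCat.{u} A} (f : M ⟶ N) (g : N ⟶ P) (l : ℤ) :
    XDmap W g l ≫ XDmap W f l = XDmap W (f ≫ g) l := (XDmap_comp W f g l).symm

theorem XDmap_id (M : ModuleCat.{u} A) (l : ℤ) : XDmap W (𝟙 M) l = 𝟙 _ := by
  rw [XDmap, HMmap_id, CategoryTheory.Functor.map_id, CategoryTheory.Functor.map_id]

theorem XDmap_zero {M N : ModuleCat.{u} A} (l : ℤ) : XDmap W (0 : M ⟶ N) l = 0 := by
  rw [XDmap, HMmap_zero, Functor.map_zero, Functor.map_zero]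

theorem XDmap_add {M N : ModuleCat.{u} A} (f g : M ⟶ N) (l : ℤ) :
    XDmap W (f + g) l = XDmap W f l + XDmap W g l := by
  rw [XDmap, HMmap_add, Functor.map_add, Functor.map_add]

theorem XDmap_sum {ι : Type*} (s : Finset ι) {M N : ModuleCat.{u} A} (f : ι → (M ⟶ N)) (l : ℤ) :
    XDmap W (∑ i ∈ s, f i) l = ∑ i ∈ s, XDmap W (f i) l :=
  map_sum (AddMonoidHom.mk' (fun f : M ⟶ N => XDmap W f l) fun f g => XDmap_add W f g l) f s

theorem XDmap_smul {M N : ModuleCat.{u} A} (c : A) (f : M ⟶ N) (l : ℤ) :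
    XDmap W (c • f) l = c • XDmap W f l := by
  have h : HMmap W (c • f) = c • HMmap W f := by
    ext n : 1
    exact ModuleCat.hom_ext (LinearMap.ext fun φ : N ⟶ W.X n => Linear.smul_comp _ _ _ c f φ)
  rw [XDmap, h, Functor.map_smul, Functor.map_smul]

theorem smul_id_eq_zero {M : ModuleCat.{u} A} (r : A) (h : ∀ x : M, r • x = 0) (l : ℤ) :
    r • 𝟙 (XD W M l) = 0 := by
  rw [← XDmap_id, ← XDmap_smul, show r • 𝟙 M = (0 : M ⟶ M) from ModuleCat.hom_ext (LinearMap.ext h), XDmap_zero]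

/-- Functoriality along isomorphisms. -/
def XDiso {M N : ModuleCat.{u} A} (e : M ≅ N) (l : ℤ) : XD W N l ≅ XD W M l where
  hom := XDmap W e.hom l
  inv := XDmap W e.inv l
  hom_inv_id := by rw [← XDmap_comp, Iso.inv_hom_id, XDmap_id]
  inv_hom_id := by rw [← XDmap_comp, Iso.hom_inv_id, XDmap_id]

theorem isZero_XD (M : ModuleCat.{u} A) (h : IsZero M) (l : ℤ) : IsZero (XD W M l) := by
  rw [IsZero.iff_id_eq_zero, ← XDmap_id, h.eq_of_src (𝟙 M) 0, XDmap_zero]

section SES

variable [∀ n, Injective (W.X n)] {S : ShortComplex (ModuleCat.{u} A)} (hS : S.ShortExact) (X : Dual.D A) (l : ℤ)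

include hS

theorem exists_lift (φ : X ⟶ XD W S.X₂ l) (h : φ ≫ XDmap W S.f l = 0) :
    ∃ ψ : X ⟶ XD W S.X₃ l, ψ ≫ XDmap W S.g l = φ := by
  obtain ⟨ψ, hψ⟩ := Triangle.coyoneda_exact₂ _ (Triangle.shift_distinguished _
    (DerivedCategory.triangleOfSES_distinguished (HMsc_shortExact W S hS)) l) φ (by
      change φ ≫ (l.negOnePow • XDmap W S.f l) = 0
      rw [Linear.comp_units_smul, h, smul_zero])
  change φ = ψ ≫ (l.negOnePow • XDmap W S.g l) at hψ
  exact ⟨l.negOnePow • ψ, by rw [hψ, Linear.comp_units_smul, Linear.units_smul_comp]⟩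

theorem eq_zero_of_comp (h₁ : Subsingleton (X ⟶ XD W S.X₁ (l - 1))) (φ : X ⟶ XD W S.X₃ l)
    (h : φ ≫ XDmap W S.g l = 0) : φ = 0 := by
  obtain ⟨ψ, hψ⟩ := Triangle.coyoneda_exact₂ _ (Triangle.shift_distinguished _ (inv_rot_of_distTriang _
    (DerivedCategory.triangleOfSES_distinguished (HMsc_shortExact W S hS))) l) φ (by
      change φ ≫ (l.negOnePow • XDmap W S.g l) = 0
      rw [Linear.comp_units_smul, h, smul_zero])
  haveI : Subsingleton (X ⟶ ((DRing.toD (HM W S.X₁))⟦(-1 : ℤ)⟧)⟦l⟧) :=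
    (Iso.homToEquiv (Z := X)
      ((shiftFunctorAdd' (Dual.D A) (-1) l (l - 1) (by ring)).app (DRing.toD (HM W S.X₁))).symm).subsingleton
  have h0 : ψ = 0 := Subsingleton.elim (α := X ⟶ ((DRing.toD (HM W S.X₁))⟦(-1 : ℤ)⟧)⟦l⟧) _ _
  rw [h0, zero_comp] at hψ
  exact hψ

/-- The triangle of duals. -/
theorem exists_triangle : ∃ (f : XD W S.X₃ l ⟶ XD W S.X₂ l) (g : XD W S.X₂ l ⟶ XD W S.X₁ l)
    (h : XD W S.X₁ l ⟶ (XD W S.X₃ l)⟦(1 : ℤ)⟧), Triangle.mk f g h ∈ distTriang (Dual.D A) :=
  ⟨_, _, _, Triangle.shift_distinguished _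
    (DerivedCategory.triangleOfSES_distinguished (HMsc_shortExact W S hS)) l⟩

end SES

/-- Shifting both arguments. -/
def shiftEquivHom (Y V : Dual.D A) (l k j : ℤ) (h : k + l = j) : (Y ⟶ V⟦k⟧) ≃ₗ[A] (Y⟦l⟧ ⟶ V⟦j⟧) :=
  (LinearEquiv.ofBijective ((shiftFunctor (Dual.D A) l).mapLinearMap A)
    ⟨(shiftFunctor (Dual.D A) l).map_injective, (shiftFunctor (Dual.D A) l).map_surjective⟩).trans
    (Linear.homCongr A (Iso.refl _) ((shiftFunctorAdd' (Dual.D A) k l j h).app V).symm)

variable [IsNoetherianRing A] [∀ n, Injective (W.X n)] [W.IsKInjective]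

section Basic

variable {W} (hW : Dual.IsDualizing A (DRing.toD W))

include hW

theorem subsingleton_XD_hom (N : ModuleCat.{u} A) [Module.Finite A N] (l j : ℤ) (h : j ≠ l) :
    Subsingleton (XD W N l ⟶ (DRing.toD W)⟦j⟧) := by
  obtain ⟨a, b, hab⟩ := hW.finite_injective_dimension
  haveI := (biduality W a b hab hW.toEnd_bijective hW.ext_self_subsingleton (j - l) N ‹_›).1 (by lia)
  exact (shiftEquivHom (DRing.toD (HM W N)) (DRing.toD W) l (j - l) j (by ring)).symm.toEquiv.subsingleton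

theorem nonempty_XD_hom (N : ModuleCat.{u} A) [Module.Finite A N] (l : ℤ) :
    Nonempty ((XD W N l ⟶ (DRing.toD W)⟦l⟧) ≃ₗ[A] N) := by
  obtain ⟨a, b, hab⟩ := hW.finite_injective_dimension
  exact ⟨(shiftEquivHom (DRing.toD (HM W N)) (DRing.toD W) l 0 l (zero_add l)).symm.trans
    (LinearEquiv.ofBijective _
      ((biduality W a b hab hW.toEnd_bijective hW.ext_self_subsingleton 0 N ‹_›).2 rfl)).symm⟩

theorem bounds_XD (N : ModuleCat.{u} A) [Module.Finite A N] :
    ∃ a b : ℤ, ∀ l : ℤ, (XD W N l).IsGE (a - l) ∧ (XD W N l).IsLE (b - l) ∧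
      ∀ n : ℤ, Module.Finite A (Dual.HD A (XD W N l) n) := by
  obtain ⟨a, b, hab⟩ := hW.finite_injective_dimension
  refine ⟨a, b, fun l => ⟨?_, ?_, fun n => ?_⟩⟩
  · haveI := isGE_HM W a b hab N
    exact (DerivedCategory.TStructure.t).isGE_shift (DRing.toD (HM W N)) a l (a - l) (by lia)
  · haveI := isLE_HM W a b hab N
    exact (DerivedCategory.TStructure.t).isLE_shift (DRing.toD (HM W N)) b l (b - l) (by lia)
  · haveI := finite_hom (DRing.toD W) (good_of_isDualizing hW) N (l + n)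
    haveI : Module.Finite A ((DerivedCategory.homologyFunctor (ModuleCat.{u} A) (l + n)).obj (DRing.toD (HM W N))) :=
      Module.Finite.equiv (homologyEquiv N W (l + n)).symm
    exact Module.Finite.equiv
      (Groth.L10.hShiftIso (A := ModuleCat.{u} A) (DRing.toD (HM W N)) l n (l + n) rfl).toLinearEquiv.symm

end Basic

section Criterion

variable {ω : Dual.D A} (hω : Dual.IsDualizing A ω)

include hω in
/-- Local cohomology criterion for the vanishing of `Hom` out of modules supported in `T`. -/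
theorem hom_eq_zero_of_supports (X : Dual.D A) (a b : ℤ) [X.IsGE a] [X.IsLE b]
    (hfin : ∀ n, Module.Finite A (Dual.HD A X n)) (T : Set (PrimeSpectrum A)) (c : ℤ)
    (h : ∀ q ∈ T, ∀ t : ℤ, t ≤ c → q ∉ Module.support A (X ⟶ ω⟦-dimFun hω q - t⟧))
    (N : Type u) [AddCommGroup N] [Module A N] [Module.Finite A N] (hN : Module.support A N ⊆ T)
    (t : ℤ) (ht : t ≤ c) (x : Dual.inD A N ⟶ X⟦t⟧) : x = 0 := by
  obtain ⟨lo, hi, hbc⟩ := dimFun_bounded hω
  obtain ⟨E, hE⟩ := Groth.L04.DerAnnih.exists_pow_kills_of_local T (dimFun_strictAnti hω) lo (fun q => (hbc q).1)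
    X c (c - a + 1).toNat (hi - lo + 1).toNat
  have key := hE 1 (fun q hq N _ _ _ hN i hi x => ?_) N (fun q hq => ⟨hN hq, by have := hbc q; lia⟩) t ht x
  · rwa [one_pow, one_smul] at key
  · haveI : Module.Flat A (Localization.AtPrime q.asIdeal) := IsLocalization.flat _ q.asIdeal.primeCompl
    refine Groth.L04.DerAnnih.locally_kills_hom q X a c 1 _ (by lia) (fun j hj => ?_) N hN i hi x
    rw [Groth.L04.DerAnnih.kills_HDI_iff q hω X a b hfin j 1]
    intro φ
    obtain ⟨s, hs, hsφ⟩ := Module.notMem_support_iff'.1 (h q hq j hj) φ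
    exact ⟨s, hs, by rwa [one_smul]⟩

include hω in
theorem isZero_of_dual_eq_zero (X : Dual.D A) (a b : ℤ) [X.IsGE a] [X.IsLE b]
    (hfin : ∀ n, Module.Finite A (Dual.HD A X n)) (h : ∀ j : ℤ, Subsingleton (X ⟶ ω⟦j⟧)) : IsZero X := by
  have h0 : ∀ n, Subsingleton (Dual.HD A X n) := fun n => by
    haveI : Subsingleton (Dual.inD A A ⟶ X⟦n⟧) := subsingleton_of_forall_eq 0 fun x => by
      refine hom_eq_zero_of_supports hω X a b hfin Set.univ n (fun q _ t _ hq => ?_) A (Set.subset_univ _) n le_rfl x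
      haveI := h (-dimFun hω q - t)
      simp [Module.support_eq_empty_iff.2 this] at hq
    exact (evalShiftEquiv X n).symm.toEquiv.subsingleton
  haveI : DerivedCategory.IsGE X (b + 1) := (DerivedCategory.isGE_iff _ _).2 fun n _ =>
    haveI := h0 n
    ModuleCat.isZero_of_subsingleton _
  exact (DerivedCategory.TStructure.t).isZero X b (b + 1) (by lia)

end Criterion

section Peel

variable {W} (hW : Dual.IsDualizing A (DRing.toD W))

include hW

theorem subsingleton_hom_of_lt (X : Dual.D A) (b : ℤ) [X.IsLE b] (L : ℤ)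
    (h : ∀ j < L, Subsingleton (X ⟶ (DRing.toD W)⟦j⟧)) :
    ∀ (j : ℤ), j < L → ∀ (N : ModuleCat.{u} A) [Module.Finite A N], Subsingleton (X ⟶ XD W N j) := by
  obtain ⟨a₀, b₀, hab⟩ := hW.finite_injective_dimension
  suffices key : ∀ (k : ℕ) (j : ℤ), j < L → j < a₀ - b + k → ∀ (N : ModuleCat.{u} A) [Module.Finite A N],
      Subsingleton (X ⟶ XD W N j) from fun j hj N _ => key (j - (a₀ - b) + 1).toNat j hj (by lia) N
  intro k
  induction k with
  | zero =>
    intro j _ hj N _
    haveI := isGE_HM W a₀ b₀ hab N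
    haveI : DerivedCategory.IsGE (XD W N j) (a₀ - j) :=
      (DerivedCategory.TStructure.t).isGE_shift (DRing.toD (HM W N)) a₀ j (a₀ - j) (by lia)
    exact ⟨fun p q => by rw [(DerivedCategory.TStructure.t).zero p b (a₀ - j) (by lia),
      (DerivedCategory.TStructure.t).zero q b (a₀ - j) (by lia)]⟩
  | succ k ih =>
    intro j hjL hj
    have hfree : ∀ n : ℕ, Subsingleton (X ⟶ XD W (ModuleCat.of A (Fin n → A)) j) := by
      intro n
      induction n with
      | zero =>
        have h0 := isZero_XD W (ModuleCat.of A (Fin 0 → A)) (ModuleCat.isZero_of_subsingleton _) j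
        exact ⟨fun p q => h0.eq_of_tgt p q⟩
      | succ n hn =>
        let e : (Fin (n + 1) → A) ≃ₗ[A] A × (Fin n → A) :=
          (Fin.consLinearEquiv A (fun _ : Fin (n + 1) => A)).symm
        let f : A →ₗ[A] (Fin (n + 1) → A) := e.symm.toLinearMap ∘ₗ LinearMap.inl A A (Fin n → A)
        let g : (Fin (n + 1) → A) →ₗ[A] (Fin n → A) := LinearMap.snd A A (Fin n → A) ∘ₗ e.toLinearMap
        have hex : Function.Exact f g := by
          intro x
          constructor
          · intro hx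
            refine ⟨(e x).1, e.injective ?_⟩
            simp only [f, LinearMap.comp_apply, LinearEquiv.coe_coe, LinearEquiv.apply_symm_apply]
            exact Prod.ext rfl hx.symm
          · rintro ⟨y, rfl⟩
            simp [f, g]
        have hS := sc_shortExact f g (e.symm.injective.comp LinearMap.inl_injective)
          ((fun y => ⟨e.symm (0, y), by simp [g]⟩ : Function.Surjective g)) hex
        haveI : Subsingleton (X ⟶ XD W (ModuleCat.of A A) j) :=
          haveI := h j hjL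
          (Iso.homToEquiv (Z := X)
            ((shiftFunctor (Dual.D A) j).mapIso (DerivedCategory.Q.mapIso (ringIso W)))).subsingleton
        refine subsingleton_of_forall_eq 0 fun φ => ?_
        obtain ⟨ψ, hψ⟩ := exists_lift W hS X j φ (Subsingleton.elim (α := X ⟶ XD W (ModuleCat.of A A) j) _ _)
        rw [← hψ, Subsingleton.elim (α := X ⟶ XD W (ModuleCat.of A (Fin n → A)) j) ψ 0, zero_comp]
    intro N _
    obtain ⟨n, g, hg⟩ := Module.Finite.exists_fin' A N
    haveI : Module.Finite A (LinearMap.ker g) := Module.Finite.iff_fg.2 (IsNoetherian.noetherian _)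
    have hS := sc_shortExact (LinearMap.ker g).subtype g Subtype.val_injective hg g.exact_subtype_ker_map
    haveI := hfree n
    exact subsingleton_of_forall_eq 0 fun φ => eq_zero_of_comp W hS X j
      (ih (j - 1) (by lia) (by lia) (ModuleCat.of A (LinearMap.ker g))) φ
      (Subsingleton.elim (α := X ⟶ XD W (ModuleCat.of A (Fin n → A)) j) _ _)

/-- The map onto the dual of the lowest dual module. -/
theorem exists_peel (X : Dual.D A) (b : ℤ) [X.IsLE b] (L : ℤ) [Module.Finite A (X ⟶ (DRing.toD W)⟦L⟧)]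
    (h : ∀ j < L, Subsingleton (X ⟶ (DRing.toD W)⟦j⟧)) :
    ∃ (E : ModuleCat.{u} A) (_ : Module.Finite A E) (_ : E ≃ₗ[A] (X ⟶ (DRing.toD W)⟦L⟧)) (g : X ⟶ XD W E L),
      Function.Bijective fun φ : XD W E L ⟶ (DRing.toD W)⟦L⟧ => g ≫ φ := by
  classical
  obtain ⟨E, _, _, _, ⟨e₀⟩⟩ := Groth.L29.LocDual.exists_small (A := A) (X ⟶ (DRing.toD W)⟦L⟧)
  haveI : Module.Finite A E := by first | exact Module.Finite.equiv e₀ | exact Module.Finite.equiv e₀.symm
  refine ⟨ModuleCat.of A E, ‹_›, e₀, ?_⟩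
  obtain ⟨n, π, hπ⟩ := Module.Finite.exists_fin' A E
  let rI : XD W (ModuleCat.of A A) L ≅ (DRing.toD W)⟦L⟧ :=
    (shiftFunctor (Dual.D A) L).mapIso (DerivedCategory.Q.mapIso (ringIso W))
  let F : ModuleCat.{u} A := ModuleCat.of A (Fin n → A)
  let pr : Fin n → (F ⟶ ModuleCat.of A A) := fun k => ModuleCat.ofHom (LinearMap.proj k)
  let ins : Fin n → (ModuleCat.of A A ⟶ F) := fun k => ModuleCat.ofHom (LinearMap.single A (fun _ => A) k)
  let ψ : Fin n → (X ⟶ (DRing.toD W)⟦L⟧) := fun k => e₀ (π (Pi.single k 1))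
  let Ψ : X ⟶ XD W F L := ∑ k, ψ k ≫ rI.inv ≫ XDmap W (pr k) L
  have hins : ∀ m, Ψ ≫ XDmap W (ins m) L ≫ rI.hom = ψ m := fun m => by
    simp only [Ψ, Preadditive.sum_comp, Category.assoc]
    rw [Finset.sum_eq_single m]
    · rw [XDmap_comp'_assoc, show ins m ≫ pr m = 𝟙 _ from ModuleCat.hom_ext (LinearMap.ext fun x => by
        change (Pi.single m x : Fin n → A) m = x
        simp), XDmap_id, Category.id_comp, Iso.inv_hom_id, Category.comp_id]
    · intro k _ hk
      rw [XDmap_comp'_assoc, show ins m ≫ pr k = 0 from ModuleCat.hom_ext (LinearMap.ext fun x => by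
        change (Pi.single m x : Fin n → A) k = 0
        simp [Pi.single_eq_of_ne hk]), XDmap_zero, zero_comp, comp_zero, comp_zero]
    · simp
  haveI : Module.Finite A (LinearMap.ker π) := Module.Finite.iff_fg.2 (IsNoetherian.noetherian _)
  have hS := sc_shortExact (LinearMap.ker π).subtype π Subtype.val_injective hπ π.exact_subtype_ker_map
  have hrel : Ψ ≫ XDmap W (ModuleCat.ofHom (LinearMap.ker π).subtype) L = 0 := by
    obtain ⟨m, ρ, hρ⟩ := Module.Finite.exists_fin' A (LinearMap.ker π)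
    haveI : Module.Finite A (LinearMap.ker ρ) := Module.Finite.iff_fg.2 (IsNoetherian.noetherian _)
    refine eq_zero_of_comp W (sc_shortExact (LinearMap.ker ρ).subtype ρ Subtype.val_injective hρ
      ρ.exact_subtype_ker_map) X L
      (subsingleton_hom_of_lt hW X b L h (L - 1) (by lia) (ModuleCat.of A (LinearMap.ker ρ))) _ ?_
    let G : ModuleCat.{u} A := ModuleCat.of A (Fin m → A)
    let insG : Fin m → (ModuleCat.of A A ⟶ G) := fun k => ModuleCat.ofHom (LinearMap.single A (fun _ => A) k)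
    let prG : Fin m → (G ⟶ ModuleCat.of A A) := fun k => ModuleCat.ofHom (LinearMap.proj k)
    have hid : 𝟙 G = ∑ k, prG k ≫ insG k := by
      refine ModuleCat.hom_ext (LinearMap.ext fun x => ?_)
      rw [ModuleCat.hom_sum, LinearMap.sum_apply]
      exact (Finset.univ_sum_single (x : Fin m → A)).symm
    have hid' : 𝟙 (XD W G L) = ∑ k, XDmap W (insG k) L ≫ XDmap W (prG k) L := by
      rw [← XDmap_id W G L, hid, XDmap_sum]
      exact Finset.sum_congr rfl fun k _ => XDmap_comp W _ _ L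
    refine (Category.comp_id _).symm.trans ?_
    change _ ≫ 𝟙 (XD W G L) = 0
    rw [hid', Preadditive.comp_sum]
    refine Finset.sum_eq_zero fun k _ => ?_
    rw [← Category.assoc]
    convert zero_comp using 2
    rw [← cancel_mono rI.hom, zero_comp]
    let v : Fin n → A := (ρ (Pi.single k 1) : LinearMap.ker π).1
    have hmor : insG k ≫ ModuleCat.ofHom ρ ≫ ModuleCat.ofHom (LinearMap.ker π).subtype = ∑ j, v j • ins j := by
      refine ModuleCat.hom_ext (LinearMap.ext_ring ?_)
      rw [ModuleCat.hom_sum, LinearMap.sum_apply]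
      change v = ∑ j, v j • (Pi.single j (1 : A) : Fin n → A)
      exact pi_eq_sum_univ' v
    have h1 : ((Ψ ≫ XDmap W (ModuleCat.ofHom (LinearMap.ker π).subtype) L) ≫
        XDmap W (ModuleCat.ofHom ρ) L) ≫ XDmap W (insG k) L = ∑ j, v j • (Ψ ≫ XDmap W (ins j) L) := by
      rw [Category.assoc, Category.assoc, ← XDmap_comp, ← XDmap_comp, Category.assoc, hmor, XDmap_sum,
        Preadditive.comp_sum]
      exact Finset.sum_congr rfl fun j _ => by rw [XDmap_smul, Linear.comp_smul]
    refine (congrArg (· ≫ rI.hom) h1).trans ?_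
    rw [Preadditive.sum_comp]
    simp only [Linear.smul_comp, Category.assoc, hins, ψ, ← map_smul]
    rw [← map_sum, ← map_sum, ← pi_eq_sum_univ' v, show π v = 0 from (ρ (Pi.single k 1) : LinearMap.ker π).2,
      map_zero]
  obtain ⟨g, hg⟩ := exists_lift W hS X L Ψ hrel
  refine ⟨g, ?_⟩
  obtain ⟨θ⟩ := nonempty_XD_hom hW (ModuleCat.of A E) L
  let Γ : (XD W (ModuleCat.of A E) L ⟶ (DRing.toD W)⟦L⟧) →ₗ[A] (X ⟶ (DRing.toD W)⟦L⟧) :=
    Linear.leftComp A _ g
  have hΓ : Function.Surjective Γ := fun χ => by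
    obtain ⟨x, hx⟩ := hπ (e₀.symm χ)
    refine ⟨∑ k, x k • (XDmap W (ins k ≫ ModuleCat.ofHom π) L ≫ rI.hom), ?_⟩
    change g ≫ _ = χ
    rw [Preadditive.comp_sum]
    have h2 : ∀ k, g ≫ XDmap W (ins k ≫ ModuleCat.ofHom π) L ≫ rI.hom = ψ k := fun k => by
      rw [XDmap_comp, Category.assoc, ← Category.assoc g]
      exact (congrArg (· ≫ _) hg).trans (hins k)
    simp only [Linear.comp_smul, h2, ψ, ← map_smul]
    rw [← map_sum, ← map_sum, ← pi_eq_sum_univ' x, hx, LinearEquiv.apply_symm_apply]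
  let ε := θ.trans e₀
  have hinj : Function.Injective Γ := by
    have h2 : Function.Injective (ε.symm.toLinearMap ∘ₗ Γ) := by
      haveI : Module.Finite A (XD W (ModuleCat.of A E) L ⟶ (DRing.toD W)⟦L⟧) := Module.Finite.equiv θ.symm
      exact OrzechProperty.injective_of_surjective_endomorphism _ (ε.symm.surjective.comp hΓ)
    exact fun x y hxy => h2 (congrArg ε.symm hxy)
  exact ⟨hinj, hΓ⟩

/-- Induction: every object with bounded finite cohomology is built from duals of prime quotients. -/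
theorem induction_dual (Φ : Dual.D A → Prop) (hiso : ∀ {X Y : Dual.D A}, (X ≅ Y) → Φ X → Φ Y)
    (hext : ∀ S ∈ distTriang (Dual.D A), Φ S.obj₁ → Φ S.obj₃ → Φ S.obj₂)
    (hzero : ∀ X : Dual.D A, IsZero X → Φ X)
    (X : Dual.D A) (a b : ℤ) [X.IsGE a] [X.IsLE b] (hfin : ∀ n, Module.Finite A (Dual.HD A X n))
    (hsingle : ∀ (l : ℤ) (r : PrimeSpectrum A), r ∈ Module.support A (X ⟶ (DRing.toD W)⟦l⟧) →
      Φ (XD W (ModuleCat.of A (A ⧸ r.asIdeal)) l)) : Φ X := by
  obtain ⟨a₀, b₀, hab⟩ := hW.finite_injective_dimension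
  suffices key : ∀ (k : ℕ) (X : Dual.D A) (a b : ℤ) [X.IsGE a] [X.IsLE b],
      (∀ n, Module.Finite A (Dual.HD A X n)) → ∀ L : ℤ, (∀ j < L, Subsingleton (X ⟶ (DRing.toD W)⟦j⟧)) →
      (∀ j, L + k ≤ j → Subsingleton (X ⟶ (DRing.toD W)⟦j⟧)) →
      (∀ (l : ℤ) (r : PrimeSpectrum A), r ∈ Module.support A (X ⟶ (DRing.toD W)⟦l⟧) →
        Φ (XD W (ModuleCat.of A (A ⧸ r.asIdeal)) l)) → Φ X by
    haveI := isGE_of_lower a₀ fun M _ _ i hi => hab M i (Or.inl hi)
    refine key (b₀ - a - (a₀ - b) + 1).toNat X a b hfin (a₀ - b) (fun j hj => ?_) (fun j hj => ?_) hsingle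
    · haveI : DerivedCategory.IsGE ((DRing.toD W)⟦j⟧) (a₀ - j) :=
        (DerivedCategory.TStructure.t).isGE_shift (DRing.toD W) a₀ j (a₀ - j) (by lia)
      exact ⟨fun p q => by rw [(DerivedCategory.TStructure.t).zero p b (a₀ - j) (by lia),
        (DerivedCategory.TStructure.t).zero q b (a₀ - j) (by lia)]⟩
    · refine bounded_induction (fun Y => Subsingleton (Y ⟶ (DRing.toD W)⟦j⟧)) ?_ ?_ ?_ X a b fun n h1 h2 => ?_
      · exact fun e h => (Linear.homCongr A e.symm (Iso.refl ((DRing.toD W)⟦j⟧))).toEquiv.subsingleton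
      · intro S hS h1 h3
        refine subsingleton_of_forall_eq 0 fun φ => ?_
        obtain ⟨χ, hχ⟩ := Triangle.yoneda_exact₂ _ hS φ (Subsingleton.elim _ _)
        rw [hχ, Subsingleton.elim χ 0, comp_zero]
      · exact fun Y hY => ⟨fun p q => hY.eq_of_src p q⟩
      · haveI := hab (Dual.HD A X n) (j + n) (Or.inr (by lia))
        exact (singleHomEquiv (DRing.toD W) ((DerivedCategory.homologyFunctor (ModuleCat.{u} A) n).obj X)
          n j).toEquiv.subsingleton
  intro k
  induction k with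
  | zero =>
    intro X a b _ _ hfin L h1 h2 _
    exact hzero X (isZero_of_dual_eq_zero hW X a b hfin fun j =>
      (lt_or_ge j L).elim (h1 j) fun h => h2 j (by simpa using h))
  | succ k ih =>
    intro X a b _ _ hfin L h1 h2 hs
    haveI := Groth.L29.Unique.finite_hom_bounded (good_of_isDualizing hW) X a b hfin L
    obtain ⟨E, _, eE, g, hg⟩ := exists_peel hW X b L h1
    let Z := XD W E L
    obtain ⟨aZ, bZ, hb⟩ := bounds_XD hW E
    obtain ⟨hZge, hZle, hZfin⟩ := hb L
    have hZ : Φ Z := by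
      suffices aux : ∀ (N : Type u) [AddCommGroup N] [Module A N] [Module.Finite A N],
          Module.support A N ⊆ Module.support A (X ⟶ (DRing.toD W)⟦L⟧) →
            Φ (XD W (ModuleCat.of A N) L) from
        aux E (Module.support_subset_of_injective eE.toLinearMap eE.injective)
      intro N _ _ _
      refine IsNoetherianRing.induction_on_isQuotientEquivQuotientPrime A ‹Module.Finite A N›
        (motive := fun N _ _ _ => Module.support A N ⊆ Module.support A (X ⟶ (DRing.toD W)⟦L⟧) →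
          Φ (XD W (ModuleCat.of A N) L)) ?_ ?_ ?_
      · intro N _ _ _ _ _
        exact hzero _ (isZero_XD W _ (ModuleCat.isZero_of_subsingleton _) L)
      · intro N _ _ _ r e hsub
        refine hiso (XDiso W e.toModuleIso L) (hs L r (hsub ?_))
        refine Module.mem_support_iff_of_finite.2 ?_
        rw [e.annihilator_eq, Ideal.annihilator_quotient]
      · intro N₁ _ _ _ N₂ _ _ _ N₃ _ _ _ f p hf hp hfp i₁ i₃ hsub
        obtain ⟨u₁, u₂, u₃, hT⟩ := exists_triangle W (sc_shortExact f p hf hp hfp) L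
        exact hext _ hT (i₃ ((Module.support_subset_of_surjective p hp).trans hsub))
          (i₁ ((Module.support_subset_of_injective f hf).trans hsub))
    obtain ⟨X', f, δ, hT⟩ := distinguished_cocone_triangle₁ g
    let S : Triangle (Dual.D A) := Triangle.mk f g δ
    have hinj : ∀ (j : ℤ) (φ : Z ⟶ (DRing.toD W)⟦j⟧), g ≫ φ = 0 → φ = 0 := fun j φ hφ => by
      by_cases hj : j = L
      · subst hj
        exact hg.1 (hφ.trans comp_zero.symm)
      · haveI := subsingleton_XD_hom hW E L j hj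
        exact Subsingleton.elim _ _
    have hsurj : ∀ j : ℤ, Function.Surjective (fun φ : X ⟶ (DRing.toD W)⟦j⟧ => f ≫ φ) := fun j χ => by
      let e := (shiftFunctorAdd' (Dual.D A) j 1 (j + 1) rfl).app (DRing.toD W)
      have h0 : δ ≫ χ⟦(1 : ℤ)⟧' = 0 := by
        rw [← cancel_mono e.inv, zero_comp]
        refine hinj (j + 1) _ ?_
        rw [← Category.assoc, ← Category.assoc g]
        exact (congrArg (fun t => (t ≫ χ⟦(1 : ℤ)⟧') ≫ e.inv) (comp_distTriang_mor_zero₂₃ _ hT)).trans (by simp)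
      obtain ⟨φ, hφ⟩ := Triangle.yoneda_exact₂ _ (rot_of_distTriang _ (rot_of_distTriang _ hT)) _ h0
      obtain ⟨φ, rfl⟩ := (shiftFunctor (Dual.D A) (1 : ℤ)).map_surjective φ
      refine ⟨-φ, (shiftFunctor (Dual.D A) (1 : ℤ)).map_injective ?_⟩
      change (f ≫ (-φ))⟦(1 : ℤ)⟧' = χ⟦(1 : ℤ)⟧'
      rw [hφ, Functor.map_comp, Functor.map_neg, Preadditive.comp_neg]
      exact (Preadditive.neg_comp _ _).symm
    have hker : ∀ φ : X ⟶ (DRing.toD W)⟦L⟧, f ≫ φ = 0 := fun φ => by
      obtain ⟨χ, rfl⟩ := hg.2 φ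
      rw [← Category.assoc, show f ≫ g = 0 from comp_distTriang_mor_zero₁₂ _ hT, zero_comp]
    have hT' := inv_rot_of_distTriang _ hT
    haveI : X'.IsGE (min a (aZ - L + 1)) := by
      refine (DerivedCategory.TStructure.t).isGE₂ _ hT' _ ?_ ?_
      · haveI : (DerivedCategory.TStructure.t).IsGE (Z⟦(-1 : ℤ)⟧) (aZ - L + 1) :=
          haveI : (DerivedCategory.TStructure.t).IsGE Z (aZ - L) := hZge
          (DerivedCategory.TStructure.t).isGE_shift Z (aZ - L) (-1) (aZ - L + 1) (by lia)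
        exact (DerivedCategory.TStructure.t).isGE_of_ge (Z⟦(-1 : ℤ)⟧) _ (aZ - L + 1) (min_le_right _ _)
      · haveI : (DerivedCategory.TStructure.t).IsGE X a := ‹X.IsGE a›
        exact (DerivedCategory.TStructure.t).isGE_of_ge X _ a (min_le_left _ _)
    haveI : X'.IsLE (max b (bZ - L + 1)) := by
      refine (DerivedCategory.TStructure.t).isLE₂ _ hT' _ ?_ ?_
      · haveI : (DerivedCategory.TStructure.t).IsLE (Z⟦(-1 : ℤ)⟧) (bZ - L + 1) :=
          haveI : (DerivedCategory.TStructure.t).IsLE Z (bZ - L) := hZle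
          (DerivedCategory.TStructure.t).isLE_shift Z (bZ - L) (-1) (bZ - L + 1) (by lia)
        exact (DerivedCategory.TStructure.t).isLE_of_le (Z⟦(-1 : ℤ)⟧) (bZ - L + 1) _ (le_max_right _ _)
      · haveI : (DerivedCategory.TStructure.t).IsLE X b := ‹X.IsLE b›
        exact (DerivedCategory.TStructure.t).isLE_of_le X b _ (le_max_left _ _)
    have hfin' : ∀ n, Module.Finite A (Dual.HD A X' n) := fun n => by
      haveI := hfin n
      haveI := hZfin (n - 1)
      let d := DerivedCategory.HomologySequence.δ S (n - 1) n (by ring)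
      exact @Groth.L04.DerHT.finite_of_exact A _ _ (Dual.HD A Z (n - 1)) (Dual.HD A X' n) (Dual.HD A X n) _ _ _ _ _ _
        d.hom ((DerivedCategory.homologyFunctor (ModuleCat.{u} A) n).map f).hom
        ((ShortComplex.ShortExact.moduleCat_exact_iff_function_exact _).1
          (DerivedCategory.HomologySequence.exact₁ S hT (n - 1) n (by ring))) ‹_› ‹_›
    refine hext S hT (ih X' (min a (aZ - L + 1)) (max b (bZ - L + 1)) hfin' (L + 1) (fun j hj => ?_) (fun j hj => ?_) fun l r hr => ?_) hZ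
    · refine subsingleton_of_forall_eq 0 fun χ => ?_
      obtain ⟨φ, rfl⟩ := hsurj j χ
      rcases lt_or_eq_of_le (Int.lt_add_one_iff.1 hj) with hlt | rfl
      · haveI := h1 j hlt
        simp [Subsingleton.elim φ 0]
      · exact hker φ
    · haveI := h2 j (by push_cast; lia)
      exact (hsurj j).subsingleton
    · exact hs l r (Module.support_subset_of_surjective (Linear.leftComp A _ f) (hsurj l) hr)

end Peel

end Groth.L04.DualPeel
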