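import Groth.Agent.L04.LC.SkLocus
import Groth.Agent.L06.Hartshorne
import Groth.Agent.L29.Dual.Devissage
import Mathlib.Algebra.Homology.DerivedCategory.FullyFaithful
import Mathlib.Algebra.Homology.DerivedCategory.Ext.Linear

/-!
# The lowest cohomology module of a dualizing complex

Depth, endomorphisms and self-extensions of `L = H^a(ω)` when `H^j(ω) = 0` for `j < a` and the higher
cohomology modules have small support.
-/

set_option autoImplicit false
set_option linter.style.haveILetI false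
set_option backward.isDefEq.respectTransparency false
universe u

open CategoryTheory CategoryTheory.Limits CategoryTheory.Pretriangulated IsLocalRing
open scoped TensorProduct

attribute [local instance] HasDerivedCategory.standard

noncomputable section

namespace Groth.L04.Lowest

open Groth.L29 Groth.L29.HomD Groth.L04.AnnihDual Groth.L04.SkLocus

variable {A : Type u} [CommRing A]

local notation "tt" => DerivedCategory.TStructure.t

/-- A single complex in degree `n` as a source. -/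
def homSingle (W : Dual.D A) (M : ModuleCat.{u} A) (n : ℤ) :
    ((DerivedCategory.singleFunctor (ModuleCat.{u} A) n).obj M ⟶ W) ≃ₗ[A] (Dual.inD A M ⟶ W⟦n⟧) :=
  (Linear.homCongr A (Iso.refl _) ((shiftFunctorZero (Dual.D A) ℤ).app W).symm).trans
    ((singleHomEquiv W M n 0).trans
      (Linear.homCongr A (Iso.refl _) ((eqToIso (congrArg (shiftFunctor (Dual.D A)) (zero_add n))).app W)))

/-- The truncation triangle at the lowest degree. -/
abbrev tri (X : Dual.D A) (a : ℤ) : Triangle (Dual.D A) := ((tt).triangleLTGE (a + 1)).obj X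

theorem tri_mem (X : Dual.D A) (a : ℤ) : tri X a ∈ distTriang (Dual.D A) :=
  (tt).triangleLTGE_distinguished (a + 1) X

theorem exists_iso_bottom (X : Dual.D A) (a : ℤ) [X.IsGE a] :
    Nonempty ((tri X a).obj₁ ≅ (DerivedCategory.singleFunctor (ModuleCat.{u} A) a).obj
      ((DerivedCategory.homologyFunctor (ModuleCat.{u} A) a).obj X)) := by
  let R := ((tt).truncLT (a + 1)).obj X
  haveI : DerivedCategory.IsLE R a := inferInstanceAs ((tt).IsLE (((tt).truncLT (a + 1)).obj X) a)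
  haveI : DerivedCategory.IsGE R a := by
    rw [DerivedCategory.isGE_iff]
    intro i hi
    have := Groth.L10.isIso_H_ι (A := ModuleCat.{u} A) (a + 1) i (by lia) X
    exact (DerivedCategory.isZero_of_isGE X a i hi).of_iso
      (asIso ((DerivedCategory.homologyFunctor _ i).map (((tt).truncLTι (a + 1)).app X)))
  haveI := Groth.L10.isIso_H_ι (A := ModuleCat.{u} A) (a + 1) a (by lia) X
  obtain ⟨eR⟩ := Groth.L10.exists_iso_single_H (A := ModuleCat.{u} A) R a
  exact ⟨eR ≪≫ (DerivedCategory.singleFunctor _ a).mapIso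
    (asIso ((DerivedCategory.homologyFunctor _ a).map (((tt).truncLTι (a + 1)).app X)))⟩

/-- A map into the bottom piece vanishes if it vanishes in `X`, for sources in degrees `≤ a + 1`. -/
theorem eq_zero_of_comp (X : Dual.D A) (a : ℤ) {S : Dual.D A} (n : ℤ) (hn : n ≤ a + 1)
    [S.IsLE n] (φ : S ⟶ (tri X a).obj₁) (h : φ ≫ (tri X a).mor₁ = 0) : φ = 0 := by
  obtain ⟨ψ, hψ⟩ := Triangle.coyoneda_exact₂ _ (inv_rot_of_distTriang _ (tri_mem X a)) φ h
  haveI : (tt).IsLE S n := inferInstance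
  haveI : (tt).IsGE (((tt).truncGE (a + 1)).obj X) (a + 1) := inferInstance
  haveI : (tt).IsGE ((((tt).truncGE (a + 1)).obj X)⟦(-1 : ℤ)⟧) (a + 2) :=
    (tt).isGE_shift _ (a + 1) (-1) (a + 2) (by lia)
  have hz : ψ = 0 := (tt).zero_of_isLE_of_isGE ψ n (a + 2) (by lia) inferInstance this
  rw [hψ, hz]
  exact zero_comp

/-- `Ext^i(N, H^a X)` for `i ≤ 1` embeds into `Hom(N, X[a + i])`. -/
theorem subsingleton_hom_lowest (X : Dual.D A) (a : ℤ) [X.IsGE a] (N : ModuleCat.{u} A) (i : ℤ) (hi : i ≤ 1)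
    (h : Subsingleton (Dual.inD A N ⟶ X⟦a + i⟧)) :
    Subsingleton (Dual.inD A N ⟶ (Dual.inD A (Dual.HD A X a))⟦i⟧) := by
  obtain ⟨e⟩ := exists_iso_bottom X a
  have hS : Subsingleton ((DerivedCategory.singleFunctor (ModuleCat.{u} A) (a + i)).obj N ⟶ (tri X a).obj₁) := by
    refine subsingleton_of_forall_eq 0 fun φ => eq_zero_of_comp X a (a + i) (by lia) φ ?_
    haveI := h
    exact (homSingle X N (a + i)).injective (Subsingleton.elim _ _)
  haveI := hS
  let e1 : (tri X a).obj₁⟦a + i⟧ ≅ (Dual.inD A (Dual.HD A X a))⟦i⟧ :=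
    (shiftFunctor (Dual.D A) (a + i)).mapIso e ≪≫
      ((DerivedCategory.singleFunctors (ModuleCat.{u} A)).shiftIso (a + i) (-i) a (by lia)).app _ ≪≫
      (((DerivedCategory.singleFunctors (ModuleCat.{u} A)).shiftIso i (-i) 0 (by lia)).app _).symm
  exact ((homSingle (tri X a).obj₁ N (a + i)).trans
    (Linear.homCongr A (Iso.refl _) e1)).symm.toEquiv.subsingleton

theorem subsingleton_ext_lowest (X : Dual.D A) (a : ℤ) [X.IsGE a] (N : ModuleCat.{u} A) (i : ℕ) (hi : i ≤ 1)
    (h : Subsingleton (Dual.inD A N ⟶ X⟦a + (i : ℤ)⟧)) :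
    Subsingleton (Abelian.Ext N (ModuleCat.of A (Dual.HD A X a)) i) := by
  haveI := subsingleton_hom_lowest X a N (i : ℤ) (by exact_mod_cast hi) h
  exact (Abelian.Ext.homEquiv (C := ModuleCat.{u} A)).subsingleton

variable [IsNoetherianRing A] {ω : Dual.D A}

theorem isGE_of_low (a : ℤ) (hlow : ∀ j < a, Subsingleton (Dual.HD A ω j)) : ω.IsGE a :=
  (DerivedCategory.isGE_iff _ a).2 fun i hi =>
    haveI := hlow i hi
    ModuleCat.isZero_of_subsingleton _

/-- Depth of the lowest cohomology module. -/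
theorem le_depth (hω : Dual.IsDualizing A ω) (a : ℤ) (hlow : ∀ j < a, Subsingleton (Dual.HD A ω j))
    (p : PrimeSpectrum A) (k : ℕ) (hk : k ≤ 2) (hk' : (k : ℤ) ≤ -dimFun hω p - a) :
    (k : ℕ∞) ≤ LocCoh.depth (Localization.AtPrime p.asIdeal)
      (LocalizedModule p.asIdeal.primeCompl (Dual.HD A ω a)) := by
  haveI : Module.Flat A (Localization.AtPrime p.asIdeal) := IsLocalization.flat _ p.asIdeal.primeCompl
  let B := Localization.AtPrime p.asIdeal
  have hB := isDualizing_shift (FlatBC.isDualizing_L_localization (B := B) p.asIdeal.primeCompl hω) (-dimFun hω p)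
  haveI := hB.isNoetherianRing
  let e : ∀ j : ℤ, Dual.HD B (Wq hω p) (j + dimFun hω p) ≃ₗ[B]
      LocalizedModule p.asIdeal.primeCompl (Dual.HD A ω j) := fun j =>
    (Groth.L10.hShiftIso (A := ModuleCat.{u} B) ((FlatBC.L A B).obj ω) (-dimFun hω p)
      (j + dimFun hω p) j (by lia)).toLinearEquiv.trans
      ((FlatBC.hEquiv A B ω j).trans (LocalizedModule.equivTensorProduct p.asIdeal.primeCompl _).symm)
  haveI : (Wq hω p).IsGE (a + dimFun hω p) := isGE_of_low _ fun j hj => by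
    haveI := hlow (j - dimFun hω p) (by lia)
    have e' := e (j - dimFun hω p)
    rw [sub_add_cancel] at e'
    exact e'.toEquiv.subsingleton
  unfold LocCoh.depth
  rw [← Groth.L04.idealDepth_congr (e a)]
  haveI := hB.finite_cohomology (a + dimFun hω p)
  refine (Groth.L04.le_idealDepth_iff_extVanish k).2 fun i hi => ?_
  exact subsingleton_ext_lowest (Wq hω p) (a + dimFun hω p) _ i (by lia)
    (isNormalized_at hω p _ (by lia))

/-- The upper pieces do not map to `ω[l]`. -/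
theorem subsingleton_top_hom (hω : Dual.IsDualizing A ω) (a : ℤ) (k : ℕ)
    (hsupp : ∀ j, a < j → ∀ P ∈ Module.support A (Dual.HD A ω j), dimFun hω P ≤ -j - k) (l : ℤ) (hl : l < k) :
    Subsingleton ((tri ω a).obj₃ ⟶ ω⟦l⟧) := by
  obtain ⟨a₀, b₀, hab⟩ := hω.finite_injective_dimension
  haveI : ω.IsLE b₀ := (DerivedCategory.isLE_iff _ b₀).2 fun i hi =>
    haveI := hab A i (Or.inr hi)
    haveI := (evalShiftEquiv ω i).symm.toEquiv.subsingleton
    ModuleCat.isZero_of_subsingleton _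
  let Y := ((tt).truncGE (a + 1)).obj ω
  haveI : DerivedCategory.IsGE Y (a + 1) := inferInstance
  haveI : DerivedCategory.IsLE Y b₀ := inferInstanceAs ((tt).IsLE (((tt).truncGE (a + 1)).obj ω) b₀)
  refine bounded_induction (fun Z => Subsingleton (Z ⟶ ω⟦l⟧)) ?_ ?_ ?_ Y (a + 1) b₀ fun n hn _ => ?_
  · intro X Z e hX
    exact (Linear.homCongr A e (Iso.refl (ω⟦l⟧))).symm.toEquiv.subsingleton
  · intro T hT h1 h3
    exact subsingleton_of_triangle T hT _ h1 h3
  · intro X hX
    exact ⟨fun p q => hX.eq_of_src p q⟩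
  have := Groth.L10.isIso_H_π (A := ModuleCat.{u} A) (a + 1) n hn ω
  let eH := (asIso ((DerivedCategory.homologyFunctor (ModuleCat.{u} A) n).map
    (((tt).truncGEπ (a + 1)).app ω))).toLinearEquiv
  haveI : Module.Finite A ↑((DerivedCategory.homologyFunctor (ModuleCat.{u} A) n).obj
      ((𝟭 (DerivedCategory (ModuleCat.{u} A))).obj ω)) := hω.finite_cohomology n
  haveI := Module.Finite.equiv eH
  refine (singleHomEquiv ω _ n l).toEquiv.subsingleton_congr.2 ?_
  refine subsingleton_of_forall_eq 0 fun φ => ?_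
  by_contra hφ
  obtain ⟨P, hP⟩ := (Module.nonempty_support_iff (R := A)).2 (nontrivial_of_ne φ 0 hφ)
  have hPN := mem_support_of_mem_SE (M := Dual.HD A Y n) hω hP
  obtain ⟨m, D, -, -, hD, -, -, hint⟩ := exists_data (M := Dual.HD A Y n) hω hPN
  obtain ⟨D', hD', -, Q, hQ, -, hQD⟩ := exists_dim (M := Dual.HD A Y n) hω P hPN
  obtain rfl : D' = D := by exact_mod_cast hD'.symm.trans hD
  have h1 := (hint (l + n) hP).2
  have h2 := hsupp n (by lia) Q (eH.support_eq ▸ Module.mem_support_iff_of_finite.2 hQ.1.2)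
  lia

theorem subsingleton_shifted_src {Y W : Dual.D A} (l : ℤ) (h : Subsingleton (Y ⟶ W⟦l + 1⟧)) :
    Subsingleton (Y⟦(-1 : ℤ)⟧ ⟶ W⟦l⟧) := by
  haveI := h
  haveI : Subsingleton (Y⟦(-1 : ℤ)⟧ ⟶ W⟦l + 1 + -1⟧) :=
    (LinearEquiv.ofBijective _ (shiftHom_bijective Y W (l + 1) (-1))).symm.toEquiv.subsingleton
  rw [show l = l + 1 + -1 by lia]
  infer_instance

theorem exists_extend (X : Dual.D A) (a : ℤ) {Z : Dual.D A}
    (h : Subsingleton ((tri X a).obj₃⟦(-1 : ℤ)⟧ ⟶ Z)) (φ : (tri X a).obj₁ ⟶ Z) :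
    ∃ ψ : X ⟶ Z, φ = (tri X a).mor₁ ≫ ψ :=
  Triangle.yoneda_exact₂ _ (inv_rot_of_distTriang _ (tri_mem X a)) φ (h.elim _ _)

theorem bijective_smul_bottom (hω : Dual.IsDualizing A ω) (a : ℤ) (k : ℕ) (hk : 2 ≤ k)
    (hsupp : ∀ j, a < j → ∀ P ∈ Module.support A (Dual.HD A ω j), dimFun hω P ≤ -j - k) :
    Function.Bijective fun r : A => r • 𝟙 (tri ω a).obj₁ := by
  have h0 : Subsingleton ((tri ω a).obj₃ ⟶ ω) := by
    haveI := subsingleton_top_hom hω a k hsupp 0 (by lia)
    exact (Linear.homCongr A (Iso.refl (tri ω a).obj₃)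
      ((shiftFunctorZero (Dual.D A) ℤ).app ω)).symm.toEquiv.subsingleton
  have h1 : Subsingleton ((tri ω a).obj₃⟦(-1 : ℤ)⟧ ⟶ ω) := by
    haveI := subsingleton_shifted_src (Y := (tri ω a).obj₃) (W := ω) 0
      (subsingleton_top_hom hω a k hsupp (0 + 1) (by lia))
    exact (Linear.homCongr A (Iso.refl ((tri ω a).obj₃⟦(-1 : ℤ)⟧))
      ((shiftFunctorZero (Dual.D A) ℤ).app ω)).symm.toEquiv.subsingleton
  haveI : DerivedCategory.IsLE (tri ω a).obj₁ a :=
    inferInstanceAs ((tt).IsLE (((tt).truncLT (a + 1)).obj ω) a)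
  refine ⟨(injective_iff_map_eq_zero (LinearMap.toSpanSingleton A ((tri ω a).obj₁ ⟶ (tri ω a).obj₁)
    (𝟙 _))).2 fun r hr => ?_, fun χ => ?_⟩
  · replace hr : r • 𝟙 (tri ω a).obj₁ = 0 := hr
    have h2 : (tri ω a).mor₁ ≫ (r • 𝟙 ω) = 0 := by
      rw [Linear.comp_smul]
      refine (congrArg (r • ·) ((Category.comp_id _).trans (Category.id_comp _).symm)).trans ?_
      rw [← Linear.smul_comp, hr, zero_comp]
    obtain ⟨ψ, hψ⟩ := Triangle.yoneda_exact₂ _ (tri_mem ω a) (r • 𝟙 ω) h2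
    refine hω.toEnd_bijective.1 (show r • 𝟙 ω = (0 : A) • 𝟙 ω from ?_)
    rw [zero_smul, hψ, h0.elim ψ 0, comp_zero]
  · obtain ⟨ψ, hψ⟩ := exists_extend ω a h1 (χ ≫ (tri ω a).mor₁)
    obtain ⟨r, rfl⟩ := hω.toEnd_bijective.2 ψ
    refine ⟨r, ?_⟩
    refine (sub_eq_zero.1 (eq_zero_of_comp ω a a (by lia) _ ?_))
    rw [Preadditive.sub_comp, hψ, Linear.comp_smul, Linear.smul_comp, sub_eq_zero]
    exact congrArg (r • ·) ((Category.id_comp _).trans (Category.comp_id _).symm)

/-- `A = End(L)`. -/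
theorem bijective_smul_id (hω : Dual.IsDualizing A ω) (a : ℤ) (hlow : ∀ j < a, Subsingleton (Dual.HD A ω j))
    (k : ℕ) (hk : 2 ≤ k)
    (hsupp : ∀ j, a < j → ∀ P ∈ Module.support A (Dual.HD A ω j), dimFun hω P ≤ -j - k) :
    Function.Bijective (fun r : A => r • (LinearMap.id : Dual.HD A ω a →ₗ[A] Dual.HD A ω a)) := by
  haveI := isGE_of_low a hlow
  obtain ⟨e⟩ := exists_iso_bottom ω a
  let Φ : (Dual.HD A ω a →ₗ[A] Dual.HD A ω a) → ((tri ω a).obj₁ ⟶ (tri ω a).obj₁) := fun f =>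
    e.hom ≫ (DerivedCategory.singleFunctor (ModuleCat.{u} A) a).map (ModuleCat.ofHom f) ≫ e.inv
  have hΦ : Function.Injective Φ := fun f g h => by
    have h' := (cancel_mono e.inv).1 ((cancel_epi e.hom).1 h)
    exact congrArg ModuleCat.Hom.hom ((DerivedCategory.singleFunctor (ModuleCat.{u} A) a).map_injective h')
  have hc : ∀ r : A, Φ (r • LinearMap.id) = r • 𝟙 (tri ω a).obj₁ := fun r => by
    have h1 : ModuleCat.ofHom (r • (LinearMap.id : Dual.HD A ω a →ₗ[A] Dual.HD A ω a)) =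
        r • 𝟙 ((DerivedCategory.homologyFunctor (ModuleCat.{u} A) a).obj ω) :=
      ModuleCat.hom_ext (LinearMap.ext fun x => rfl)
    dsimp only [Φ]
    rw [h1]
    rw [Functor.map_smul, CategoryTheory.Functor.map_id, Linear.smul_comp, Linear.comp_smul]
    exact congrArg (r • ·) ((congrArg (e.hom ≫ ·) (Category.id_comp _)).trans e.hom_inv_id)
  have hb := bijective_smul_bottom hω a k hk hsupp
  refine ⟨fun r r' h => hb.1 ?_, fun f => ?_⟩
  · show r • 𝟙 (tri ω a).obj₁ = r' • 𝟙 (tri ω a).obj₁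
    rw [← hc, ← hc]
    exact congrArg Φ h
  · obtain ⟨r, hr⟩ := hb.2 (Φ f)
    exact ⟨r, hΦ ((hc r).trans hr)⟩

/-- `Ext¹(L, L) = 0`. -/
theorem subsingleton_self_ext (hω : Dual.IsDualizing A ω) (a : ℤ) (hlow : ∀ j < a, Subsingleton (Dual.HD A ω j))
    (k : ℕ) (hk : 3 ≤ k)
    (hsupp : ∀ j, a < j → ∀ P ∈ Module.support A (Dual.HD A ω j), dimFun hω P ≤ -j - k) :
    Subsingleton (Dual.inD A (Dual.HD A ω a) ⟶ (Dual.inD A (Dual.HD A ω a))⟦(1 : ℤ)⟧) := by
  haveI := isGE_of_low a hlow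
  refine subsingleton_hom_lowest ω a (ModuleCat.of A (Dual.HD A ω a)) 1 le_rfl ?_
  have h1 := subsingleton_shifted_src (Y := (tri ω a).obj₃) (W := ω) 1
    (subsingleton_top_hom hω a k hsupp (1 + 1) (by lia))
  have hR : Subsingleton ((tri ω a).obj₁ ⟶ ω⟦(1 : ℤ)⟧) := by
    refine subsingleton_of_forall_eq 0 fun φ => ?_
    obtain ⟨ψ, hψ⟩ := exists_extend ω a h1 φ
    rw [hψ, (hω.ext_self_subsingleton 1 one_ne_zero).elim ψ 0]
    exact comp_zero
  obtain ⟨e⟩ := exists_iso_bottom ω a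
  rw [show a + 1 = 1 + a by lia]
  exact ((Linear.homCongr A e (Iso.refl (ω⟦(1 : ℤ)⟧))).trans
    (singleHomEquiv ω _ a 1)).symm.toEquiv.subsingleton

theorem mem_SE_self_iff (P : PrimeSpectrum A) (j : ℤ) :
    P ∈ SE ω A j ↔ P ∈ Module.support A (Dual.HD A ω j) := by
  rw [SE, (evalShiftEquiv ω j).support_eq]

/-- Every prime lies over a minimal one. -/
theorem exists_minimal_le (P : PrimeSpectrum A) :
    ∃ Q : PrimeSpectrum A, Q.asIdeal ∈ (Module.annihilator A A).minimalPrimes ∧ Q ≤ P := by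
  obtain ⟨q, hq, hqP⟩ := Ideal.exists_minimalPrimes_le
    (show Module.annihilator A A ≤ P.asIdeal by
      rw [Module.annihilator_eq_bot.mpr inferInstance]
      exact bot_le)
  exact ⟨⟨q, hq.1.1⟩, hq, hqP⟩

theorem dimFun_le_of_bound (hω : Dual.IsDualizing A ω) (a : ℤ)
    (hQ : ∀ Q : PrimeSpectrum A, Q.asIdeal ∈ (Module.annihilator A A).minimalPrimes → dimFun hω Q ≤ -a)
    (P : PrimeSpectrum A) : dimFun hω P ≤ -a := by
  obtain ⟨Q, hQm, hQP⟩ := exists_minimal_le P
  exact ((dimFun_strictAnti hω).antitone hQP).trans (hQ Q hQm)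

theorem low_of_bound (hω : Dual.IsDualizing A ω) (a : ℤ)
    (hQ : ∀ Q : PrimeSpectrum A, Q.asIdeal ∈ (Module.annihilator A A).minimalPrimes → dimFun hω Q ≤ -a)
    (j : ℤ) (hj : j < a) : Subsingleton (Dual.HD A ω j) := by
  refine (Module.support_eq_empty_iff (R := A)).1 (Set.eq_empty_iff_forall_notMem.2 fun p hp => ?_)
  have hp' := (mem_SE_self_iff p j).2 hp
  have hps := mem_support_of_mem_SE (M := A) hω hp'
  obtain ⟨m, D, -, -, hD, -, -, hint⟩ := exists_data (M := A) hω hps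
  obtain ⟨D', hD', -, Q, hQm, -, hQD⟩ := exists_dim (M := A) hω p hps
  obtain rfl : D' = D := by exact_mod_cast hD'.symm.trans hD
  have h1 := (hint j hp').2
  have h2 := hQ Q hQm
  lia

/-- `L` satisfies `(S₂)`. -/
theorem hasSk_two_lowest (hω : Dual.IsDualizing A ω) (a : ℤ)
    (hQ : ∀ Q : PrimeSpectrum A, Q.asIdeal ∈ (Module.annihilator A A).minimalPrimes → dimFun hω Q ≤ -a) :
    LocCoh.HasSk 2 A (Dual.HD A ω a) := by
  haveI := hω.finite_cohomology a
  refine (hasSk_iff_forall 2).2 fun p => ?_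
  by_cases hp : p ∈ Module.support A (Dual.HD A ω a)
  swap
  · exact skPt_of_not_mem hp
  obtain ⟨m, D, -, hm, hD, -, -, -⟩ := exists_data (M := Dual.HD A ω a) hω hp
  obtain ⟨D', hD', -, Q, hQm, -, hQD⟩ := exists_dim (M := Dual.HD A ω a) hω p hp
  obtain rfl : D' = D := by exact_mod_cast hD'.symm.trans hD
  have h2 := dimFun_le_of_bound hω a hQ Q
  refine (skPt_iff_of_data hm hD).2 ?_
  have h3 := le_depth hω a (low_of_bound hω a hQ) p (min 2 D') (min_le_left _ _) (by lia)
  rw [hm] at h3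
  exact_mod_cast h3

section Local

variable [IsLocalRing A]

theorem ringKrullDim_quotient_local (hω : Dual.IsDualizing A ω) (Q : PrimeSpectrum A) :
    ringKrullDim (A ⧸ Q.asIdeal) =
      ((dimFun hω Q - dimFun hω (IsLocalRing.closedPoint A)).toNat : WithBot ℕ∞) := by
  have hS : PrimeSpectrum.zeroLocus (R := A) Q.asIdeal = Set.Icc Q (IsLocalRing.closedPoint A) :=
    Set.ext fun x => ⟨fun h => ⟨h, le_maximalIdeal x.isPrime.ne_top⟩, fun h => h.1⟩
  rw [ringKrullDim_quotient, hS, krullDim_Icc hω Q _ (le_maximalIdeal Q.isPrime.ne_top)]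

theorem length_le_dimFun (hω : Dual.IsDualizing A ω) (l : LTSeries (PrimeSpectrum A)) :
    (l.length : ℤ) ≤ dimFun hω l.head - dimFun hω l.last := by
  have key : ∀ k (hk : k < l.length + 1), dimFun hω (l ⟨k, hk⟩) + k ≤ dimFun hω l.head := by
    intro k
    induction k with
    | zero => intro hk; simp [RelSeries.head]
    | succ k ih =>
      intro hk
      have h1 := ih (by lia)
      have hlt : l ⟨k, by lia⟩ < l ⟨k + 1, hk⟩ := l.step ⟨k, by lia⟩
      have h2 := dimFun_strictAnti hω hlt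
      push_cast
      lia
  have h1 := key l.length (by lia)
  change dimFun hω l.last + (l.length : ℤ) ≤ _ at h1
  lia

theorem dim_le_of_bound (hω : Dual.IsDualizing A ω) (a : ℤ)
    (hQ : ∀ Q : PrimeSpectrum A, Q.asIdeal ∈ (Module.annihilator A A).minimalPrimes → dimFun hω Q ≤ -a) :
    ringKrullDim A ≤ ((-a - dimFun hω (IsLocalRing.closedPoint A)).toNat : WithBot ℕ∞) := by
  refine iSup_le fun l => ?_
  have h1 := length_le_dimFun hω l
  have h2 := dimFun_le_of_bound hω a hQ l.head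
  have h3 := (dimFun_strictAnti hω).antitone
    (show l.last ≤ IsLocalRing.closedPoint A from le_maximalIdeal l.last.isPrime.ne_top)
  exact_mod_cast (show l.length ≤ (-a - dimFun hω (IsLocalRing.closedPoint A)).toNat by lia)

/-- `ω` shifted to be normalized. -/
theorem isNormalized_shift (hω : Dual.IsDualizing A ω) (d : ℤ)
    (hd : dimFun hω (IsLocalRing.closedPoint A) = -d) : Dual.IsNormalized A (ω⟦d⟧) := fun j hj => by
  have h := lz_of_ne hω (IsLocalRing.closedPoint A) (i := d + j) (by rw [hd]; lia)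
  haveI : Subsingleton (Dual.inD A (ResidueField A) ⟶ ω⟦d + j⟧) := by
    refine subsingleton_of_forall_eq 0 fun φ => ?_
    obtain ⟨s, hs, hφ⟩ := h φ
    obtain ⟨u, rfl⟩ := IsLocalRing.notMem_maximalIdeal.1 hs
    have h2 := congrArg ((↑u⁻¹ : A) • ·) hφ
    simpa [smul_smul] using h2
  exact (homShiftEquiv _ ω d j (d + j) rfl).toEquiv.subsingleton

theorem dimFun_closedPoint_of_normalized (hω : Dual.IsDualizing A ω) (hn : Dual.IsNormalized A ω) :
    dimFun hω (IsLocalRing.closedPoint A) = 0 :=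
  dimFun_eq_dim hω hn _ 0 (ringKrullDim_eq_zero_of_isField
    ((Ideal.Quotient.maximal_ideal_iff_isField_quotient _).1 (IsLocalRing.maximalIdeal.isMaximal A)))

end Local

theorem height_le (hω : Dual.IsDualizing A ω) (a : ℤ)
    (hQ : ∀ Q : PrimeSpectrum A, Q.asIdeal ∈ (Module.annihilator A A).minimalPrimes → dimFun hω Q ≤ -a)
    (p : PrimeSpectrum A) : p.asIdeal.height ≤ ((-a - dimFun hω p).toNat : ℕ∞) := by
  rw [show p.asIdeal.height = Order.height p from PrimeSpectrum.height_eq_orderHeight p]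
  refine Order.height_le_iff.2 fun l hl => ?_
  have key : ∀ k (hk : k < l.length + 1), dimFun hω (l ⟨k, hk⟩) + k ≤ dimFun hω l.head := by
    intro k
    induction k with
    | zero => intro hk; simp [RelSeries.head]
    | succ k ih =>
      intro hk
      have h1 := ih (by lia)
      have hlt : l ⟨k, by lia⟩ < l ⟨k + 1, hk⟩ := l.step ⟨k, by lia⟩
      have h2 := dimFun_strictAnti hω hlt
      push_cast
      lia
  have h1 := key l.length (by lia)
  change dimFun hω l.last + (l.length : ℤ) ≤ _ at h1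
  have h2 := dimFun_le_of_bound hω a hQ l.head
  have h3 := (dimFun_strictAnti hω).antitone hl
  exact_mod_cast (show l.length ≤ (-a - dimFun hω p).toNat by lia)

end Groth.L04.Lowest
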