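import Groth.Agent.L04.LC.CompletionTriangleRG
import Groth.Agent.L04.LC.DualPeel
import Groth.Agent.L04.LC.LowestDegree
import Groth.Agent.L04.LC.AlgebraizationKill
import Groth.Agent.L10.DRing.AdicTowerRlim
import Groth.Agent.L05.Krasner.Newton
import Groth.Agent.S11623
import Groth.Agent.S1812
import Groth.Agent.S13497
import Groth.Prelude.Def_Wider

/-!
# Torsion of the low cohomology of completions of local cohomology
-/

set_option autoImplicit false
set_option linter.style.haveILetI false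
set_option backward.defeqAttrib.useBackward true
set_option backward.isDefEq.respectTransparency false
universe u

open CategoryTheory CategoryTheory.Limits CategoryTheory.Pretriangulated Opposite DerCA

attribute [local instance] HasDerivedCategory.standard

noncomputable section

namespace Groth.L04.ComplTors

open Groth.L04.RGamma Groth.L04.ComplRG Groth.L04.DualPeel Groth.L29.HomD

variable {A : Type u} [CommRing A] [IsNoetherianRing A] (I J : Ideal A)

theorem isLE_extCech (fs : List A) (hne : fs ≠ []) (d : ℕ)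
    (hcd : LocCoh.CdLE A (Ideal.span {x : A | x ∈ fs}) d) :
    DerivedCategory.IsLE (DRing.toD (extCech (ModuleCat.of A A) fs)) d := by
  refine (DerivedCategory.isLE_iff _ _).2 fun n hn => IsZero.of_iso ?_ (Groth.L10.CompletionBound.hhIso _ n)
  obtain ⟨k, rfl⟩ := Int.eq_ofNat_of_zero_le (a := n) (by lia)
  obtain ⟨e⟩ := Groth.Agent.S11623.result A fs hne A k
  haveI : Subsingleton ((localCohomology (Ideal.span {x : A | x ∈ fs}) k).obj (ModuleCat.of A A)) :=
    hcd A k (by lia)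
  exact (ModuleCat.isZero_of_subsingleton _).of_iso e

variable [DRing.HasDerivedCompletion I]

/-- Completion loses at most `cd` degrees from below. -/
theorem isZero_completion_below (d : ℕ) (hcd : LocCoh.CdLE A I d) (K : Dual.D A) (i : ℤ)
    (h : ∀ j : ℤ, j ≤ i + d → IsZero ((Groth.L10.CompletionBound.HH j).obj K)) :
    IsZero ((Groth.L10.CompletionBound.HH i).obj ((DRing.derivedCompletion I).obj K).obj) := by
  obtain ⟨s, hs⟩ := (isNoetherianRing_iff_ideal_fg A).1 inferInstance I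
  let fs : List A := 0 :: s.toList
  have hI : Ideal.span {x : A | x ∈ fs} = I := by
    have h0 : {x : A | x ∈ fs} = insert 0 (s : Set A) := by ext; simp [fs]
    rw [h0, Ideal.span_insert_zero]
    exact hs
  obtain ⟨R', hR', -, ⟨eK⟩⟩ := Groth.L10.CompletionBound.exists_rep K
  haveI := hR'
  obtain ⟨e, -⟩ := Groth.L10.CompletionFormula.exists_completion_iso I fs hI R'
  refine IsZero.of_iso ?_ ((Groth.L10.CompletionBound.HH i).mapIso
    ((ObjectProperty.ι (DRing.IsDerivedComplete I)).mapIso ((DRing.derivedCompletion I).mapIso eK.symm) ≪≫ e) ≪≫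
    Groth.L10.CompletionBound.hhIso _ i)
  refine (Groth.L10.CompletionBound.isZero_homCx_iff i).2 fun φ => ?_
  haveI h1 := isLE_extCech fs (List.cons_ne_nil _ _) d (hI.symm ▸ hcd)
  haveI h2 : DerivedCategory.IsGE ((DRing.toD R')⟦i⟧) ((d : ℤ) + 1) := by
    rw [DerivedCategory.isGE_iff]
    intro j hj
    exact (h (i + j) (by lia)).of_iso (Groth.L10.hShiftIso (DRing.toD R') i j (i + j) rfl ≪≫
      (Groth.L10.CompletionBound.HH (i + j)).mapIso eK)
  exact DerivedCategory.TStructure.t.zero φ (d : ℤ) ((d : ℤ) + 1) (by lia)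

variable [DRing.HasRgammaI J]

omit [IsNoetherianRing A] [DRing.HasDerivedCompletion I] [DRing.HasRgammaI J] in
theorem isPowerTorsion_of_subsingleton (M : Type u) [AddCommGroup M] [Module A M] [Subsingleton M] :
    LocCoh.IsPowerTorsion J M := fun _ => ⟨0, fun _ _ => Subsingleton.elim _ _⟩

omit [IsNoetherianRing A] [DRing.HasDerivedCompletion I] [DRing.HasRgammaI J] in
theorem subsingleton_mid {M₁ M₂ M₃ : Type u} [AddCommGroup M₁] [Module A M₁] [AddCommGroup M₂] [Module A M₂]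
    [AddCommGroup M₃] [Module A M₃] (f : M₁ →ₗ[A] M₂) (g : M₂ →ₗ[A] M₃) (hfg : Function.Exact f g)
    [Subsingleton M₁] [Subsingleton M₃] : Subsingleton M₂ :=
  subsingleton_of_forall_eq 0 fun x => by
    obtain ⟨y, rfl⟩ := (hfg x).1 (Subsingleton.elim _ _)
    rw [Subsingleton.elim y 0, map_zero]

/-- High local cohomological degree forces vanishing. -/
theorem subsingleton_Y_of_supports (Z : Dual.D A) (d : ℕ) (hcd : LocCoh.CdLE A I d) (s : ℤ)
    (h : ∀ (N : Type u) [AddCommGroup N] [Module A N] [Module.Finite A N],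
      Module.support A N ⊆ PrimeSpectrum.zeroLocus ((J ⊔ I : Ideal A) : Set A) →
        ∀ t : ℤ, t ≤ s + d → ∀ x : Dual.inD A N ⟶ Z⟦t⟧, x = 0)
    (i : ℤ) (hi : i ≤ s) : Subsingleton (Dual.HD A (Y I J Z) i) := by
  haveI := Groth.L10.DualUnbounded.hasRgammaI I
  haveI := Groth.L10.DualUnbounded.hasRgammaI (J ⊔ I)
  obtain ⟨e⟩ := nonempty_Y_sup I J Z
  refine ModuleCat.subsingleton_of_isZero (IsZero.of_iso ?_ ((DerivedCategory.homologyFunctor _ i).mapIso e))
  refine isZero_completion_below I d hcd _ i fun j hj => ?_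
  obtain ⟨g⟩ := Groth.Agent.S1812.result A (J ⊔ I) (IsNoetherian.noetherian _) Z j
  have hz : IsZero (Dual2.HDI A (J ⊔ I) Z j) := by
    refine (IsZero.iff_id_eq_zero _).2 (colimit.hom_ext fun n => ?_)
    refine IsZero.eq_of_src ?_ _ _
    refine @ModuleCat.isZero_of_subsingleton _ _ _ ?_
    refine subsingleton_of_forall_eq 0 fun x => h (A ⧸ (J ⊔ I) ^ n.unop.unop) (fun q hq => ?_) j (by lia) x
    rw [Module.mem_support_iff_of_finite, Ideal.annihilator_quotient] at hq
    exact q.isPrime.le_of_pow_le hq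
  haveI := ModuleCat.subsingleton_of_isZero hz
  haveI := g.toEquiv.subsingleton
  exact ModuleCat.isZero_of_subsingleton _

theorem subsingleton_Y_neg (N : Type u) [AddCommGroup N] [Module A N] [Module.Finite A N] (i : ℤ) (hi : i < 0) :
    Subsingleton (Dual.HD A (Y I J (Dual.inD A N)) i) := by
  obtain ⟨t, ht⟩ := (isNoetherianRing_iff_ideal_fg A).1 inferInstance J
  have hJ : Ideal.span {x : A | x ∈ t.toList} = J := by
    rw [← ht]; congr 1; ext; simp
  obtain ⟨gM, -⟩ := Groth.L10.GammaTensor.exists_gamma_iso J (ModuleCat.of A N) t.toList hJ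
  obtain ⟨e, -⟩ := Groth.L10.CompletionFormula.exists_iso I (cbij_η I J (Dual.inD A N))
    (Groth.L10.CompletionFormula.Cbij.comp I (Groth.L10.CompletionFormula.cbij_iso I gM.inv)
      (Groth.L10.AdicTowerRlim.cbij_kappa I N t.toList))
    (isComplete_Y I J _) (Groth.L10.AdicTowerRlim.isComplete_G I N (extCech (ModuleCat.of A A) t.toList))
  exact ModuleCat.subsingleton_of_isZero ((Groth.L10.AdicTowerRlim.isZero_G_neg I N t.toList i hi).of_iso
    ((DerivedCategory.homologyFunctor _ i).mapIso e ≪≫ Groth.L10.CompletionBound.hhIso _ i))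

theorem subsingleton_Y_zero [IsAdicComplete I A] (N : Type u) [AddCommGroup N] [Module A N] [Module.Finite A N]
    (h : ∀ J' : Ideal A, J' ≤ J → J ≤ (J' ⊔ I).radical → ∀ x ∈ DRing.torsionSub J' N, x = 0) :
    Subsingleton (Dual.HD A (Y I J (Dual.inD A N)) 0) := by
  obtain ⟨hinj, hrange⟩ := Groth.Agent.S13497.result A I J N
  refine subsingleton_of_forall_eq 0 fun x => hinj ?_
  rw [map_zero]
  obtain ⟨s, ⟨J', h1, h2, h3⟩, hs⟩ := hrange.le (Set.mem_range_self x)
  refine hs.symm.trans ?_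
  change ((DerivedCategory.homologyFunctor (ModuleCat.{u} A) 0).map (DRing.toDerivedCompletion I (Dual.inD A N))).hom
    (((DerivedCategory.singleFunctorCompHomologyFunctorIso (ModuleCat.{u} A) 0).inv.app (ModuleCat.of A N)).hom s) = 0
  rw [h J' h1 h2 s h3, map_zero]
  exact map_zero _

/-- Vanishing from a torsion-free bottom. -/
theorem subsingleton_Y_of_bottom [IsAdicComplete I A] (Z : Dual.D A) (t₀ b : ℤ) [Z.IsGE t₀] [Z.IsLE b]
    (hfin : ∀ n, Module.Finite A (Dual.HD A Z n))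
    (h : ∀ J' : Ideal A, J' ≤ J → J ≤ (J' ⊔ I).radical → ∀ x ∈ DRing.torsionSub J' (Dual.HD A Z t₀), x = 0) :
    ∀ i ≤ t₀, Subsingleton (Dual.HD A (Y I J Z) i) := by
  refine Groth.L29.HomD.bounded_induction (fun X => ∀ i ≤ t₀, Subsingleton (Dual.HD A (Y I J X) i)) ?_ ?_ ?_ Z t₀ b
    fun n hn _ i hi => ?_
  · intro X X' e hX i hi
    haveI := hX i hi
    obtain ⟨u⟩ := nonempty_iso_of_iso I J e
    exact ((DerivedCategory.homologyFunctor _ i).mapIso u).toLinearEquiv.symm.toEquiv.subsingleton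
  · intro S hS h₁ h₃ i hi
    obtain ⟨f, g, hfg⟩ := exact_Y I J S hS i
    haveI := h₁ i hi
    haveI := h₃ i hi
    exact subsingleton_mid f g hfg
  · intro X hX i _
    exact ModuleCat.subsingleton_of_isZero
      ((DerivedCategory.homologyFunctor (ModuleCat.{u} A) i).map_isZero (isZero_Y I J hX))
  · let N := Dual.HD A Z n
    haveI := hfin n
    obtain ⟨u⟩ := nonempty_iso_of_iso I J (((DerivedCategory.singleFunctors (ModuleCat.{u} A)).shiftIso (-n) n 0
      (by ring)).app (ModuleCat.of A N)).symm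
    obtain ⟨v⟩ := nonempty_shift_iso I J (Dual.inD A N) (-n)
    have e := (DerivedCategory.homologyFunctor (ModuleCat.{u} A) i).mapIso (u ≪≫ v) ≪≫
      Groth.L10.hShiftIso (A := ModuleCat.{u} A) (Y I J (Dual.inD A N)) (-n) i (-n + i) rfl
    haveI : Subsingleton (Dual.HD A (Y I J (Dual.inD A N)) (-n + i)) := by
      rcases lt_or_ge (-n + i) 0 with hlt | hge
      · exact subsingleton_Y_neg I J N _ hlt
      · obtain rfl : n = t₀ := by lia
        rw [show -n + i = 0 by lia]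
        exact subsingleton_Y_zero I J N h
    exact e.toLinearEquiv.toEquiv.subsingleton

section Dual

variable {W : DRing.Cx A} [∀ n, Injective (W.X n)] [W.IsKInjective]
  (hW : Dual.IsDualizing A (DRing.toD W)) (r : PrimeSpectrum A) (l : ℤ)

include hW

omit [DRing.HasDerivedCompletion I] [DRing.HasRgammaI J]

theorem hom_XD_eq_zero (T : Set (PrimeSpectrum A)) (c : ℤ)
    (h : ∀ q ∈ T, r ≤ q → c < -dimFun hW q - l)
    (N : Type u) [AddCommGroup N] [Module A N] [Module.Finite A N] (hN : Module.support A N ⊆ T)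
    (t : ℤ) (ht : t ≤ c) (x : Dual.inD A N ⟶ (XD W (ModuleCat.of A (A ⧸ r.asIdeal)) l)⟦t⟧) : x = 0 := by
  obtain ⟨a, b, hab⟩ := bounds_XD hW (ModuleCat.of A (A ⧸ r.asIdeal))
  obtain ⟨hge, hle, hfin⟩ := hab l
  refine hom_eq_zero_of_supports hW _ (a - l) (b - l) hfin T c (fun q hq t ht hmem => ?_) N hN t ht x
  by_cases hl : -dimFun hW q - t = l
  · rw [hl] at hmem
    obtain ⟨e⟩ := nonempty_XD_hom hW (ModuleCat.of A (A ⧸ r.asIdeal)) l
    rw [e.support_eq] at hmem
    rw [Module.mem_support_iff_of_finite, Ideal.annihilator_quotient] at hmem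
    have := h q hq hmem
    lia
  · haveI := subsingleton_XD_hom hW (ModuleCat.of A (A ⧸ r.asIdeal)) l _ hl
    rw [Module.support_eq_empty] at hmem
    exact hmem

theorem isGE_XD : DerivedCategory.IsGE (XD W (ModuleCat.of A (A ⧸ r.asIdeal)) l)
    (-dimFun hW r - l) := by
  refine (DerivedCategory.isGE_iff _ _).2 fun i hi => ?_
  haveI : Subsingleton (Dual.inD A A ⟶ (XD W (ModuleCat.of A (A ⧸ r.asIdeal)) l)⟦i⟧) :=
    subsingleton_of_forall_eq 0 fun x => hom_XD_eq_zero hW r l Set.univ i (fun q _ hrq => by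
      have := (dimFun_strictAnti hW).antitone hrq
      lia) A (Set.subset_univ _) i le_rfl x
  haveI := (evalShiftEquiv (W := XD W (ModuleCat.of A (A ⧸ r.asIdeal)) l) i).symm.toEquiv.subsingleton
  exact ModuleCat.isZero_of_subsingleton _

theorem smul_XD (c : A) (hc : c ∈ r.asIdeal) : c • 𝟙 (XD W (ModuleCat.of A (A ⧸ r.asIdeal)) l) = 0 :=
  smul_id_eq_zero W c (fun x => by
    obtain ⟨y, rfl⟩ := Ideal.Quotient.mk_surjective x
    exact Ideal.Quotient.eq_zero_iff_mem.2 (r.asIdeal.mul_mem_right y hc)) l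

theorem bottom_torsionFree (c : A) (hc : c ∉ r.asIdeal)
    (x : Dual.HD A (XD W (ModuleCat.of A (A ⧸ r.asIdeal)) l) (-dimFun hW r - l)) (hx : c • x = 0) :
    x = 0 := by
  let Z := XD W (ModuleCat.of A (A ⧸ r.asIdeal)) l
  let t₀ := -dimFun hW r - l
  haveI : DerivedCategory.IsGE Z t₀ := isGE_XD hW r l
  let 𝔞 := r.asIdeal ⊔ Ideal.span {c}
  let N := ModuleCat.of A (A ⧸ 𝔞)
  have hs : Subsingleton (Dual.inD A N ⟶ Z⟦t₀ + 0⟧) := subsingleton_of_forall_eq 0 fun φ =>
    hom_XD_eq_zero hW r l {q | 𝔞 ≤ q.asIdeal} t₀ (fun q hq hrq => by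
      have hlt : r < q := lt_of_le_of_ne hrq fun he =>
        hc (he ▸ hq (Ideal.mem_sup_right (Ideal.mem_span_singleton_self c)))
      have := dimFun_strictAnti hW hlt
      lia) (A ⧸ 𝔞) (fun q hq => by
        rw [Module.mem_support_iff_of_finite, Ideal.annihilator_quotient] at hq
        exact hq) _ (add_zero t₀).le φ
  haveI := Groth.L04.Lowest.subsingleton_hom_lowest Z t₀ N 0 zero_le_one hs
  have hker : 𝔞 ≤ LinearMap.ker (LinearMap.toSpanSingleton A (Dual.HD A Z t₀) x) := by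
    refine sup_le (fun a ha => ?_) ((Ideal.span_singleton_le_iff_mem _).2 hx)
    exact ComplRG.smul_HD_eq_zero (smul_XD hW r l a ha) t₀ x
  let g : N ⟶ ModuleCat.of A (Dual.HD A Z t₀) := ModuleCat.ofHom (Submodule.liftQ 𝔞 (LinearMap.toSpanSingleton A _ x) hker)
  have hg : g = 0 := (DerivedCategory.singleFunctor (ModuleCat.{u} A) 0).map_injective (by
    rw [Functor.map_zero, ← cancel_mono ((shiftFunctorZero (Dual.D A) ℤ).inv.app _), zero_comp]
    exact Subsingleton.elim (α := Dual.inD A N ⟶ (Dual.inD A (Dual.HD A Z t₀))⟦(0 : ℤ)⟧) _ _)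
  have := LinearMap.congr_fun (congrArg ModuleCat.Hom.hom hg) (Submodule.Quotient.mk 1)
  change (1 : A) • x = 0 at this
  rwa [one_smul] at this

end Dual

section Engine

variable {W : DRing.Cx A} [∀ n, Injective (W.X n)] [W.IsKInjective]
  (hW : Dual.IsDualizing A (DRing.toD W)) (M : Type u) [AddCommGroup M] [Module A M] [Module.Finite A M]
  (s d : ℕ) (hcd : LocCoh.CdLE A I d)

include hW hcd

/-- The vanishing in the range of large depth plus dimension. -/
theorem subsingleton_Y_XD (r : PrimeSpectrum A) (l : ℤ)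
    (h : ∀ q : PrimeSpectrum A, r ≤ q → J ≤ q.asIdeal → I ≤ q.asIdeal →
      ((d : ℤ) + s) < -dimFun hW q - l) (i : ℤ) (hi : i ≤ s) :
    Subsingleton (Dual.HD A (Y I J (XD W (ModuleCat.of A (A ⧸ r.asIdeal)) l)) i) := by
  refine subsingleton_Y_of_supports I J _ d hcd s (fun N _ _ _ hN t ht x => ?_) i hi
  refine hom_XD_eq_zero hW r l _ ((s : ℤ) + d) (fun q hq hrq => ?_) N hN t ht x
  have hq' : (J ⊔ I : Ideal A) ≤ q.asIdeal := hq
  have := h q hrq (le_sup_left.trans hq') (le_sup_right.trans hq')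
  lia

theorem exists_torsion [IsAdicComplete I A]
    (h4 : ∀ p : PrimeSpectrum A, ¬ I ≤ p.asIdeal →
      (∃ q : PrimeSpectrum A, p ≤ q ∧ I ≤ q.asIdeal ∧ ¬ J ≤ q.asIdeal) →
      ∀ m : ℕ, Groth.L04.AlgKill.dep M p = m → s ≤ m ∨
        ∀ q : PrimeSpectrum A, p ≤ q → J ≤ q.asIdeal → I ≤ q.asIdeal →
          ((d : ℤ) + s) < m + (dimFun hW p - dimFun hW q)) :
    ∃ J₀ : Ideal A, J₀ ≤ J ∧ (∀ q : PrimeSpectrum A, J₀ ≤ q.asIdeal → I ≤ q.asIdeal → J ≤ q.asIdeal) ∧
      ∀ i : ℤ, i ≤ s → LocCoh.IsPowerTorsion J₀ (Dual.HD A (Y I J (Dual.inD A M)) i) := by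
  let P : Dual.D A → Prop := fun Z => ∃ J₀ : Ideal A, J₀ ≤ J ∧
    (∀ q : PrimeSpectrum A, J₀ ≤ q.asIdeal → I ≤ q.asIdeal → J ≤ q.asIdeal) ∧
      ∀ i : ℤ, i ≤ s → LocCoh.IsPowerTorsion J₀ (Dual.HD A (Y I J Z) i)
  have hfin : ∀ n, Module.Finite A (Dual.HD A (Dual.inD A M) n) := fun n => by
    by_cases hn : n = 0
    · subst hn
      let e : M ≃ₗ[A] Dual.HD A (Dual.inD A M) 0 :=
        ((DerivedCategory.singleFunctorCompHomologyFunctorIso (ModuleCat.{u} A) 0).app
          (ModuleCat.of A M)).symm.toLinearEquiv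
      exact Module.Finite.equiv e
    · haveI : Subsingleton (Dual.HD A (Dual.inD A M) n) := subsingleton_HD_inD hn
      infer_instance
  refine induction_dual hW P ?_ ?_ ?_ (Dual.inD A M) 0 0 hfin fun l r hr => ?_
  · rintro X X' e ⟨J₀, h1, h2, h3⟩
    obtain ⟨u⟩ := nonempty_iso_of_iso I J e
    exact ⟨J₀, h1, h2, fun i hi =>
      isPowerTorsion_of_iso J₀ ((DerivedCategory.homologyFunctor _ i).mapIso u) (h3 i hi)⟩
  · rintro S hS ⟨J₁, a1, a2, a3⟩ ⟨J₃, b1, b2, b3⟩
    refine ⟨J₁ ⊓ J₃, inf_le_left.trans a1, fun q hq hI => ?_, fun i hi => ?_⟩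
    · exact (q.isPrime.inf_le.1 hq).elim (fun h => a2 q h hI) fun h => b2 q h hI
    · obtain ⟨f, g, hfg⟩ := exact_Y I J S hS i
      exact torsion_mid (J₁ ⊓ J₃) ((isNoetherianRing_iff_ideal_fg A).1 inferInstance _)
        (inf_le_left.trans J₁.le_radical) (inf_le_right.trans J₃.le_radical) f g hfg (a3 i hi) (b3 i hi)
  · intro X hX
    refine ⟨J, le_rfl, fun q hq _ => hq, fun i _ => ?_⟩
    haveI := ModuleCat.subsingleton_of_isZero
      ((DerivedCategory.homologyFunctor (ModuleCat.{u} A) i).map_isZero (isZero_Y I J hX))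
    exact isPowerTorsion_of_subsingleton J _
  let Z := XD W (ModuleCat.of A (A ⧸ r.asIdeal)) l
  by_cases hI : I ≤ r.asIdeal
  · exact ⟨J, le_rfl, fun q hq _ => hq,
      fun i _ => isTors_Y_of_killed I J (fun c hc => smul_XD hW r l c (hI hc)) i⟩
  by_cases hT : ∃ q : PrimeSpectrum A, r ≤ q ∧ I ≤ q.asIdeal ∧ ¬ J ≤ q.asIdeal
  swap
  · refine ⟨r.asIdeal ⊓ J, inf_le_right, fun q hq hqI => ?_, fun i _ x => ⟨1, fun a ha => ?_⟩⟩
    · refine (q.isPrime.inf_le.1 hq).elim (fun h => ?_) id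
      by_contra hJq
      exact hT ⟨q, h, hqI, hJq⟩
    · exact ComplRG.smul_HD_eq_zero (smul_Y I J (smul_XD hW r l a (by rw [pow_one] at ha; exact ha.1))) i x
  obtain ⟨m, hm, hml⟩ := Groth.L04.AnnihDual.depth_of_mem_support hW r M l hr
  suffices hz : ∀ i : ℤ, i ≤ s → Subsingleton (Dual.HD A (Y I J Z) i) from
    ⟨J, le_rfl, fun q hq _ => hq, fun i hi => haveI := hz i hi; isPowerTorsion_of_subsingleton J _⟩
  rcases h4 r hI hT m hm with hsm | hbig
  · intro i hi
    obtain ⟨a, b, hab⟩ := bounds_XD hW (ModuleCat.of A (A ⧸ r.asIdeal))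
    obtain ⟨-, hle, hZfin⟩ := hab l
    haveI := isGE_XD hW r l
    refine subsingleton_Y_of_bottom I J Z (-dimFun hW r - l) (b - l) hZfin
      (fun J' _ hJ' x hx => ?_) i (by lia)
    obtain ⟨q, hrq, hqI, hqJ⟩ := hT
    obtain ⟨c, hc, hcq⟩ := SetLike.not_le_iff_exists.1 (show ¬ J' ≤ q.asIdeal from fun h =>
      hqJ (hJ'.trans (q.isPrime.radical_le_iff.2 (sup_le h hqI))))
    obtain ⟨n, hn⟩ := hx
    exact bottom_torsionFree hW r l (c ^ n) (fun h => hcq (q.isPrime.mem_of_pow_mem n (hrq h))) x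
      (hn _ (Ideal.pow_mem_pow hc n))
  · refine subsingleton_Y_XD I J hW s d hcd r l fun q hrq hqJ hqI => ?_
    have := hbig q hrq hqJ hqI
    lia

theorem exists_smul (p : PrimeSpectrum A)
    (h4 : ∀ p' : PrimeSpectrum A, p' ≤ p → ∀ q : PrimeSpectrum A, p' ≤ q → J ≤ q.asIdeal → I ≤ q.asIdeal →
      ∀ m : ℕ, Groth.L04.AlgKill.dep M p' = m →
        ((d : ℤ) + s) < m + (dimFun hW p' - dimFun hW q)) :
    ∃ f : A, f ∉ p.asIdeal ∧ ∀ i : ℤ, i ≤ s → ∀ x : Dual.HD A (Y I J (Dual.inD A M)) i, f • x = 0 := by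
  let P : Dual.D A → Prop := fun Z => ∃ f : A, f ∉ p.asIdeal ∧
    ∀ i : ℤ, i ≤ s → ∀ x : Dual.HD A (Y I J Z) i, f • x = 0
  have hfin : ∀ n, Module.Finite A (Dual.HD A (Dual.inD A M) n) := fun n => by
    by_cases hn : n = 0
    · subst hn
      let e : M ≃ₗ[A] Dual.HD A (Dual.inD A M) 0 :=
        ((DerivedCategory.singleFunctorCompHomologyFunctorIso (ModuleCat.{u} A) 0).app
          (ModuleCat.of A M)).symm.toLinearEquiv
      exact Module.Finite.equiv e
    · haveI : Subsingleton (Dual.HD A (Dual.inD A M) n) := subsingleton_HD_inD hn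
      infer_instance
  have h1 : (1 : A) ∉ p.asIdeal := fun h => p.isPrime.ne_top ((Ideal.eq_top_iff_one _).2 h)
  refine induction_dual hW P ?_ ?_ ?_ (Dual.inD A M) 0 0 hfin fun l r hr => ?_
  · rintro X X' e ⟨f, hf, hf'⟩
    obtain ⟨u⟩ := nonempty_iso_of_iso I J e
    refine ⟨f, hf, fun i hi x => ?_⟩
    apply ((DerivedCategory.homologyFunctor _ i).mapIso u).toLinearEquiv.symm.injective
    rw [map_smul, hf' i hi, map_zero]
  · rintro S hS ⟨f₁, a1, a2⟩ ⟨f₃, b1, b2⟩
    refine ⟨f₁ * f₃, fun h => (p.isPrime.mem_or_mem h).elim a1 b1, fun i hi x => ?_⟩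
    obtain ⟨f, g, hfg⟩ := exact_Y I J S hS i
    obtain ⟨y, hy⟩ := (hfg (f₃ • x)).1 (by rw [map_smul, b2 i hi])
    rw [mul_smul, ← hy, ← map_smul, a2 i hi, map_zero]
  · intro X hX
    refine ⟨1, h1, fun i _ x => ?_⟩
    haveI := ModuleCat.subsingleton_of_isZero
      ((DerivedCategory.homologyFunctor (ModuleCat.{u} A) i).map_isZero (isZero_Y I J hX))
    exact Subsingleton.elim _ _
  by_cases hrp : r ≤ p
  swap
  · obtain ⟨f, hfr, hfp⟩ := SetLike.not_le_iff_exists.1 (show ¬ r.asIdeal ≤ p.asIdeal from hrp)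
    exact ⟨f, hfp, fun i _ x => ComplRG.smul_HD_eq_zero (smul_Y I J (smul_XD hW r l f hfr)) i x⟩
  obtain ⟨m, hm, hml⟩ := Groth.L04.AnnihDual.depth_of_mem_support hW r M l hr
  refine ⟨1, h1, fun i hi x => ?_⟩
  haveI := subsingleton_Y_XD I J hW s d hcd r l (fun q hrq hqJ hqI => by
    have := h4 r hrp q hrq hqJ hqI m hm
    lia) i hi
  exact Subsingleton.elim _ _

end Engine

omit [DRing.HasDerivedCompletion I] [DRing.HasRgammaI J] in
theorem isComplete_inD [IsAdicComplete I A] (M : Type u) [AddCommGroup M] [Module A M] [Module.Finite A M] :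
    DRing.IsDerivedComplete I (Dual.inD A M) := by
  haveI := Groth.L05.Krasner.isAdicComplete_of_finite I M
  exact (isDerivedComplete_inD_iff I M).2 fun f hf => tzMod_of_isAdicComplete I hf

/-- From torsion to bijectivity of the completion map, for all smaller ideals with the same trace. -/
theorem bijective_of_torsion [IsAdicComplete I A] (M : Type u) [AddCommGroup M] [Module A M] [Module.Finite A M]
    (s : ℕ) (J₀ : Ideal A)
    (h : ∀ i : ℤ, i ≤ s → LocCoh.IsPowerTorsion J₀ (Dual.HD A (Y I J (Dual.inD A M)) i))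
    (J' : Ideal A) [DRing.HasRgammaI J'] (hle : J' ≤ J₀)
    (hV : PrimeSpectrum.zeroLocus (J' : Set A) ∩ PrimeSpectrum.zeroLocus (I : Set A) =
      PrimeSpectrum.zeroLocus (J : Set A) ∩ PrimeSpectrum.zeroLocus (I : Set A)) (i : ℤ) (hi : i ≤ s) :
    Function.Bijective ((DerivedCategory.homologyFunctor (ModuleCat.{u} A) i).map
      (DRing.toDerivedCompletion I ((DRing.RgammaI J').obj (Dual.inD A M)))).hom := by
  have hr : (J ⊔ I).radical = (J' ⊔ I).radical :=
    PrimeSpectrum.zeroLocus_eq_iff.1 (by rw [PrimeSpectrum.zeroLocus_sup, PrimeSpectrum.zeroLocus_sup, hV])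
  obtain ⟨e⟩ := nonempty_Y_iso I J J' hr (Dual.inD A M)
  refine bijective_H_η I J' (isComplete_inD I M) i fun j hj x => ?_
  obtain ⟨n, hn⟩ := isPowerTorsion_of_iso J₀ ((DerivedCategory.homologyFunctor _ j).mapIso e)
    (h j (hj.trans hi)) x
  exact ⟨n, fun a ha => hn a (Ideal.pow_right_mono hle n ha)⟩

/-- A representation of a dualizing complex by injectives. -/
theorem exists_dualizing_rep {ω : Dual.D A} (hω : Dual.IsDualizing A ω) :
    ∃ W : DRing.Cx A, (∀ n, Injective (W.X n)) ∧ W.IsKInjective ∧ Dual.IsDualizing A (DRing.toD W) := by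
  obtain ⟨a, b, hab⟩ := hω.finite_injective_dimension
  haveI := isGE_of_lower a fun M _ _ i hi => hab M i (Or.inl hi)
  obtain ⟨W, -, hI, hK, ⟨e⟩⟩ := Groth.L29.HomD.exists_injRep ω a
  refine ⟨W, fun n => ?_, hK, isDualizing_of_iso e.symm hω⟩
  haveI := hI n
  exact Module.injective_object_of_injective_module A (W.X n)

omit [DRing.HasDerivedCompletion I] [DRing.HasRgammaI J] in
theorem lt_of_lt_dimBetween {ω : Dual.D A} (hω : Dual.IsDualizing A ω) {p q : PrimeSpectrum A} (hpq : p ≤ q)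
    (k m : ℕ)
    (h : ((k : ℕ∞) : WithBot ℕ∞) < ((m : ℕ∞) : WithBot ℕ∞) + Formal2.dimBetween A p.asIdeal q.asIdeal) :
    (k : ℤ) < m + (dimFun hω p - dimFun hω q) := by
  rw [Groth.L04.AlgKill.dimBetween_eq hω p q hpq] at h
  have h' : k < m + (dimFun hω p - dimFun hω q).toNat := by exact_mod_cast h
  have := (dimFun_strictAnti hω).antitone hpq
  lia

omit [DRing.HasDerivedCompletion I] [DRing.HasRgammaI J] in
theorem ringKrullDim_quotient_eq [IsLocalRing A] {ω : Dual.D A} (hω : Dual.IsDualizing A ω) (p : PrimeSpectrum A) :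
    ringKrullDim (A ⧸ p.asIdeal) =
      Formal2.dimBetween A p.asIdeal (IsLocalRing.closedPoint A).asIdeal := by
  have hle : ∀ r : PrimeSpectrum A, r ≤ IsLocalRing.closedPoint A := fun r => IsLocalRing.le_maximalIdeal r.isPrime.ne_top
  rw [Groth.L04.AlgKill.dimBetween_eq hω p _ (hle p), ringKrullDim_quotient,
    ← Groth.L04.AnnihDual.krullDim_Icc hω p _ (hle p)]
  exact Order.krullDim_eq_of_orderIso
    { toFun := fun r => ⟨r.1, r.2, hle r.1⟩
      invFun := fun r => ⟨r.1, r.2.1⟩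
      left_inv := fun _ => rfl
      right_inv := fun _ => rfl
      map_rel_iff' := Iff.rfl }

end Groth.L04.ComplTors
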