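import Groth.Agent.L10.DRing.DualityCompletion
import Groth.Agent.L10.DRing.DualUnbounded
import Groth.Agent.L10.DRing.CompletionTriangle
import Groth.Agent.L10.DerTrunc
import Groth.Agent.S1816

/-!
# The functor `Z ↦ (RΓ_J Z)^∧`: triangles, shifts, change of ideal, and the unit on low degrees
-/

set_option autoImplicit false
set_option linter.style.haveILetI false
set_option backward.defeqAttrib.useBackward true
set_option backward.isDefEq.respectTransparency false
universe u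

open CategoryTheory CategoryTheory.Limits CategoryTheory.Pretriangulated

attribute [local instance] HasDerivedCategory.standard

noncomputable section

namespace Groth.L04.ComplRG

open Groth.L04.RGamma Groth.L10.CechTorsLocal Groth.L10.CompletionFormula

variable {A : Type u} [CommRing A] (I J : Ideal A) [DRing.HasRgammaI J] [DRing.HasDerivedCompletion I]

/-- Local cohomology. -/
abbrev R (Z : Dual.D A) : Dual.D A := (DRing.RgammaI J).obj Z

/-- The completion of local cohomology. -/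
abbrev Y (Z : Dual.D A) : Dual.D A := ((DRing.derivedCompletion I).obj (R J Z)).obj

/-- The unit. -/
abbrev η (Z : Dual.D A) : R J Z ⟶ Y I J Z := DRing.toDerivedCompletion I (R J Z)

/-- Functoriality. -/
abbrev Ymap {Z Z' : Dual.D A} (f : Z ⟶ Z') : Y I J Z ⟶ Y I J Z' :=
  ((DRing.derivedCompletion I).map ((DRing.RgammaI J).map f)).hom

theorem η_naturality {Z Z' : Dual.D A} (f : Z ⟶ Z') :
    (DRing.RgammaI J).map f ≫ η I J Z' = η I J Z ≫ Ymap I J f :=
  (DRing.derivedCompletionAdj I).unit.naturality ((DRing.RgammaI J).map f)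

omit [DRing.HasDerivedCompletion I] in
theorem ε_naturality {Z Z' : Dual.D A} (f : Z ⟶ Z') :
    (DRing.RgammaI J).map f ≫ (DRing.RgammaIε J).app Z' = (DRing.RgammaIε J).app Z ≫ f :=
  (DRing.RgammaIε J).naturality f

theorem cbij_η (Z : Dual.D A) : Cbij I (η I J Z) := cbij_toDerivedCompletion I _

theorem isComplete_Y (Z : Dual.D A) : DRing.IsDerivedComplete I (Y I J Z) :=
  ((DRing.derivedCompletion I).obj (R J Z)).property

omit [DRing.HasRgammaI J] [DRing.HasDerivedCompletion I] in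
theorem cbij_shift (n : ℤ) {X X' : Dual.D A} {φ : X ⟶ X'} (h : Cbij I φ) : Cbij I (φ⟦n⟧') := fun P hP => by
  let e := (shiftEquiv' (Dual.D A) n (-n) (add_neg_cancel n)).toAdjunction
  have hb := h _ (isComplete_shift I hP (-n))
  have : (fun b : X'⟦n⟧ ⟶ P => φ⟦n⟧' ≫ b) =
      (e.homEquiv X P).symm ∘ (fun b => φ ≫ b) ∘ e.homEquiv X' P := by
    funext b
    exact ((Equiv.symm_apply_eq _).2 (e.homEquiv_naturality_left φ b).symm).symm
  rw [this]
  exact ((e.homEquiv X P).symm.bijective.comp hb).comp (e.homEquiv X' P).bijective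

omit [DRing.HasRgammaI J] [DRing.HasDerivedCompletion I] in
theorem torsion_mid (hK : J.FG) {K' K'' : Ideal A} (h' : J ≤ K'.radical) (h'' : J ≤ K''.radical)
    {M₁ M₂ M₃ : Type u} [AddCommGroup M₁] [Module A M₁] [AddCommGroup M₂] [Module A M₂] [AddCommGroup M₃]
    [Module A M₃] (f : M₁ →ₗ[A] M₂) (g : M₂ →ₗ[A] M₃) (hfg : Function.Exact f g)
    (h₁ : LocCoh.IsPowerTorsion K' M₁) (h₃ : LocCoh.IsPowerTorsion K'' M₃) : LocCoh.IsPowerTorsion J M₂ := by
  refine isPowerTorsion_of_elements J hK _ fun r hr x => ?_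
  obtain ⟨a, ha⟩ := h'' hr
  obtain ⟨n, hn⟩ := h₃ (g x)
  obtain ⟨y, hy⟩ := (hfg ((r ^ a) ^ n • x)).1 (by rw [map_smul, hn _ (Ideal.pow_mem_pow ha n)])
  obtain ⟨b, hb⟩ := h' hr
  obtain ⟨m, hm⟩ := h₁ y
  refine ⟨b * m + a * n, ?_⟩
  rw [pow_add, mul_smul, pow_mul r a n, ← hy, pow_mul r b m, ← map_smul, hm _ (Ideal.pow_mem_pow hb m), map_zero]

omit [DRing.HasRgammaI J] [DRing.HasDerivedCompletion I] in
theorem smul_HD_eq_zero {X : Dual.D A} {r : A} (h : r • 𝟙 X = 0) (i : ℤ) (x : Dual.HD A X i) : r • x = 0 := by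
  apply (Groth.L29.HomD.evalShiftEquiv (W := X) i).symm.injective
  rw [map_smul, map_zero]
  rw [← Category.comp_id ((Groth.L29.HomD.evalShiftEquiv (W := X) i).symm x), ← Linear.comp_smul,
    ← smul_id_shift, h, Functor.map_zero, comp_zero]

omit [DRing.HasRgammaI J] [DRing.HasDerivedCompletion I] in
theorem isTors_iso {X X' : Dual.D A} (e : X ≅ X') (h : IsTors J X) : IsTors J X' := fun i =>
  isPowerTorsion_of_iso J ((DerivedCategory.homologyFunctor _ i).mapIso e) (h i)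

variable [IsNoetherianRing A]

omit [DRing.HasDerivedCompletion I] in
theorem smul_R {Z : Dual.D A} {r : A} (h : r • 𝟙 Z = 0) : r • 𝟙 (R J Z) = 0 := by
  refine injective_comp_ε J (isTors_RgammaI J Z) Z _ _ ?_
  rw [zero_comp, Linear.smul_comp, Category.id_comp]
  refine Eq.trans ?_ (show (DRing.RgammaIε J).app Z ≫ (r • 𝟙 Z) = 0 by rw [h, comp_zero])
  rw [Linear.comp_smul]
  exact congrArg (r • ·) (Category.comp_id _).symm

theorem smul_Y {Z : Dual.D A} {r : A} (h : r • 𝟙 Z = 0) : r • 𝟙 (Y I J Z) = 0 := by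
  refine (cbij_η I J Z _ (isComplete_Y I J Z)).1 ?_
  change η I J Z ≫ (r • 𝟙 (Y I J Z)) = η I J Z ≫ 0
  rw [Linear.comp_smul, Category.comp_id, comp_zero, ← Category.id_comp (η I J Z), ← Linear.smul_comp,
    smul_R J h, zero_comp]

theorem isZero_Y {Z : Dual.D A} (h : IsZero Z) : IsZero (Y I J Z) := by
  rw [IsZero.iff_id_eq_zero]
  have := smul_Y I J (Z := Z) (r := 1) (by rw [one_smul]; exact h.eq_of_src _ _)
  rwa [one_smul] at this

/-- The completion of an object killed by `I` is itself. -/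
theorem isTors_Y_of_killed {Z : Dual.D A} (h : ∀ r ∈ I, r • 𝟙 Z = 0) : IsTors J (Y I J Z) := by
  have hc : DRing.IsDerivedComplete I (R J Z) :=
    killed_isComplete I (n := 1) fun r hr => smul_R J (h r (by simpa using hr))
  obtain ⟨e, -⟩ := exists_iso I (cbij_η I J Z) (cbij_iso I (𝟙 (R J Z))) (isComplete_Y I J Z) hc
  exact isTors_iso J e.symm (isTors_RgammaI J Z)

omit [DRing.HasDerivedCompletion I] in
theorem exists_R_triangle (T : Triangle (Dual.D A)) (hT : T ∈ distTriang (Dual.D A)) :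
    ∃ δ, Triangle.mk ((DRing.RgammaI J).map T.mor₁) ((DRing.RgammaI J).map T.mor₂) δ ∈
      distTriang (Dual.D A) := by
  let ε := DRing.RgammaIε J
  obtain ⟨C, g', δ', hC⟩ := distinguished_cocone_triangle ((DRing.RgammaI J).map T.mor₁)
  obtain ⟨w, hw₂, hw₃⟩ := complete_distinguished_triangle_morphism _ _ hC hT (ε.app T.obj₁) (ε.app T.obj₂)
    (ε_naturality J T.mor₁)
  change C ⟶ T.obj₃ at w
  change g' ≫ w = ε.app T.obj₂ ≫ T.mor₂ at hw₂
  change δ' ≫ (ε.app T.obj₁)⟦(1 : ℤ)⟧' = w ≫ T.mor₃ at hw₃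
  have ht1 := Groth.L10.DualityCompletion.tbij_shift J (tbij_ε J T.obj₁) 1
  have ht2' := Groth.L10.DualityCompletion.tbij_shift J (tbij_ε J T.obj₂) 1
  have hw : Tbij J w := fun V hV => by
    refine ⟨fun c c' hcc => sub_eq_zero.1 ?_, fun c => ?_⟩
    · have h0 : (c - c') ≫ w = 0 := by rw [Preadditive.sub_comp]; exact sub_eq_zero.2 hcc
      have hd : (c - c') ≫ δ' = 0 := (ht1 V hV).1 (by
        change ((c - c') ≫ δ') ≫ (ε.app T.obj₁)⟦(1 : ℤ)⟧' = 0 ≫ (ε.app T.obj₁)⟦(1 : ℤ)⟧'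
        rw [Category.assoc, hw₃, reassoc_of% h0, zero_comp, zero_comp])
      obtain ⟨b, hb⟩ := Triangle.coyoneda_exact₃ _ hC (c - c') hd
      change c - c' = b ≫ g' at hb
      obtain ⟨a, ha⟩ := Triangle.coyoneda_exact₂ _ hT (b ≫ ε.app T.obj₂) (by
        rw [Category.assoc]
        refine (congrArg (b ≫ ·) hw₂.symm).trans ?_
        rw [← Category.assoc, ← hb, h0])
      obtain ⟨a', rfl⟩ := (tbij_ε J T.obj₁ V hV).2 a
      have hba : b = a' ≫ (DRing.RgammaI J).map T.mor₁ := (tbij_ε J T.obj₂ V hV).1 (by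
        change b ≫ ε.app T.obj₂ = (a' ≫ _) ≫ ε.app T.obj₂
        rw [ha]
        exact (Category.assoc _ _ _).trans ((congrArg (a' ≫ ·) (ε_naturality J T.mor₁).symm).trans
          (Category.assoc _ _ _).symm))
      rw [hb, hba, Category.assoc]
      exact (congrArg (a' ≫ ·) (comp_distTriang_mor_zero₁₂ _ hC)).trans comp_zero
    · obtain ⟨d', hd'⟩ := (ht1 V hV).2 (c ≫ T.mor₃)
      change d' ≫ (ε.app T.obj₁)⟦(1 : ℤ)⟧' = c ≫ T.mor₃ at hd'
      have hz : d' ≫ ((DRing.RgammaI J).map T.mor₁)⟦(1 : ℤ)⟧' = 0 := (ht2' V hV).1 (by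
        change (d' ≫ _) ≫ (ε.app T.obj₂)⟦(1 : ℤ)⟧' = 0 ≫ _
        rw [Category.assoc, ← Functor.map_comp, ε_naturality]
        refine (congrArg (d' ≫ ·) (Functor.map_comp _ _ _)).trans ?_
        rw [reassoc_of% hd']
        refine (congrArg (c ≫ ·) (comp_distTriang_mor_zero₃₁ _ hT)).trans ?_
        rw [comp_zero, zero_comp])
      obtain ⟨b, hb⟩ : ∃ b : V ⟶ C, d' = b ≫ δ' := Triangle.coyoneda_exact₃ _ (rot_of_distTriang _ hC) d' (by
        change d' ≫ (-((DRing.RgammaI J).map T.mor₁)⟦(1 : ℤ)⟧') = 0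
        rw [Preadditive.comp_neg, hz, neg_zero])
      obtain ⟨e, he⟩ := Triangle.coyoneda_exact₃ _ hT (b ≫ w - c) (by
        rw [Preadditive.sub_comp, Category.assoc, ← hw₃, ← Category.assoc, ← hb, hd', sub_self])
      obtain ⟨e', rfl⟩ := (tbij_ε J T.obj₂ V hV).2 e
      refine ⟨b - e' ≫ g', ?_⟩
      change (b - e' ≫ g') ≫ w = c
      rw [Preadditive.sub_comp, Category.assoc, hw₂, ← Category.assoc]
      exact (congrArg (b ≫ w - ·) he.symm).trans (sub_sub_cancel _ _)
  have hCt : IsTors J C := fun n => by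
    refine torsion_mid J ((isNoetherianRing_iff_ideal_fg A).1 inferInstance J) J.le_radical J.le_radical
      ((DerivedCategory.homologyFunctor (ModuleCat.{u} A) n).map g').hom
      (DerivedCategory.HomologySequence.δ (Triangle.mk ((DRing.RgammaI J).map T.mor₁) g' δ') n (n + 1) rfl).hom
      ((ShortComplex.ShortExact.moduleCat_exact_iff_function_exact _).1
        (DerivedCategory.HomologySequence.exact₃ _ hC n (n + 1) rfl)) ?_ ?_
    · exact isTors_RgammaI J T.obj₂ n
    · exact isTors_RgammaI J T.obj₁ (n + 1)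
  obtain ⟨v, hv⟩ := (tbij_ε J T.obj₃ C hCt).2 w
  obtain ⟨v', hv'⟩ := (hw _ (isTors_RgammaI J T.obj₃)).2 (ε.app T.obj₃)
  change v ≫ ε.app T.obj₃ = w at hv
  change v' ≫ w = ε.app T.obj₃ at hv'
  let u : C ≅ R J T.obj₃ :=
    { hom := v
      inv := v'
      hom_inv_id := (hw C hCt).1 (by
        change (v ≫ v') ≫ w = 𝟙 C ≫ w
        rw [Category.assoc, hv', hv, Category.id_comp])
      inv_hom_id := (tbij_ε J T.obj₃ _ (isTors_RgammaI J T.obj₃)).1 (by
        change (v' ≫ v) ≫ ε.app T.obj₃ = 𝟙 _ ≫ ε.app T.obj₃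
        rw [Category.assoc, hv, hv', Category.id_comp]) }
  have hg : g' ≫ u.hom = (DRing.RgammaI J).map T.mor₂ :=
    (tbij_ε J T.obj₃ _ (isTors_RgammaI J T.obj₂)).1 (by
      change (g' ≫ v) ≫ ε.app T.obj₃ = _ ≫ ε.app T.obj₃
      rw [Category.assoc, hv, hw₂]
      exact (ε_naturality J T.mor₂).symm)
  refine ⟨u.inv ≫ δ', isomorphic_distinguished _ hC _ (Triangle.isoMk _ _ (Iso.refl _) (Iso.refl _) u.symm ?_ ?_ ?_)⟩
  · simp
  · change (DRing.RgammaI J).map T.mor₂ ≫ u.inv = 𝟙 _ ≫ g'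
    rw [← hg, Category.assoc, u.hom_inv_id, Category.comp_id, Category.id_comp]
  · simp

theorem exists_Y_triangle (T : Triangle (Dual.D A)) (hT : T ∈ distTriang (Dual.D A)) :
    ∃ δ, Triangle.mk (Ymap I J T.mor₁) (Ymap I J T.mor₂) δ ∈ distTriang (Dual.D A) := by
  obtain ⟨δR, hR⟩ := exists_R_triangle J T hT
  obtain ⟨C, g', δ', hC⟩ := distinguished_cocone_triangle (Ymap I J T.mor₁)
  obtain ⟨w, hw₂, hw₃⟩ := complete_distinguished_triangle_morphism _ _ hR hC (η I J T.obj₁) (η I J T.obj₂)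
    (η_naturality I J T.mor₁)
  let m : Triangle.mk ((DRing.RgammaI J).map T.mor₁) ((DRing.RgammaI J).map T.mor₂) δR ⟶
      Triangle.mk (Ymap I J T.mor₁) g' δ' :=
    { hom₁ := η I J T.obj₁
      hom₂ := η I J T.obj₂
      hom₃ := w
      comm₁ := η_naturality I J T.mor₁
      comm₂ := hw₂
      comm₃ := hw₃ }
  have hw : Cbij I m.hom₃ := Groth.L10.CompletionTriangle.cbij₃ I hR hC m (cbij_η I J _) (cbij_η I J _)
  have hCc : DRing.IsDerivedComplete I C :=
    Groth.L10.CompletionTriangle.isComplete₃ I _ hC (isComplete_Y I J _) (isComplete_Y I J _)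
  obtain ⟨e, he⟩ := exists_iso I (cbij_η I J T.obj₃) hw (isComplete_Y I J _) hCc
  have hg : Ymap I J T.mor₂ ≫ e.hom = g' := (cbij_η I J T.obj₂ C hCc).1 (by
    change η I J T.obj₂ ≫ Ymap I J T.mor₂ ≫ e.hom = η I J T.obj₂ ≫ g'
    rw [← Category.assoc, ← η_naturality, Category.assoc, he]
    exact hw₂)
  refine ⟨e.hom ≫ δ', isomorphic_distinguished _ hC _ (Triangle.isoMk _ _ (Iso.refl _) (Iso.refl _) e ?_ ?_ ?_)⟩
  · simp
  · change Ymap I J T.mor₂ ≫ e.hom = 𝟙 _ ≫ g'
    rw [hg, Category.id_comp]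
  · simp

theorem exact_Y (T : Triangle (Dual.D A)) (hT : T ∈ distTriang (Dual.D A)) (i : ℤ) :
    ∃ (f : Dual.HD A (Y I J T.obj₁) i →ₗ[A] Dual.HD A (Y I J T.obj₂) i)
      (g : Dual.HD A (Y I J T.obj₂) i →ₗ[A] Dual.HD A (Y I J T.obj₃) i), Function.Exact f g := by
  obtain ⟨δ, h⟩ := exists_Y_triangle I J T hT
  exact ⟨_, _, (ShortComplex.ShortExact.moduleCat_exact_iff_function_exact _).1
    (DerivedCategory.HomologySequence.exact₂ _ h i)⟩

theorem nonempty_shift_iso (Z : Dual.D A) (n : ℤ) : Nonempty (Y I J (Z⟦n⟧) ≅ (Y I J Z)⟦n⟧) := by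
  obtain ⟨u⟩ := Groth.L10.CechTorsLocal.exists_iso J (tbij_ε J (Z⟦n⟧))
    (Groth.L10.DualityCompletion.tbij_shift J (tbij_ε J Z) n) (isTors_RgammaI J _)
    ((isTors_RgammaI J Z).shift J n)
  obtain ⟨e, -⟩ := Groth.L10.CompletionFormula.exists_iso I (cbij_η I J (Z⟦n⟧))
    (Cbij.comp I (cbij_iso I u.hom) (cbij_shift I n (cbij_η I J Z))) (isComplete_Y I J _)
    (isComplete_shift I (isComplete_Y I J Z) n)
  exact ⟨e⟩

theorem nonempty_iso_of_iso {Z Z' : Dual.D A} (e : Z ≅ Z') : Nonempty (Y I J Z ≅ Y I J Z') :=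
  ⟨(ObjectProperty.ι (DRing.IsDerivedComplete I)).mapIso
    ((DRing.derivedCompletion I).mapIso ((DRing.RgammaI J).mapIso e))⟩

/-- Same radical, same local cohomology. -/
theorem nonempty_R_iso (J' : Ideal A) [DRing.HasRgammaI J'] (h : J.radical = J'.radical) (Z : Dual.D A) :
    Nonempty (R J Z ≅ R J' Z) := by
  have aux : ∀ (K K' : Ideal A), K ≤ K'.radical → ∀ {X : Dual.D A}, IsTors K' X → IsTors K X :=
    fun K K' hK X hX i x => by
      obtain ⟨n, hn⟩ := hX i x
      obtain ⟨k, hk⟩ := Ideal.exists_pow_le_of_le_radical_of_fg hK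
        ((isNoetherianRing_iff_ideal_fg A).1 inferInstance K)
      exact ⟨k * n, fun a ha => hn a (Ideal.pow_right_mono hk n (by rwa [← pow_mul]))⟩
  have hJ : J ≤ J'.radical := h ▸ J.le_radical
  have hJ' : J' ≤ J.radical := h.symm ▸ J'.le_radical
  have hb' : Tbij J ((DRing.RgammaIε J').app Z) := fun V hV => tbij_ε J' Z V (aux _ _ hJ' hV)
  exact Groth.L10.CechTorsLocal.exists_iso J (tbij_ε J Z) hb' (isTors_RgammaI J Z)
    (aux _ _ hJ (isTors_RgammaI J' Z))

/-- Completing `RΓ_J` is completing `RΓ_{J + I}`. -/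
theorem nonempty_Y_sup (Z : Dual.D A) [DRing.HasRgammaI I] [DRing.HasRgammaI (J ⊔ I)] :
    Nonempty (Y I J Z ≅ Y I (J ⊔ I) Z) := by
  obtain ⟨v⟩ := Groth.Agent.S1816.result A J I Z
  have hε : Cbij I ((DRing.RgammaIε I).app (R J Z)) := fun P hP =>
    bijective_ε_comp I ((isNoetherianRing_iff_ideal_fg A).1 inferInstance I) (R J Z) hP
  obtain ⟨e, -⟩ := Groth.L10.CompletionFormula.exists_iso I (Cbij.comp I hε (cbij_η I J Z))
    (Cbij.comp I (cbij_iso I v.hom) (cbij_η I (J ⊔ I) Z)) (isComplete_Y I J _) (isComplete_Y I (J ⊔ I) _)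
  exact ⟨e⟩

theorem nonempty_Y_iso (J' : Ideal A) [DRing.HasRgammaI J'] (h : (J ⊔ I).radical = (J' ⊔ I).radical)
    (Z : Dual.D A) : Nonempty (Y I J Z ≅ Y I J' Z) := by
  haveI := Groth.L10.DualUnbounded.hasRgammaI I
  haveI := Groth.L10.DualUnbounded.hasRgammaI (J ⊔ I)
  haveI := Groth.L10.DualUnbounded.hasRgammaI (J' ⊔ I)
  obtain ⟨a⟩ := nonempty_Y_sup I J Z
  obtain ⟨b⟩ := nonempty_Y_sup I J' Z
  obtain ⟨c⟩ := nonempty_R_iso (J ⊔ I) (J' ⊔ I) h Z
  exact ⟨a ≪≫ (ObjectProperty.ι (DRing.IsDerivedComplete I)).mapIso ((DRing.derivedCompletion I).mapIso c) ≪≫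
    b.symm⟩

section Unit

variable {Z : Dual.D A} (hZ : DRing.IsDerivedComplete I Z)

include hZ in
/-- Torsion objects do not distinguish `RΓ_J Z` from its completion, for `Z` complete. -/
theorem bijective_comp_η {V : Dual.D A} (hV : IsTors J V) :
    Function.Bijective fun a : V ⟶ R J Z => a ≫ η I J Z := by
  haveI := Groth.L10.DualUnbounded.hasRgammaI I
  haveI := Groth.L10.DualUnbounded.hasRgammaI (J ⊔ I)
  have hI : I.FG := (isNoetherianRing_iff_ideal_fg A).1 inferInstance I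
  let V' := (DRing.RgammaI I).obj V
  have hV' : IsTors J V' := by
    haveI := isIso_ε_of_torsion J V hV
    obtain ⟨v⟩ := Groth.Agent.S1816.result A J I V
    refine isTors_iso J ((DRing.RgammaI I).mapIso (asIso ((DRing.RgammaIε J).app V))) (isTors_iso J v.symm ?_)
    intro i x
    obtain ⟨n, hn⟩ := isTors_RgammaI (J ⊔ I) V i x
    exact ⟨n, fun a ha => hn a (Ideal.pow_right_mono le_sup_left n ha)⟩
  let ε' : V' ⟶ V := (DRing.RgammaIε I).app V
  have hA : Function.Bijective fun a : V' ⟶ R J Z => a ≫ η I J Z :=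
    bijective_comp_toCompletion I hI (R J Z) (isTors_RgammaI I V)
  have hB : Function.Bijective fun a : V ⟶ Y I J Z => ε' ≫ a := bijective_ε_comp I hI V (isComplete_Y I J Z)
  have hC : Function.Bijective fun a : V ⟶ R J Z => ε' ≫ a := by
    refine (Function.Bijective.of_comp_iff' (tbij_ε J Z V' hV') _).1 ?_
    have := (bijective_ε_comp I hI V hZ).comp (tbij_ε J Z V hV)
    simpa only [Function.comp_def, Category.assoc] using this
  refine (Function.Bijective.of_comp_iff' hB _).1 ?_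
  have := hA.comp hC
  simpa only [Function.comp_def, Category.assoc] using this

include hZ in
theorem bijective_H_η (i : ℤ) (h : ∀ j ≤ i, LocCoh.IsPowerTorsion J (Dual.HD A (Y I J Z) j)) :
    Function.Bijective ((DerivedCategory.homologyFunctor (ModuleCat.{u} A) i).map (η I J Z)).hom := by
  let F := (DerivedCategory.TStructure.t (C := ModuleCat.{u} A)).truncLT (i + 1)
  let ι := (DerivedCategory.TStructure.t (C := ModuleCat.{u} A)).truncLTι (i + 1)
  let H := DerivedCategory.homologyFunctor (ModuleCat.{u} A)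
  have hT : ∀ X : Dual.D A, (∀ j ≤ i, LocCoh.IsPowerTorsion J (Dual.HD A X j)) → IsTors J (F.obj X) :=
    fun X hX j => by
      by_cases hj : j ≤ i
      · haveI := Groth.L10.isIso_H_ι (A := ModuleCat.{u} A) (i + 1) j (by lia) X
        exact isPowerTorsion_of_iso J (asIso ((H j).map (ι.app X))).symm (hX j hj)
      · haveI : DerivedCategory.IsLE (F.obj X) i :=
          inferInstanceAs ((DerivedCategory.TStructure.t).IsLE
            (((DerivedCategory.TStructure.t).truncLT (i + 1)).obj X) i)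
        haveI := ModuleCat.subsingleton_of_isZero (DerivedCategory.isZero_of_isLE (F.obj X) i j (by lia))
        exact fun x => ⟨0, fun a _ => Subsingleton.elim _ _⟩
  obtain ⟨v, hv⟩ := (bijective_comp_η I J hZ (hT _ h)).2 (ι.app (Y I J Z))
  change v ≫ η I J Z = ι.app (Y I J Z) at hv
  have hTR := hT (R J Z) fun j _ => isTors_RgammaI J Z j
  have hnat : F.map (η I J Z) ≫ ι.app (Y I J Z) = ι.app (R J Z) ≫ η I J Z := ι.naturality (η I J Z)
  have hR : F.map (η I J Z) ≫ v = ι.app (R J Z) := (bijective_comp_η I J hZ hTR).1 (by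
    change (F.map (η I J Z) ≫ v) ≫ η I J Z = ι.app (R J Z) ≫ η I J Z
    rw [Category.assoc, hv, hnat])
  haveI h1 := Groth.L10.isIso_H_ι (A := ModuleCat.{u} A) (i + 1) i (by lia) (R J Z)
  haveI h2 := Groth.L10.isIso_H_ι (A := ModuleCat.{u} A) (i + 1) i (by lia) (Y I J Z)
  have e1 : ∀ x, ((H i).map (ι.app (Y I J Z))).hom x = ((H i).map (η I J Z)).hom (((H i).map v).hom x) :=
    fun x => by
      rw [← hv, Functor.map_comp]; rfl
  have e2 : ∀ x, ((H i).map (ι.app (R J Z))).hom x = ((H i).map v).hom (((H i).map (F.map (η I J Z))).hom x) :=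
    fun x => by
      rw [← hR, Functor.map_comp]; rfl
  have b1 := (ConcreteCategory.isIso_iff_bijective _).1 h1
  have b2 := (ConcreteCategory.isIso_iff_bijective _).1 h2
  refine ⟨fun x y hxy => ?_, fun y => ?_⟩
  · obtain ⟨x, rfl⟩ := b1.2 x
    obtain ⟨y, rfl⟩ := b1.2 y
    have key : ∀ z, ((H i).map (η I J Z)).hom (((H i).map (ι.app (R J Z))).hom z) =
        ((H i).map (ι.app (Y I J Z))).hom (((H i).map (F.map (η I J Z))).hom z) := fun z => by
      have := congrArg (fun f => ((H i).map f).hom z) hnat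
      simp only [Functor.map_comp] at this
      exact this.symm
    have hz : ((H i).map (F.map (η I J Z))).hom x = ((H i).map (F.map (η I J Z))).hom y :=
      b2.1 ((key x).symm.trans (hxy.trans (key y)))
    exact (e2 x).trans ((congrArg _ hz).trans (e2 y).symm)
  · obtain ⟨x, rfl⟩ := b2.2 y
    exact ⟨_, (e1 x).symm⟩

end Unit

end Groth.L04.ComplRG
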