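import Groth.Agent.L04.LC.CompletionDim
import Groth.Agent.L10.FormCat.Formal
import Groth.Agent.L06.Ratliff
import Groth.Prelude.Def_DualLC
import Groth.Prelude.Def_EGA4b

/-!
# The cutoff invariant under completion

Dimension bookkeeping in the completion of a universally catenary local ring.
-/

set_option autoImplicit false
set_option linter.style.haveILetI false
universe u

open IsLocalRing Groth.L10.FormCat

noncomputable section

namespace Groth.L04.CutoffCpl

section Chains

variable {B : Type u} [CommRing B] [IsNoetherianRing B] [IsLocalRing B]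

theorem qd_lt {p q : PrimeSpectrum B} (h : p < q) : qd q < qd p := by
  have := ((Groth.L10.FormCat.dim_quot p).symm ▸ (Groth.L10.FormCat.dim_quot q).symm ▸
    (show ringKrullDim (B ⧸ q.asIdeal) < ringKrullDim (B ⧸ p.asIdeal) from by
      rw [Groth.L10.FormCat.dim_quot, Groth.L10.FormCat.dim_quot]
      have h1 : Order.coheight q < ⊤ := WithBot.coe_lt_coe.1
        ((Order.coheight_le_krullDim q).trans_lt ringKrullDim_lt_top)
      have h0 : Order.coheight p < ⊤ := WithBot.coe_lt_coe.1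
        ((Order.coheight_le_krullDim p).trans_lt ringKrullDim_lt_top)
      have h2 := Order.coheight_strictAnti h h1
      rw [qd, qd, ENat.natCast_toNat h1.ne, ENat.natCast_toNat h0.ne]
      exact_mod_cast h2) :)
  exact_mod_cast this

theorem length_add_qd_le {P : PrimeSpectrum B} (s : LTSeries (Set.Ici P)) :
    s.length + qd s.last.1 ≤ qd s.head.1 := by
  have : ∀ i : Fin (s.length + 1), qd (s i).1 + i ≤ qd s.head.1 := by
    intro i
    induction i using Fin.induction with
    | zero => simp [RelSeries.head]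
    | succ j ih =>
      have := qd_lt (show (s (Fin.castSucc j)).1 < (s j.succ).1 from s.step j)
      simp only [Fin.val_succ, Fin.val_castSucc] at ih ⊢
      omega
  have := this (Fin.last _)
  simp only [Fin.val_last] at this
  simp only [RelSeries.last]
  omega

theorem exists_chain (hc : CAlg.IsCatenary B) : ∀ (n : ℕ) (P Q : PrimeSpectrum B), qd P = n → P ≤ Q →
    ∃ s : LTSeries (PrimeSpectrum B), s.head = P ∧ s.last = Q ∧ s.length + qd Q = qd P := by
  intro n
  induction n using Nat.strong_induction_on with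
  | _ n ih =>
    intro P Q hn hPQ
    rcases hPQ.lt_or_eq with hlt | rfl
    swap
    · exact ⟨RelSeries.singleton _ P, rfl, rfl, by simp⟩
    classical
    let S : Set ℕ := {m | ∃ r, P < r ∧ r ≤ Q ∧ qd r = m}
    have hSb : ∀ m ∈ S, m ≤ n := fun m ⟨r, hr, _, hm⟩ => hm ▸ hn ▸ (qd_lt hr).le
    have hSne : qd Q ∈ S := ⟨Q, hlt, le_rfl, rfl⟩
    obtain ⟨m, ⟨r, hr, hrQ, hm⟩, hmax⟩ : ∃ m ∈ S, ∀ m' ∈ S, m' ≤ m :=
      ⟨Nat.findGreatest (· ∈ S) n, Nat.findGreatest_spec (hSb _ hSne) hSne,
        fun m' hm' => Nat.le_findGreatest (hSb m' hm') hm'⟩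
    have hcov : P ⋖ r := ⟨hr, fun x hPx hxr => by
      have := hmax _ ⟨x, hPx, hxr.le.trans hrQ, rfl⟩
      have := qd_lt hxr
      omega⟩
    have h1 := covBy_step hc hcov
    obtain ⟨s, hs, hs', hlen⟩ := ih m (by have := qd_lt hr; omega) r Q hm hrQ
    refine ⟨s.cons P (hs ▸ hr), RelSeries.head_cons _ _ _, (RelSeries.last_cons _ _ _).trans hs', ?_⟩
    rw [RelSeries.cons_length]
    omega

theorem height_Ici (hc : CAlg.IsCatenary B) {P Q : PrimeSpectrum B} (h : P ≤ Q) :
    Order.height (⟨Q, h⟩ : Set.Ici P) = ((qd P - qd Q : ℕ) : ℕ∞) := by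
  refine le_antisymm (Order.height_le fun s hs => ?_) ?_
  · have h1 := length_add_qd_le s
    have h2 : qd s.head.1 ≤ qd P := by
      rcases (show P ≤ s.head.1 from s.head.2).lt_or_eq with hlt | he
      · exact (qd_lt hlt).le
      · exact le_of_eq (congrArg qd he).symm
    rw [show s.last.1 = Q from congrArg Subtype.val hs] at h1
    exact_mod_cast (show s.length ≤ qd P - qd Q by omega)
  · obtain ⟨s, hs, hs', hlen⟩ := exists_chain hc _ P Q rfl h
    let t : LTSeries (Set.Ici P) := ⟨s.length, fun i => ⟨s i, hs.symm.trans_le (LTSeries.head_le s i)⟩,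
      fun i => s.step i⟩
    have := Order.length_le_height (p := t) (x := ⟨Q, h⟩) (le_of_eq (Subtype.ext hs'))
    rw [show qd P - qd Q = s.length by omega]
    exact this

end Chains

section Cpl

variable {A : Type u} [CommRing A] [IsLocalRing A] [IsNoetherianRing A]

local notation "Ah" => AdicCompletion (maximalIdeal A) A

theorem facts : IsNoetherianRing Ah ∧ CAlg.IsCatenary Ah ∧ IsLocalHom (algebraMap A Ah) ∧ Module.FaithfullyFlat A Ah ∧
    ringKrullDim (EGA4.FibRing A Ah) = 0 := by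
  obtain ⟨h1, -, h3, h4, -, h6⟩ := cpl_facts A
  exact ⟨h1, h3, h4, Groth.L01.CompletionExt.faithfullyFlat A, h6⟩

theorem dim_quot_map (p : PrimeSpectrum A) :
    ringKrullDim (Ah ⧸ p.asIdeal.map (algebraMap A Ah)) = ((qd p : ℕ∞) : WithBot ℕ∞) := by
  obtain ⟨hN, -, hL, hF, h0⟩ := facts (A := A)
  rw [dim_add_fib p.isPrime.ne_top, h0, add_zero, dim_quot]

theorem qd_le_of_over (Q : PrimeSpectrum Ah) :
    qd Q ≤ qd (PrimeSpectrum.comap (algebraMap A Ah) Q) := by
  obtain ⟨hN, -, -, -, -⟩ := facts (A := A)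
  have h : ringKrullDim (Ah ⧸ Q.asIdeal) ≤
      ringKrullDim (Ah ⧸ (PrimeSpectrum.comap (algebraMap A Ah) Q).asIdeal.map (algebraMap A Ah)) :=
    ringKrullDim_le_of_surjective (Ideal.Quotient.factor Ideal.map_comap_le) (Ideal.Quotient.factor_surjective _)
  rw [dim_quot, dim_quot_map] at h
  exact_mod_cast h

theorem qd_of_minimal (hA : CAlg.IsUniversallyCatenary A) (p : PrimeSpectrum A) (P : PrimeSpectrum Ah)
    (hP : P.asIdeal ∈ (p.asIdeal.map (algebraMap A Ah)).minimalPrimes) : qd P = qd p := by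
  obtain ⟨hN, -, hL, hF, -⟩ := facts (A := A)
  haveI := Groth.L01.isLocalRing_quotient p.isPrime.ne_top
  obtain ⟨e⟩ := Groth.L07.RegQuot.exists_completionQuotEquiv (Ideal.Quotient.mk p.asIdeal) Ideal.Quotient.mk_surjective
  let J := p.asIdeal.map (algebraMap A Ah)
  have he : EGA4.IsEquidim (Ah ⧸ J) := isEquidim_of_ringEquiv
    (((Ideal.quotEquivOfEq (congrArg (Ideal.map (algebraMap A Ah)) (Ideal.mk_ker (I := p.asIdeal)).symm)).trans e).symm)
    (Groth.L06.Ratliff.main hA p.asIdeal)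
  have hmin : P.asIdeal.map (Ideal.Quotient.mk J) ∈ minimalPrimes (Ah ⧸ J) := by
    have h := hP
    change P.asIdeal ∈ J.minimalPrimes at h
    rw [← Ideal.mk_ker (I := J), RingHom.ker_eq_comap_bot,
      Ideal.comap_minimalPrimes_eq_of_surjective Ideal.Quotient.mk_surjective] at h
    obtain ⟨q, hq, hqP⟩ := h
    rw [← hqP, Ideal.map_comap_of_surjective _ Ideal.Quotient.mk_surjective]
    exact hq
  have h := he _ hmin
  rw [ringKrullDim_eq_of_ringEquiv (DoubleQuot.quotQuotEquivQuotOfLE hP.le), dim_quot, dim_quot_map] at h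
  exact_mod_cast h

theorem exists_minimal_below (p : PrimeSpectrum A) (P : PrimeSpectrum Ah)
    (h : p.asIdeal.map (algebraMap A Ah) ≤ P.asIdeal) :
    ∃ P₀ : PrimeSpectrum Ah, P₀ ≤ P ∧ P₀.asIdeal ∈ (p.asIdeal.map (algebraMap A Ah)).minimalPrimes := by
  haveI := P.isPrime
  obtain ⟨q, hq, hle⟩ := Ideal.exists_minimalPrimes_le h
  exact ⟨⟨q, hq.1.1⟩, hle, hq⟩

theorem comap_of_minimal (p : PrimeSpectrum A) (P : PrimeSpectrum Ah)
    (hP : P.asIdeal ∈ (p.asIdeal.map (algebraMap A Ah)).minimalPrimes) :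
    PrimeSpectrum.comap (algebraMap A Ah) P = p := by
  obtain ⟨hN, -, hL, hF, -⟩ := facts (A := A)
  exact PrimeSpectrum.ext (minimal_over hP).1.over.symm

theorem min_le_fibDepth_aux (hA : CAlg.IsUniversallyCatenary A) (n : ℕ) (hn : EGA4.HasSnFormalFibres n A)
    (p : PrimeSpectrum A) (q : Ideal (p.asIdeal.Fiber Ah)) [q.IsPrime]
    (hp : PrimeSpectrum.comap (algebraMap A Ah)
      (⟨q.comap Algebra.TensorProduct.includeRight, inferInstance⟩ : PrimeSpectrum Ah) = p) :
    ((min n (qd p - qd (⟨q.comap Algebra.TensorProduct.includeRight, inferInstance⟩ : PrimeSpectrum Ah)) : ℕ) : ℕ∞) ≤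
      CplDim.fibDepth A (⟨q.comap Algebra.TensorProduct.includeRight, inferInstance⟩ : PrimeSpectrum Ah) := by
  obtain ⟨hN, hc, hL, hF, -⟩ := facts (A := A)
  let r := q.comap (Algebra.TensorProduct.includeRight (R := A) (A := p.asIdeal.ResidueField) (B := Ah))
  let C := Localization.AtPrime r
  have hmapr : p.asIdeal.map (algebraMap A Ah) ≤ r := by
    rw [← hp]
    exact Ideal.map_comap_le
  haveI : r.LiesOver p.asIdeal := ⟨(congrArg PrimeSpectrum.asIdeal hp).symm⟩
  letI := Localization.AtPrime.algebraOfLiesOver p.asIdeal r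
  haveI : IsNoetherianRing C := IsLocalization.isNoetherianRing r.primeCompl C inferInstance
  let J : Ideal C := p.asIdeal.map (algebraMap A C)
  let e : Localization.AtPrime q ≃+* C ⧸ J := (Ideal.Fiber.localizationAlgEquivQuotient p.asIdeal q).toRingEquiv
  haveI : IsNoetherianRing (Localization.AtPrime q) := isNoetherianRing_of_ringEquiv _ e.symm
  have hJle : J ≤ maximalIdeal C := by
    rw [← IsLocalization.AtPrime.map_eq_maximalIdeal r C]
    change p.asIdeal.map (algebraMap A C) ≤ _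
    rw [IsScalarTower.algebraMap_eq A Ah C]
    rw [← Ideal.map_map]
    exact Ideal.map_mono (hmapr)
  haveI := Groth.L01.isLocalRing_quotient (ne_top_of_le_ne_top (maximalIdeal.isMaximal C).ne_top hJle)
  have h1 := (Groth.L06.FlatFibre.hasSk_self_iff n).mp (hn p.asIdeal) q
  rw [ringKrullDim_eq_of_ringEquiv e, ← Groth.L06.FlatFibre.depth_eq_of_ringEquiv e] at h1
  have hdep : CplDim.fibDepth A (⟨r, inferInstance⟩ : PrimeSpectrum Ah) = LocCoh.depth (C ⧸ J) (C ⧸ J) := by
    have hmax : (maximalIdeal C).map (algebraMap C (C ⧸ J)) = maximalIdeal (C ⧸ J) :=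
      IsLocalRing.map_maximalIdeal_of_surjective _ Ideal.Quotient.mk_surjective
    change LocCoh.depth C (C ⧸ ((CplDim.img (A := A) (⟨r, inferInstance⟩ : PrimeSpectrum Ah)).asIdeal.map
      (algebraMap A Ah)).map (algebraMap Ah C)) = _
    rw [show CplDim.img (A := A) (⟨r, inferInstance⟩ : PrimeSpectrum Ah) = p from hp]
    rw [CplDim.depth_congr (Submodule.quotEquivOfEq ((p.asIdeal.map (algebraMap A Ah)).map (algebraMap Ah C)) J
        (by rw [Ideal.map_map, ← IsScalarTower.algebraMap_eq])),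
      LocCoh.depth, Groth.L04.idealDepth_eq_idealDepth_map_of_finite (B := C ⧸ J) (maximalIdeal C), hmax]
    rfl
  -- the dimension of the fibre
  obtain ⟨P₀, hle, hP₀⟩ := exists_minimal_below p (⟨r, inferInstance⟩ : PrimeSpectrum Ah) hmapr
  obtain ⟨s, hs, hs', hlen⟩ := exists_chain hc _ P₀ (⟨r, inferInstance⟩ : PrimeSpectrum Ah) rfl hle
  have hdim : ((s.length : ℕ) : WithBot ℕ∞) ≤ ringKrullDim (C ⧸ J) := by
    let ι := IsLocalization.AtPrime.primeSpectrumOrderIso C r
    have hsr : ∀ i, (s i).asIdeal ≤ r := fun i => by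
      have := LTSeries.head_le_last s
      exact le_of_le_of_eq (s.monotone (Fin.le_last i)) (congrArg PrimeSpectrum.asIdeal hs')
    let t : LTSeries (PrimeSpectrum.zeroLocus (R := C) J) := ⟨s.length,
      fun i => ⟨ι.symm ⟨s i, hsr i⟩, fun x hx => by
        have hmem : J ≤ (ι.symm ⟨s i, hsr i⟩).asIdeal := by
          rw [show J = (p.asIdeal.map (algebraMap A Ah)).map (algebraMap Ah C) by
            rw [Ideal.map_map, ← IsScalarTower.algebraMap_eq]]
          refine Ideal.map_le_iff_le_comap.2 ((hP₀.le.trans (hs.symm.trans_le (LTSeries.head_le s i))).trans ?_)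
          exact (congrArg (fun z => z.1.asIdeal) (ι.apply_symm_apply ⟨s i, hsr i⟩)).ge
        exact hmem hx⟩,
      fun i => ι.symm.strictMono (show (⟨s i.castSucc, hsr _⟩ : Set.Iic (⟨r, inferInstance⟩ : PrimeSpectrum Ah)) < ⟨s i.succ, hsr _⟩ from s.step i)⟩
    rw [ringKrullDim_quotient]
    exact Order.le_krullDim_iff.2 ⟨t, rfl⟩
  rw [qd_of_minimal hA p P₀ hP₀] at hlen
  rw [hdep]
  have h3 := (min_le_min le_rfl hdim).trans h1
  have h4 : ((min n (qd p - qd (⟨r, inferInstance⟩ : PrimeSpectrum Ah)) : ℕ) : WithBot ℕ∞) ≤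
      min (n : WithBot ℕ∞) (s.length : WithBot ℕ∞) := by
    rw [show qd p - qd (⟨r, inferInstance⟩ : PrimeSpectrum Ah) = s.length by omega]
    exact le_min (by exact_mod_cast min_le_left n s.length) (by exact_mod_cast min_le_right n s.length)
  exact WithBot.coe_le_coe.1 (h4.trans h3)

theorem min_le_fibDepth (hA : CAlg.IsUniversallyCatenary A) (n : ℕ) (hn : EGA4.HasSnFormalFibres n A) (P : PrimeSpectrum Ah) :
    ((min n (qd (PrimeSpectrum.comap (algebraMap A Ah) P) - qd P) : ℕ) : ℕ∞) ≤ CplDim.fibDepth A P := by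
  obtain ⟨q, hq⟩ : ∃ q : PrimeSpectrum ((PrimeSpectrum.comap (algebraMap A Ah) P).asIdeal.Fiber Ah),
      q.asIdeal.comap Algebra.TensorProduct.includeRight = P.asIdeal := by
    refine ⟨PrimeSpectrum.preimageEquivFiber A Ah _ ⟨P, rfl⟩, ?_⟩
    have := (PrimeSpectrum.preimageEquivFiber A Ah _).symm_apply_apply ⟨P, rfl⟩
    exact congrArg (fun z => z.1.asIdeal) this
  haveI := q.isPrime
  have hP : (⟨q.asIdeal.comap Algebra.TensorProduct.includeRight, inferInstance⟩ : PrimeSpectrum Ah) = P :=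
    PrimeSpectrum.ext hq
  have h := min_le_fibDepth_aux hA n hn _ q.asIdeal (congrArg (PrimeSpectrum.comap (algebraMap A Ah)) hP)
  rwa [hP] at h

variable (I : Ideal A) (M : Type u) [AddCommGroup M] [Module A M] [Module.Finite A M]

theorem cutoff_completion_le (hA : CAlg.IsUniversallyCatenary A) :
    Dual2.cutoff Ah (I.map (algebraMap A Ah)) (AdicCompletion (maximalIdeal A) M) ≤ Dual2.cutoff A I M := by
  obtain ⟨hN, hc, hL, hF, -⟩ := facts (A := A)
  have hcA : CAlg.IsCatenary A := hA.2 A inferInstance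
  refine le_iInf fun p => le_iInf fun q => le_iInf fun hpq => le_iInf fun hIp => le_iInf fun hIq => ?_
  obtain ⟨Q', hQ'⟩ := PrimeSpectrum.comap_surjective_of_faithfullyFlat (A := A) (B := Ah) q
  obtain ⟨Q, -, hQ⟩ := exists_minimal_below q Q' (hQ' ▸ Ideal.map_comap_le)
  have hQq := comap_of_minimal q Q hQ
  haveI : Q.asIdeal.LiesOver q.asIdeal := ⟨(congrArg PrimeSpectrum.asIdeal hQq).symm⟩
  obtain ⟨P', hP'Q, hP'p, hP'o⟩ := Q.asIdeal.exists_ideal_le_liesOver_of_le (p := p.asIdeal) (q := q.asIdeal) hpq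
  haveI := hP'p
  obtain ⟨P, hPP', hP⟩ := exists_minimal_below p ⟨P', hP'p⟩ (Ideal.map_le_iff_le_comap.2 hP'o.over.le)
  have hPp := comap_of_minimal p P hP
  have hPQ : P ≤ Q := le_trans hPP' hP'Q
  have h1 : ¬ I.map (algebraMap A Ah) ≤ P.asIdeal := fun h => hIp (by rw [← hPp]; exact Ideal.map_le_iff_le_comap.1 h)
  have h2 : I.map (algebraMap A Ah) ≤ Q.asIdeal := (Ideal.map_mono hIq).trans hQ.le
  refine (iInf_le_of_le P (iInf_le_of_le Q (iInf_le_of_le hPQ (iInf_le_of_le h1 (iInf_le_of_le h2 le_rfl))))).trans ?_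
  rw [height_Ici hc hPQ, height_Ici hcA hpq, CplDim.depth_completion, qd_of_minimal hA p P hP, qd_of_minimal hA q Q hQ,
    CplDim.fibDepth_eq_zero P (by rw [show CplDim.img (A := A) P = p from hPp]; exact hP),
    show CplDim.img (A := A) P = p from hPp, add_zero]

theorem min_le_cutoff_completion (hA : CAlg.IsUniversallyCatenary A) (n : ℕ) (hn : EGA4.HasSnFormalFibres n A) :
    min ((n : ℕ∞) + 1) (Dual2.cutoff A I M) ≤
      Dual2.cutoff Ah (I.map (algebraMap A Ah)) (AdicCompletion (maximalIdeal A) M) := by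
  obtain ⟨hN, hc, hL, hF, -⟩ := facts (A := A)
  have hcA : CAlg.IsCatenary A := hA.2 A inferInstance
  refine le_iInf fun P => le_iInf fun Q => le_iInf fun hPQ => le_iInf fun hIP => le_iInf fun hIQ => ?_
  let p := PrimeSpectrum.comap (algebraMap A Ah) P
  let q := PrimeSpectrum.comap (algebraMap A Ah) Q
  have hpq : p ≤ q := Ideal.comap_mono hPQ
  have hne : P ≠ Q := fun h => hIP (h ▸ hIQ)
  have h1 := qd_lt (lt_of_le_of_ne hPQ hne)
  have h2 : qd Q ≤ qd q := qd_le_of_over Q
  rw [height_Ici hc hPQ, CplDim.depth_completion]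
  have hf := min_le_fibDepth hA n hn P
  rcases le_total n (qd p - qd P) with hnh | hnh
  · rw [min_eq_left hnh] at hf
    refine (min_le_left _ _).trans ?_
    calc (n : ℕ∞) + 1 ≤ CplDim.fibDepth A P + ((qd P - qd Q : ℕ) : ℕ∞) :=
          add_le_add hf (by exact_mod_cast (show 1 ≤ qd P - qd Q by omega))
      _ ≤ _ := by rw [add_assoc]; exact le_add_self
  · rw [min_eq_right hnh] at hf
    refine (min_le_right _ _).trans ((iInf_le_of_le p (iInf_le_of_le q (iInf_le_of_le hpq
      (iInf_le_of_le (fun h => hIP (Ideal.map_le_iff_le_comap.2 h))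
        (iInf_le_of_le (Ideal.map_le_iff_le_comap.1 hIQ) le_rfl))))).trans ?_)
    rw [height_Ici hcA hpq, add_assoc]
    refine add_le_add le_rfl (le_trans ?_ (add_le_add hf le_rfl))
    exact_mod_cast (show qd p - qd q ≤ (qd p - qd P) + (qd P - qd Q) by omega)

end Cpl

end Groth.L04.CutoffCpl
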