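import Groth.Agent.L04.LC.CutoffCompletion
import Groth.Agent.L04.LC.Codim
import Groth.Agent.L04.LC.Annihilate
import Groth.Agent.L04.LC.Change
import Groth.Agent.L04.DepthLoc
import Groth.Agent.L06.FormalFibres
import Groth.Agent.L06.GeomLocalApp
import Groth.Agent.S9126
import Mathlib.RingTheory.Finiteness.Descent

/-!
# Finiteness of local cohomology below the cutoff
-/

set_option autoImplicit false
set_option linter.style.haveILetI false
universe u

open IsLocalRing
open scoped TensorProduct

noncomputable section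

namespace Groth.L04.CutoffFinite

open Groth.L04.LC

theorem natCast_lt_cutoff_iff {A : Type u} [CommRing A] (I : Ideal A) (M : Type u) [AddCommGroup M] [Module A M] (n : ℕ) :
    (n : ℕ∞) < Dual2.cutoff A I M ↔ ∀ p q : PrimeSpectrum A, ∀ h : p ≤ q, ¬ I ≤ p.asIdeal → I ≤ q.asIdeal →
      (n : ℕ∞) < LocCoh.depth (Localization.AtPrime p.asIdeal) (LocalizedModule p.asIdeal.primeCompl M) +
        Order.height (⟨q, h⟩ : Set.Ici p) := by
  rw [← ENat.add_one_le_iff (ENat.natCast_ne_top n)]
  simp only [Dual2.cutoff, le_iInf_iff]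
  simp only [ENat.add_one_le_iff (ENat.natCast_ne_top n)]

/-- The criterion over quotients of regular rings. -/
theorem finite_iff_regular {S A : Type u} [CommRing S] [IsRegularRing S] [CommRing A] [IsNoetherianRing A]
    (π : S →+* A) (hπ : Function.Surjective π) (I : Ideal A) (M : Type u) [AddCommGroup M] [Module A M]
    [Module.Finite A M] (n : ℕ) :
    (∀ i : ℕ, i ≤ n → Module.Finite A (LocCoh.H I i M)) ↔ (n : ℕ∞) < Dual2.cutoff A I M := by
  rw [finite_H_below_iff_depth π hπ I M n, natCast_lt_cutoff_iff]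
  constructor
  · intro h p q hpq hp hq
    obtain ⟨e, he⟩ : ∃ e : ℕ, SGA2.relCodim I p = e := by
      haveI := q.isPrime
      refine (ENat.ne_top_iff_exists.1 (ne_top_of_le_ne_top ?_ (relCodim_le hpq hq))).imp fun _ h => h.symm
      haveI : (q.asIdeal.map (Ideal.Quotient.mk p.asIdeal)).IsPrime :=
        Ideal.map_isPrime_of_surjective Ideal.Quotient.mk_surjective (by rw [Ideal.mk_ker]; exact hpq)
      exact Ideal.height_ne_top (Ideal.IsPrime.ne_top inferInstance)
    obtain ⟨c, rfl⟩ : ∃ c, e = c + 1 :=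
      Nat.exists_eq_add_one.2 (by exact_mod_cast (one_le_relCodim hp).trans he.le)
    obtain ⟨P, q', hpP, hPq', hP, hq', hone, hc⟩ := exists_cover_of_relCodim he
    have h1 := (h P q' hP hq' ((height_quot_eq_one_iff_covBy hPq').1 hone)).trans
      (depth_localized_le_add_height (M := M) hpP)
    rw [hc] at h1
    have h2 : ((c + 1 : ℕ) : ℕ∞) ≤ Order.height (⟨q, hpq⟩ : Set.Ici p) := by
      rw [orderHeight_Ici, ← he]
      exact relCodim_le hpq hq
    refine lt_of_lt_of_le ?_ (add_le_add le_rfl h2)
    rw [Nat.cast_add, Nat.cast_one, ← add_assoc, ← ENat.add_one_le_iff (ENat.natCast_ne_top n)]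
    exact add_le_add h1 le_rfl
  · intro h p q hp hq hcov
    have h1 := h p q hcov.le hp hq
    rw [orderHeight_Ici, (height_quot_eq_one_iff_covBy hcov.le).2 hcov] at h1
    exact Order.le_of_lt_add_one h1

section Localization

variable {A : Type u} [CommRing A] [IsNoetherianRing A] (r : PrimeSpectrum A) (I : Ideal A)
  (M : Type u) [AddCommGroup M] [Module A M] [Module.Finite A M]

theorem depth_localization_prime (P : PrimeSpectrum (Localization.AtPrime r.asIdeal)) :
    LocCoh.depth (Localization.AtPrime P.asIdeal)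
        (LocalizedModule P.asIdeal.primeCompl (LocalizedModule r.asIdeal.primeCompl M)) =
      LocCoh.depth (Localization.AtPrime (CplDim.img (A := A) P).asIdeal)
        (LocalizedModule (CplDim.img (A := A) P).asIdeal.primeCompl M) := by
  let L := Localization.AtPrime r.asIdeal
  haveI : IsNoetherianRing L := IsLocalization.isNoetherianRing r.asIdeal.primeCompl L inferInstance
  haveI : Module.Flat A L := IsLocalization.flat L r.asIdeal.primeCompl
  haveI : IsNoetherianRing (Localization.AtPrime P.asIdeal) :=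
    IsLocalization.isNoetherianRing P.asIdeal.primeCompl _ inferInstance
  have h := CplDim.depth_baseChange (A := A) P M
  rw [CplDim.fibDepth_eq_zero (A := A) P (by
    rw [show (CplDim.img (A := A) P).asIdeal.map (algebraMap A L) = P.asIdeal from
      IsLocalization.map_under r.asIdeal.primeCompl L P.asIdeal, Ideal.minimalPrimes_eq_subsingleton_self]
    exact rfl), add_zero] at h
  rw [← h]
  let ψ : L ⊗[A] M ≃ₗ[L] LocalizedModule r.asIdeal.primeCompl M :=
    tensorLocalizationEquiv r.asIdeal.primeCompl L M _ (LocalizedModule.mkLinearMap r.asIdeal.primeCompl M)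
  exact CplDim.depth_congr ((LocalizedModule.equivTensorProduct P.asIdeal.primeCompl _).trans
    ((TensorProduct.AlgebraTensorModule.congr (LinearEquiv.refl _ (Localization.AtPrime P.asIdeal)) ψ.symm).trans
      (LocalizedModule.equivTensorProduct P.asIdeal.primeCompl _).symm))

theorem height_localization {P Q : PrimeSpectrum (Localization.AtPrime r.asIdeal)} (h : P ≤ Q)
    (h' : CplDim.img (A := A) P ≤ CplDim.img (A := A) Q) :
    Order.height (⟨Q, h⟩ : Set.Ici P) = Order.height (⟨CplDim.img (A := A) Q, h'⟩ : Set.Ici (CplDim.img (A := A) P)) := by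
  let L := Localization.AtPrime r.asIdeal
  let ι := IsLocalization.AtPrime.primeSpectrumOrderIso L r.asIdeal
  have hι : ∀ X, (ι X).1 = CplDim.img (A := A) X := fun X => rfl
  refine le_antisymm ?_ (Order.height_le fun s hs => ?_)
  · exact Order.height_le_height_apply_of_strictMono (fun X : Set.Ici P =>
      (⟨CplDim.img (A := A) X.1, Ideal.comap_mono X.2⟩ : Set.Ici (CplDim.img (A := A) P)))
      (fun X Y hXY => by
        show CplDim.img (A := A) X.1 < CplDim.img (A := A) Y.1
        rw [← hι, ← hι]
        exact ι.strictMono (show X.1 < Y.1 from hXY)) ⟨Q, h⟩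
  · have hQr : ∀ i, (s i).1.asIdeal ≤ r.asIdeal := fun i => by
      have h1 : (s i).1 ≤ CplDim.img (A := A) Q :=
        le_of_le_of_eq (show (s i).1 ≤ s.last.1 from s.monotone (Fin.le_last i)) (congrArg Subtype.val hs)
      exact le_trans h1 (hι Q ▸ (ι Q).2)
    have hmem : ∀ i, P ≤ ι.symm ⟨(s i).1, hQr i⟩ := fun i => by
      rw [← ι.le_iff_le, ι.apply_symm_apply]
      exact (hι P).trans_le (s i).2
    let t : LTSeries (Set.Ici P) := ⟨s.length, fun i => ⟨ι.symm ⟨(s i).1, hQr i⟩, hmem i⟩,
      fun i => ι.symm.strictMono (show (⟨(s i.castSucc).1, hQr _⟩ : Set.Iic r) < ⟨(s i.succ).1, hQr _⟩ from s.step i)⟩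
    refine Order.length_le_height (p := t) (le_of_eq (Subtype.ext ?_))
    show ι.symm ⟨(s (Fin.last _)).1, hQr _⟩ = Q
    rw [OrderIso.symm_apply_eq]
    exact Subtype.ext ((congrArg Subtype.val hs).trans (hι Q).symm)

theorem lt_cutoff_iff_localization (n : ℕ) :
    (n : ℕ∞) < Dual2.cutoff A I M ↔ ∀ r : PrimeSpectrum A, (n : ℕ∞) <
      Dual2.cutoff (Localization.AtPrime r.asIdeal) (I.map (algebraMap A (Localization.AtPrime r.asIdeal)))
        (LocalizedModule r.asIdeal.primeCompl M) := by
  simp only [natCast_lt_cutoff_iff]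
  constructor
  · intro h r P Q hPQ hP hQ
    have h' : CplDim.img (A := A) P ≤ CplDim.img (A := A) Q := Ideal.comap_mono hPQ
    rw [depth_localization_prime r M P, height_localization r hPQ h']
    exact h _ _ h' (fun hh => hP (Ideal.map_le_iff_le_comap.2 hh)) (Ideal.map_le_iff_le_comap.1 hQ)
  · intro h p q hpq hp hq
    let ι := IsLocalization.AtPrime.primeSpectrumOrderIso (Localization.AtPrime q.asIdeal) q.asIdeal
    obtain ⟨P, hP⟩ : ∃ P, CplDim.img (A := A) P = p := ⟨ι.symm ⟨p, hpq⟩, congrArg Subtype.val (ι.apply_symm_apply ⟨p, hpq⟩)⟩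
    obtain ⟨Q, hQ⟩ : ∃ Q, CplDim.img (A := A) Q = q := ⟨ι.symm ⟨q, le_refl q⟩, congrArg Subtype.val (ι.apply_symm_apply ⟨q, le_refl q⟩)⟩
    subst hP
    have h' := h q P Q (ι.le_iff_le.1 (show (ι P).1 ≤ (ι Q).1 from hpq.trans hQ.ge))
      (fun hh => hp (Ideal.map_le_iff_le_comap.1 hh))
      (Ideal.map_le_iff_le_comap.2 (hq.trans (congrArg PrimeSpectrum.asIdeal hQ).ge))
    rw [depth_localization_prime, height_localization _ _ (hpq.trans hQ.ge)] at h'
    rwa [show (⟨q, hpq⟩ : Set.Ici (CplDim.img (A := A) P)) = ⟨CplDim.img (A := A) Q, hpq.trans hQ.ge⟩ from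
      Subtype.ext hQ.symm]

end Localization

/-- The local criterion. -/
theorem finite_iff_local {A : Type u} [CommRing A] [IsLocalRing A] [IsNoetherianRing A]
    (hA : CAlg.IsUniversallyCatenary A) (hF : EGA4.HasCMFormalFibres A) (I : Ideal A) (M : Type u)
    [AddCommGroup M] [Module A M] [Module.Finite A M] (n : ℕ) :
    (∀ i : ℕ, i ≤ n → Module.Finite A (LocCoh.H I i M)) ↔ (n : ℕ∞) < Dual2.cutoff A I M := by
  let B := AdicCompletion (maximalIdeal A) A
  obtain ⟨hN, -, hL, hFF, -⟩ := CutoffCpl.facts (A := A)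
  obtain ⟨S, _, _, π, hπ⟩ := Groth.L10.FormCat.exists_regular_surjective B
  haveI := isRegularRing_of_regularLocal S
  have hn : EGA4.HasSnFormalFibres n A := fun p _ => by
    haveI : IsNoetherianRing (EGA4.Cpl A) := hN
    haveI := Groth.L06.GeomLocal.isNoetherianRing_fiber (B := EGA4.Cpl A) p
    exact Groth.L06.FormalFibres.cm_iff_forall_hasSk.mp (hF p) n
  have hcut : (n : ℕ∞) < Dual2.cutoff A I M ↔
      (n : ℕ∞) < Dual2.cutoff B (I.map (algebraMap A B)) (AdicCompletion (maximalIdeal A) M) := by
    refine ⟨fun h => ?_, fun h => h.trans_le (CutoffCpl.cutoff_completion_le I M hA)⟩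
    refine lt_of_lt_of_le (lt_min ?_ h) (CutoffCpl.min_le_cutoff_completion I M hA n hn)
    exact_mod_cast Nat.lt_succ_self n
  let e := AdicCompletion.ofTensorProductEquivOfFiniteNoetherian (maximalIdeal A) M
  haveI : Module.Finite B (AdicCompletion (maximalIdeal A) M) := Module.Finite.equiv e
  rw [hcut, ← finite_iff_regular π hπ]
  refine forall₂_congr fun i _ => ?_
  obtain ⟨φ⟩ := nonempty_H_baseChange_equiv (R' := B) I i M
  let ψ := φ.trans ((localCohomology (I.map (algebraMap A B)) i).mapIso e.toModuleIso).toLinearEquiv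
  exact ⟨fun h => Module.Finite.equiv ψ, fun h => by
    haveI := Module.Finite.equiv ψ.symm
    exact Module.Finite.of_finite_tensorProduct_of_faithfullyFlat B⟩

/-- The global criterion. -/
theorem finite_iff {A : Type u} [CommRing A] [IsNoetherianRing A] (hA : CAlg.IsUniversallyCatenary A)
    (hF : ∀ q : PrimeSpectrum A, EGA4.HasCMFormalFibres (Localization.AtPrime q.asIdeal)) (I : Ideal A)
    (M : Type u) [AddCommGroup M] [Module A M] [Module.Finite A M] (n : ℕ) :
    (∀ i : ℕ, i ≤ n → Module.Finite A (LocCoh.H I i M)) ↔ (n : ℕ∞) < Dual2.cutoff A I M := by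
  rw [finite_H_iff_local I n M, lt_cutoff_iff_localization I M n]
  refine ⟨fun h r => ?_, fun h p hp => ?_⟩
  · haveI : IsNoetherianRing (Localization.AtPrime r.asIdeal) :=
      IsLocalization.isNoetherianRing r.asIdeal.primeCompl _ inferInstance
    haveI : Algebra.EssFiniteType A (Localization.AtPrime r.asIdeal) := Algebra.EssFiniteType.of_isLocalization _ r.asIdeal.primeCompl
    haveI : Module.Finite (Localization.AtPrime r.asIdeal) (LocalizedModule r.asIdeal.primeCompl M) :=
      Module.Finite.of_isLocalizedModule r.asIdeal.primeCompl (LocalizedModule.mkLinearMap r.asIdeal.primeCompl M)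
    refine (finite_iff_local (Groth.Agent.S9126.result A _ hA) (hF r) _ _ n).1 fun i hi => ?_
    haveI := h r.asIdeal i hi
    obtain ⟨φ⟩ := nonempty_localizedModule_H_equiv I r.asIdeal.primeCompl i M
    exact Module.Finite.equiv φ
  · haveI : IsNoetherianRing (Localization.AtPrime p) := IsLocalization.isNoetherianRing p.primeCompl _ inferInstance
    haveI : Algebra.EssFiniteType A (Localization.AtPrime p) := Algebra.EssFiniteType.of_isLocalization _ p.primeCompl
    haveI : Module.Finite (Localization.AtPrime p) (LocalizedModule p.primeCompl M) :=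
      Module.Finite.of_isLocalizedModule p.primeCompl (LocalizedModule.mkLinearMap p.primeCompl M)
    intro i hi
    have hp' := (finite_iff_local (Groth.Agent.S9126.result A _ hA) (hF ⟨p, hp⟩)
      (I.map (algebraMap A (Localization.AtPrime p))) (LocalizedModule p.primeCompl M) n).2 (h ⟨p, hp⟩) i hi
    obtain ⟨φ⟩ := nonempty_localizedModule_H_equiv I p.primeCompl i M
    exact Module.Finite.equiv φ.symm

end Groth.L04.CutoffFinite
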