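import Groth.Agent.L04.LC.DerivedSupports
import Groth.Agent.L04.LC.AnnihDuality
import Groth.Agent.L10.DRing.DualVanishing
import Groth.Agent.L29.Dual.FlatBC

/-!
# The annihilator theorem for local cohomology of complexes
-/

set_option autoImplicit false
set_option linter.style.haveILetI false
set_option backward.isDefEq.respectTransparency false
universe u

open CategoryTheory CategoryTheory.Limits CategoryTheory.Pretriangulated Opposite IsLocalRing
open scoped TensorProduct

attribute [local instance] HasDerivedCategory.standard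

noncomputable section

namespace Groth.L04.DerAnnih

variable {A : Type u} [CommRing A]

/-- Modules in degree zero. -/
abbrev sg (A : Type u) [CommRing A] : ModuleCat.{u} A ⥤ Dual.D A :=
  DerivedCategory.singleFunctor (ModuleCat.{u} A) 0

theorem subsingleton_hom_of_isGE (Z X : Dual.D A) [Z.IsLE 0] (a i : ℤ) [X.IsGE a] (hi : i < a) :
    Subsingleton (Z ⟶ X⟦i⟧) := by
  haveI : (DerivedCategory.TStructure.t).IsGE (X⟦i⟧) (a - i) :=
    (DerivedCategory.TStructure.t).isGE_shift X a i (a - i) (by lia)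
  exact ⟨fun p q => by
    rw [DerivedCategory.TStructure.t.zero p 0 (a - i) (by lia), DerivedCategory.TStructure.t.zero q 0 (a - i) (by lia)]⟩

section Cover

variable {N₁ N₂ N₃ : Type u} [AddCommGroup N₁] [Module A N₁] [AddCommGroup N₂] [Module A N₂]
  [AddCommGroup N₃] [Module A N₃]

theorem smul_eq_zero_of_cover (g : N₂ →ₗ[A] N₃) (hg : Function.Surjective g) (X : Dual.D A) (i : ℤ)
    (r : A) (h : ∀ z : Dual.inD A (LinearMap.ker g) ⟶ X⟦i - 1⟧, r • z = 0)
    (y : Dual.inD A N₃ ⟶ X⟦i⟧) (hy : (sg A).map (ModuleCat.ofHom g) ≫ y = 0) : r • y = 0 := by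
  have hT := (Groth.L29.HomD.sc_shortExact (LinearMap.ker g).subtype g Subtype.val_injective hg
    g.exact_subtype_ker_map).singleTriangle_distinguished
  obtain ⟨z, hz⟩ := Triangle.yoneda_exact₃ _ hT y hy
  let ε : X⟦i⟧ ≅ (X⟦i - 1⟧)⟦(1 : ℤ)⟧ := (shiftFunctorAdd' (Dual.D A) (i - 1) 1 i (by ring)).app X
  obtain ⟨z₀, hz₀⟩ := (shiftFunctor (Dual.D A) (1 : ℤ)).map_surjective (z ≫ ε.hom)
  have h0 : r • z = 0 := by
    rw [← cancel_mono ε.hom, Linear.smul_comp, zero_comp, ← hz₀, ← Functor.map_smul, h z₀, Functor.map_zero]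
  rw [hz, ← Linear.comp_smul, h0, comp_zero]

theorem smul_eq_zero_of_sub (f : N₁ →ₗ[A] N₂) (hf : Function.Injective f) (W : Dual.D A) (r : A)
    (h : ∀ z : Dual.inD A (N₂ ⧸ LinearMap.range f) ⟶ W, r • z = 0)
    (y : Dual.inD A N₂ ⟶ W) (hy : (sg A).map (ModuleCat.ofHom f) ≫ y = 0) : r • y = 0 := by
  have hT := (Groth.L29.HomD.sc_shortExact f (LinearMap.range f).mkQ hf (Submodule.mkQ_surjective _)
    (LinearMap.exact_map_mkQ_range f)).singleTriangle_distinguished
  obtain ⟨z, hz⟩ := Triangle.yoneda_exact₂ _ hT y hy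
  have h0 : r • z = 0 := h z
  rw [hz, ← Linear.comp_smul, h0, comp_zero]

end Cover

section Colim

variable (T : Set (PrimeSpectrum A))

/-- `r` kills the colimit in degrees `≤ s`. -/
def Kills (X : Dual.D A) (s : ℤ) (r : A) : Prop :=
  ∀ i : ℤ, i ≤ s → ∀ (I : Ideal A), PrimeSpectrum.zeroLocus (I : Set A) ⊆ T →
    ∀ f : (sg A).obj (ModuleCat.of A (A ⧸ I)) ⟶ X⟦i⟧,
      ∃ (I' : Ideal A) (h : I' ≤ I), PrimeSpectrum.zeroLocus (I' : Set A) ⊆ T ∧
        r • ((sg A).map (ModuleCat.ofHom (Submodule.factor h)) ≫ f) = 0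

theorem kills_of_Fc (X : Dual.D A) (s : ℤ) (r : A)
    (h : ∀ i : ℤ, i ≤ s → ∀ z : (Groth.L04.DerHT.Fc T).obj (X⟦i⟧), r • z = 0) : Kills T X s r := by
  intro i hi I hI f
  obtain ⟨K, w, hw⟩ := Groth.L04.DerHT.ιc_eq_zero T (J := ⟨I, hI⟩) (f := r • f)
    ((map_smul _ _ _).trans (h i hi _))
  refine ⟨K.obj, leOfHom w.hom, K.property, ?_⟩
  have e : (localCohomology.ringModIdeals (Dual2.idealsInDiagram T)).map w =
      ModuleCat.ofHom (Submodule.factor (leOfHom w.hom)) := ModuleCat.hom_ext (Submodule.linearMap_qext _ rfl)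
  rw [← Linear.comp_smul, ← e]
  exact hw

variable [IsNoetherianRing A]

theorem pow_kills_hom (X : Dual.D A) (a : ℤ) [X.IsGE a] (s : ℤ) (r : A) (hr : Kills T X s r) :
    ∀ (k : ℕ) (i : ℤ), i ≤ s → i - a < k → ∀ (N : Type u) [AddCommGroup N] [Module A N] [Module.Finite A N],
      Module.support A N ⊆ T → ∀ x : Dual.inD A N ⟶ X⟦i⟧, r ^ k • x = 0 := by
  intro k
  induction k with
  | zero =>
    intro i _ hk N _ _ _ _ x
    haveI := subsingleton_hom_of_isGE (Dual.inD A N) X a i (by lia)
    exact Subsingleton.elim _ _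
  | succ k ih =>
    intro i hi hk N _ _ _ hN x
    classical
    let I : Ideal A := Module.annihilator A N
    have hI : PrimeSpectrum.zeroLocus (I : Set A) ⊆ T := by rwa [← Module.support_eq_zeroLocus]
    obtain ⟨n, g, hg⟩ := Module.Finite.exists_fin (R := A) (M := N)
    let ψ₀ : Fin n → (A ⧸ I) →ₗ[A] N := fun j => Submodule.liftQ I (LinearMap.toSpanSingleton A N (g j))
      fun c hc => Module.mem_annihilator.1 hc (g j)
    choose I' hle hI' hkill using fun j => hr i hi I hI ((sg A).map (ModuleCat.ofHom (ψ₀ j)) ≫ x)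
    let J : Ideal A := I ⊓ Finset.univ.inf I'
    have hJ : PrimeSpectrum.zeroLocus (J : Set A) ⊆ T := fun q hq => by
      rcases (Ideal.IsPrime.inf_le q.isPrime).1 hq with h | h
      · exact hI h
      · obtain ⟨j, -, hj⟩ := (Ideal.IsPrime.inf_le' q.isPrime).1 h
        exact hI' j hj
    have hJj : ∀ j, J ≤ I' j := fun j => inf_le_right.trans (Finset.inf_le (Finset.mem_univ j))
    let π : (Fin n → A ⧸ J) →ₗ[A] N :=
      ∑ j, (ψ₀ j).comp ((Submodule.factor (hle j)).comp ((Submodule.factor (hJj j)).comp (LinearMap.proj j)))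
    have hπ : Function.Surjective π := by
      rw [← LinearMap.range_eq_top, eq_top_iff, ← hg, Submodule.span_le]
      rintro _ ⟨j, rfl⟩
      refine ⟨Pi.single j (Submodule.Quotient.mk 1), ?_⟩
      rw [LinearMap.sum_apply, Finset.sum_eq_single j]
      · simp [ψ₀]
        exact one_smul A (g j)
      · intro b _ hb
        simp [Pi.single_eq_of_ne hb]
      · simp
    have hsum : ModuleCat.ofHom π = ∑ j, ModuleCat.ofHom (LinearMap.proj (R := A) (φ := fun _ => A ⧸ J) j) ≫
        ModuleCat.ofHom (Submodule.factor (hJj j)) ≫ ModuleCat.ofHom (Submodule.factor (hle j)) ≫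
          ModuleCat.ofHom (ψ₀ j) := by
      refine ModuleCat.hom_ext ?_
      rw [ModuleCat.hom_sum]
      rfl
    have hy : (sg A).map (ModuleCat.ofHom π) ≫ (r • x) = 0 := by
      rw [hsum, Functor.map_sum, Preadditive.sum_comp]
      refine Finset.sum_eq_zero fun j _ => ?_
      rw [Functor.map_comp, Functor.map_comp, Functor.map_comp, Category.assoc, Category.assoc, Category.assoc,
        Linear.comp_smul, Linear.comp_smul, hkill j, comp_zero, comp_zero]
    haveI : Module.Finite A (LinearMap.ker π) := Module.Finite.iff_fg.2 (IsNoetherian.noetherian _)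
    have hker : Module.support A (LinearMap.ker π) ⊆ T := by
      refine (Module.support_subset_of_injective (LinearMap.ker π).subtype Subtype.val_injective).trans ?_
      rw [Module.support_eq_zeroLocus]
      refine (PrimeSpectrum.zeroLocus_anti_mono fun c hc => Module.mem_annihilator.2 fun v => funext fun j => ?_).trans hJ
      obtain ⟨y, hy⟩ := Submodule.Quotient.mk_surjective J (v j)
      change c • v j = 0
      rw [← hy, ← Submodule.Quotient.mk_smul, Submodule.Quotient.mk_eq_zero]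
      exact Ideal.mul_mem_right y J hc
    rw [pow_succ, mul_smul]
    exact smul_eq_zero_of_cover π hπ X i (r ^ k) (fun z => ih (i - 1) (by lia) (by lia) _ hker z) (r • x) hy

/-- Local annihilation gives global annihilation, up to a power. -/
theorem exists_pow_kills_of_local {d : PrimeSpectrum A → ℤ} (hd : StrictAnti d) (b : ℤ) (hb : ∀ q, b ≤ d q)
    (X : Dual.D A) (s : ℤ) (e : ℕ) : ∀ n : ℕ, ∃ E : ℕ, ∀ r : A,
    (∀ q ∈ T, ∀ (N : Type u) [AddCommGroup N] [Module A N] [Module.Finite A N],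
      (∀ p ∈ Module.support A N, p ≤ q → p = q) → ∀ i : ℤ, i ≤ s →
        ∀ x : Dual.inD A N ⟶ X⟦i⟧, ∃ t ∉ q.asIdeal, t • r ^ e • x = 0) →
    ∀ (N : Type u) [AddCommGroup N] [Module A N] [Module.Finite A N],
      (∀ q ∈ Module.support A N, q ∈ T ∧ d q < b + n) → ∀ i : ℤ, i ≤ s →
        ∀ x : Dual.inD A N ⟶ X⟦i⟧, r ^ E • x = 0 := by
  intro n
  induction n with
  | zero =>
    refine ⟨0, fun r _ N _ _ _ hN i _ x => ?_⟩
    haveI : Subsingleton N := Module.support_eq_empty_iff.1 (Set.eq_empty_iff_forall_notMem.2 fun q hq => by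
      have := (hN q hq).2; have := hb q; lia)
    have h0 : IsZero (Dual.inD A N) := (sg A).map_isZero (ModuleCat.isZero_of_subsingleton _)
    exact h0.eq_of_src _ _
  | succ n ih =>
    obtain ⟨E, hE⟩ := ih
    refine ⟨E + E + e, fun r hr N _ _ _ hN i hi x => ?_⟩
    classical
    let m : ℤ := b + n
    let y := r ^ e • x
    have hmin : ∀ q ∈ Module.support A N, d q = m → ∀ p ∈ Module.support A N, p ≤ q → p = q := by
      intro q _ hqm p hp hpq
      by_contra hne
      have h1 := hd (lt_of_le_of_ne hpq hne)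
      have h2 := (hN p hp).2
      push_cast at h2
      lia
    let Q : Set (Ideal A) := {P | ∃ q ∈ Module.support A N, d q = m ∧ q.asIdeal = P}
    have hQfin : Q.Finite := by
      refine Set.Finite.subset (Ideal.finite_minimalPrimes_of_isNoetherianRing A (Module.annihilator A N)) ?_
      rintro _ ⟨q, hq, hqm, rfl⟩
      refine ⟨⟨q.isPrime, Module.mem_support_iff_of_finite.1 hq⟩, ?_⟩
      rintro P ⟨hP, hle⟩ hPq
      have := hmin q hq hqm ⟨P, hP⟩ (Module.mem_support_iff_of_finite.2 hle) hPq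
      exact le_of_eq (congrArg PrimeSpectrum.asIdeal this).symm
    let aN : Ideal A := LinearMap.ker (LinearMap.toSpanSingleton A _ y)
    obtain ⟨c, hc, hcQ⟩ : ∃ c ∈ aN, ∀ P ∈ Q, c ∉ P := by
      by_contra hcon
      push Not at hcon
      have hsub : (aN : Set A) ⊆ ⋃ P ∈ (↑hQfin.toFinset : Set (Ideal A)), (P : Set A) := fun c hc => by
        obtain ⟨P, hP, hcP⟩ := hcon c hc
        exact Set.mem_biUnion (hQfin.mem_toFinset.2 hP) hcP
      obtain ⟨P, hP, hle⟩ := (Ideal.subset_union_prime (f := fun P => P) (⊥ : Ideal A) (⊥ : Ideal A)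
        fun P hP _ _ => by
          obtain ⟨q, -, -, rfl⟩ := hQfin.mem_toFinset.1 hP
          exact q.isPrime).1 hsub
      obtain ⟨q, hq, hqm, rfl⟩ := hQfin.mem_toFinset.1 hP
      obtain ⟨t, ht, htx⟩ := hr q (hN q hq).1 N (hmin q hq hqm) i hi x
      exact ht (hle (show t ∈ aN from htx))
    have hcy : c • y = 0 := hc
    let φ : N →ₗ[A] N := c • LinearMap.id
    have hφy : (sg A).map (ModuleCat.ofHom φ.rangeRestrict) ≫
        ((sg A).map (ModuleCat.ofHom (LinearMap.range φ).subtype) ≫ y) = 0 := by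
      rw [← Category.assoc, ← Functor.map_comp,
        show ModuleCat.ofHom φ.rangeRestrict ≫ ModuleCat.ofHom (LinearMap.range φ).subtype =
          c • 𝟙 (ModuleCat.of A N) from ModuleCat.hom_ext (LinearMap.ext fun v => rfl),
        Functor.map_smul, CategoryTheory.Functor.map_id, Linear.smul_comp, Category.id_comp, hcy]
    have hlow : ∀ (M : Type u) [AddCommGroup M] [Module A M] [Module.Finite A M],
        Module.support A M ⊆ Module.support A N → (∀ v : M, c • v = 0) →
          ∀ q ∈ Module.support A M, q ∈ T ∧ d q < b + n := by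
      intro M _ _ _ hsub hcM q hq
      refine ⟨(hN q (hsub hq)).1, lt_of_le_of_ne ?_ fun hqm => ?_⟩
      · have := (hN q (hsub hq)).2
        push_cast at this
        lia
      · exact hcQ q.asIdeal ⟨q, hsub hq, hqm, rfl⟩
          (Module.mem_support_iff_of_finite.1 hq (Module.mem_annihilator.2 hcM))
    haveI : Module.Finite A (LinearMap.ker φ.rangeRestrict) := Module.Finite.iff_fg.2 (IsNoetherian.noetherian _)
    have h1 : r ^ E • ((sg A).map (ModuleCat.ofHom (LinearMap.range φ).subtype) ≫ y) = 0 := by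
      refine smul_eq_zero_of_cover φ.rangeRestrict φ.surjective_rangeRestrict X i (r ^ E) (fun z => ?_) _ hφy
      refine hE r hr _ (hlow _ (Module.support_subset_of_injective (LinearMap.ker φ.rangeRestrict).subtype
        Subtype.val_injective) fun v => ?_) (i - 1) (by lia) z
      exact Subtype.ext (show c • (v : N) = 0 from congrArg Subtype.val (LinearMap.mem_ker.1 v.2))
    have h2 : r ^ E • (r ^ E • y) = 0 := by
      refine smul_eq_zero_of_sub (LinearMap.range φ).subtype Subtype.val_injective _ (r ^ E) (fun z => ?_) _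
        ((Linear.comp_smul _ _ _ _ _ _).trans h1)
      refine hE r hr _ (hlow _ (Module.support_subset_of_surjective (LinearMap.range (LinearMap.range φ).subtype).mkQ
        (Submodule.mkQ_surjective _)) fun v => ?_) i hi z
      obtain ⟨w, rfl⟩ := Submodule.Quotient.mk_surjective _ v
      rw [← Submodule.Quotient.mk_smul, Submodule.Quotient.mk_eq_zero, Submodule.range_subtype]
      exact ⟨w, rfl⟩
    rw [pow_add, pow_add, mul_smul, mul_smul]
    exact h2

end Colim

section Compare

theorem bijective_comp (S : Triangle (Dual.D A)) (hS : S ∈ distTriang (Dual.D A)) (s i : ℤ) (hi : i ≤ s)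
    [S.obj₃.IsGE (s + 1)] (Z : Dual.D A) [Z.IsLE 0] :
    Function.Bijective (fun f : Z ⟶ S.obj₁⟦i⟧ => f ≫ S.mor₁⟦i⟧') := by
  constructor
  · intro f₁ f₂ hf
    have hf' : (f₁ - f₂) ≫ S.mor₁⟦i⟧' = 0 := (Preadditive.sub_comp _ _ _).trans (sub_eq_zero.2 hf)
    haveI : DerivedCategory.IsGE (S.obj₃⟦(-1 : ℤ)⟧) (s + 2) :=
      (DerivedCategory.TStructure.t).isGE_shift S.obj₃ (s + 1) (-1) (s + 2) (by lia)
    haveI := subsingleton_hom_of_isGE Z (S.obj₃⟦(-1 : ℤ)⟧) (s + 2) i (by lia)
    obtain ⟨g, hg⟩ := Triangle.coyoneda_exact₂ _ (Triangle.shift_distinguished _ (inv_rot_of_distTriang _ hS) i)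
      (f₁ - f₂) (by
        change (f₁ - f₂) ≫ (i.negOnePow • S.mor₁⟦i⟧') = 0
        rw [Linear.comp_units_smul, hf', smul_zero])
    have hg0 : g = 0 := Subsingleton.elim (α := Z ⟶ (S.obj₃⟦(-1 : ℤ)⟧)⟦i⟧) _ _
    rw [hg0, zero_comp] at hg
    exact sub_eq_zero.1 hg
  · intro f
    haveI := subsingleton_hom_of_isGE Z S.obj₃ (s + 1) i (by lia)
    obtain ⟨g, hg⟩ := Triangle.coyoneda_exact₂ _ (Triangle.shift_distinguished S hS i) f
      (Subsingleton.elim (α := Z ⟶ S.obj₃⟦i⟧) _ _)
    change f = g ≫ (i.negOnePow • S.mor₁⟦i⟧') at hg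
    refine ⟨i.negOnePow • g, ?_⟩
    simp only [Linear.units_smul_comp]
    rw [hg, Linear.comp_units_smul]

/-- Comparison of colimits of `Hom`. -/
def colimEquiv {J : Type*} [Category J] (F : J ⥤ Dual.D A) {X Y : Dual.D A} (g : X ⟶ Y)
    (hg : ∀ j, Function.Bijective fun f : F.obj j ⟶ X => f ≫ g)
    [HasColimit (F.op ⋙ (linearYoneda A (Dual.D A)).obj X)]
    [HasColimit (F.op ⋙ (linearYoneda A (Dual.D A)).obj Y)] :
    ↥(colimit (F.op ⋙ (linearYoneda A (Dual.D A)).obj X)) ≃ₗ[A]
      ↥(colimit (F.op ⋙ (linearYoneda A (Dual.D A)).obj Y)) :=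
  haveI : IsIso (Functor.whiskerLeft F.op ((linearYoneda A (Dual.D A)).map g)) := by
    haveI : ∀ j, IsIso ((Functor.whiskerLeft F.op ((linearYoneda A (Dual.D A)).map g)).app j) := fun j =>
      (ConcreteCategory.isIso_iff_bijective _).2 (hg j.unop)
    exact NatIso.isIso_of_isIso_app _
  (HasColimit.isoOfNatIso (asIso (Functor.whiskerLeft F.op ((linearYoneda A (Dual.D A)).map g)))).toLinearEquiv

theorem bijective_comp_iso {X Y : Dual.D A} (e : X ≅ Y) (Z : Dual.D A) :
    Function.Bijective (fun f : Z ⟶ X => f ≫ e.hom) :=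
  ⟨fun f g h => (cancel_mono e.hom).1 h, fun f => ⟨f ≫ e.inv, by simp⟩⟩

end Compare

section LocalRing

variable [IsLocalRing A] [IsNoetherianRing A]

open Groth.L29.HomD Groth.L29.LocDual Groth.L10.DualVanishing

omit [IsLocalRing A] [IsNoetherianRing A] in
theorem pres_pow : PreservesColimitsOfShape ℕᵒᵖᵒᵖ (forget (ModuleCat.{u + 1} A)) := by
  haveI : IsFiltered ℕᵒᵖᵒᵖ := IsFiltered.of_equivalence (opOpEquivalence ℕ).symm
  haveI : PreservesFilteredColimitsOfSize.{0, 0} (forget AddCommGrpCat.{u + 1}) :=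
    preservesSmallestFilteredColimits_of_preservesFilteredColimits.{u + 1, u + 1} _
  haveI : PreservesColimitsOfShape ℕᵒᵖᵒᵖ (forget AddCommGrpCat.{u + 1}) :=
    PreservesFilteredColimitsOfSize.preserves_filtered_colimits _
  exact comp_preservesColimitsOfShape (forget₂ (ModuleCat.{u + 1} A) AddCommGrpCat.{u + 1})
      (forget AddCommGrpCat.{u + 1})

theorem dia_kills_iff (X : Dual.D A) (r : A) :
    (∀ z : ↥(colimit (dia X)), r • z = 0) ↔
      ∀ (k : ℕ) (x : P A k ⟶ X), ∃ (l : ℕ) (h : k ≤ l), r • (res h ≫ x) = 0 := by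
  haveI : IsFiltered ℕᵒᵖᵒᵖ := IsFiltered.of_equivalence (opOpEquivalence ℕ).symm
  haveI := pres_pow (A := A)
  constructor
  · intro h k x
    have h0 : colimit.ι (dia X) (op (op k)) (r • x) = colimit.ι (dia X) (op (op k)) 0 := by
      rw [map_zero]
      exact (map_smul _ _ _).trans (h _)
    obtain ⟨l, g₁, g₂, hl⟩ := (Concrete.colimit_rep_eq_iff_exists (dia X) (j := op (op k)) (i := op (op k))
      (r • x) 0).1 h0
    rw [dia_map, map_zero] at hl
    exact ⟨l.unop.unop, g₁.unop.unop.le, (Linear.comp_smul _ _ _ _ _ _).symm.trans hl⟩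
  · intro h z
    obtain ⟨j, x, rfl⟩ := Concrete.colimit_exists_rep (dia X) z
    obtain ⟨l, hl, hl0⟩ := h j.unop.unop x
    let g : j ⟶ op (op l) := (homOfLE hl).op.op
    rw [← map_smul, ← colimit.w (dia X) g, ModuleCat.comp_apply, dia_map, Linear.comp_smul, hl0]
    exact map_zero _

/-- Annihilators of local cohomology through duality. -/
theorem kills_iff_dual {ω : Dual.D A} (hω : Dual.IsDualizing A ω) (hn : Dual.IsNormalized A ω) (M : Dual.D A)
    (hfin : ∀ i : ℤ, Module.Finite A (Dual.HD A M i)) (a b : ℤ) [M.IsGE a] [M.IsLE b] (i : ℤ) (r : A) :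
    (∀ z : ↥(Dual2.HDI A (maximalIdeal A) M i), r • z = 0) ↔ ∀ φ : M ⟶ ω⟦-i⟧, r • φ = 0 := by
  obtain ⟨E, _, _, f, hf⟩ := Groth.L04.exists_injectiveHull (R := A) (ResidueField A)
  obtain ⟨S⟩ := exists_pairing hω hn f hf
  have hLD := LD.of_bounded S M a b hfin i
  haveI := Groth.L29.Unique.finite_hom_bounded (good_of_isDualizing hω) M a b hfin (-i)
  haveI : Module.Finite A (M⟦i⟧ ⟶ ω) := Module.Finite.equiv (shiftTo M ω i).symm
  suffices key : (∀ z : ↥(colimit (dia (M⟦i⟧))), r • z = 0) ↔ ∀ φ : M⟦i⟧ ⟶ ω, r • φ = 0 by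
    refine key.trans ⟨fun h φ => ?_, fun h φ => (shiftTo M ω i).injective (by rw [map_smul, h, map_zero])⟩
    obtain ⟨ψ, rfl⟩ := (shiftTo M ω i).surjective φ
    rw [← map_smul, h, map_zero]
  rw [dia_kills_iff]
  constructor
  · intro h φ
    obtain ⟨N₀, _, _, _, ⟨e₀⟩⟩ := exists_small (A := A) (M⟦i⟧ ⟶ ω)
    suffices e₀.symm (r • φ) = 0 from e₀.symm.injective (this.trans (map_zero _).symm)
    refine Groth.L04.applyₗ_injective hf N₀ (LinearMap.ext fun χ => ?_)
    obtain ⟨k, x, hx⟩ := hLD.2 (χ ∘ₗ e₀.symm.toLinearMap)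
    obtain ⟨l, hl, hl0⟩ := h k x
    have h1 : χ (e₀.symm (r • φ)) = pair S k (M⟦i⟧) x (r • φ) := (LinearMap.congr_fun hx (r • φ)).symm
    rw [map_zero, LinearMap.applyₗ_apply_apply, h1, LinearMap.zero_apply, ← pair_res S hl x, pair_apply,
      Linear.comp_smul, ← Linear.smul_comp, hl0, zero_comp, map_zero]
  · intro h k x
    obtain ⟨l, hl, hl0⟩ := hLD.1 k (r • x) (LinearMap.ext fun t => by
      rw [pair_apply, Linear.smul_comp, ← Linear.comp_smul, h, comp_zero, map_zero, LinearMap.zero_apply])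
    exact ⟨l, hl, (Linear.comp_smul _ _ _ _ _ _).symm.trans hl0⟩

theorem kills_closedPoint (M : Dual.D A) (s : ℤ) (r : A)
    (h : ∀ i : ℤ, i ≤ s → ∀ z : ↥(Dual2.HDI A (maximalIdeal A) M i), r • z = 0) :
    Kills {closedPoint A} M s r := by
  intro i hi I hI f
  obtain ⟨n, hn⟩ : ∃ n, maximalIdeal A ^ n ≤ I := by
    refine Ideal.exists_pow_le_of_le_radical_of_fg ?_ (IsNoetherian.noetherian _)
    rw [Ideal.radical_eq_sInf]
    exact le_sInf fun P hP => le_of_eq (congrArg PrimeSpectrum.asIdeal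
      (Set.mem_singleton_iff.1 (hI (show (⟨P, hP.2⟩ : PrimeSpectrum A) ∈ _ from hP.1)))).symm
  obtain ⟨l, hl, hl0⟩ := (dia_kills_iff (M⟦i⟧) r).1 (h i hi) n
    ((sg A).map (ModuleCat.ofHom (Submodule.factor hn)) ≫ f)
  have hle : maximalIdeal A ^ l ≤ I := (Ideal.pow_le_pow_right hl).trans hn
  refine ⟨maximalIdeal A ^ l, hle, fun q hq => ?_, ?_⟩
  · exact PrimeSpectrum.ext (le_antisymm (le_maximalIdeal q.isPrime.ne_top)
      fun c hc => q.isPrime.mem_of_pow_mem l (hq (Ideal.pow_mem_pow hc l)))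
  · have e : res (A := A) hl ≫ (sg A).map (ModuleCat.ofHom (Submodule.factor hn)) =
        (sg A).map (ModuleCat.ofHom (Submodule.factor hle)) := by
      rw [res, ← Functor.map_comp]
      exact congrArg _ (ModuleCat.hom_ext (Submodule.linearMap_qext _ rfl))
    rw [← e, Category.assoc]
    exact hl0

end LocalRing

section Point

open Groth.L29 Groth.L29.HomD Groth.L04.AnnihDual

variable [IsNoetherianRing A] (q : PrimeSpectrum A)

omit [IsNoetherianRing A] in
theorem localized_kills_iff {E : Type*} [AddCommGroup E] [Module A E] {H : Type*} [AddCommGroup H]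
    [Module (Localization.AtPrime q.asIdeal) H]
    (e : LocalizedModule q.asIdeal.primeCompl E ≃ₗ[Localization.AtPrime q.asIdeal] H) (r : A) :
    (∀ y : H, algebraMap A (Localization.AtPrime q.asIdeal) r • y = 0) ↔
      ∀ x : E, ∃ t ∉ q.asIdeal, t • r • x = 0 := by
  constructor
  · intro h x
    have h1 : algebraMap A (Localization.AtPrime q.asIdeal) r •
        LocalizedModule.mkLinearMap q.asIdeal.primeCompl E x = 0 :=
      e.injective (by rw [map_smul, h, map_zero])
    rw [algebraMap_smul, ← map_smul] at h1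
    obtain ⟨⟨t, ht⟩, htx⟩ := (IsLocalizedModule.eq_zero_iff q.asIdeal.primeCompl
      (LocalizedModule.mkLinearMap q.asIdeal.primeCompl E)).1 h1
    exact ⟨t, ht, htx⟩
  · intro h y
    obtain ⟨y, rfl⟩ := e.surjective y
    rw [← map_smul, ← map_zero e]
    congr 1
    induction y using LocalizedModule.induction_on with
    | h x t =>
      obtain ⟨u, hu, hux⟩ := h x
      rw [algebraMap_smul, LocalizedModule.smul'_mk,
        ← LocalizedModule.zero_mk t, LocalizedModule.mk_eq]
      refine ⟨⟨u, hu⟩, ?_⟩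
      simp only [smul_zero, Submonoid.smul_def]
      rw [smul_comm, hux, smul_zero]

variable [Module.Flat A (Localization.AtPrime q.asIdeal)]

/-- Localization of `Hom` out of a finite module. -/
theorem exists_homN (K : Dual.D A) (a : ℤ) [K.IsGE a] (i : ℤ) (N : Type u) [AddCommGroup N] [Module A N]
    [Module.Finite A N] :
    Nonempty (LocalizedModule q.asIdeal.primeCompl (Dual.inD A N ⟶ K⟦i⟧) ≃ₗ[Localization.AtPrime q.asIdeal]
      (Dual.inD (Localization.AtPrime q.asIdeal) (Localization.AtPrime q.asIdeal ⊗[A] N) ⟶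
        ((FlatBC.L A (Localization.AtPrime q.asIdeal)).obj K)⟦i⟧)) := by
  let B := Localization.AtPrime q.asIdeal
  haveI : DerivedCategory.IsGE (K⟦i⟧) (a - i) :=
    (DerivedCategory.TStructure.t).isGE_shift K a i (a - i) (by lia)
  have hθ : Function.Bijective (FlatBC.theta B (Dual.inD A N) (K⟦i⟧)) :=
    FlatBC.iso'_of_iso ((shiftFunctorZero (Dual.D A) ℤ).app _) (FlatBC.allShift_inD (B := B) (K⟦i⟧) (a - i) N 0)
  exact ⟨(LocalizedModule.equivTensorProduct q.asIdeal.primeCompl _).trans
    ((LinearEquiv.ofBijective _ hθ).trans (Linear.homCongr B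
      (((FlatBC.ext A B).mapDerivedCategorySingleFunctor 0).app (ModuleCat.of A N) ≪≫
        (DerivedCategory.singleFunctor (ModuleCat.{u} B) 0).mapIso
          (FlatBC.extEquiv A B (ModuleCat.of A N)).toModuleIso)
      (((FlatBC.L A B).commShiftIso i).app K)))⟩

variable {ω : Dual.D A}

/-- Annihilators of local cohomology at a point through the dualizing complex. -/
theorem kills_HDI_iff (hω : Dual.IsDualizing A ω) (K : Dual.D A) (a b : ℤ) [K.IsGE a] [K.IsLE b]
    (hfin : ∀ n, Module.Finite A (Dual.HD A K n)) (i : ℤ) (r : A) :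
    (∀ z : ↥(Dual2.HDI (Localization.AtPrime q.asIdeal) (maximalIdeal (Localization.AtPrime q.asIdeal))
        ((FlatBC.L A (Localization.AtPrime q.asIdeal)).obj K) i),
        algebraMap A (Localization.AtPrime q.asIdeal) r • z = 0) ↔
      ∀ x : K ⟶ ω⟦-dimFun hω q - i⟧, ∃ t ∉ q.asIdeal, t • r • x = 0 := by
  let B := Localization.AtPrime q.asIdeal
  have hB := isDualizing_shift (FlatBC.isDualizing_L_localization (B := B) q.asIdeal.primeCompl hω) (-dimFun hω q)
  have hn := isNormalized_at hω q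
  haveI := hB.isNoetherianRing
  haveI := FlatBC.isGE_L (B := B) K a
  haveI := FlatBC.isLE_L (B := B) K b
  have hfinB : ∀ n, Module.Finite B (Dual.HD B ((FlatBC.L A B).obj K) n) := fun n => by
    haveI := hfin n
    exact Module.Finite.equiv (FlatBC.hEquiv A B K n).symm
  rw [kills_iff_dual hB hn _ hfinB a b i]
  obtain ⟨lo, hi', hrange⟩ := hω.finite_injective_dimension
  haveI := isGE_of_lower lo fun M _ _ i hi => hrange M i (Or.inl hi)
  haveI : DerivedCategory.IsGE (ω⟦-dimFun hω q - i⟧) (lo - (-dimFun hω q - i)) :=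
    (DerivedCategory.TStructure.t).isGE_shift ω lo _ _ (by lia)
  have hθ : Function.Bijective (FlatBC.theta B K (ω⟦-dimFun hω q - i⟧)) :=
    FlatBC.iso'_of_iso ((shiftFunctorZero (Dual.D A) ℤ).app _)
      (FlatBC.allShift_bounded (B := B) _ (lo - (-dimFun hω q - i)) K a b hfin 0)
  exact localized_kills_iff q ((LocalizedModule.equivTensorProduct q.asIdeal.primeCompl _).trans
    ((LinearEquiv.ofBijective _ hθ).trans ((Linear.homCongr B (Iso.refl _)
      (((FlatBC.L A B).commShiftIso (-dimFun hω q - i)).app ω)).trans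
        (homShiftEquiv _ _ (-dimFun hω q) (-i) (-dimFun hω q - i) (by ring)).symm))) r

/-- Local annihilation of `Hom` out of modules with an isolated point. -/
theorem locally_kills_hom (K : Dual.D A) (a : ℤ) [K.IsGE a] (s : ℤ) (r : A) (e : ℕ) (he : s - a < e)
    (h : ∀ i : ℤ, i ≤ s → ∀ z : ↥(Dual2.HDI (Localization.AtPrime q.asIdeal)
        (maximalIdeal (Localization.AtPrime q.asIdeal)) ((FlatBC.L A (Localization.AtPrime q.asIdeal)).obj K) i),
        algebraMap A (Localization.AtPrime q.asIdeal) r • z = 0)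
    (N : Type u) [AddCommGroup N] [Module A N] [Module.Finite A N]
    (hN : ∀ p ∈ Module.support A N, p ≤ q → p = q) (i : ℤ) (hi : i ≤ s) (x : Dual.inD A N ⟶ K⟦i⟧) :
    ∃ t ∉ q.asIdeal, t • r ^ e • x = 0 := by
  let B := Localization.AtPrime q.asIdeal
  haveI : IsNoetherianRing B := IsLocalization.isNoetherianRing q.asIdeal.primeCompl B inferInstance
  haveI := FlatBC.isGE_L (B := B) K a
  obtain ⟨ε⟩ := exists_homN q K a i N
  refine (localized_kills_iff q ε (r ^ e)).1 (fun y => ?_) x
  rw [map_pow]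
  refine pow_kills_hom {closedPoint B} _ a s _ (kills_closedPoint _ s _ h) e i hi (by lia) _ ?_ y
  intro P hP
  have hle : P.asIdeal.comap (algebraMap A B) ≤ q.asIdeal := by
    exact (Ideal.comap_mono (le_maximalIdeal P.isPrime.ne_top)).trans
      (IsLocalization.AtPrime.under_maximalIdeal B q.asIdeal).le
  have hmem : (⟨P.asIdeal.comap (algebraMap A B), inferInstance⟩ : PrimeSpectrum A) ∈ Module.support A N := by
    refine Module.mem_support_iff_of_finite.2 fun c hc => ?_
    refine Module.mem_support_iff_of_finite.1 hP (Module.mem_annihilator.2 fun v => ?_)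
    rw [algebraMap_smul]
    induction v with
    | zero => exact smul_zero _
    | tmul b w => rw [← TensorProduct.tmul_smul, Module.mem_annihilator.1 hc w, TensorProduct.tmul_zero]
    | add v w hv hw => rw [smul_add, hv, hw, add_zero]
  have heq := congrArg PrimeSpectrum.asIdeal (hN _ hmem hle)
  refine PrimeSpectrum.ext (le_antisymm (le_maximalIdeal P.isPrime.ne_top) ?_)
  change maximalIdeal B ≤ P.asIdeal
  rw [← IsLocalization.AtPrime.map_eq_maximalIdeal q.asIdeal B, Ideal.map_le_iff_le_comap]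
  exact heq.ge

/-- Annihilation of `Hom` out of the thickenings of `q` passes to the local cohomology at `q`. -/
theorem kills_HDI_of_hom (K : Dual.D A) (a : ℤ) [K.IsGE a] (i : ℤ) (r : A)
    (h : ∀ (n : ℕ) (x : Dual.inD A (A ⧸ q.asIdeal ^ n) ⟶ K⟦i⟧), r • x = 0) :
    ∀ z : ↥(Dual2.HDI (Localization.AtPrime q.asIdeal) (maximalIdeal (Localization.AtPrime q.asIdeal))
        ((FlatBC.L A (Localization.AtPrime q.asIdeal)).obj K) i),
        algebraMap A (Localization.AtPrime q.asIdeal) r • z = 0 := by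
  let B := Localization.AtPrime q.asIdeal
  haveI : IsNoetherianRing B := IsLocalization.isNoetherianRing q.asIdeal.primeCompl B inferInstance
  refine (dia_kills_iff (A := B) _ _).2 fun k x => ⟨k, le_rfl, ?_⟩
  obtain ⟨ε⟩ := exists_homN q K a i (A ⧸ q.asIdeal ^ k)
  have hmap : (q.asIdeal ^ k).map (algebraMap A B) = maximalIdeal B ^ k := by
    rw [Ideal.map_pow, IsLocalization.AtPrime.map_eq_maximalIdeal q.asIdeal B]
  let e1 : (B ⊗[A] (A ⧸ q.asIdeal ^ k)) ≃ₗ[B] (B ⧸ maximalIdeal B ^ k) :=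
    (Algebra.TensorProduct.quotIdealMapEquivTensorQuot B (q.asIdeal ^ k)).toLinearEquiv.symm.trans
      (Submodule.quotEquivOfEq _ _ hmap)
  let j := (sg B).mapIso e1.toModuleIso
  have h0 : algebraMap A B r • (j.hom ≫ x) = 0 :=
    (localized_kills_iff q ε r).2 (fun y => ⟨1, fun h1 => q.isPrime.ne_top ((Ideal.eq_top_iff_one _).2 h1),
      by rw [h k y, smul_zero]⟩) (j.hom ≫ x)
  rw [← Linear.comp_smul] at h0 ⊢
  rw [(cancel_epi j.hom).1 (h0.trans comp_zero.symm), comp_zero]

end Point

section Height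

open Groth.L29 Groth.L29.HomD

variable [IsNoetherianRing A] {ω : Dual.D A} (hω : Dual.IsDualizing A ω)

theorem height_Ici (p q : PrimeSpectrum A) (hpq : p ≤ q) :
    Order.height (⟨q, hpq⟩ : Set.Ici p) = ((dimFun hω p - dimFun hω q).toNat : ℕ) := by
  have h := Order.height_eq_krullDim_Iic (⟨q, hpq⟩ : Set.Ici p)
  let e : Set.Iic (⟨q, hpq⟩ : Set.Ici p) ≃o Set.Icc p q :=
    { toFun := fun x => ⟨x.1.1, x.1.2, x.2⟩
      invFun := fun x => ⟨⟨x.1, x.2.1⟩, x.2.2⟩
      left_inv := fun _ => rfl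
      right_inv := fun _ => rfl
      map_rel_iff' := Iff.rfl }
  rw [Order.krullDim_eq_of_orderIso e, Groth.L04.AnnihDual.krullDim_Icc hω p q hpq] at h
  exact_mod_cast h

end Height

section Main

open Groth.L29 Groth.L29.HomD Groth.L04.AnnihDual

variable [IsNoetherianRing A] {ω : Dual.D A}

/-- The theorem for bounded complexes. -/
theorem annihilator_iff_bounded (hω : Dual.IsDualizing A ω) (T T' : Set (PrimeSpectrum A))
    (hT : StableUnderSpecialization T) (hT' : StableUnderSpecialization T') (s a : ℤ) (K : Dual.D A)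
    [K.IsGE a] [K.IsLE s] (hfin : ∀ n, Module.Finite A (Dual.HD A K n))
    [∀ p : PrimeSpectrum A, Module.Flat A (Localization.AtPrime p.asIdeal)] :
    (∃ J : Ideal A, PrimeSpectrum.zeroLocus (J : Set A) ⊆ T' ∧
        ∀ i : ℤ, i ≤ s → ∀ r ∈ J, ∀ x : (Groth.L04.DerHT.Fc T).obj (K⟦i⟧), r • x = 0) ↔
      ∀ (p q : PrimeSpectrum A), p ≤ q → p ∉ T' → q ∈ T → ∀ i : ℤ, i + (dimFun hω p - dimFun hω q) ≤ s →
        Subsingleton ↥(Dual2.HDI (Localization.AtPrime p.asIdeal) (maximalIdeal (Localization.AtPrime p.asIdeal))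
          ((FlatBC.L A (Localization.AtPrime p.asIdeal)).obj K) i) := by
  constructor
  · rintro ⟨J, hJ, hk⟩ p q hpq hp hq i hi
    obtain ⟨c, hcJ, hcp⟩ := SetLike.not_le_iff_exists.1 (fun hle : J ≤ p.asIdeal => hp (hJ hle))
    let i₁ : ℤ := i + (dimFun hω p - dimFun hω q)
    let e : ℕ := (s - a + 1).toNat
    have h1 := pow_kills_hom T K a s c (kills_of_Fc T K s c fun j hj => hk j hj c hcJ) e i₁ hi (by lia)
    have h2 := (kills_HDI_iff q hω K a s hfin i₁ (c ^ e)).1 (kills_HDI_of_hom q K a i₁ (c ^ e) fun n x =>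
      h1 _ (by
        rw [Module.support_eq_zeroLocus, Ideal.annihilator_quotient]
        intro P hP
        rcases Nat.eq_zero_or_pos n with rfl | hn
        · exact absurd (top_unique (by simpa [PrimeSpectrum.mem_zeroLocus] using hP)) P.isPrime.ne_top
        · exact hT ((PrimeSpectrum.le_iff_specializes q P).1
            fun d hd => P.isPrime.mem_of_pow_mem n (hP (Ideal.pow_mem_pow hd n))) hq) x)
    have h3 := (kills_HDI_iff p hω K a s hfin i 1).2
    refine subsingleton_of_forall_eq 0 fun z => ?_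
    have h4 := h3 (fun x => ?_) z
    · rwa [map_one, one_smul] at h4
    have hl : -dimFun hω p - i = -dimFun hω q - i₁ := by lia
    revert x
    rw [hl]
    intro x
    obtain ⟨t, ht, htx⟩ := h2 x
    refine ⟨t * c ^ e, fun hmem => ?_, by rw [one_smul, mul_smul]; exact htx⟩
    rcases p.isPrime.mem_or_mem hmem with h | h
    · exact ht (hpq h)
    · exact hcp (p.isPrime.mem_of_pow_mem e h)
  · intro H
    obtain ⟨b, c, hbc⟩ := dimFun_bounded hω
    have hJ : ∀ l : ℤ, ∃ J : Ideal A, PrimeSpectrum.zeroLocus (J : Set A) ⊆ T' ∧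
        ∀ q : PrimeSpectrum A, (∀ p ∈ Module.support A (K ⟶ ω⟦l⟧), p ≤ q → p ∈ T') →
          ∀ r ∈ J, ∀ x : (K ⟶ ω⟦l⟧), ∃ t ∉ q.asIdeal, t • r • x = 0 := fun l => by
      haveI := Groth.L29.Unique.finite_hom_bounded (HomD.good_of_isDualizing hω) K a s hfin l
      exact exists_ideal_kills T' hT' _
    choose Jl hJl hkl using hJ
    let J := ∏ l ∈ Finset.Icc (-c - s) (-b - a), Jl l
    have hloc : ∀ r ∈ J, ∀ q ∈ T, ∀ (N : Type u) [AddCommGroup N] [Module A N] [Module.Finite A N],
        (∀ p ∈ Module.support A N, p ≤ q → p = q) → ∀ i : ℤ, i ≤ s → ∀ x : Dual.inD A N ⟶ K⟦i⟧,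
          ∃ t ∉ q.asIdeal, t • r ^ (s - a + 1).toNat • x = 0 := by
      intro r hr q hq N _ _ _ hN
      refine locally_kills_hom q K a s r _ (by lia) (fun i hi => ?_) N hN
      rcases lt_or_ge i a with hlt | hge
      · haveI := FlatBC.isGE_L (B := Localization.AtPrime q.asIdeal) K a
        refine (dia_kills_iff (A := Localization.AtPrime q.asIdeal) _ _).2 fun k x => ⟨k, le_rfl, ?_⟩
        haveI : DerivedCategory.IsLE (Groth.L29.LocDual.P (Localization.AtPrime q.asIdeal) k) 0 :=
          inferInstanceAs (DerivedCategory.IsLE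
            ((DerivedCategory.singleFunctor (ModuleCat.{u} (Localization.AtPrime q.asIdeal)) 0).obj _) 0)
        haveI := subsingleton_hom_of_isGE (Groth.L29.LocDual.P (Localization.AtPrime q.asIdeal) k)
          ((FlatBC.L A (Localization.AtPrime q.asIdeal)).obj K) a i hlt
        rw [Subsingleton.elim x 0, comp_zero, smul_zero]
      rw [kills_HDI_iff q hω K a s hfin i r]
      have hl : -dimFun hω q - i ∈ Finset.Icc (-c - s) (-b - a) := by
        rw [Finset.mem_Icc]
        have := hbc q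
        lia
      refine hkl _ q (fun p hp hpq => ?_) r (Finset.inf_le (f := Jl) hl (Ideal.prod_le_inf hr))
      by_contra hpT
      let i' : ℤ := i - (dimFun hω p - dimFun hω q)
      haveI := H p q hpq hpT hq i' (by lia)
      have h5 := (kills_HDI_iff p hω K a s hfin i' 1).1 (fun z => Subsingleton.elim _ _)
      rw [show -dimFun hω p - i' = -dimFun hω q - i by lia] at h5
      refine absurd hp (Module.notMem_support_iff'.2 fun y => ?_)
      obtain ⟨t, ht, hty⟩ := h5 y
      exact ⟨t, ht, by rwa [one_smul] at hty⟩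
    obtain ⟨E, hE⟩ := exists_pow_kills_of_local T (dimFun_strictAnti hω) b (fun q => (hbc q).1) K s
      (s - a + 1).toNat (c - b + 1).toNat
    refine ⟨⨅ (i : ℤ) (_ : i ≤ s), Module.annihilator A ((Groth.L04.DerHT.Fc T).obj (K⟦i⟧)), fun P hP => ?_,
      fun i hi r hr x => ?_⟩
    · have hle : J ≤ P.asIdeal := fun r hr => P.isPrime.mem_of_pow_mem E (hP (by
        simp only [SetLike.mem_coe, Ideal.mem_iInf, Module.mem_annihilator]
        intro i hi z
        obtain ⟨I, f, rfl⟩ := Groth.L04.DerHT.ιc_surjective T _ z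
        have h0 : r ^ E • f = 0 := hE r (hloc r hr) (A ⧸ I.obj) (fun P hP => ⟨?_, ?_⟩) i hi f
        · rw [← map_smul, h0, map_zero]
        · rw [Module.support_eq_zeroLocus, Ideal.annihilator_quotient] at hP
          exact I.property hP
        · have := hbc P
          lia))
      obtain ⟨l, -, hl⟩ := (Ideal.IsPrime.prod_le P.isPrime).1 hle
      exact hJl l hl
    · simp only [Ideal.mem_iInf, Module.mem_annihilator] at hr
      exact hr i hi x

/-- The theorem for bounded below complexes. -/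
theorem annihilator_iff (hω : Dual.IsDualizing A ω) (T T' : Set (PrimeSpectrum A))
    (hT : StableUnderSpecialization T) (hT' : StableUnderSpecialization T') (s : ℤ) (K : Dual.D A) (a : ℤ)
    (h0 : ∀ i : ℤ, i < a → Subsingleton (Dual.HD A K i)) (hK : ∀ i : ℤ, Module.Finite A (Dual.HD A K i))
    [∀ p : PrimeSpectrum A, DRing.HasLBaseChange (algebraMap A (Localization.AtPrime p.asIdeal))] :
    (∃ J : Ideal A, PrimeSpectrum.zeroLocus (J : Set A) ⊆ T' ∧
        ∀ i : ℤ, i ≤ s → ∀ r ∈ J, ∀ x : Dual2.HDT A T K i, r • x = 0) ↔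
      ∀ (p q : PrimeSpectrum A) (hpq : p ≤ q), p ∉ T' → q ∈ T →
        ∀ h : ℕ, Order.height (⟨q, hpq⟩ : Set.Ici p) = h → ∀ i : ℤ, i ≤ s - h →
          Subsingleton (Dual2.HDI (Localization.AtPrime p.asIdeal) (maximalIdeal (Localization.AtPrime p.asIdeal))
            ((DRing.LBaseChange (algebraMap A (Localization.AtPrime p.asIdeal))).obj K) i) := by
  haveI : K.IsGE a := (DerivedCategory.isGE_iff _ a).2 fun m hm =>
    haveI := h0 m hm
    ModuleCat.isZero_of_subsingleton _
  haveI : ∀ p : PrimeSpectrum A, Module.Flat A (Localization.AtPrime p.asIdeal) := fun p =>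
    IsLocalization.flat _ p.asIdeal.primeCompl
  let S := Groth.L04.DerHT.tri K s
  have hS := Groth.L04.DerHT.tri_mem K s
  haveI : DerivedCategory.IsGE S.obj₃ (s + 1) :=
    inferInstanceAs ((DerivedCategory.TStructure.t).IsGE (((DerivedCategory.TStructure.t).truncGE (s + 1)).obj K) (s + 1))
  haveI hLE : DerivedCategory.IsLE S.obj₁ s :=
    inferInstanceAs ((DerivedCategory.TStructure.t).IsLE (((DerivedCategory.TStructure.t).truncLT (s + 1)).obj K) s)
  haveI : DerivedCategory.IsGE S.obj₁ a := (DerivedCategory.isGE_iff _ a).2 fun m hm => by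
    rcases le_or_gt m s with hms | hms
    · haveI := Groth.L10.isIso_H_ι (A := ModuleCat.{u} A) (s + 1) m (by lia) K
      exact (DerivedCategory.isZero_of_isGE K a m hm).of_iso
        (asIso ((DerivedCategory.homologyFunctor _ m).map (((DerivedCategory.TStructure.t).truncLTι (s + 1)).app K)))
    · exact DerivedCategory.isZero_of_isLE _ s m hms
  have hfin : ∀ n, Module.Finite A (Dual.HD A S.obj₁ n) := fun n => by
    rcases le_or_gt n s with hns | hns
    · haveI := Groth.L10.isIso_H_ι (A := ModuleCat.{u} A) (s + 1) n (by lia) K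
      haveI : Module.Finite A ((DerivedCategory.homologyFunctor (ModuleCat.{u} A) n).obj ((𝟭 (Dual.D A)).obj K)) := hK n
      exact Module.Finite.equiv (asIso ((DerivedCategory.homologyFunctor (ModuleCat.{u} A) n).map
        (((DerivedCategory.TStructure.t).truncLTι (s + 1)).app K))).toLinearEquiv.symm
    · haveI : Subsingleton (Dual.HD A S.obj₁ n) :=
        ModuleCat.subsingleton_of_isZero (DerivedCategory.isZero_of_isLE _ s n hns)
      infer_instance
  -- supports in `T`
  have eT : ∀ i : ℤ, i ≤ s → Nonempty ((Groth.L04.DerHT.Fc T).obj (S.obj₁⟦i⟧) ≃ₗ[A] Dual2.HDT A T K i) :=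
    fun i hi => ⟨colimEquiv (Groth.L04.DerHT.G T) (S.mor₁⟦i⟧') fun J => by
      haveI : DerivedCategory.IsLE ((Groth.L04.DerHT.G T).obj J) 0 :=
        inferInstanceAs (DerivedCategory.IsLE ((DerivedCategory.singleFunctor (ModuleCat.{u} A) 0).obj _) 0)
      exact bijective_comp S hS s i hi _⟩
  -- the stalks
  have eI : ∀ (p : PrimeSpectrum A) (i : ℤ), i ≤ s →
      (Subsingleton ↥(Dual2.HDI (Localization.AtPrime p.asIdeal) (maximalIdeal (Localization.AtPrime p.asIdeal))
          ((FlatBC.L A (Localization.AtPrime p.asIdeal)).obj S.obj₁) i) ↔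
        Subsingleton (Dual2.HDI (Localization.AtPrime p.asIdeal) (maximalIdeal (Localization.AtPrime p.asIdeal))
            ((DRing.LBaseChange (algebraMap A (Localization.AtPrime p.asIdeal))).obj K) i)) := by
    intro p i hi
    let B := Localization.AtPrime p.asIdeal
    let F := localCohomology.ringModIdeals (localCohomology.idealPowersDiagram (maximalIdeal B)) ⋙
      DerivedCategory.singleFunctor (ModuleCat.{u} B) 0
    let SB := (FlatBC.L A B).mapTriangle.obj S
    haveI : DerivedCategory.IsGE SB.obj₃ (s + 1) := FlatBC.isGE_L (B := B) S.obj₃ (s + 1)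
    let e1 := colimEquiv F (SB.mor₁⟦i⟧') fun J => by
      haveI : DerivedCategory.IsLE (F.obj J) 0 :=
        inferInstanceAs (DerivedCategory.IsLE ((DerivedCategory.singleFunctor (ModuleCat.{u} B) 0).obj _) 0)
      exact bijective_comp SB ((FlatBC.L A B).map_distinguished S hS) s i hi _
    let e2 := colimEquiv F ((shiftFunctor (Dual.D B) i).mapIso ((FlatBC.lbcIso A B).app K).symm).hom
      fun J => bijective_comp_iso _ _
    exact (e1.trans e2).toEquiv.subsingleton_congr
  have hd := (dimFun_strictAnti hω).antitone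
  refine Iff.trans ?_ ((annihilator_iff_bounded hω T T' hT hT' s a S.obj₁ hfin).trans ?_)
  · refine exists_congr fun J => and_congr_right fun _ => forall_congr' fun i => forall_congr' fun hi =>
      forall_congr' fun r => forall_congr' fun _ => ?_
    obtain ⟨e⟩ := eT i hi
    refine ⟨fun h x => e.injective (by rw [map_smul, h, map_zero]), fun h x => ?_⟩
    obtain ⟨y, rfl⟩ := e.surjective x
    rw [← map_smul, h, map_zero]
  · constructor
    · intro H p q hpq hp hq h hh i hi
      rw [height_Ici hω p q hpq] at hh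
      have hh' : (dimFun hω p - dimFun hω q).toNat = h := by exact_mod_cast hh
      have := hd hpq
      exact (eI p i (by lia)).1 (H p q hpq hp hq i (by lia))
    · intro H p q hpq hp hq i hi
      have := hd hpq
      exact (eI p i (by lia)).2 (H p q hpq hp hq (dimFun hω p - dimFun hω q).toNat (height_Ici hω p q hpq) i (by lia))

end Main

end Groth.L04.DerAnnih
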