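import Groth.Agent.L04.LC.SupportsT
import Groth.Agent.L10.DerTrunc
import Groth.Prelude.Def_DualLC
import Mathlib.Algebra.Category.ModuleCat.FilteredColimits
import Mathlib.Algebra.Category.Grp.FilteredColimits
import Mathlib.Algebra.Category.Grp.Colimits
import Mathlib.Algebra.Category.ModuleCat.Colimits
import Mathlib.Algebra.Homology.DerivedCategory.Ext.Linear
import Mathlib.Algebra.Homology.ShortComplex.Linear

/-!
# Local cohomology of complexes with supports in a subset: finiteness
-/

set_option autoImplicit false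
set_option linter.style.haveILetI false
set_option backward.isDefEq.respectTransparency false
universe u

open CategoryTheory CategoryTheory.Limits Opposite Pretriangulated Abelian

attribute [local instance] HasDerivedCategory.standard

noncomputable section

namespace Groth.L04.DerHT

open Groth.L04.HTsupp

variable {A : Type u} [CommRing A] (T : Set (PrimeSpectrum A))


theorem homology_smul_id (r : A) (W : (DerivedCategory (ModuleCat.{u} A))) (n : ℤ) :
    (DerivedCategory.homologyFunctor (ModuleCat.{u} A) n).map (r • 𝟙 W) = r • 𝟙 _ := by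
  let K := DerivedCategory.Q.objPreimage W
  let e : DerivedCategory.Q.obj K ≅ W := DerivedCategory.Q.objObjPreimageIso W
  have h : r • 𝟙 W = e.inv ≫ DerivedCategory.Q.map (r • 𝟙 K) ≫ e.hom := by
    rw [Functor.map_smul, CategoryTheory.Functor.map_id, Linear.smul_comp, Category.id_comp, Linear.comp_smul, e.inv_hom_id]
  have h1 : HomologicalComplex.homologyMap (r • 𝟙 K) n = r • 𝟙 (K.homology n) := by
    refine Eq.trans ?_ ((ShortComplex.homologyMap_smul (𝟙 (K.sc n)) r).trans
      (congrArg (r • ·) (ShortComplex.homologyMap_id _)))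
    exact congrArg (fun φ => ShortComplex.homologyMap φ) (ShortComplex.hom_ext
      ((HomologicalComplex.shortComplexFunctor _ _ n).map (r • 𝟙 K)) (r • 𝟙 (K.sc n)) rfl rfl rfl)
  have h2 : (DerivedCategory.homologyFunctor (ModuleCat.{u} A) n).map (DerivedCategory.Q.map (r • 𝟙 K))
      = r • 𝟙 _ := by
    rw [← cancel_mono ((DerivedCategory.homologyFunctorFactors (ModuleCat.{u} A) n).hom.app K),
      DerivedCategory.homologyFunctorFactors_hom_naturality, h1, Linear.smul_comp, Category.id_comp]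
    exact (Linear.comp_smul _ _ _ _ _ _).trans (congrArg (r • ·) (Category.comp_id _))
  rw [h, Functor.map_comp, Functor.map_comp, h2, Linear.smul_comp, Category.id_comp, Linear.comp_smul,
    ← Functor.map_comp, e.inv_hom_id, CategoryTheory.Functor.map_id]

/-- The diagram in the derived category. -/
abbrev G : Dual2.IdealsIn T ⥤ Dual.D A :=
  localCohomology.ringModIdeals (Dual2.idealsInDiagram T) ⋙ (DerivedCategory.singleFunctor (ModuleCat.{u} A) 0)

/-- `X ↦ colim Hom(A/J, X)`. -/
abbrev Fc : Dual.D A ⥤ ModuleCat.{u + 1} A :=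
  linearYoneda A (Dual.D A) ⋙ (Functor.whiskeringLeft _ _ _).obj (G T).op ⋙ colim

theorem pres : PreservesColimitsOfShape (Dual2.IdealsIn T)ᵒᵖ (forget (ModuleCat.{u + 1} A)) := by
  haveI : PreservesFilteredColimitsOfSize.{u, u} (forget AddCommGrpCat.{u + 1}) :=
    preservesFilteredColimitsOfSize_shrink.{u, u + 1, u, u + 1} _
  haveI : PreservesColimitsOfShape (Dual2.IdealsIn T)ᵒᵖ (forget AddCommGrpCat.{u + 1}) :=
    PreservesFilteredColimitsOfSize.preserves_filtered_colimits _
  exact comp_preservesColimitsOfShape (forget₂ (ModuleCat.{u + 1} A) AddCommGrpCat.{u + 1}) (forget AddCommGrpCat.{u + 1})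

/-- The coprojections. -/
def ιc (J : Dual2.IdealsIn T) (X : Dual.D A) : ((G T).obj J ⟶ X) →ₗ[A] (Fc T).obj X :=
  (colimit.ι ((G T).op ⋙ (linearYoneda A (Dual.D A)).obj X) (op J)).hom

theorem map_ιc (J : Dual2.IdealsIn T) {X Y : Dual.D A} (g : X ⟶ Y) (f : (G T).obj J ⟶ X) :
    ((Fc T).map g).hom (ιc T J X f) = ιc T J Y (f ≫ g) := by
  exact LinearMap.congr_fun (congrArg ModuleCat.Hom.hom
    (ι_colimMap (Functor.whiskerLeft (G T).op ((linearYoneda A (Dual.D A)).map g)) (op J))) f

theorem ιc_map {J K : Dual2.IdealsIn T} (w : J ⟶ K) (X : Dual.D A) (f : (G T).obj K ⟶ X) :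
    ιc T J X ((G T).map w ≫ f) = ιc T K X f :=
  LinearMap.congr_fun (congrArg ModuleCat.Hom.hom
    (colimit.w ((G T).op ⋙ (linearYoneda A (Dual.D A)).obj X) w.op)) f

theorem ιc_surjective (X : Dual.D A) (z : (Fc T).obj X) : ∃ J f, ιc T J X f = z := by
  haveI := pres (A := A) T
  obtain ⟨j, f, hf⟩ := Concrete.colimit_exists_rep ((G T).op ⋙ (linearYoneda A (Dual.D A)).obj X) z
  exact ⟨j.unop, f, hf⟩

theorem ιc_eq_zero {J : Dual2.IdealsIn T} {X : Dual.D A} {f : (G T).obj J ⟶ X} (h : ιc T J X f = 0) :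
    ∃ (K : Dual2.IdealsIn T) (w : K ⟶ J), (G T).map w ≫ f = 0 := by
  haveI := pres (A := A) T
  obtain ⟨l, g₁, g₂, hl⟩ := Concrete.colimit_exists_of_rep_eq ((G T).op ⋙ (linearYoneda A (Dual.D A)).obj X)
    (i := op J) (j := op J) f 0 (h.trans (map_zero _).symm)
  exact ⟨l.unop, g₁.unop, hl.trans (map_zero _)⟩

/-- Exactness at the middle of a distinguished triangle, after any shift. -/
theorem exact_shift (S : Triangle (Dual.D A)) (hS : S ∈ distTriang (Dual.D A)) (i : ℤ) :
    Function.Exact ((Fc T).map (S.mor₁⟦i⟧')).hom ((Fc T).map (S.mor₂⟦i⟧')).hom := by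
  intro z
  constructor
  · intro hz
    obtain ⟨J, f, rfl⟩ := ιc_surjective T _ z
    rw [map_ιc] at hz
    obtain ⟨K, w, hw⟩ := ιc_eq_zero T hz
    obtain ⟨g, hg⟩ := Triangle.coyoneda_exact₂ _ (Triangle.shift_distinguished S hS i) ((G T).map w ≫ f) (by
      change ((G T).map w ≫ f) ≫ (i.negOnePow • S.mor₂⟦i⟧') = 0
      rw [Linear.comp_units_smul, Category.assoc, hw, smul_zero])
    change (G T).map w ≫ f = g ≫ (i.negOnePow • S.mor₁⟦i⟧') at hg
    refine ⟨ιc T K _ (i.negOnePow • g), ?_⟩
    rw [map_ιc, ← ιc_map T w _ f, hg, Linear.comp_units_smul, Linear.units_smul_comp]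
  · rintro ⟨y, rfl⟩
    obtain ⟨J, f, rfl⟩ := ιc_surjective T _ y
    rw [map_ιc, map_ιc, Category.assoc, ← Functor.map_comp, comp_distTriang_mor_zero₁₂ S hS, Functor.map_zero,
      comp_zero, map_zero]

theorem map_smul_id (X : Dual.D A) (r : A) (z : (Fc T).obj X) : ((Fc T).map (r • 𝟙 X)).hom z = r • z := by
  obtain ⟨J, f, rfl⟩ := ιc_surjective T _ z
  rw [map_ιc, Linear.comp_smul, Category.comp_id, map_smul]

theorem map_shift_smul (K : Dual.D A) (i : ℤ) (r : A) (z : (Fc T).obj (K⟦i⟧)) :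
    ((Fc T).map ((r • 𝟙 K)⟦i⟧')).hom z = r • z := by
  rw [Functor.map_smul, CategoryTheory.Functor.map_id, map_smul_id]

/-- Functoriality along isomorphisms. -/
def mapEquiv {X Y : Dual.D A} (e : X ≅ Y) : (Fc T).obj X ≃ₗ[A] (Fc T).obj Y :=
  ((Fc T).mapIso e).toLinearEquiv

theorem subsingleton_of_isGE (K : Dual.D A) (a i : ℤ) [K.IsGE a] (hi : i < a) :
    Subsingleton ((Fc T).obj (K⟦i⟧)) := by
  refine subsingleton_of_forall_eq 0 fun z => ?_
  obtain ⟨J, f, rfl⟩ := ιc_surjective T _ z
  haveI : (DerivedCategory.TStructure.t).IsGE (K⟦i⟧) (a - i) :=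
    (DerivedCategory.TStructure.t).isGE_shift K a i (a - i) (by lia)
  haveI : (DerivedCategory.TStructure.t).IsLE ((G T).obj J) 0 :=
    inferInstanceAs (DerivedCategory.IsLE ((DerivedCategory.singleFunctor (ModuleCat.{u} A) 0).obj _) 0)
  rw [(DerivedCategory.TStructure.t).zero_of_isLE_of_isGE f 0 (a - i) (by lia) inferInstance inferInstance,
    map_zero]

/-- Finite extensions. -/
theorem finite_of_exact [IsNoetherianRing A] {M₁ M₂ M₃ : Type*} [AddCommGroup M₁] [Module A M₁] [AddCommGroup M₂] [Module A M₂]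
    [AddCommGroup M₃] [Module A M₃] (f : M₁ →ₗ[A] M₂) (g : M₂ →ₗ[A] M₃) (h : Function.Exact f g) [Module.Finite A M₁] [Module.Finite A M₃] : Module.Finite A M₂ := by
  haveI : IsNoetherian A M₁ := isNoetherian_of_isNoetherianRing_of_finite A M₁
  haveI : IsNoetherian A M₃ := isNoetherian_of_isNoetherianRing_of_finite A M₃
  haveI : IsNoetherian A (LinearMap.range f) := isNoetherian_of_surjective f.rangeRestrict
    (LinearMap.range_eq_top.2 f.surjective_rangeRestrict)
  haveI : IsNoetherian A M₂ := isNoetherian_of_range_eq_ker (LinearMap.range f).subtype g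
    (by rw [Submodule.range_subtype]; exact (LinearMap.exact_iff.1 h).symm)
  infer_instance

section Single

theorem hom_mk₀_comp {X X' M : ModuleCat.{u} A} (p : X' ⟶ X) (j : ℕ) (a : Ext X M j) :
    Ext.homLinearEquiv (R := A) ((Ext.mk₀ p).comp a (zero_add j)) =
      (DerivedCategory.singleFunctor (ModuleCat.{u} A) 0).map p ≫ Ext.homLinearEquiv (R := A) a := by
  simp [Ext.homLinearEquiv_apply, ShiftedHom.mk₀_comp, Ext.comp_hom, Ext.mk₀_hom]

/-- The comparison with the module version. -/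
theorem exists_injective_HT (M : ModuleCat.{u} A) (j : ℕ) :
    ∃ θ : (Fc T).obj (((DerivedCategory.singleFunctor (ModuleCat.{u} A) 0).obj M)⟦(j : ℤ)⟧) →ₗ[A] ULift.{u + 1} (Dual2.HT T j M),
      Function.Injective θ := by
  let F := (G T).op ⋙ (linearYoneda A (Dual.D A)).obj (((DerivedCategory.singleFunctor (ModuleCat.{u} A) 0).obj M)⟦(j : ℤ)⟧)
  let ψ : ∀ J : Dual2.IdealsIn T,
      ((G T).obj J ⟶ ((DerivedCategory.singleFunctor (ModuleCat.{u} A) 0).obj M)⟦(j : ℤ)⟧) →ₗ[A] ULift.{u + 1} (Dual2.HT T j M) :=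
    fun J => ULift.moduleEquiv.symm.toLinearMap.comp ((τ T j J M).comp (Ext.homLinearEquiv (R := A)).symm.toLinearMap)
  let c : Cocone F := Cocone.mk (ModuleCat.of A (ULift.{u + 1} (Dual2.HT T j M)))
    { app := fun J => ModuleCat.ofHom (ψ J.unop)
      naturality := fun J K w => by
        refine ModuleCat.hom_ext (LinearMap.ext fun f => ?_)
        obtain ⟨a, rfl⟩ := (Ext.homLinearEquiv (R := A)).surjective f
        change ψ K.unop ((DerivedCategory.singleFunctor (ModuleCat.{u} A) 0).map ((XT T).map w.unop) ≫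
          Ext.homLinearEquiv (R := A) a) = ψ J.unop (Ext.homLinearEquiv (R := A) a)
        rw [← hom_mk₀_comp]
        exact congrArg ULift.up (((congrArg (τ T j K.unop M) (LinearEquiv.symm_apply_apply _ _)).trans
          (Groth.L04.LC.ι_map A (XT T) j w.unop M a)).trans
          (congrArg (τ T j J.unop M) (LinearEquiv.symm_apply_apply (Ext.homLinearEquiv (R := A)) a)).symm) }
  refine ⟨(colimit.desc F c).hom, (injective_iff_map_eq_zero _).2 fun z hz => ?_⟩
  obtain ⟨J, f, rfl⟩ := ιc_surjective T _ z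
  obtain ⟨a, rfl⟩ := (Ext.homLinearEquiv (R := A)).surjective f
  have h1 : ψ J (Ext.homLinearEquiv (R := A) a) = 0 :=
    (LinearMap.congr_fun (congrArg ModuleCat.Hom.hom (colimit.ι_desc c (op J))) _).symm.trans hz
  have h2 : τ T j J M a = 0 :=
    ((congrArg (τ T j J M) (LinearEquiv.symm_apply_apply (Ext.homLinearEquiv (R := A)) a)).symm.trans
      (congrArg ULift.down h1))
  obtain ⟨K, w, hw⟩ := Groth.L04.LC.ι_eq_zero A (XT T) j h2
  rw [← ιc_map T w, show (G T).map w = (DerivedCategory.singleFunctor (ModuleCat.{u} A) 0).map ((XT T).map w) from rfl,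
    ← hom_mk₀_comp, hw, map_zero, map_zero]

theorem subsingleton_single_of_lt (M : ModuleCat.{u} A) (a i : ℤ) (hi : i < a) :
    Subsingleton ((Fc T).obj (((DerivedCategory.singleFunctor (ModuleCat.{u} A) a).obj M)⟦i⟧)) :=
  subsingleton_of_isGE T _ a i hi

variable [IsNoetherianRing A]

theorem finite_single (J : Dual2.IdealsIn T) (M : ModuleCat.{u} A) [Module.Finite A M] (k : ℕ)
    (hM : ∀ r ∈ J.obj ^ k, ∀ x : M, r • x = 0) (a i : ℤ) :
    Module.Finite A ((Fc T).obj (((DerivedCategory.singleFunctor (ModuleCat.{u} A) a).obj M)⟦i⟧)) := by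
  rcases lt_or_ge i a with h | h
  · haveI := subsingleton_single_of_lt T M a i h
    infer_instance
  obtain ⟨j, hj⟩ : ∃ j : ℕ, (j : ℤ) = i - a := ⟨(i - a).toNat, by lia⟩
  obtain ⟨θ, hθ⟩ := exists_injective_HT T M j
  haveI : Module.Finite A (Dual2.HT T j M) := by
    rcases Nat.eq_zero_or_pos j with rfl | hpos
    · exact finite_zero T M
    · haveI := subsingleton_HT_of_killed T j hpos J M fun x => ⟨k, fun r hr => hM r hr x⟩
      infer_instance
  haveI : Module.Finite A (ULift.{u + 1} (Dual2.HT T j M)) := Module.Finite.equiv ULift.moduleEquiv.symm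
  haveI : Module.Finite A ((Fc T).obj (((DerivedCategory.singleFunctor (ModuleCat.{u} A) 0).obj M)⟦(j : ℤ)⟧)) :=
    Module.Finite.of_injective θ hθ
  let e := mapEquiv T
    ((((DerivedCategory.singleFunctors (ModuleCat.{u} A)).shiftIso i (-(j : ℤ)) a (by lia)).app M) ≪≫
      (((DerivedCategory.singleFunctors (ModuleCat.{u} A)).shiftIso (j : ℤ) (-(j : ℤ)) 0 (by lia)).app M).symm)
  exact @Module.Finite.equiv A _ _ _ _ _ _ _ ‹_› e.symm

end Single

section Tri

variable (K : Dual.D A) (a : ℤ)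

/-- The truncation triangle. -/
abbrev tri : Triangle (Dual.D A) := ((DerivedCategory.TStructure.t).triangleLTGE (a + 1)).obj K

theorem tri_mem : tri K a ∈ distTriang (Dual.D A) :=
  (DerivedCategory.TStructure.t).triangleLTGE_distinguished (a + 1) K

theorem exists_iso_bottom [K.IsGE a] :
    Nonempty ((tri K a).obj₁ ≅ (DerivedCategory.singleFunctor (ModuleCat.{u} A) a).obj
      ((DerivedCategory.homologyFunctor (ModuleCat.{u} A) a).obj K)) := by
  let R := ((DerivedCategory.TStructure.t).truncLT (a + 1)).obj K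
  haveI : DerivedCategory.IsLE R a :=
    inferInstanceAs ((DerivedCategory.TStructure.t).IsLE (((DerivedCategory.TStructure.t).truncLT (a + 1)).obj K) a)
  haveI : DerivedCategory.IsGE R a := by
    rw [DerivedCategory.isGE_iff]
    intro i hi
    have := Groth.L10.isIso_H_ι (A := ModuleCat.{u} A) (a + 1) i (by lia) K
    exact (DerivedCategory.isZero_of_isGE K a i hi).of_iso
      (asIso ((DerivedCategory.homologyFunctor _ i).map (((DerivedCategory.TStructure.t).truncLTι (a + 1)).app K)))
  haveI := Groth.L10.isIso_H_ι (A := ModuleCat.{u} A) (a + 1) a (by lia) K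
  obtain ⟨eR⟩ := Groth.L10.exists_iso_single_H (A := ModuleCat.{u} A) R a
  exact ⟨eR ≪≫ (DerivedCategory.singleFunctor _ a).mapIso
    (asIso ((DerivedCategory.homologyFunctor _ a).map (((DerivedCategory.TStructure.t).truncLTι (a + 1)).app K)))⟩

end Tri

section Devissage

variable [IsNoetherianRing A]

/-- Bounded below complexes whose cohomology is killed by a power of `J`. -/
theorem finite_of_cohomology_killed (J : Dual2.IdealsIn T) : ∀ (d : ℕ) (a : ℤ) (K : Dual.D A) (i : ℤ), i - a < d →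
    (∀ m < a, Subsingleton (Dual.HD A K m)) → (∀ m, Module.Finite A (Dual.HD A K m)) →
    (∀ m ≤ i, ∃ k : ℕ, ∀ r ∈ J.obj ^ k, ∀ x : Dual.HD A K m, r • x = 0) →
      Module.Finite A ((Fc T).obj (K⟦i⟧)) := by
  intro d
  induction d with
  | zero =>
    intro a K i hi h0 _ _
    haveI : K.IsGE a := (DerivedCategory.isGE_iff _ a).2 fun m hm =>
      haveI := h0 m hm
      ModuleCat.isZero_of_subsingleton _
    haveI := subsingleton_of_isGE T K a i (by lia)
    infer_instance
  | succ d ih =>
    intro a K i hi h0 hfin hk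
    haveI : K.IsGE a := (DerivedCategory.isGE_iff _ a).2 fun m hm =>
      haveI := h0 m hm
      ModuleCat.isZero_of_subsingleton _
    rcases lt_or_ge i a with h | h
    · haveI := subsingleton_of_isGE T K a i h
      infer_instance
    obtain ⟨e⟩ := exists_iso_bottom K a
    let S := tri K a
    haveI := hfin a
    obtain ⟨k, hk'⟩ := hk a h
    haveI h1 := finite_single T J ((DerivedCategory.homologyFunctor (ModuleCat.{u} A) a).obj K) k hk' a i
    haveI : Module.Finite A ((Fc T).obj (S.obj₁⟦i⟧)) :=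
      Module.Finite.equiv (mapEquiv T ((shiftFunctor (Dual.D A) i).mapIso e.symm))
    have hH : ∀ m, a + 1 ≤ m → Nonempty (Dual.HD A K m ≃ₗ[A] Dual.HD A S.obj₃ m) := fun m hm => by
      haveI := Groth.L10.isIso_H_π (A := ModuleCat.{u} A) (a + 1) m hm K
      exact ⟨(asIso ((DerivedCategory.homologyFunctor (ModuleCat.{u} A) m).map
        ((DerivedCategory.TStructure.t.truncGEπ (a + 1)).app K))).toLinearEquiv⟩
    have h0' : ∀ m < a + 1, Subsingleton (Dual.HD A S.obj₃ m) := fun m hm =>
      ModuleCat.subsingleton_of_isZero (Groth.L10.isZero_H_GE (a + 1) m hm K)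
    haveI : Module.Finite A ((Fc T).obj (S.obj₃⟦i⟧)) := by
      refine ih (a + 1) S.obj₃ i (by lia) h0' (fun m => ?_) fun m hm => ?_
      · rcases lt_or_ge m (a + 1) with hm | hm
        · haveI := h0' m hm
          infer_instance
        · haveI := hfin m
          obtain ⟨ε⟩ := hH m hm
          exact Module.Finite.equiv ε
      · rcases lt_or_ge m (a + 1) with hm' | hm'
        · haveI := h0' m hm'
          exact ⟨0, fun r _ x => Subsingleton.elim _ _⟩
        · obtain ⟨ε⟩ := hH m hm'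
          obtain ⟨k, hk⟩ := hk m hm
          exact ⟨k, fun r hr x => ε.symm.injective (by rw [map_smul, hk r hr, map_zero])⟩
    exact finite_of_exact _ _ (exact_shift T S (Groth.L04.DerHT.tri_mem K a) i)

/-- Induction on generators of the annihilating ideal: `l` lists the generators not yet known to kill the cohomology. -/
theorem finite_of_killed_aux (n : ℤ) (J : Dual2.IdealsIn T) : ∀ (l : List A), (∀ f ∈ l, f ∈ J.obj) →
    ∀ (S : Set A), J.obj ≤ (Ideal.span (S ∪ {f | f ∈ l})).radical →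
    ∀ (k : ℕ) (a : ℤ) (K : Dual.D A), (∀ m < a, Subsingleton (Dual.HD A K m)) → (∀ m, Module.Finite A (Dual.HD A K m)) →
    (∀ i ≤ n, ∀ r ∈ J.obj ^ k, ∀ x : (Fc T).obj (K⟦i⟧), r • x = 0) →
    (∀ r ∈ S, ∀ m ≤ n, ∃ e : ℕ, ∀ x : Dual.HD A K m, r ^ e • x = 0) →
      ∀ i ≤ n, Module.Finite A ((Fc T).obj (K⟦i⟧)) := by
  intro l
  induction l with
  | nil =>
    intro _ S hJS k a K h0 hfin _ hcoh i hi
    refine finite_of_cohomology_killed T J ((i - a).toNat + 1) a K i (by lia) h0 hfin fun m hm => ?_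
    have hle : Ideal.span (S ∪ {f | f ∈ ([] : List A)}) ≤ (Module.annihilator A (Dual.HD A K m)).radical := by
      refine Ideal.span_le.2 ?_
      rintro r (hr | hr)
      · obtain ⟨e, he⟩ := hcoh r hr m (hm.trans hi)
        exact ⟨e, Module.mem_annihilator.2 he⟩
      · simp at hr
    obtain ⟨c, hc⟩ := Ideal.exists_pow_le_of_le_radical_of_fg (hJS.trans ((Ideal.radical_mono hle).trans
      (Ideal.radical_idem _).le)) (IsNoetherian.noetherian _)
    exact ⟨c, fun r hr => Module.mem_annihilator.1 (hc hr)⟩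
  | cons f l ih =>
    intro hl S hJS k a K h0 hfin hkill hcoh i hi
    have hfk : f ^ k ∈ J.obj ^ k := Ideal.pow_mem_pow (hl f List.mem_cons_self) k
    let φ : K ⟶ K := f ^ k • 𝟙 K
    obtain ⟨C, g, h, hC⟩ := distinguished_cocone_triangle₁ φ
    let Tr : Triangle (Dual.D A) := Triangle.mk g φ h
    let δ : ∀ m : ℤ, Dual.HD A K (m - 1) →ₗ[A] Dual.HD A C m := fun m =>
      (DerivedCategory.HomologySequence.δ Tr (m - 1) m (by ring)).hom
    let gm : ∀ m : ℤ, Dual.HD A C m →ₗ[A] Dual.HD A K m := fun m =>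
      ((DerivedCategory.homologyFunctor (ModuleCat.{u} A) m).map g).hom
    have hex : ∀ m, Function.Exact (δ m) (gm m) := fun m =>
      (ShortComplex.ShortExact.moduleCat_exact_iff_function_exact _).1
        (DerivedCategory.HomologySequence.exact₁ Tr hC (m - 1) m (by ring))
    -- the cocone
    have h0C : ∀ m < a, Subsingleton (Dual.HD A C m) := fun m hm => by
      haveI := h0 m hm
      haveI := h0 (m - 1) (by lia)
      refine subsingleton_of_forall_eq 0 fun x => ?_
      obtain ⟨y, rfl⟩ := (hex m x).1 (Subsingleton.elim _ _)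
      rw [Subsingleton.elim y 0, map_zero]
    have hfinC : ∀ m, Module.Finite A (Dual.HD A C m) := fun m => by
      haveI := hfin m
      haveI := hfin (m - 1)
      exact finite_of_exact (δ m) (gm m) (hex m)
    have hexC := exact_shift T Tr hC
    have hexC' : ∀ j : ℤ, Function.Exact ((Fc T).map (Tr.invRotate.mor₁⟦j⟧')).hom ((Fc T).map (g⟦j⟧')).hom :=
      fun j => exact_shift T Tr.invRotate (inv_rot_of_distTriang _ hC) j
    have hkillC : ∀ j ≤ n, ∀ r ∈ J.obj ^ (k + k), ∀ x : (Fc T).obj (C⟦j⟧), r • x = 0 := fun j hj r hr x => by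
      let ε : (Fc T).obj (Tr.invRotate.obj₁⟦j⟧) ≃ₗ[A] (Fc T).obj (K⟦j - 1⟧) :=
        mapEquiv T ((shiftFunctorAdd' (Dual.D A) (-1) j (j - 1) (by ring)).app K).symm
      rw [pow_add] at hr
      induction hr using Submodule.mul_induction_on' with
      | mem_mul_mem r hr s hs =>
        have h1 : ((Fc T).map (g⟦j⟧')).hom (s • x) = 0 := (map_smul _ _ _).trans (hkill j hj s hs _)
        obtain ⟨y, hy⟩ := (hexC' j (s • x)).1 h1
        rw [mul_smul, ← hy]
        have : r • y = 0 := ε.injective (by rw [map_smul, hkill (j - 1) (by lia) r hr, map_zero])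
        exact (map_smul _ r y).symm.trans ((congrArg _ this).trans (map_zero _))
      | add r _ s _ h1 h2 => rw [add_smul, h1, h2, add_zero]
    have hφH : ∀ (m : ℤ) (x : Dual.HD A K m),
        ((DerivedCategory.homologyFunctor (ModuleCat.{u} A) m).map φ).hom x = f ^ k • x := fun m x => by
      simp only [φ, homology_smul_id]
      rfl
    have hcohC : ∀ r ∈ S ∪ {f}, ∀ m ≤ n, ∃ e : ℕ, ∀ x : Dual.HD A C m, r ^ e • x = 0 := by
      rintro r (hr | rfl) m hm
      · obtain ⟨e, he⟩ := hcoh r hr m hm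
        obtain ⟨e', he'⟩ := hcoh r hr (m - 1) (by lia)
        refine ⟨e' + e, fun x => ?_⟩
        obtain ⟨y, hy⟩ := (hex m (r ^ e • x)).1 ((map_smul _ _ _).trans (he _))
        rw [pow_add, mul_smul, ← hy, ← map_smul, he', map_zero]
      · refine ⟨k + k, fun x => ?_⟩
        have h3 := (ShortComplex.ShortExact.moduleCat_exact_iff_function_exact _).1
          (DerivedCategory.HomologySequence.exact₂ Tr hC m)
        have h1 : gm m (r ^ k • x) = 0 := by
          rw [map_smul, ← hφH]
          exact h3.apply_apply_eq_zero x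
        obtain ⟨y, hy⟩ := (hex m (r ^ k • x)).1 h1
        have h4 := (ShortComplex.ShortExact.moduleCat_exact_iff_function_exact _).1
          (DerivedCategory.HomologySequence.exact₃ Tr hC (m - 1) m (by ring))
        rw [pow_add, mul_smul, ← hy, ← map_smul, ← hφH]
        exact h4.apply_apply_eq_zero y
    have hJS' : J.obj ≤ (Ideal.span ((S ∪ {f}) ∪ {g | g ∈ l})).radical := by
      refine hJS.trans (Ideal.radical_mono (Ideal.span_mono ?_))
      rintro r (hr | hr)
      · exact Or.inl (Or.inl hr)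
      · rcases List.mem_cons.1 hr with rfl | hr
        · exact Or.inl (Or.inr rfl)
        · exact Or.inr hr
    haveI := ih (fun g hg => hl g (List.mem_cons_of_mem _ hg)) (S ∪ {f}) hJS' (k + k) a C h0C hfinC hkillC hcohC i hi
    have hsurj : Function.Surjective ((Fc T).map (g⟦i⟧')).hom := fun z =>
      (hexC i z).1 ((map_shift_smul T K i (f ^ k) z).trans (hkill i hi _ hfk z))
    exact Module.Finite.of_surjective _ hsurj

/-- Annihilation in degrees `≤ n` gives finiteness. -/
theorem finite_of_killed (n : ℤ) (J : Dual2.IdealsIn T) (a : ℤ) (K : Dual.D A)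
    (h0 : ∀ m < a, Subsingleton (Dual.HD A K m)) (hfin : ∀ m, Module.Finite A (Dual.HD A K m))
    (hkill : ∀ i ≤ n, ∀ r ∈ J.obj, ∀ x : (Fc T).obj (K⟦i⟧), r • x = 0) :
    ∀ i ≤ n, Module.Finite A ((Fc T).obj (K⟦i⟧)) := by
  obtain ⟨s, hs⟩ := (show Ideal.FG (J.obj : Ideal A) from IsNoetherian.noetherian _)
  refine finite_of_killed_aux T n J s.toList (fun f hf => hs ▸ Ideal.subset_span (Finset.mem_toList.1 hf)) ∅ ?_ 1 a K
    h0 hfin (fun i hi r hr => hkill i hi r (by rwa [pow_one] at hr)) (fun r hr => absurd hr (Set.notMem_empty r))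
  refine le_trans ?_ Ideal.le_radical
  rw [← hs]
  exact Ideal.span_mono fun f hf => Or.inr (Finset.mem_toList.2 hf)

omit [IsNoetherianRing A] in
theorem exists_kills (X : Dual.D A) (z : (Fc T).obj X) : ∃ J : Dual2.IdealsIn T, ∀ r ∈ J.obj, r • z = 0 := by
  obtain ⟨J, f, rfl⟩ := ιc_surjective T _ z
  refine ⟨J, fun r hr => ?_⟩
  have h : r • 𝟙 ((XT T).obj J) = 0 := by
    refine ModuleCat.hom_ext (LinearMap.ext fun x => ?_)
    obtain ⟨y, rfl⟩ := Submodule.Quotient.mk_surjective (J.obj : Ideal A) x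
    change r • (Submodule.Quotient.mk y : A ⧸ J.obj) = 0
    rw [← Submodule.Quotient.mk_smul, Submodule.Quotient.mk_eq_zero, smul_eq_mul]
    exact Ideal.mul_mem_right _ _ hr
  have h' : r • 𝟙 ((G T).obj J) = 0 := by
    have := congrArg (DerivedCategory.singleFunctor (ModuleCat.{u} A) 0).map h
    rwa [Functor.map_smul, CategoryTheory.Functor.map_id, Functor.map_zero] at this
  rw [← map_smul, ← Category.id_comp f, ← Linear.smul_comp, h', zero_comp, map_zero]

omit [IsNoetherianRing A] in
/-- Finiteness gives a common annihilator. -/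
theorem exists_kills_of_finite (X : ℕ → Dual.D A) (N : ℕ) (h : ∀ j < N, Module.Finite A ((Fc T).obj (X j))) :
    ∃ J : Dual2.IdealsIn T, ∀ j < N, ∀ r ∈ J.obj, ∀ x : (Fc T).obj (X j), r • x = 0 := by
  classical
  induction N with
  | zero => exact ⟨⟨⊤, fun q hq => absurd (top_unique hq) q.isPrime.ne_top⟩, fun j hj => absurd hj (Nat.not_lt_zero j)⟩
  | succ N ih =>
    obtain ⟨J₀, hJ₀⟩ := ih fun j hj => h j (by omega)
    obtain ⟨s, hs⟩ := (h N (by omega)).fg_top
    choose J hJ using fun x : s => exists_kills T (X N) x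
    obtain ⟨K, hK⟩ := IsCofiltered.inf_objs_exists (insert J₀ (Finset.univ.image J))
    refine ⟨K, fun j hj r hr x => ?_⟩
    rcases eq_or_lt_of_le (Nat.lt_succ_iff.1 hj) with rfl | hlt
    · have hx : x ∈ Submodule.span A (s : Set ((Fc T).obj (X j))) := hs ▸ trivial
      induction hx using Submodule.span_induction with
      | mem x hx =>
        obtain ⟨w⟩ := hK (Finset.mem_insert_of_mem (Finset.mem_image.2 ⟨⟨x, hx⟩, Finset.mem_univ _, rfl⟩))
        exact hJ ⟨x, hx⟩ r ((leOfHom w.hom) hr)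
      | zero => exact smul_zero r
      | add x y _ _ hx hy => rw [smul_add, hx, hy, add_zero]
      | smul c x _ hx => rw [smul_comm, hx, smul_zero]
    · obtain ⟨w⟩ := hK (Finset.mem_insert_self J₀ _)
      exact hJ₀ j hlt r ((leOfHom w.hom) hr) x

/-- The equivalence. -/
theorem finite_iff_killed (a : ℤ) (K : Dual.D A) (h0 : ∀ m < a, Subsingleton (Dual.HD A K m))
    (hfin : ∀ m, Module.Finite A (Dual.HD A K m)) (n : ℤ) :
    (∀ i : ℤ, i ≤ n → Module.Finite A (Dual2.HDT A T K i)) ↔
      ∃ J : Ideal A, PrimeSpectrum.zeroLocus (J : Set A) ⊆ T ∧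
        ∀ i : ℤ, i ≤ n → ∀ x : A, x ∈ J → ∀ y : Dual2.HDT A T K i, x • y = 0 := by
  haveI : K.IsGE a := (DerivedCategory.isGE_iff _ a).2 fun m hm =>
    haveI := h0 m hm
    ModuleCat.isZero_of_subsingleton _
  refine ⟨fun h => ?_, fun ⟨J, hJ, h⟩ => finite_of_killed T n ⟨J, hJ⟩ a K h0 hfin h⟩
  obtain ⟨J, hJ⟩ := exists_kills_of_finite T (fun j => K⟦a + (j : ℤ)⟧) (n - a + 1).toNat fun j hj => h (a + j) (by lia)
  refine ⟨J.obj, J.property, fun i hi r hr y => ?_⟩
  rcases lt_or_ge i a with hlt | hge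
  · exact @Subsingleton.elim _ (subsingleton_of_isGE T K a i hlt) _ _
  · obtain ⟨j, rfl⟩ : ∃ j : ℕ, i = a + j := ⟨(i - a).toNat, by lia⟩
    exact hJ j (by lia) r hr y

end Devissage

end Groth.L04.DerHT
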