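import Groth.Agent.L04.LC.ExtCompare
import Mathlib.Algebra.Homology.DerivedCategory.Ext.ExtClass
import Mathlib.Algebra.Homology.DerivedCategory.Ext.ExactSequences
import Mathlib.Algebra.Homology.DerivedCategory.Ext.EnoughInjectives
import Groth.Agent.L04.LC.Colim

/-!
# The colimit of `Ext^i(X t, -)` along a cofiltered diagram

`ι R Xd i t M : Ext (Xd t) M i →ₗ Hd R Xd i M`, with elementwise API, the connecting maps and
the long exact sequence.
-/

universe u v w

open CategoryTheory Opposite Limits Abelian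

namespace Groth.L04.LC

variable (R : Type u) [CommRing R] {C : Type w} [Category.{u} C] [Abelian C]
  [EnoughProjectives C] [HasExt.{u} C] [Linear R C] {D : Type v} [SmallCategory D]
  [HasColimitsOfShape Dᵒᵖ (ModuleCat.{u} R)] (Xd : D ⥤ C) (i : ℕ)

/-- The diagram of `Ext`s. -/
noncomputable abbrev extDiag (i : ℕ) : Dᵒᵖ ⥤ C ⥤ ModuleCat.{u} R :=
  Xd.op ⋙ _root_.Ext R C i

/-- The colimit of `Ext^i(Xd t, -)`. -/
noncomputable abbrev Hd (i : ℕ) : C ⥤ ModuleCat.{u} R :=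
  colimit (extDiag R Xd i)

/-- The comparison with a term of the diagram. -/
noncomputable def toDiag (t : D) (M : C) :
    Ext (Xd.obj t) M i ≃ₗ[R] ((extDiag R Xd i).obj (op t)).obj M :=
  extEquiv R i (Xd.obj t) M

theorem toDiag_map {s t : D} (w : s ⟶ t) (M : C) (a : Ext (Xd.obj t) M i) :
    ((((extDiag R Xd i).map w.op).app M).hom) (toDiag R Xd i t M a) =
      toDiag R Xd i s M ((Ext.mk₀ (Xd.map w)).comp a (zero_add i)) :=
  extEquiv_naturality_left (R := R) i (Xd.map w) M a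

theorem toDiag_natural (t : D) {M N : C} (g : M ⟶ N) (a : Ext (Xd.obj t) M i) :
    (((extDiag R Xd i).obj (op t)).map g).hom (toDiag R Xd i t M a) =
      toDiag R Xd i t N (a.comp (Ext.mk₀ g) (add_zero i)) :=
  extEquiv_naturality_right (R := R) i (Xd.obj t) g a

/-- The structure map from `Ext (Xd t) M i`. -/
noncomputable def ι (t : D) (M : C) : Ext (Xd.obj t) M i →ₗ[R] (Hd R Xd i).obj M :=
  (cι (extDiag R Xd i) (op t) M).comp (toDiag R Xd i t M).toLinearMap

theorem ι_apply (t : D) (M : C) (a : Ext (Xd.obj t) M i) :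
    ι R Xd i t M a = cι (extDiag R Xd i) (op t) M (toDiag R Xd i t M a) := rfl

theorem ι_map {s t : D} (w : s ⟶ t) (M : C) (a : Ext (Xd.obj t) M i) :
    ι R Xd i s M ((Ext.mk₀ (Xd.map w)).comp a (zero_add i)) = ι R Xd i t M a := by
  rw [ι_apply, ι_apply, ← toDiag_map, cι_w]

theorem map_ι (t : D) {M N : C} (g : M ⟶ N) (a : Ext (Xd.obj t) M i) :
    ((Hd R Xd i).map g).hom (ι R Xd i t M a) = ι R Xd i t N (a.comp (Ext.mk₀ g) (add_zero i)) := by
  rw [ι_apply, ι_apply, cι_natural, toDiag_natural]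

variable [IsCofiltered D] [PreservesColimitsOfShape Dᵒᵖ (forget (ModuleCat.{u} R))]

theorem ι_jointly_surjective (M : C) (x : (Hd R Xd i).obj M) :
    ∃ (t : D) (a : Ext (Xd.obj t) M i), ι R Xd i t M a = x := by
  obtain ⟨t, y, rfl⟩ := cι_surjective (extDiag R Xd i) M x
  obtain ⟨a, rfl⟩ := (toDiag R Xd i t.unop M).surjective y
  exact ⟨t.unop, a, rfl⟩

theorem ι_eq_zero {t : D} {M : C} {a : Ext (Xd.obj t) M i} (h : ι R Xd i t M a = 0) :
    ∃ (s : D) (w : s ⟶ t), (Ext.mk₀ (Xd.map w)).comp a (zero_add i) = 0 := by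
  obtain ⟨s, w, hw⟩ := cι_eq_zero (extDiag R Xd i) h
  refine ⟨s.unop, w.unop, (toDiag R Xd i s.unop M).injective ?_⟩
  rw [map_zero, ← toDiag_map]
  exact hw

theorem hom_ext {M : C} {N : Type*} [AddCommGroup N] [Module R N]
    {f g : (Hd R Xd i).obj M →ₗ[R] N} (h : ∀ t a, f (ι R Xd i t M a) = g (ι R Xd i t M a)) : f = g := by
  refine LinearMap.ext fun x => ?_
  obtain ⟨t, a, rfl⟩ := ι_jointly_surjective R Xd i M x
  exact h t a

theorem subsingleton_of_forall (M : C)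
    (h : ∀ t, Subsingleton (Ext (Xd.obj t) M i)) : Subsingleton ((Hd R Xd i).obj M) := by
  refine subsingleton_of_forall_eq 0 fun x => ?_
  obtain ⟨t, a, rfl⟩ := ι_jointly_surjective R Xd i M x
  rw [@Subsingleton.elim _ (h t) a 0, map_zero]

section Desc

variable {M : C} {N : ModuleCat.{u} R}
  (f : ∀ t, Ext (Xd.obj t) M i →ₗ[R] N)
  (hf : ∀ ⦃s t : D⦄ (w : s ⟶ t) (a : Ext (Xd.obj t) M i),
    f s ((Ext.mk₀ (Xd.map w)).comp a (zero_add i)) = f t a)

include hf in
theorem desc_aux {s t : D} (w : s ⟶ t) (y : ((extDiag R Xd i).obj (op t)).obj M) :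
    f s ((toDiag R Xd i s M).symm ((((extDiag R Xd i).map w.op).app M).hom y)) =
      f t ((toDiag R Xd i t M).symm y) := by
  obtain ⟨a, rfl⟩ := (toDiag R Xd i t M).surjective y
  rw [toDiag_map, LinearEquiv.symm_apply_apply, LinearEquiv.symm_apply_apply]
  exact hf w a


/-- The family on the diagram. -/
noncomputable def descFam : ∀ t : Dᵒᵖ, ((extDiag R Xd i).obj t).obj M →ₗ[R] N
  | ⟨t⟩ => (f t).comp (toDiag R Xd i t M).symm.toLinearMap

include hf in
theorem descFam_compat : ∀ ⦃t s : Dᵒᵖ⦄ (w : t ⟶ s) (y : ((extDiag R Xd i).obj t).obj M),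
    descFam R Xd i f s ((((extDiag R Xd i).map w).app M).hom y) = descFam R Xd i f t y
  | ⟨_⟩, ⟨_⟩, w, y => desc_aux R Xd i f hf w.unop y

/-- A compatible family of maps induces a map out of the colimit. -/
noncomputable def desc : (Hd R Xd i).obj M →ₗ[R] N :=
  cdesc (extDiag R Xd i) (descFam R Xd i f) (descFam_compat R Xd i f hf)

theorem desc_ι (t : D) (a : Ext (Xd.obj t) M i) : desc R Xd i f hf (ι R Xd i t M a) = f t a := by
  rw [ι_apply, desc, cdesc_cι]
  simp only [descFam, LinearMap.comp_apply, LinearEquiv.coe_coe, LinearEquiv.symm_apply_apply]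

end Desc

theorem isZero_of_injective (E : C) [Injective E] :
    Subsingleton ((Hd R Xd (i + 1)).obj E) :=
  subsingleton_of_forall R Xd (i + 1) E fun _ =>
    subsingleton_of_forall_eq 0 fun a => Ext.eq_zero_of_injective a

section LES

variable {S : ShortComplex C} (hS : S.ShortExact)

/-- Postcomposition with the extension class. -/
noncomputable def extClassComp (Z : C) (n : ℕ) : Ext Z S.X₃ n →ₗ[R] Ext Z S.X₁ (n + 1) :=
  hS.extClass.postcompOfLinear R Z rfl


theorem extClassComp_apply (Z : C) (n : ℕ) (a : Ext Z S.X₃ n) :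
    extClassComp R hS Z n a = a.comp hS.extClass rfl := rfl

/-- The connecting map. -/
noncomputable def δ (n : ℕ) : (Hd R Xd n).obj S.X₃ →ₗ[R] (Hd R Xd (n + 1)).obj S.X₁ :=
  desc R Xd n (fun t => (ι R Xd (n + 1) t S.X₁).comp (extClassComp R hS (Xd.obj t) n))
    (fun s t w a => by
      rw [LinearMap.comp_apply, LinearMap.comp_apply, extClassComp_apply, extClassComp_apply]
      rw [Ext.comp_assoc _ _ _ (zero_add n) rfl (by omega)]
      exact ι_map R Xd (n + 1) w _ _)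

theorem δ_ι (n : ℕ) (t : D) (a : Ext (Xd.obj t) S.X₃ n) :
    δ R Xd hS n (ι R Xd n t S.X₃ a) = ι R Xd (n + 1) t S.X₁ (a.comp hS.extClass rfl) := by
  rw [δ, desc_ι, LinearMap.comp_apply, extClassComp_apply]

theorem map_f_δ (n : ℕ) : ((Hd R Xd (n + 1)).map S.f).hom.comp (δ R Xd hS n) = 0 := by
  refine hom_ext R Xd n fun t a => ?_
  rw [LinearMap.comp_apply, δ_ι, map_ι, Ext.comp_assoc _ _ _ rfl (add_zero 1) (by omega),
    hS.extClass_comp, Ext.comp_zero, map_zero]
  rfl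

theorem δ_map_g (n : ℕ) : (δ R Xd hS n).comp ((Hd R Xd n).map S.g).hom = 0 := by
  refine hom_ext R Xd n fun t a => ?_
  rw [LinearMap.comp_apply, map_ι, δ_ι, Ext.comp_assoc _ _ _ (add_zero n) (zero_add 1) (by omega),
    hS.comp_extClass, Ext.comp_zero, map_zero]
  rfl

include hS in
theorem exact₂ (n : ℕ) : Function.Exact ((Hd R Xd n).map S.f).hom ((Hd R Xd n).map S.g).hom := by
  intro y
  constructor
  · intro hy
    obtain ⟨t, a, rfl⟩ := ι_jointly_surjective R Xd n S.X₂ y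
    rw [map_ι] at hy
    obtain ⟨s, w, hw⟩ := ι_eq_zero R Xd n hy
    rw [← Ext.comp_assoc _ _ _ (zero_add n) (add_zero n) (by omega)] at hw
    obtain ⟨b, hb⟩ := Ext.covariant_sequence_exact₂ (Xd.obj s) hS _ hw
    exact ⟨ι R Xd n s S.X₁ b, by rw [map_ι, hb, ι_map]⟩
  · rintro ⟨x, rfl⟩
    rw [← LinearMap.comp_apply, ← ModuleCat.hom_comp, ← Functor.map_comp, S.zero]
    obtain ⟨t, a, rfl⟩ := ι_jointly_surjective R Xd n S.X₁ x
    rw [map_ι, Ext.mk₀_zero, Ext.comp_zero, map_zero]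

theorem exact₃ (n : ℕ) : Function.Exact ((Hd R Xd n).map S.g).hom (δ R Xd hS n) := by
  intro y
  constructor
  · intro hy
    obtain ⟨t, a, rfl⟩ := ι_jointly_surjective R Xd n S.X₃ y
    rw [δ_ι] at hy
    obtain ⟨s, w, hw⟩ := ι_eq_zero R Xd (n + 1) hy
    rw [← Ext.comp_assoc _ _ _ (zero_add n) rfl (by omega)] at hw
    obtain ⟨b, hb⟩ := Ext.covariant_sequence_exact₃ (Xd.obj s) hS _ rfl hw
    exact ⟨ι R Xd n s S.X₂ b, by rw [map_ι, hb, ι_map]⟩
  · rintro ⟨x, rfl⟩
    exact LinearMap.congr_fun (δ_map_g R Xd hS n) x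

theorem exact₁ (n : ℕ) : Function.Exact (δ R Xd hS n) ((Hd R Xd (n + 1)).map S.f).hom := by
  intro y
  constructor
  · intro hy
    obtain ⟨t, a, rfl⟩ := ι_jointly_surjective R Xd (n + 1) S.X₁ y
    rw [map_ι] at hy
    obtain ⟨s, w, hw⟩ := ι_eq_zero R Xd (n + 1) hy
    rw [← Ext.comp_assoc _ _ _ (zero_add (n + 1)) (add_zero (n + 1)) (by omega)] at hw
    obtain ⟨b, hb⟩ := Ext.covariant_sequence_exact₁ (Xd.obj s) hS _ hw rfl
    exact ⟨ι R Xd n s S.X₃ b, by rw [δ_ι, hb, ι_map]⟩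
  · rintro ⟨x, rfl⟩
    exact LinearMap.congr_fun (map_f_δ R Xd hS n) x

include hS in
theorem injective_map_f : Function.Injective ((Hd R Xd 0).map S.f).hom := by
  rw [← LinearMap.ker_eq_bot, Submodule.eq_bot_iff]
  intro y hy
  rw [LinearMap.mem_ker] at hy
  obtain ⟨t, a, rfl⟩ := ι_jointly_surjective R Xd 0 S.X₁ y
  rw [map_ι] at hy
  obtain ⟨s, w, hw⟩ := ι_eq_zero R Xd 0 hy
  rw [← Ext.comp_assoc _ _ _ (zero_add 0) (add_zero 0) (by omega)] at hw
  haveI := hS.mono_f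
  rw [← ι_map R Xd 0 w S.X₁ a, Ext.postcomp_mk₀_injective_of_mono (Xd.obj s) S.f
    (hw.trans (map_zero _).symm), map_zero]

/-- Naturality of the connecting map. -/
theorem δ_naturality {S' : ShortComplex C} (hS' : S'.ShortExact) (φ : S ⟶ S')
    (n : ℕ) : ((Hd R Xd (n + 1)).map φ.τ₁).hom.comp (δ R Xd hS n) =
      (δ R Xd hS' n).comp ((Hd R Xd n).map φ.τ₃).hom := by
  refine hom_ext R Xd n fun t a => ?_
  rw [LinearMap.comp_apply, LinearMap.comp_apply, δ_ι, map_ι, map_ι, δ_ι,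
    Ext.comp_assoc _ _ _ rfl (add_zero 1) (by omega),
    Ext.comp_assoc _ _ _ (add_zero n) (zero_add 1) (by omega),
    ShortComplex.ShortExact.extClass_naturality hS hS' φ]

end LES

end Groth.L04.LC
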