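import Groth.Agent.L04.LC.Annihilate
import Groth.Agent.L04.DepthLoc
import Groth.Prelude.Def_W4bk5brsh7111920
import Mathlib.Algebra.Category.ModuleCat.Ext.Finite
import Mathlib.RingTheory.Filtration

/-!
# Faltings' annihilator theorem: the universal inequality

If `c` kills `H^j_a(M)` for `j ≤ n` in a local ring, then powers of `c` kill `Ext^i(F, M)` for
finite `F` with `i + dim F ≤ n`, by Krull's intersection theorem.
-/

universe u

open CategoryTheory Limits Abelian IsLocalRing

open scoped Pointwise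

namespace Groth.L04.LC

variable {R : Type u} [CommRing R] [IsNoetherianRing R] (a : Ideal R)

omit [IsNoetherianRing R] in
theorem smul_ext_eq_zero_of_annihilator {X : ModuleCat.{u} R} {M : Type u} [AddCommGroup M] [Module R M]
    {r : R} (h : ∀ m : M, r • m = 0) {i : ℕ} (e : Ext X (ModuleCat.of R M) i) : r • e = 0 := by
  have : r • 𝟙 (ModuleCat.of R M) = 0 := ModuleCat.hom_ext (LinearMap.ext h)
  rw [← Ext.comp_mk₀_id e, ← Ext.comp_smul, ← Ext.mk₀_smul, this, Ext.mk₀_zero, Ext.comp_zero]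

theorem smul_torsionSub_eq_zero {M : Type u} [AddCommGroup M] [Module R M] {c : R}
    (h : ∀ x : LocCoh.H a 0 M, c • x = 0) (m : DRing.torsionSub a M) : c • m = 0 := by
  obtain ⟨x, rfl⟩ := (H0Equiv a (ModuleCat.of R M)).surjective m
  refine (map_smul _ c x).symm.trans ?_
  rw [show c • x = 0 from h x]
  exact map_zero _

/-- Annihilators of local cohomology annihilate `Ext` out of torsion modules. -/
theorem smul_ext_eq_zero_of_H (c : R) : ∀ (i : ℕ) (M : Type u) [AddCommGroup M] [Module R M],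
    (∀ j ≤ i, ∀ x : LocCoh.H a j M, c • x = 0) → ∀ (F : Type u) [AddCommGroup F] [Module R F],
      LocCoh.IsPowerTorsion a F → ∀ e : Ext (ModuleCat.of R F) (ModuleCat.of R M) i,
        c ^ (i + 1) • e = 0 := by
  intro i
  induction i with
  | zero =>
    intro M _ _ h F _ _ hF e
    obtain ⟨f, rfl⟩ := Ext.homEquiv₀.symm.surjective e
    change c ^ (0 + 1) • Ext.mk₀ f = 0
    rw [← Ext.mk₀_smul, show c ^ (0 + 1) • f = 0 from ModuleCat.hom_ext (LinearMap.ext fun m => by
      have hm : f.hom m ∈ DRing.torsionSub a M := DRing.map_mem_torsionSub a f.hom (hF m)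
      have h0 := congrArg Subtype.val (smul_torsionSub_eq_zero a (h 0 le_rfl) ⟨_, hm⟩)
      simpa using h0), Ext.mk₀_zero]
  | succ i ih =>
    intro M _ _ h F _ _ hF e
    set T := DRing.torsionSub a M with hT
    have hS := ses_shortExact T.subtype T.mkQ T.injective_subtype T.mkQ_surjective
      (LinearMap.exact_subtype_mkQ T)
    obtain ⟨Q, _, _, hQ1, hQ2⟩ := exists_shift a (M ⧸ T) (torsionSub_quotient_eq_bot a M)
    obtain ⟨ψ⟩ := hQ2 F hF i
    have hQ : ∀ j ≤ i, ∀ x : LocCoh.H a j Q, c • x = 0 := by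
      intro j hj x
      obtain ⟨φ⟩ := hQ1 j
      exact φ.injective (by
        rw [map_smul, map_zero]
        exact H_quotient_torsionSub_killed a M (h (j + 1) (by omega)) _)
    have h1 : (c ^ (i + 1) • e).comp (Ext.mk₀ (ses T.subtype T.mkQ
        (LinearMap.exact_subtype_mkQ T).linearMap_comp_eq_zero).g) (add_zero (i + 1)) = 0 := by
      rw [Ext.smul_comp]
      refine ψ.symm.injective ?_
      rw [map_smul, map_zero]
      exact ih Q hQ F hF _
    obtain ⟨e', he'⟩ := Ext.covariant_sequence_exact₂ (ModuleCat.of R F) hS (c ^ (i + 1) • e) h1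
    rw [pow_succ', mul_smul, ← he', ← Ext.smul_comp,
      show c • e' = 0 from smul_ext_eq_zero_of_annihilator (smul_torsionSub_eq_zero a (h 0 (by omega))) e',
      Ext.zero_comp]

section Local

variable [IsLocalRing R]

/-- `c^K` kills `Ext^i(F, M)` whenever `dim F ≤ d` and `i + d ≤ n`. -/
theorem exists_pow_smul_ext (ha : a ≤ maximalIdeal R) (c : R) (n : ℕ) (M : Type u) [AddCommGroup M]
    [Module R M] [Module.Finite R M] (h : ∀ j ≤ n, ∀ x : LocCoh.H a j M, c • x = 0) :
    ∀ d : ℕ, ∃ K : ℕ, ∀ (F : Type u) [AddCommGroup F] [Module R F] [Module.Finite R F],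
      Module.supportDim R F ≤ (d : WithBot ℕ∞) → ∀ i, i + d ≤ n →
        ∀ e : Ext (ModuleCat.of R F) (ModuleCat.of R M) i, c ^ K • e = 0 := by
  have hbase : ∀ (F : Type u) [AddCommGroup F] [Module R F], LocCoh.IsPowerTorsion a F → ∀ i ≤ n,
      ∀ e : Ext (ModuleCat.of R F) (ModuleCat.of R M) i, c ^ (n + 1) • e = 0 := by
    intro F _ _ hF i hi e
    rw [show n + 1 = (n - i) + (i + 1) by omega, pow_add, mul_smul,
      smul_ext_eq_zero_of_H a c i M (fun j hj => h j (hj.trans hi)) F hF e, smul_zero]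
  intro d
  induction d with
  | zero =>
    refine ⟨n + 1, fun F _ _ _ hF i hi e => ?_⟩
    refine hbase F ?_ i (by omega) e
    rcases subsingleton_or_nontrivial F with hF' | hF'
    · exact fun x => ⟨0, fun r _ => Subsingleton.elim _ _⟩
    · have h0 : Module.supportDim R F = 0 := by
        refine le_antisymm (by simpa using hF) ?_
        obtain ⟨s, hs⟩ := WithBot.ne_bot_iff_exists.1 (Module.supportDim_ne_bot_of_nontrivial R F)
        rw [← hs]
        exact WithBot.coe_le_coe.2 zero_le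
      intro x
      obtain ⟨m, hm⟩ := isPowerTorsion_of_supportDim_eq_zero h0 x
      exact ⟨m, fun r hr => hm r (Ideal.pow_right_mono ha m hr)⟩
  | succ d ih =>
    obtain ⟨K, hK⟩ := ih
    refine ⟨K + (n + 1), fun F _ _ _ hF i hi e => ?_⟩
    set T := DRing.torsionSub a F with hT
    set F' := F ⧸ T with hF'
    have hS := ses_shortExact T.subtype T.mkQ T.injective_subtype T.mkQ_surjective
      (LinearMap.exact_subtype_mkQ T)
    -- the torsion-free part
    have hkill : ∀ e' : Ext (ModuleCat.of R F') (ModuleCat.of R M) i, c ^ K • e' = 0 := by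
      intro e'
      obtain ⟨x, hxa, hreg⟩ := exists_regular_mem a F' (torsionSub_quotient_eq_bot a F)
      haveI : Module.Finite R (Ext (ModuleCat.of R F') (ModuleCat.of R M) i) := inferInstance
      have hbot := Ideal.iInf_pow_smul_eq_bot_of_isLocalRing (R := R)
        (M := Ext (ModuleCat.of R F') (ModuleCat.of R M) i) (maximalIdeal R)
        (maximalIdeal.isMaximal R).ne_top
      have hmem : c ^ K • e' ∈ (⨅ j : ℕ, maximalIdeal R ^ j •
          (⊤ : Submodule R (Ext (ModuleCat.of R F') (ModuleCat.of R M) i))) := by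
        refine Submodule.mem_iInf _ |>.2 fun j => ?_
        have hy : x ^ (j + 1) ∈ maximalIdeal R ^ j :=
          Ideal.pow_le_pow_right j.le_succ (Ideal.pow_mem_pow (ha hxa) (j + 1))
        have hreg' : IsSMulRegular F' (x ^ (j + 1)) := hreg.pow (j + 1)
        have hS' := (show IsSMulRegular (ModuleCat.of R F') (x ^ (j + 1)) from
          hreg').smulShortComplex_shortExact
        have hdim := supportDim_quotSMulTop_le
          (Ideal.pow_mem_of_mem _ (ha hxa) _ j.succ_pos) hreg'
          ((supportDim_quotient_torsionSub_le a F).trans hF)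
        have hδ : hS'.extClass.comp (c ^ K • e') (add_comm 1 i) = 0 :=
          (Ext.comp_smul hS'.extClass e' (add_comm 1 i) (c ^ K)).trans
            (hK (QuotSMulTop (x ^ (j + 1)) F') hdim (i + 1) (by omega) _)
        obtain ⟨z, hz⟩ := Ext.contravariant_sequence_exact₁ hS' (ModuleCat.of R M) (c ^ K • e')
          (add_comm 1 i) hδ
        let z' : Ext (ModuleCat.of R F') (ModuleCat.of R M) i := z
        have hz' : x ^ (j + 1) • z' = c ^ K • e' := by
          have h0 : (Ext.mk₀ (x ^ (j + 1) • 𝟙 (ModuleCat.of R F'))).comp z' (zero_add i) =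
              x ^ (j + 1) • z' := by
            rw [Ext.mk₀_smul, Ext.smul_comp, Ext.mk₀_id_comp]
          refine h0.symm.trans (Eq.trans ?_ hz)
          rw [ModuleCat.smulShortComplex_f_eq_smul_id]
          rfl
        rw [← hz']
        exact Submodule.smul_mem_smul hy Submodule.mem_top
      rw [hbot, Submodule.mem_bot] at hmem
      exact hmem
    have h1 : (Ext.mk₀ (ses T.subtype T.mkQ (LinearMap.exact_subtype_mkQ T).linearMap_comp_eq_zero).f).comp
        (c ^ (n + 1) • e) (zero_add i) = 0 := by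
      rw [Ext.comp_smul]
      exact hbase T (isPowerTorsion_torsionSub a F) i (by omega) _
    obtain ⟨e', he'⟩ := Ext.contravariant_sequence_exact₂ hS (ModuleCat.of R M) (c ^ (n + 1) • e) h1
    rw [pow_add, mul_smul, ← he', ← Ext.comp_smul, show c ^ K • e' = 0 from hkill e', Ext.comp_zero]

/-- `c^K` kills `H^i_P(M)` for `i + dim R/P ≤ n`. -/
theorem exists_pow_smul_H_of_dim (ha : a ≤ maximalIdeal R) (c : R) (n : ℕ) (M : Type u)
    [AddCommGroup M] [Module R M] [Module.Finite R M]
    (h : ∀ j ≤ n, ∀ x : LocCoh.H a j M, c • x = 0) (P : Ideal R) (d : ℕ)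
    (hd : ringKrullDim (R ⧸ P) ≤ (d : WithBot ℕ∞)) :
    ∃ K : ℕ, ∀ i, i + d ≤ n → ∀ x : LocCoh.H P i M, c ^ K • x = 0 := by
  obtain ⟨K, hK⟩ := exists_pow_smul_ext a ha c n M h d
  refine ⟨K, fun i hi x => ?_⟩
  obtain ⟨m, e, rfl⟩ := Hι_surjective P i (ModuleCat.of R M) x
  refine (map_smul _ (c ^ K) e).symm.trans ?_
  rw [show c ^ K • e = 0 from hK (R ⧸ P ^ m) ?_ i hi e]
  · exact map_zero _
  · rw [Module.supportDim_quotient_eq_ringKrullDim]
    refine le_trans ?_ hd
    rcases Nat.eq_zero_or_pos m with rfl | hm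
    · haveI : Subsingleton (R ⧸ P ^ 0) := Ideal.Quotient.subsingleton_iff.2 (by simp)
      rw [ringKrullDim_eq_bot_of_subsingleton]
      exact bot_le
    · rw [ringKrullDim_quotient, ringKrullDim_quotient,
        PrimeSpectrum.zeroLocus_pow P hm.ne']

end Local

section Global

/-- `H^i_a (M)` vanishes after localizing at `q`. -/
theorem localized_H_eq_zero_iff (q : Ideal R) [q.IsPrime] {i : ℕ} {M : Type u} [AddCommGroup M]
    [Module R M] {I : Ideal R} :
    Subsingleton (LocalizedModule q.primeCompl (LocCoh.H I i M)) ↔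
      ∀ x : LocCoh.H I i M, ∃ s, s ∉ q ∧ s • x = 0 := by
  constructor
  · intro h x
    obtain ⟨⟨s, hs⟩, hsx⟩ := (IsLocalizedModule.eq_zero_iff q.primeCompl
      (LocalizedModule.mkLinearMap q.primeCompl (LocCoh.H I i M))).1 (Subsingleton.elim _ _)
    exact ⟨s, hs, hsx⟩
  · intro h
    refine subsingleton_of_forall_eq 0 fun z => ?_
    obtain ⟨⟨x, t⟩, rfl⟩ := IsLocalizedModule.mk'_surjective q.primeCompl
      (LocalizedModule.mkLinearMap q.primeCompl (LocCoh.H I i M)) z
    obtain ⟨s, hs, hsx⟩ := h x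
    simp only [Function.uncurry_apply_pair]
    exact (IsLocalizedModule.mk'_eq_zero' _ _).2 ⟨⟨s, hs⟩, hsx⟩

/-- The core: if `c ∉ p` kills `H^j_a(M)` for `j ≤ t + h` where `dim (R/p)_q ≤ h` for some prime
`q ⊇ a + p`, then `H^i_p(M)_p = 0` for `i ≤ t`. -/
theorem exists_smul_eq_zero_of_killed (M : Type u) [AddCommGroup M] [Module R M] [Module.Finite R M]
    (p q : Ideal R) [p.IsPrime] [q.IsPrime] (hpq : p ≤ q) (haq : a ≤ q) (h t : ℕ)
    (hh : (q.map (Ideal.Quotient.mk p)).height ≤ (h : ℕ∞)) {c : R} (hc : c ∉ p)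
    (hkill : ∀ j ≤ t + h, ∀ x : LocCoh.H a j M, c • x = 0) {i : ℕ} (hi : i ≤ t)
    (x : LocCoh.H p i M) : ∃ s, s ∉ p ∧ s • x = 0 := by
  let Rq := Localization.AtPrime q
  let Mq := LocalizedModule q.primeCompl M
  haveI : IsNoetherianRing Rq := IsLocalization.isNoetherianRing q.primeCompl Rq inferInstance
  haveI : Module.Finite Rq Mq :=
    Module.Finite.of_isLocalizedModule q.primeCompl (LocalizedModule.mkLinearMap q.primeCompl M)
  have haq' : a.map (algebraMap R Rq) ≤ maximalIdeal Rq := by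
    rw [← IsLocalization.AtPrime.map_eq_maximalIdeal q Rq]
    exact Ideal.map_mono haq
  have hkill' : ∀ j ≤ t + h, ∀ z : LocCoh.H (a.map (algebraMap R Rq)) j Mq,
      algebraMap R Rq c • z = 0 := by
    intro j hj z
    obtain ⟨e⟩ := nonempty_localizedModule_H_equiv a q.primeCompl j M
    obtain ⟨w, rfl⟩ := e.surjective z
    refine (map_smul e (algebraMap R Rq c) w).symm.trans ?_
    obtain ⟨⟨y, u⟩, rfl⟩ := IsLocalizedModule.mk'_surjective q.primeCompl
      (LocalizedModule.mkLinearMap q.primeCompl (LocCoh.H a j M)) w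
    simp only [Function.uncurry_apply_pair]
    rw [algebraMap_smul, ← IsLocalizedModule.mk'_smul, hkill j hj y, IsLocalizedModule.mk'_zero,
      map_zero]
  have hdim : ringKrullDim (Rq ⧸ p.map (algebraMap R Rq)) ≤ (h : WithBot ℕ∞) := by
    rw [ringKrullDim_localization_quotient hpq]
    exact WithBot.coe_le_coe.2 hh
  obtain ⟨K, hK⟩ := exists_pow_smul_H_of_dim (a.map (algebraMap R Rq)) haq' (algebraMap R Rq c)
    (t + h) Mq hkill' (p.map (algebraMap R Rq)) h hdim
  obtain ⟨e⟩ := nonempty_localizedModule_H_equiv p q.primeCompl i M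
  have h0 : algebraMap R Rq c ^ K • LocalizedModule.mkLinearMap q.primeCompl (LocCoh.H p i M) x = 0 := by
    refine e.injective ?_
    rw [map_smul, map_zero]
    exact hK i (by omega) _
  rw [← map_pow, algebraMap_smul, ← map_smul] at h0
  obtain ⟨⟨s, hs⟩, hsx⟩ := (IsLocalizedModule.eq_zero_iff q.primeCompl
    (LocalizedModule.mkLinearMap q.primeCompl (LocCoh.H p i M))).1 h0
  refine ⟨s * c ^ K, fun hmem => ?_, by rw [mul_smul]; exact hsx⟩
  rcases (Ideal.IsPrime.mem_or_mem ‹p.IsPrime› hmem) with h' | h'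
  · exact hs (hpq h')
  · exact hc (Ideal.IsPrime.mem_of_pow_mem ‹p.IsPrime› K h')

theorem subsingleton_H_maximal_of_smul (p : Ideal R) [p.IsPrime] (M : Type u) [AddCommGroup M]
    [Module R M] (i : ℕ) (h : ∀ x : LocCoh.H p i M, ∃ s, s ∉ p ∧ s • x = 0) :
    Subsingleton (LocCoh.H (maximalIdeal (Localization.AtPrime p)) i
      (LocalizedModule p.primeCompl M)) := by
  obtain ⟨e⟩ := nonempty_localizedModule_H_equiv p p.primeCompl i M
  haveI := (localized_H_eq_zero_iff p).2 h
  rw [← IsLocalization.AtPrime.map_eq_maximalIdeal p (Localization.AtPrime p)]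
  exact e.symm.toEquiv.subsingleton

theorem exists_prime_height_le (p : Ideal R) [p.IsPrime] {h : ℕ}
    (hh : ((a ⊔ p).map (Ideal.Quotient.mk p)).height = h) :
    ∃ q : Ideal R, q.IsPrime ∧ p ≤ q ∧ a ≤ q ∧ (q.map (Ideal.Quotient.mk p)).height = h := by
  obtain ⟨Q, hQ, hle, hQh⟩ := Ideal.exists_isPrime_height_eq hh
  refine ⟨Q.comap (Ideal.Quotient.mk p), Ideal.comap_isPrime _ _, fun r hr => ?_, fun r hr => ?_, ?_⟩
  · rw [Ideal.mem_comap, Ideal.Quotient.eq_zero_iff_mem.2 hr]
    exact Q.zero_mem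
  · exact hle (Ideal.mem_map_of_mem _ (Submodule.mem_sup_left hr))
  · rwa [Ideal.map_comap_of_surjective _ Ideal.Quotient.mk_surjective]

theorem exists_common_annihilator {c : R} {M : Type u} [AddCommGroup M] [Module R M] {n : ℕ}
    (h : ∀ j ≤ n, c ∈ (Module.annihilator R (LocCoh.H a j M)).radical) :
    ∃ K : ℕ, ∀ j ≤ n, ∀ x : LocCoh.H a j M, c ^ K • x = 0 := by
  choose k hk using h
  let K := (Finset.range (n + 1)).attach.sup fun j => k j.1 (Nat.lt_succ_iff.1 (Finset.mem_range.1 j.2))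
  refine ⟨K, fun j hj x => ?_⟩
  have hle : k j hj ≤ K := Finset.le_sup
    (f := fun j : {x // x ∈ Finset.range (n + 1)} => k j.1 (Nat.lt_succ_iff.1 (Finset.mem_range.1 j.2)))
    (Finset.mem_attach _ ⟨j, Finset.mem_range.2 (Nat.lt_succ_iff.2 hj)⟩)
  rw [← Nat.sub_add_cancel hle, pow_add, mul_smul, Module.mem_annihilator.1 (hk j hj) x, smul_zero]

/-- S11653. -/
theorem finDimRel_le_minAdjDepth (b : Ideal R) (M : Type u) [AddCommGroup M] [Module R M]
    [Module.Finite R M] : LocCoh.finDimRel a b M ≤ LocCoh.minAdjDepth a b M := by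
  refine le_iInf₂ fun p hbp => ?_
  unfold LocCoh.adjDepth
  by_cases hfin : LocCoh.depth (Localization.AtPrime p.asIdeal)
      (LocalizedModule p.asIdeal.primeCompl M) = ⊤ ∨
      ((a ⊔ p.asIdeal).map (Ideal.Quotient.mk p.asIdeal)).height = ⊤
  · rcases hfin with h | h <;> simp [h]
  rw [not_or] at hfin
  obtain ⟨t, ht⟩ := ENat.ne_top_iff_exists.1 hfin.1
  obtain ⟨h, hh⟩ := ENat.ne_top_iff_exists.1 hfin.2
  rw [← ht, ← hh, ← Nat.cast_add]
  by_contra hlt
  rw [not_le] at hlt
  obtain ⟨c, hcb, hcp⟩ := SetLike.not_le_iff_exists.1 hbp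
  obtain ⟨K, hK⟩ := exists_common_annihilator a (c := c) (M := M) (n := t + h) fun j hj => by
    by_contra hc
    refine absurd hlt (not_lt.2 ?_)
    refine iInf₂_le_of_le j (fun hle => hc (hle hcb)) ?_
    exact_mod_cast hj
  obtain ⟨q, hq, hpq, haq, hqh⟩ := exists_prime_height_le a p.asIdeal hh.symm
  haveI : IsNoetherianRing (Localization.AtPrime p.asIdeal) :=
    IsLocalization.isNoetherianRing p.asIdeal.primeCompl _ inferInstance
  haveI : Module.Finite (Localization.AtPrime p.asIdeal) (LocalizedModule p.asIdeal.primeCompl M) :=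
    Module.Finite.of_isLocalizedModule p.asIdeal.primeCompl
      (LocalizedModule.mkLinearMap p.asIdeal.primeCompl M)
  have hdep := (le_idealDepth_iff_H (maximalIdeal (Localization.AtPrime p.asIdeal))
    (LocalizedModule p.asIdeal.primeCompl M) (t + 1)).2 fun i hi =>
      subsingleton_H_maximal_of_smul p.asIdeal M i fun x =>
        exists_smul_eq_zero_of_killed a M p.asIdeal q hpq haq h t hqh.le
          (fun hmem => hcp (p.2.mem_of_pow_mem K hmem)) hK (Nat.lt_succ_iff.1 hi) x
  have h2 : ((t + 1 : ℕ) : ℕ∞) ≤ (t : ℕ∞) := hdep.trans ht.ge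
  have h3 : t + 1 ≤ t := by exact_mod_cast h2
  omega

/-- S11649. -/
theorem not_le_radical_annihilator_of_grade (b : Ideal R) (M : Type u) [AddCommGroup M]
    [Module R M] [Module.Finite R M] (p : Ideal R) [p.IsPrime] (hb : ¬ b ≤ p) (t : ℕ)
    (ht : LocCoh.idealDepth (a.map (algebraMap R (Localization.AtPrime p)))
      (LocalizedModule p.primeCompl M) = t) :
    ¬ b ≤ (Module.annihilator R (LocCoh.H a t M)).radical := by
  intro hle
  obtain ⟨c, hcb, hcp⟩ := SetLike.not_le_iff_exists.1 hb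
  obtain ⟨k, hk⟩ := hle hcb
  haveI : IsNoetherianRing (Localization.AtPrime p) :=
    IsLocalization.isNoetherianRing p.primeCompl _ inferInstance
  haveI : Module.Finite (Localization.AtPrime p) (LocalizedModule p.primeCompl M) :=
    Module.Finite.of_isLocalizedModule p.primeCompl (LocalizedModule.mkLinearMap p.primeCompl M)
  have hnt := ((idealDepth_eq_iff_H _ _ t).1 ht).2
  obtain ⟨e⟩ := nonempty_localizedModule_H_equiv a p.primeCompl t M
  haveI := (localized_H_eq_zero_iff p (I := a) (i := t) (M := M)).2 fun x =>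
    ⟨c ^ k, fun h => hcp (Ideal.IsPrime.mem_of_pow_mem ‹p.IsPrime› k h), Module.mem_annihilator.1 hk x⟩
  exact not_nontrivial_iff_subsingleton.2 e.symm.toEquiv.subsingleton hnt

/-- S11648. -/
theorem not_le_radical_annihilator_H_one (b : Ideal R) (M : Type u) [AddCommGroup M] [Module R M]
    [Module.Finite R M] (p : Ideal R) [p.IsPrime] (hp : p ∈ associatedPrimes R M) (hb : ¬ b ≤ p)
    (hht : ((a ⊔ p).map (Ideal.Quotient.mk p)).height = 1) :
    ¬ b ≤ (Module.annihilator R (LocCoh.H a 1 M)).radical := by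
  intro hle
  obtain ⟨c, hcb, hcp⟩ := SetLike.not_le_iff_exists.1 hb
  obtain ⟨k, hk⟩ := hle hcb
  set M' := M ⧸ DRing.torsionSub a M
  have hap : ¬ a ≤ p := fun hap => by
    rw [sup_eq_right.2 hap, Ideal.map_quotient_self, Ideal.height_bot] at hht
    exact zero_ne_one hht
  obtain ⟨q, hq, hpq, haq, hqh⟩ := exists_prime_height_le a p (h := 1) (by simpa using hht)
  obtain ⟨f, hf⟩ := ((isAssociatedPrime_iff_exists_injective_linearMap p M).1 hp).2
  let z : M' := Submodule.Quotient.mk (f (Submodule.Quotient.mk 1))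
  have hz : z ∈ DRing.torsionSub p M' := ⟨1, fun r hr => by
    rw [pow_one] at hr
    rw [← Submodule.Quotient.mk_smul, ← map_smul, ← Submodule.Quotient.mk_smul, smul_eq_mul, mul_one,
      (Submodule.Quotient.mk_eq_zero p).2 hr, map_zero, Submodule.Quotient.mk_zero]⟩
  have hkill : ∀ j ≤ 0 + 1, ∀ x : LocCoh.H a j M', c ^ k • x = 0 := by
    intro j hj x
    rcases Nat.le_one_iff_eq_zero_or_eq_one.1 hj with rfl | rfl
    · haveI := (subsingleton_H0_iff a M').2 (torsionSub_quotient_eq_bot a M)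
      exact Subsingleton.elim _ _
    · exact H_quotient_torsionSub_killed a M (fun y => Module.mem_annihilator.1 hk y) x
  obtain ⟨s, hs, hsz⟩ := exists_smul_eq_zero_of_killed a M' p q hpq haq 1 0 (by simp [hqh])
    (fun h => hcp (Ideal.IsPrime.mem_of_pow_mem ‹p.IsPrime› k h)) hkill le_rfl
    ((H0Equiv p (ModuleCat.of R M')).symm ⟨z, hz⟩)
  have h0 : s • z = 0 := by
    have h1 := congrArg (H0Equiv p (ModuleCat.of R M')) hsz
    rw [map_smul, LinearEquiv.apply_symm_apply, map_zero] at h1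
    exact congrArg Subtype.val h1
  rw [← Submodule.Quotient.mk_smul, Submodule.Quotient.mk_eq_zero] at h0
  obtain ⟨m, hm⟩ := h0
  refine hap (Ideal.IsPrime.le_of_pow_le (P := p) (n := m) fun r hr => ?_)
  have h2 := hm r hr
  rw [← mul_smul, ← map_smul, ← Submodule.Quotient.mk_smul, smul_eq_mul, mul_one, ← map_zero f,
    hf.eq_iff, Submodule.Quotient.mk_eq_zero] at h2
  exact ((Ideal.IsPrime.mem_or_mem ‹p.IsPrime› h2).resolve_right hs)

end Global

end Groth.L04.LC
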