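import Groth.Agent.L04.RegularPd
import Groth.Agent.S0564
import Groth.Agent.L04.LC.Faltings
import Groth.Agent.L04.LC.Hmap
import Mathlib.RingTheory.Ideal.MinimalPrime.Localization
import Mathlib.RingTheory.Ideal.MinimalPrime.Noetherian
import Mathlib.RingTheory.Spectrum.Prime.Topology

/-!
# Faltings' annihilator theorem over quotients of regular rings

The inequality `λ_a^b(M) ≤ f_a^b(M)`.
-/

universe u

open CategoryTheory Limits Abelian IsLocalRing

namespace Groth.L04.LC

section Generic

variable {R : Type u} [CommRing R] [IsNoetherianRing R]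

omit [IsNoetherianRing R] in
theorem smul_eq_zero_of_localized {c : R} (q : Ideal R) [q.IsPrime] {H : Type u} [AddCommGroup H]
    [Module R H] (x : H) (h : algebraMap R (Localization.AtPrime q) c •
      LocalizedModule.mkLinearMap q.primeCompl H x = 0) : ∃ s, s ∉ q ∧ s • c • x = 0 := by
  rw [algebraMap_smul, ← map_smul] at h
  obtain ⟨⟨s, hs⟩, hsx⟩ := (IsLocalizedModule.eq_zero_iff q.primeCompl
    (LocalizedModule.mkLinearMap q.primeCompl H)).1 h
  exact ⟨s, hs, hsx⟩

/-- At a minimal prime `q` of `a`, an element killing `H^i_q(M)` locally kills `H^i_a(M)` locally. -/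
theorem exists_smul_of_minimalPrime (a q : Ideal R) [q.IsPrime] (hq : q ∈ a.minimalPrimes) (i : ℕ)
    (M : Type u) [AddCommGroup M] [Module R M] (c : R)
    (h : ∀ y : LocCoh.H (maximalIdeal (Localization.AtPrime q)) i (LocalizedModule q.primeCompl M),
      algebraMap R (Localization.AtPrime q) c • y = 0) (x : LocCoh.H a i M) :
    ∃ s, s ∉ q ∧ s • c • x = 0 := by
  haveI : IsNoetherianRing (Localization.AtPrime q) :=
    IsLocalization.isNoetherianRing q.primeCompl _ inferInstance
  haveI : IsNoetherian (Localization.AtPrime q) (Localization.AtPrime q) := inferInstance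
  obtain ⟨e⟩ := nonempty_localizedModule_H_equiv a q.primeCompl i M
  have hrad : (a.map (algebraMap R (Localization.AtPrime q))).radical =
      (maximalIdeal (Localization.AtPrime q)).radical := by
    rw [IsLocalization.AtPrime.radical_map_of_mem_minimalPrimes (Localization.AtPrime q) q a hq,
      IsLocalization.AtPrime.map_eq_maximalIdeal q, (maximalIdeal.isMaximal _).isPrime.radical]
  let φ := ((localCohomology.isoOfSameRadical hrad i).app
    (ModuleCat.of (Localization.AtPrime q) (LocalizedModule q.primeCompl M))).toLinearEquiv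
  refine smul_eq_zero_of_localized q x (e.injective (φ.injective ?_))
  rw [map_smul, map_smul, map_zero, map_zero]
  exact h _

/-- The height induction: local annihilation at all primes over `a` gives global annihilation. -/
theorem pow_smul_H_eq_zero_of_local (a : Ideal R) (i N J : ℕ) (c : R) (M : Type u) [AddCommGroup M]
    [Module R M]
    (h1 : ∀ (q : Ideal R) [q.IsPrime], a ≤ q →
      ∀ y : LocCoh.H (maximalIdeal (Localization.AtPrime q)) i (LocalizedModule q.primeCompl M),
        algebraMap R (Localization.AtPrime q) c ^ N • y = 0)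
    (h2 : ∀ (q : Ideal R) [q.IsPrime], a ≤ q → (J : ℕ∞) ≤ q.height →
      Subsingleton (LocCoh.H (maximalIdeal (Localization.AtPrime q)) i
        (LocalizedModule q.primeCompl M))) :
    ∀ x : LocCoh.H a i M, c ^ (N * J) • x = 0 := by
  suffices H : ∀ (k : ℕ) (a' : Ideal R), a ≤ a' →
      (∀ P : Ideal R, P.IsPrime → a' ≤ P → (J : ℕ∞) ≤ P.height + k) →
      ∀ x : LocCoh.H a' i M, c ^ (N * k) • x = 0 from
    H J a le_rfl fun P _ _ => le_add_self
  intro k
  induction k with
  | zero =>
    intro a' ha' hP x
    haveI := subsingleton_H_of_local i M a' fun p hp =>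
      h2 p.asIdeal (ha'.trans hp) (by simpa using hP p.asIdeal p.2 hp)
    exact Subsingleton.elim _ _
  | succ k ih =>
    intro a' ha' hP x
    let S : Set (Ideal R) := {q ∈ a'.minimalPrimes | q.height + (k + 1 : ℕ) = J}
    have hS : S.Finite := (a'.finite_minimalPrimes_of_isNoetherianRing R).subset fun q hq => hq.1
    obtain ⟨s, hsx, hsS⟩ : ∃ s, s • c ^ N • x = 0 ∧ ∀ q ∈ S, s ∉ q := by
      by_contra hne
      push Not at hne
      obtain ⟨q, hqS, hle⟩ : ∃ q ∈ S, Ideal.torsionOf R (LocCoh.H a' i M) (c ^ N • x) ≤ q := by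
        refine (Ideal.subset_union_prime_finite hS ⊥ ⊥ (fun q hq _ _ => hq.1.isPrime)).1 ?_
        intro r hr
        obtain ⟨q, hq, hrq⟩ := hne r hr
        exact Set.mem_biUnion hq hrq
      haveI := hqS.1.isPrime
      obtain ⟨s, hs, hsx⟩ := exists_smul_of_minimalPrime a' q hqS.1 i M (c ^ N) (fun y => by
        rw [map_pow]
        exact h1 q (ha'.trans hqS.1.1.2) y) x
      exact hs (hle hsx)
    obtain ⟨y, hy⟩ := (mem_range_Hsup_iff s a' i M (c ^ N • x)).2 ⟨1, by rwa [pow_one]⟩
    have hy0 := ih (a' ⊔ Ideal.span {s}) (ha'.trans le_sup_left) (fun P hPp hle => by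
      haveI := hPp
      have hP1 := hP P hPp (le_sup_left.trans hle)
      by_contra hlt
      rw [not_le] at hlt
      have hPfin : P.height ≠ ⊤ := Ideal.height_ne_top hPp.ne_top
      obtain ⟨n, hn⟩ := ENat.ne_top_iff_exists.1 hPfin
      rw [← hn] at hP1 hlt
      have hP1' : J ≤ n + (k + 1) := by exact_mod_cast hP1
      have hlt' : n + k < J := by exact_mod_cast hlt
      obtain ⟨q, hq, hqP⟩ := Ideal.exists_minimalPrimes_le (le_sup_left.trans hle : a' ≤ P)
      haveI := hq.isPrime
      obtain ⟨m, hm⟩ := ENat.ne_top_iff_exists.1 (Ideal.height_ne_top hq.isPrime.ne_top : q.height ≠ ⊤)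
      have hmn : m ≤ n := by
        have h := Ideal.height_mono hqP
        rw [← hm, ← hn] at h
        exact_mod_cast h
      have hJm : J ≤ m + (k + 1) := by
        have h := hP q hq.isPrime hq.1.2
        rw [← hm] at h
        exact_mod_cast h
      have hqS : q ∈ S := ⟨hq, by rw [← hm]; exact_mod_cast (by omega : m + (k + 1) = J)⟩
      have heq : q = P := Ideal.eq_of_le_of_height_le (I := q) (J := P) hqP (by
        rw [← hm, ← hn]; exact_mod_cast (by omega : n ≤ m))
      exact hsS q hqS (heq ▸ hle (Ideal.mem_sup_right (Ideal.mem_span_singleton_self s)))) y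
    rw [Nat.mul_succ, pow_add, mul_smul, ← hy, ← map_smul, hy0, map_zero]

/-- If a closed set meets the generalizations of `q` only inside `V(c)`, some multiple `s * c`,
`s ∉ q`, lies in its ideal. -/
theorem exists_mul_mem_vanishingIdeal {B : Set (PrimeSpectrum R)} (hB : IsClosed B) {c : R}
    (q : Ideal R) [q.IsPrime] (h : ∀ p ∈ B, p.asIdeal ≤ q → c ∈ p.asIdeal) :
    ∃ s, s ∉ q ∧ s * c ∈ PrimeSpectrum.vanishingIdeal B := by
  set C := PrimeSpectrum.vanishingIdeal B with hC
  classical
  let F := (C.finite_minimalPrimes_of_isNoetherianRing R).toFinset.filter fun P => ¬ P ≤ q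
  obtain ⟨s, hs, hsq⟩ : ∃ s ∈ F.inf id, s ∉ q := by
    refine SetLike.not_le_iff_exists.1 fun hle => ?_
    obtain ⟨P, hP, hPq⟩ := (Ideal.IsPrime.inf_le' ‹q.IsPrime›).1 hle
    exact (Finset.mem_filter.1 hP).2 hPq
  refine ⟨s, hsq, ?_⟩
  rw [hC, PrimeSpectrum.mem_vanishingIdeal]
  intro p hp
  obtain ⟨P, hP, hPp⟩ := Ideal.exists_minimalPrimes_le
    (show C ≤ p.asIdeal from fun r hr => (PrimeSpectrum.mem_vanishingIdeal _ _).1 hr p hp)
  refine hPp ?_
  by_cases hPq : P ≤ q
  · refine P.mul_mem_left s (h ⟨P, hP.isPrime⟩ ?_ hPq)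
    have : (⟨P, hP.isPrime⟩ : PrimeSpectrum R) ∈
        PrimeSpectrum.zeroLocus (PrimeSpectrum.vanishingIdeal B : Set R) := hP.1.2
    rwa [PrimeSpectrum.zeroLocus_vanishingIdeal_eq_closure, hB.closure_eq] at this
  · exact P.mul_mem_right c ((Finset.inf_le (f := id)
      (Finset.mem_filter.2 ⟨(Set.Finite.mem_toFinset _).2 hP, hPq⟩) : F.inf id ≤ P) hs)

theorem smul_local_of_mul_pow (q : Ideal R) [q.IsPrime] (i : ℕ) (M : Type u) [AddCommGroup M]
    [Module R M] {s c : R} (hs : s ∉ q) {n N : ℕ} (hn : n ≤ N)
    (h : ∀ x : LocCoh.H q i M, (s * c) ^ n • x = 0)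
    (y : LocCoh.H (maximalIdeal (Localization.AtPrime q)) i (LocalizedModule q.primeCompl M)) :
    algebraMap R (Localization.AtPrime q) c ^ N • y = 0 := by
  have hne := nonempty_localizedModule_H_equiv q q.primeCompl i M
  rw [IsLocalization.AtPrime.map_eq_maximalIdeal q] at hne
  obtain ⟨e⟩ := hne
  obtain ⟨w, rfl⟩ := e.surjective y
  rw [← map_smul]
  convert map_zero e
  obtain ⟨⟨x, t⟩, rfl⟩ := IsLocalizedModule.mk'_surjective q.primeCompl
    (LocalizedModule.mkLinearMap q.primeCompl (LocCoh.H q i M)) w
  simp only [Function.uncurry_apply_pair]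
  rw [← map_pow, algebraMap_smul, ← IsLocalizedModule.mk'_smul,
    IsLocalizedModule.mk'_eq_zero' (LocalizedModule.mkLinearMap q.primeCompl (LocCoh.H q i M))]
  refine ⟨(⟨s, hs⟩ : q.primeCompl) ^ n, ?_⟩
  rw [Submonoid.smul_def, SubmonoidClass.coe_pow, smul_smul, ← Nat.sub_add_cancel hn, pow_add,
    mul_comm (c ^ (N - n)), ← mul_assoc, mul_comm _ (c ^ (N - n)), ← mul_pow, mul_smul, h x, smul_zero]

theorem le_depth_atPrime_iff (p : Ideal R) [p.IsPrime] (M : Type u) [AddCommGroup M] [Module R M]
    [Module.Finite R M] (n : ℕ) :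
    (n : ℕ∞) ≤ LocCoh.depth (Localization.AtPrime p) (LocalizedModule p.primeCompl M) ↔
      ∀ j < n, ∀ x : LocCoh.H p j M, ∃ s, s ∉ p ∧ s • x = 0 := by
  haveI : IsNoetherianRing (Localization.AtPrime p) :=
    IsLocalization.isNoetherianRing p.primeCompl _ inferInstance
  haveI : Module.Finite (Localization.AtPrime p) (LocalizedModule p.primeCompl M) :=
    Module.Finite.of_isLocalizedModule p.primeCompl (LocalizedModule.mkLinearMap p.primeCompl M)
  refine (le_idealDepth_iff_H (maximalIdeal (Localization.AtPrime p))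
    (LocalizedModule p.primeCompl M) n).trans (forall₂_congr fun j _ => ?_)
  have hne := nonempty_localizedModule_H_equiv p p.primeCompl j M
  rw [IsLocalization.AtPrime.map_eq_maximalIdeal p] at hne
  obtain ⟨e⟩ := hne
  exact e.toEquiv.subsingleton_congr.symm.trans (localized_H_eq_zero_iff p)

end Generic

section Regular

variable {R : Type u} [CommRing R] [IsRegularRing R]

/-- Faltings' theorem over a regular ring, for one element `c`. -/
theorem exists_pow_smul_H_of_adjDepth (a : Ideal R) (M : Type u) [AddCommGroup M] [Module R M]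
    [Module.Finite R M] (i : ℕ) (c : R)
    (hadj : ∀ p : PrimeSpectrum R, c ∉ p.asIdeal → (i : ℕ∞) < LocCoh.adjDepth a M p) :
    ∃ K : ℕ, ∀ x : LocCoh.H a i M, c ^ K • x = 0 := by
  obtain ⟨T, hT⟩ := exists_pd_bound_local (R := R) M
  choose n hn using fun t => exists_pow_vanishingIdeal_le_annihilator (R := R) M t
  obtain ⟨K, hK⟩ := Ideal.exists_pow_le_of_le_radical_of_fg
    (le_refl (Module.annihilator R M).radical) (IsNoetherian.noetherian _)
  let N := K + (Finset.range T).sup n
  have hdepth : ∀ q : Ideal R, ∀ _ : q.IsPrime, LocCoh.idealDepth q R = q.height := fun q _ =>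
    idealDepth_eq_height_of_regularRing q
  have h2 : ∀ (q : Ideal R) [q.IsPrime], ((i + T + 1 : ℕ) : ℕ∞) ≤ q.height →
      Subsingleton (LocCoh.H (maximalIdeal (Localization.AtPrime q)) i
        (LocalizedModule q.primeCompl M)) := by
    intro q _ hq
    have hlt : ((i + T : ℕ) : ℕ∞) < LocCoh.idealDepth q R := by
      rw [hdepth q ‹_›]
      exact lt_of_lt_of_le (by exact_mod_cast Nat.lt_succ_self _) hq
    have h0 : ∀ x : LocCoh.H q i M, x = 0 := fun x => by
      have h1 := hn T q i hlt
      rw [show {p : PrimeSpectrum R | ¬ HasProjectiveDimensionLE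
        (ModuleCat.of (Localization.AtPrime p.asIdeal) (LocalizedModule p.asIdeal.primeCompl M)) T} = ∅
          from Set.eq_empty_iff_forall_notMem.2 fun p hp => hp (hT p),
        show PrimeSpectrum.vanishingIdeal (∅ : Set (PrimeSpectrum R)) = ⊤ from
          (Ideal.eq_top_iff_one _).2 ((PrimeSpectrum.mem_vanishingIdeal _ _).2 fun p hp => hp.elim),
        Ideal.top_pow] at h1
      simpa using Module.mem_annihilator.1 (h1 (Submodule.mem_top : (1 : R) ∈ _)) x
    exact subsingleton_H_maximal_of_smul q M i fun x =>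
      ⟨1, fun h => Ideal.IsPrime.ne_top ‹_› ((Ideal.eq_top_iff_one q).2 h), by simp [h0 x]⟩
  refine ⟨N * (i + T + 1), pow_smul_H_eq_zero_of_local a i N (i + T + 1) c M (fun q _ haq => ?_)
    (fun q _ _ hq => h2 q hq)⟩
  -- the local statement at `q ⊇ a`
  obtain ⟨H, hH⟩ := ENat.ne_top_iff_exists.1
    (Ideal.height_ne_top (Ideal.IsPrime.ne_top ‹q.IsPrime›) : q.height ≠ ⊤)
  -- depth estimate below `q`
  have key : ∀ p : PrimeSpectrum R, p.asIdeal ≤ q → c ∉ p.asIdeal → ∃ d h : ℕ,
      ringKrullDim (Localization.AtPrime p.asIdeal) = d ∧ d + h = H ∧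
        (i : ℕ∞) < LocCoh.depth (Localization.AtPrime p.asIdeal)
          (LocalizedModule p.asIdeal.primeCompl M) + (h : ℕ∞) := by
    intro p hpq hc
    have hsum := height_add_height_quotient p.asIdeal q hpq
    rw [← hH] at hsum
    obtain ⟨d, hd⟩ := ENat.ne_top_iff_exists.1 (Ideal.height_ne_top p.2.ne_top : p.asIdeal.height ≠ ⊤)
    rw [← hd] at hsum
    obtain ⟨h, hh⟩ := ENat.ne_top_iff_exists.1
      (show (q.map (Ideal.Quotient.mk p.asIdeal)).height ≠ ⊤ by
        intro htop
        rw [htop, add_top] at hsum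
        exact ENat.top_ne_coe H hsum)
    rw [← hh] at hsum
    refine ⟨d, h, ?_, by exact_mod_cast hsum, (hadj p hc).trans_le ?_⟩
    · rw [IsLocalization.AtPrime.ringKrullDim_eq_height p.asIdeal, ← hd]
      rfl
    · rw [hh]
      exact add_le_add le_rfl (Ideal.height_mono (Ideal.map_mono (sup_le haq hpq)))
  rcases Nat.lt_or_ge i H with hiH | hiH
  · -- `t = H - i - 1`
    set t := H - i - 1 with ht
    rcases Nat.lt_or_ge t T with htT | htT
    swap
    · intro y
      haveI := h2 q (by rw [← hH]; exact_mod_cast (by omega : i + T + 1 ≤ H))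
      exact Subsingleton.elim _ _
    have hclosed : IsClosed {p : PrimeSpectrum R | ¬ HasProjectiveDimensionLE
        (ModuleCat.of (Localization.AtPrime p.asIdeal) (LocalizedModule p.asIdeal.primeCompl M)) t} :=
      (isOpen_pdLE M t).isClosed_compl
    obtain ⟨s, hs, hsc⟩ := exists_mul_mem_vanishingIdeal hclosed q (c := c) fun p hp hpq => by
      by_contra hc
      refine hp ?_
      obtain ⟨d, h, hd, hdh, hlt⟩ := key p hpq hc
      haveI : IsRegularLocalRing (Localization.AtPrime p.asIdeal) :=
        IsRegularRing.isRegularLocalRing_localization p.asIdeal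
      haveI : Module.Finite (Localization.AtPrime p.asIdeal) (LocalizedModule p.asIdeal.primeCompl M) :=
        Module.Finite.of_isLocalizedModule p.asIdeal.primeCompl
          (LocalizedModule.mkLinearMap p.asIdeal.primeCompl M)
      refine hasProjectiveDimensionLE_of_dim_le_add_depth _ hd ?_
      generalize LocCoh.depth (Localization.AtPrime p.asIdeal)
        (LocalizedModule p.asIdeal.primeCompl M) = e at hlt ⊢
      induction e with
      | top => simp
      | coe e =>
        have hlt' : i < e + h := by exact_mod_cast hlt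
        exact_mod_cast (by omega : d ≤ t + e)
    refine smul_local_of_mul_pow q i M hs
      ((Finset.le_sup (f := n) (Finset.mem_range.2 htT)).trans (Nat.le_add_left _ _)) fun x => ?_
    refine Module.mem_annihilator.1 (hn t q i ?_ (Ideal.pow_mem_pow hsc _)) x
    rw [hdepth q ‹_›, ← hH]
    exact_mod_cast (by omega : i + t < H)
  · -- `M` vanishes at `q` away from `V(c)`
    obtain ⟨s, hs, hsc⟩ := exists_mul_mem_vanishingIdeal
      (PrimeSpectrum.isClosed_zeroLocus (Module.annihilator R M : Set R)) q (c := c) fun p hp hpq => by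
      by_contra hc
      obtain ⟨d, h, hd, hdh, hlt⟩ := key p hpq hc
      haveI : Nontrivial (LocalizedModule p.asIdeal.primeCompl M) :=
        Module.mem_support_iff.1 (by rw [Module.support_eq_zeroLocus]; exact hp)
      haveI : IsNoetherianRing (Localization.AtPrime p.asIdeal) :=
        IsLocalization.isNoetherianRing p.asIdeal.primeCompl _ inferInstance
      haveI : Module.Finite (Localization.AtPrime p.asIdeal) (LocalizedModule p.asIdeal.primeCompl M) :=
        Module.Finite.of_isLocalizedModule p.asIdeal.primeCompl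
          (LocalizedModule.mkLinearMap p.asIdeal.primeCompl M)
      have hle := (depth_le_supportDim (R := Localization.AtPrime p.asIdeal)
        (M := LocalizedModule p.asIdeal.primeCompl M)).trans
          (Module.supportDim_le_ringKrullDim _ _)
      rw [hd, ← WithBot.coe_natCast, WithBot.coe_le_coe] at hle
      have h3 := hlt.trans_le (add_le_add hle le_rfl)
      have h4 : i < d + h := by exact_mod_cast h3
      omega
    rw [PrimeSpectrum.vanishingIdeal_zeroLocus_eq_radical] at hsc
    refine smul_local_of_mul_pow q i M hs (Nat.le_add_right K _) fun x => ?_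
    exact smul_H_eq_zero_of_annihilator q i
      (Module.mem_annihilator.1 (hK (Ideal.pow_mem_pow hsc K))) x

end Regular

/-- S11660. -/
theorem minAdjDepth_le_finDimRel (S : Type u) [CommRing S] [IsRegularRing S] (R : Type u) [CommRing R]
    [IsNoetherianRing R] (π : S →+* R) (hπ : Function.Surjective π) (a b : Ideal R) (M : Type u)
    [AddCommGroup M] [Module R M] [Module.Finite R M] :
    LocCoh.minAdjDepth a b M ≤ LocCoh.finDimRel a b M := by
  refine le_iInf₂ fun i hi => ?_
  by_contra hlt
  rw [not_le] at hlt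
  refine hi fun c hcb => ?_
  letI : Algebra S R := π.toAlgebra
  letI : Module S M := Module.compHom M π
  haveI : IsScalarTower S R M := IsScalarTower.of_algebraMap_smul fun _ _ => rfl
  haveI : Module.Finite S R := Module.Finite.of_surjective (Algebra.linearMap S R) hπ
  haveI : Module.Finite S M := Module.Finite.trans R M
  obtain ⟨c, rfl⟩ := hπ c
  let a' := a.comap (algebraMap S R)
  have hadj : ∀ p' : PrimeSpectrum S, c ∉ p'.asIdeal → (i : ℕ∞) < LocCoh.adjDepth a' M p' := by
    intro p' hc
    by_cases hker : RingHom.ker π ≤ p'.asIdeal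
    · let p : Ideal R := p'.asIdeal.map π
      haveI : p.IsPrime := Ideal.map_isPrime_of_surjective hπ hker
      have hcomap : p.comap π = p'.asIdeal := by
        rw [Ideal.comap_map_of_surjective' π hπ, sup_eq_left.2 hker]
      have hcp : ¬ b ≤ p := fun hle => hc (hcomap ▸ hle hcb)
      refine hlt.trans_le ((iInf₂_le (⟨p, inferInstance⟩ : PrimeSpectrum R) hcp).trans ?_)
      refine add_le_add ?_ (le_of_eq ?_)
      · refine ENat.forall_natCast_le_iff_le.1 fun m hm => ?_
        refine (le_depth_atPrime_iff p'.asIdeal M m).2 fun j hj x => ?_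
        obtain ⟨φ, hφ⟩ := exists_H_restrict_equiv (R' := R) p'.asIdeal j M
        obtain ⟨y, rfl⟩ := φ.surjective x
        obtain ⟨r, hr, hry⟩ := (le_depth_atPrime_iff p M m).1 hm j hj y
        obtain ⟨s, rfl⟩ := hπ r
        refine ⟨s, fun hs => hr (Ideal.mem_map_of_mem π hs), ?_⟩
        rw [← hφ]
        exact (congrArg φ hry).trans (map_zero φ)
      · have hle : p'.asIdeal ≤ RingHom.ker ((Ideal.Quotient.mk p).comp π) := fun r hr => by
          rw [RingHom.mem_ker, RingHom.comp_apply, Ideal.Quotient.eq_zero_iff_mem]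
          exact Ideal.mem_map_of_mem π hr
        let f := Ideal.Quotient.lift p'.asIdeal ((Ideal.Quotient.mk p).comp π) hle
        have hf : Function.Bijective f := by
          refine ⟨(Ideal.injective_lift_iff hle).2 (le_antisymm ?_ hle),
            Ideal.Quotient.lift_surjective_of_surjective _ _ (Ideal.Quotient.mk_surjective.comp hπ)⟩
          intro r hr
          rw [RingHom.mem_ker, RingHom.comp_apply, Ideal.Quotient.eq_zero_iff_mem] at hr
          rw [← hcomap]
          exact hr
        have hfe : ((a' ⊔ p'.asIdeal).map (Ideal.Quotient.mk p'.asIdeal)).map (RingEquiv.ofBijective f hf) =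
            (a ⊔ p).map (Ideal.Quotient.mk p) := by
          rw [Ideal.map_sup, Ideal.map_quotient_self, sup_bot_eq, Ideal.map_sup, Ideal.map_quotient_self,
            sup_bot_eq]
          change Ideal.map f (Ideal.map (Ideal.Quotient.mk p'.asIdeal) a') = _
          rw [Ideal.map_map]
          conv_rhs => rw [← Ideal.map_comap_of_surjective π hπ a, Ideal.map_map]
          rfl
        rw [← hfe, RingEquiv.height_map]
    · obtain ⟨s, hs, hsp⟩ := SetLike.not_le_iff_exists.1 hker
      haveI : Subsingleton (LocalizedModule p'.asIdeal.primeCompl M) := by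
        rw [LocalizedModule.subsingleton_iff]
        intro m
        refine ⟨s, hsp, ?_⟩
        rw [← algebraMap_smul R s m, show algebraMap S R s = 0 from hs, zero_smul]
      have htop : LocCoh.depth (Localization.AtPrime p'.asIdeal)
          (LocalizedModule p'.asIdeal.primeCompl M) = ⊤ :=
        idealDepth_eq_top (Subsingleton.elim _ _)
      unfold LocCoh.adjDepth
      rw [htop, top_add]
      exact ENat.coe_lt_top i
  obtain ⟨K, hK⟩ := exists_pow_smul_H_of_adjDepth a' M i c hadj
  refine ⟨K, Module.mem_annihilator.2 fun y => ?_⟩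
  have key : ∀ (I : Ideal R), a'.map (algebraMap S R) = I → ∀ y : LocCoh.H I i M, π c ^ K • y = 0 := by
    rintro I rfl y
    obtain ⟨φ, hφ⟩ := exists_H_restrict_equiv (R' := R) a' i M
    refine φ.injective ?_
    rw [map_zero, ← map_pow]
    exact (hφ _ _).trans (hK _)
  exact key a (Ideal.map_comap_of_surjective π hπ a) y

/-- S11659. -/
theorem le_vanishingIdeal_pd {R : Type u} [CommRing R] [IsRegularLocalRing R] (d : ℕ)
    (hd : ringKrullDim R = d) (M : Type u) [AddCommGroup M] [Module R M] [Module.Finite R M]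
    (b : Ideal R) (t : ℕ)
    (ht : (d : ℕ∞) ≤ (t : ℕ∞) + LocCoh.minAdjDepth (maximalIdeal R) b M) :
    b ≤ (PrimeSpectrum.vanishingIdeal {p : PrimeSpectrum R | ¬ HasProjectiveDimensionLE
      (ModuleCat.of (Localization.AtPrime p.asIdeal)
        (LocalizedModule p.asIdeal.primeCompl M)) t}) := by
  intro c hc
  rw [PrimeSpectrum.mem_vanishingIdeal]
  intro p hp
  by_contra hcp
  refine hp ?_
  haveI := isCohenMacaulayLocalRing_of_regular R
  haveI : IsRegularLocalRing (Localization.AtPrime p.asIdeal) :=
    Groth.Agent.S0564.result R p.asIdeal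
  haveI : Module.Finite (Localization.AtPrime p.asIdeal) (LocalizedModule p.asIdeal.primeCompl M) :=
    Module.Finite.of_isLocalizedModule p.asIdeal.primeCompl
      (LocalizedModule.mkLinearMap p.asIdeal.primeCompl M)
  have hsum := height_add_ringKrullDim_quotient p.asIdeal
  haveI := Groth.L01.isLocalRing_quotient (I := p.asIdeal) p.2.ne_top
  rw [← IsLocalRing.maximalIdeal_height_eq_ringKrullDim (R := R ⧸ p.asIdeal), hd,
    ← WithBot.coe_natCast, ← WithBot.coe_add, WithBot.coe_inj,
    Groth.L01.maximalIdeal_quotient_eq_map] at hsum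
  obtain ⟨e, he⟩ := ENat.ne_top_iff_exists.1 (Ideal.height_ne_top p.2.ne_top : p.asIdeal.height ≠ ⊤)
  refine hasProjectiveDimensionLE_of_dim_le_add_depth _ (d := e) ?_ ?_
  · rw [IsLocalization.AtPrime.ringKrullDim_eq_height p.asIdeal, ← he]
    rfl
  · have h1 : LocCoh.minAdjDepth (maximalIdeal R) b M ≤
        LocCoh.depth (Localization.AtPrime p.asIdeal) (LocalizedModule p.asIdeal.primeCompl M) +
          ((maximalIdeal R).map (Ideal.Quotient.mk p.asIdeal)).height :=
      (iInf₂_le p (fun h => hcp (h hc))).trans (add_le_add le_rfl (Ideal.height_mono (Ideal.map_mono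
        (sup_le le_rfl (le_maximalIdeal p.2.ne_top)))))
    have h2 := ht.trans (add_le_add le_rfl h1)
    rw [← hsum, ← he, ← add_assoc,
      add_comm ((maximalIdeal R).map (Ideal.Quotient.mk p.asIdeal)).height] at h2
    refine (ENat.add_le_add_iff_right ?_).1 h2
    intro htop
    rw [htop, top_add] at hsum
    exact ENat.top_ne_coe d hsum

end Groth.L04.LC
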