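import Groth.Agent.L04.LC.Depth
import Groth.Agent.L04.LC.Nonvanish
import Groth.Agent.L04.LC.Vanish
import Groth.Agent.L04.Canon.CMProps
import Groth.Agent.S0340
import Groth.Agent.S0341
import Groth.Agent.S11665

/-!
# Gorenstein rings and local cohomology concentrated in one degree
-/

set_option autoImplicit false
universe u

open CategoryTheory CategoryTheory.Abelian IsLocalRing

noncomputable section

namespace Groth.L04.LC

variable {R : Type u} [CommRing R] [IsNoetherianRing R] (I : Ideal R)

/-- If local cohomology of `N` is concentrated in degree `d` and injective there, `Ext^i(F, N)`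
vanishes for `i > d` and `F` torsion. -/
theorem subsingleton_ext_of_single_injective : ∀ (d : ℕ) (N : Type u) [AddCommGroup N] [Module R N],
    (∀ j, j ≠ d → Subsingleton (LocCoh.H I j N)) → Module.Injective R (LocCoh.H I d N) →
      ∀ (F : Type u) [AddCommGroup F] [Module R F], LocCoh.IsPowerTorsion I F → ∀ i, d < i →
        Subsingleton (Ext (ModuleCat.of R F) (ModuleCat.of R N) i) := by
  intro d
  induction d with
  | zero =>
    intro N _ _ hN hinj F _ _ hF i hi
    set T := DRing.torsionSub I N
    have hT : Module.Injective R T :=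
      Groth.L04.injective_of_linearEquiv (H0Equiv I (ModuleCat.of R N)) hinj
    have hQ : ∀ j, Subsingleton (LocCoh.H I j (N ⧸ T)) := fun j => by
      rcases Nat.eq_zero_or_pos j with rfl | hj
      · exact (subsingleton_H0_iff I (N ⧸ T)).2 (torsionSub_quotient_eq_bot I N)
      · haveI := hN j (by omega)
        exact (H_map_mkQ_torsionSub_bijective I N hj).surjective.subsingleton
    haveI h3 := subsingleton_ext_of_H I (i + 1) (N ⧸ T) (fun j _ => hQ j) F hF i (by omega)
    have hS := ses_shortExact T.subtype T.mkQ T.injective_subtype T.mkQ_surjective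
      (LinearMap.exact_subtype_mkQ T)
    refine subsingleton_of_forall_eq 0 fun x => ?_
    obtain ⟨x₁, rfl⟩ := Ext.covariant_sequence_exact₂ (ModuleCat.of R F) hS x (Subsingleton.elim _ _)
    obtain ⟨k, rfl⟩ := Nat.exists_eq_add_of_le hi
    haveI : Injective (ModuleCat.of R T) := Module.injective_object_of_injective_module R T
    haveI : Subsingleton (Ext (ModuleCat.of R F) (ModuleCat.of R T) (0 + 1 + k)) := by
      rw [show 0 + 1 + k = k + 1 by omega]
      exact subsingleton_of_forall_eq 0 fun a => Ext.eq_zero_of_injective a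
    rw [Subsingleton.elim x₁ 0, Ext.zero_comp]
  | succ d ih =>
    intro N _ _ hN hinj F _ _ hF i hi
    obtain ⟨Q, _, _, hH, hExt⟩ := exists_shift I N ((subsingleton_H0_iff I N).1 (hN 0 (by omega)))
    obtain ⟨k, rfl⟩ := Nat.exists_eq_add_of_le (show 1 ≤ i by omega)
    rw [show 1 + k = k + 1 by omega]
    haveI := ih Q (fun j hj => by
      haveI := hN (j + 1) (by omega)
      exact (hH j).some.toEquiv.subsingleton)
      (Groth.L04.injective_of_linearEquiv (hH d).some.symm hinj) F hF k (by omega)
    exact (hExt F hF k).some.symm.toEquiv.subsingleton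

theorem gorenstein_of_single_injective (A : Type u) [CommRing A] [IsLocalRing A] [IsNoetherianRing A]
    (d : ℕ) (h : ∀ i, i ≠ d → Subsingleton (LocCoh.H (maximalIdeal A) i A))
    (hinj : Module.Injective A (LocCoh.H (maximalIdeal A) d A)) : LocCoh.IsGorensteinLocalRing A := by
  refine (Groth.Agent.S0340.result A).2 ⟨d + 1, fun i hi =>
    subsingleton_ext_of_single_injective (maximalIdeal A) d A h hinj (ResidueField A)
      (fun x => ⟨1, fun a ha => ?_⟩) i (by omega)⟩
  rw [pow_one] at ha
  obtain ⟨y, rfl⟩ := IsLocalRing.residue_surjective x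
  rw [Algebra.smul_def, ← IsLocalRing.ResidueField.algebraMap_eq, ← map_mul,
    IsLocalRing.ResidueField.algebraMap_eq, IsLocalRing.residue_eq_zero_iff]
  exact (maximalIdeal A).mul_mem_right _ ha

theorem single_injective_of_gorenstein (A : Type u) [CommRing A] [LocCoh.IsGorensteinLocalRing A] :
    ∃ d : ℕ, (∀ i : ℕ, i ≠ d → Subsingleton (LocCoh.H (maximalIdeal A) i A)) ∧
      Module.Injective A (LocCoh.H (maximalIdeal A) d A) := by
  haveI := Groth.Agent.S0341.result A
  obtain ⟨d, hd⟩ := Groth.L01.exists_dim_eq_nat (R := A)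
  refine ⟨d, fun i hi => ?_, ?_⟩
  · rcases Nat.lt_or_gt_of_ne hi with h | h
    · exact (le_idealDepth_iff_H (maximalIdeal A) A d).1 (Groth.L04.Canon.depth_self hd).ge i h
    · refine subsingleton_H_of_supportDim_lt (maximalIdeal A) A i ?_
      rw [Module.supportDim_self_eq_ringKrullDim, hd]
      exact_mod_cast h
  · obtain ⟨g, hg⟩ := Groth.Agent.S11665.result A d hd
    exact hg.isInjective

end Groth.L04.LC
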