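import Groth.Agent.L04.LC.PuncturedLinear
import Groth.Agent.L03.QcOpenExtend

/-!
# Cohomology of coherent modules on the punctured spectrum is Artinian
-/

set_option autoImplicit false
set_option linter.style.haveILetI false
set_option backward.isDefEq.respectTransparency false
set_option backward.isDefEq.respectTransparency.types false

universe u

open CategoryTheory AlgebraicGeometry TopologicalSpace Opposite

namespace Groth.L04.PunctLin

open Groth.L16

variable {A : Type u} [CommRing A] [IsNoetherianRing A] [IsLocalRing A]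

theorem isArtinian_HH (F : (↑(LocCoh.puncturedOpen A (IsLocalRing.maximalIdeal A)) : Scheme.{u}).Modules)
    (hF : Coh.IsCoh F) (i : ℕ) (hi : 0 < i) :
    IsArtinian A (Coh.HH (↑(LocCoh.puncturedOpen A (IsLocalRing.maximalIdeal A)) : Scheme.{u}) F i) := by
  obtain ⟨N, hN, ⟨e⟩⟩ := Groth.L03.QcOpenExtend.exists_finite_tilde_restrict (A := CommRingCat.of A)
    (LocCoh.puncturedOpen A (IsLocalRing.maximalIdeal A)) (NoetherianSpace.isCompact _) F hF
  obtain ⟨p, rfl⟩ : ∃ p, i = p + 1 := ⟨i - 1, by omega⟩
  obtain ⟨L⟩ := nonempty_equiv (IsLocalRing.maximalIdeal A) p N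
  haveI : Module.Finite A N := hN
  haveI : IsArtinian A ((localCohomology (IsLocalRing.maximalIdeal A) (p + 2)).obj N) :=
    Groth.L04.LC.isArtinian_H_maximalIdeal (R := A) (p + 2) N
  refine isArtinian_of_injective (L.toLinearMap ∘ₗ CohLinear.overLin A (CohLinear.hmap e.hom (p + 1)))
    (L.injective.comp fun x y h => ?_)
  change CohLinear.hmap e.hom (p + 1) x = CohLinear.hmap e.hom (p + 1) y at h
  have hid : ∀ z, CohLinear.hmap e.inv (p + 1) (CohLinear.hmap e.hom (p + 1) z) = z := fun z => by
    rw [← CohLinear.hmap_comp, e.hom_inv_id, CohLinear.hmap_id]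
  rw [← hid x, h, hid y]

end Groth.L04.PunctLin
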