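import Groth.Agent.L04.LC.LowestDegree
import Groth.Agent.L04.LC.ExtLoc
import Mathlib.LinearAlgebra.PiTensorProduct.Finite
import Mathlib.LinearAlgebra.TensorPower.Basic
import Mathlib.LinearAlgebra.Dual.Defs

/-!
# Reflexive hulls of modules that are free of rank one off a closed set of codimension two
-/

set_option autoImplicit false
set_option linter.style.haveILetI false
universe u

open IsLocalRing
open scoped TensorProduct

noncomputable section

namespace Groth.L04.RefPow

variable {A : Type u} [CommRing A] [IsNoetherianRing A]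

/-- A module of depth `≥ 1` along `J` has no nonzero element vanishing off `V(J)`. -/
theorem eq_zero_of_locally {J : Ideal A} {M : Type u} [AddCommGroup M] [Module A M] [Module.Finite A M]
    (hM : (1 : ℕ∞) ≤ LocCoh.idealDepth J M) (x : M)
    (hx : ∀ p : PrimeSpectrum A, ¬ J ≤ p.asIdeal → ∃ t ∉ p.asIdeal, t • x = 0) : x = 0 := by
  have hle : J ≤ Ideal.radical (LinearMap.ker (LinearMap.toSpanSingleton A M x)) := by
    rw [Ideal.radical_eq_sInf]
    refine le_sInf fun q hq => ?_
    by_contra hJq
    obtain ⟨t, ht, htx⟩ := hx ⟨q, hq.2⟩ hJq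
    exact ht (hq.1 (by simpa [LinearMap.mem_ker] using htx))
  obtain ⟨n, hn⟩ := Ideal.exists_pow_le_of_le_radical_of_fg hle (IsNoetherian.noetherian _)
  suffices ∀ n, ∀ y : M, (∀ a ∈ J ^ n, a • y = 0) → y = 0 from
    this n x fun a ha => by simpa [LinearMap.mem_ker] using hn ha
  intro n
  induction n with
  | zero => intro y hy; simpa using hy 1 (by simp)
  | succ n ih =>
    intro y hy
    refine ih y fun a ha => Groth.L04.hom_zero_of_one_le hM fun b hb => ?_
    rw [← mul_smul]
    exact hy _ (by rw [pow_succ']; exact Ideal.mul_mem_mul hb ha)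

variable {L : Type u} [AddCommGroup L] [Module A L] [Module.Finite A L]

/-- A generator of a module that is free of rank one at `p`. -/
theorem exists_gen (p : PrimeSpectrum A)
    (hf : Module.Free (Localization.AtPrime p.asIdeal) (LocalizedModule p.asIdeal.primeCompl L))
    (hr : Module.finrank (Localization.AtPrime p.asIdeal) (LocalizedModule p.asIdeal.primeCompl L) = 1) :
    ∃ (φ : L →ₗ[A] A) (z : L) (t : A), t ∉ p.asIdeal ∧ φ z ∉ p.asIdeal ∧
      ∀ x : L, t • (φ z • x - φ x • z) = 0 := by
  classical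
  let S := p.asIdeal.primeCompl
  let B := Localization.AtPrime p.asIdeal
  let mk := LocalizedModule.mkLinearMap S L
  haveI : Module.Finite B (LocalizedModule S L) :=
    Module.Finite.equiv (LocalizedModule.equivTensorProduct S L).symm
  haveI := hf
  let e : LocalizedModule S L ≃ₗ[B] B := LinearEquiv.ofFinrankEq _ B (hr.trans (Module.finrank_self B).symm)
  haveI : Module.FinitePresentation A L := Module.finitePresentation_of_finite A L
  obtain ⟨φ, s, hφ⟩ : ∃ (φ : L →ₗ[A] A) (s : S), ∀ x, algebraMap A B (φ x) = algebraMap A B s * e (mk x) := by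
    obtain ⟨φ, s, hφ⟩ := Module.FinitePresentation.exists_lift_of_isLocalizedModule S
      (Algebra.linearMap A B) ((e.toLinearMap.restrictScalars A).comp mk)
    refine ⟨φ, s, fun x => ?_⟩
    have h := LinearMap.congr_fun hφ x
    rw [← Algebra.smul_def]
    exact h

  obtain ⟨⟨z, s'⟩, hz⟩ := IsLocalizedModule.surj S mk (e.symm 1)
  have hz' : e (mk z) = algebraMap A B s' := by
    rw [← show (s' : A) • e.symm 1 = mk z from hz, ← algebraMap_smul B (s' : A), map_smul,
      e.apply_symm_apply, smul_eq_mul, mul_one]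
  have hu : φ z ∉ p.asIdeal := by
    have h := hφ z
    rw [hz'] at h
    have hunit : IsUnit (algebraMap A B (φ z)) := by
      rw [h]
      exact (IsLocalization.map_units B s).mul (IsLocalization.map_units B s')
    exact (IsLocalization.AtPrime.isUnit_to_map_iff B p.asIdeal (φ z)).1 hunit
  let g : L →ₗ[A] L := φ z • LinearMap.id - φ.smulRight z
  have hg : ∀ x, mk (g x) = 0 := fun x => e.injective (by
    simp only [g, LinearMap.sub_apply, LinearMap.smul_apply, LinearMap.id_apply, LinearMap.smulRight_apply,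
      map_sub, map_zero, LinearMap.map_smul]
    rw [← algebraMap_smul B (φ z) (mk x), ← algebraMap_smul B (φ x) (mk z), map_smul, map_smul,
      smul_eq_mul, smul_eq_mul, hφ z, hφ x]
    ring)
  obtain ⟨G, hG⟩ := (Module.Finite.fg_top : (⊤ : Submodule A L).FG)
  have hgen : ∀ x : L, ∃ t : A, t ∉ p.asIdeal ∧ t • g x = 0 := fun x => by
    obtain ⟨⟨t, ht⟩, htx⟩ := (IsLocalizedModule.eq_zero_iff S mk).1 (hg x)
    exact ⟨t, ht, htx⟩
  choose t ht htx using hgen
  refine ⟨φ, z, ∏ x ∈ G, t x, fun h => ?_, hu, fun x => ?_⟩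
  · obtain ⟨x, -, hx⟩ := (p.isPrime.prod_mem_iff).1 h
    exact ht x hx
  · have hle : (⊤ : Submodule A L) ≤ LinearMap.ker ((∏ x ∈ G, t x) • g) := by
      rw [← hG, Submodule.span_le]
      intro y hy
      rw [SetLike.mem_coe, LinearMap.mem_ker, LinearMap.smul_apply, ← Finset.prod_erase_mul G t hy, mul_smul,
        htx, smul_zero]
    simpa [g, LinearMap.mem_ker] using hle (Submodule.mem_top (x := x))

/-- Reflexivity. -/
theorem isReflexive {J : Ideal A} (hL : (2 : ℕ∞) ≤ LocCoh.idealDepth J L) (hA : (1 : ℕ∞) ≤ LocCoh.idealDepth J A)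
    (hoff : ∀ p : PrimeSpectrum A, ¬ J ≤ p.asIdeal →
      Module.Free (Localization.AtPrime p.asIdeal) (LocalizedModule p.asIdeal.primeCompl L) ∧
      Module.finrank (Localization.AtPrime p.asIdeal) (LocalizedModule p.asIdeal.primeCompl L) = 1) :
    Module.IsReflexive A L := by
  let ev := Module.Dual.eval A L
  have hinj : Function.Injective ev := (injective_iff_map_eq_zero _).2 fun x hx => by
    refine eq_zero_of_locally (one_le_two.trans hL) x fun p hp => ?_
    obtain ⟨φ, z, t, ht, hu, hall⟩ := exists_gen p (hoff p hp).1 (hoff p hp).2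
    refine ⟨t * φ z, fun h => (p.isPrime.mem_or_mem h).elim ht hu, ?_⟩
    have h0 : φ x = 0 := LinearMap.congr_fun hx φ
    have := hall x
    rw [h0, zero_smul, sub_zero, ← mul_smul] at this
    exact this
  refine ⟨⟨hinj, fun ξ => ?_⟩⟩
  have hD : (1 : ℕ∞) ≤ LocCoh.idealDepth J (Module.Dual A (Module.Dual A L)) :=
    (Groth.L04.idealDepth_dual J (Module.Dual A L)).1 hA
  have hC : (1 : ℕ∞) ≤ LocCoh.idealDepth J (Module.Dual A (Module.Dual A L) ⧸ LinearMap.range ev) := by
    have h := Groth.L04.le_idealDepth_right (n := 1) (I := J) hinj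
      (Submodule.mkQ_surjective (LinearMap.range ev)) (LinearMap.exact_map_mkQ_range ev)
      (by exact_mod_cast hL) (by exact_mod_cast hD)
    exact_mod_cast h
  refine (Submodule.Quotient.mk_eq_zero (LinearMap.range ev)).1
    (eq_zero_of_locally hC (Submodule.Quotient.mk ξ) fun p hp => ?_)
  obtain ⟨φ, z, t, ht, hu, hall⟩ := exists_gen p (hoff p hp).1 (hoff p hp).2
  refine ⟨t * φ z, fun h => (p.isPrime.mem_or_mem h).elim ht hu, ?_⟩
  rw [← Submodule.Quotient.mk_smul, Submodule.Quotient.mk_eq_zero]
  refine ⟨(t * ξ φ) • z, LinearMap.ext fun ψ => ?_⟩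
  have h1 : (t * φ z) • ψ = (t * ψ z) • φ := LinearMap.ext fun x => by
    have h := congrArg ψ (hall x)
    simp only [map_smul, map_sub, map_zero, smul_eq_mul] at h
    simp only [LinearMap.smul_apply, smul_eq_mul]
    linear_combination h
  have h2 := congrArg ξ h1
  rw [map_smul, map_smul, smul_eq_mul, smul_eq_mul] at h2
  change ψ ((t * ξ φ) • z) = (t * φ z) * ξ ψ
  rw [map_smul, smul_eq_mul, h2]
  ring

omit [Module.Finite A L] in
/-- `A` localized, as a module. -/
def selfEquiv (p : PrimeSpectrum A) :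
    LocalizedModule p.asIdeal.primeCompl A ≃ₗ[Localization.AtPrime p.asIdeal] Localization.AtPrime p.asIdeal :=
  (LocalizedModule.equivTensorProduct p.asIdeal.primeCompl A).trans
    (TensorProduct.AlgebraTensorModule.rid A (Localization.AtPrime p.asIdeal) (Localization.AtPrime p.asIdeal))

theorem le_depth_of_hasSk {k : ℕ} (h : LocCoh.HasSk k A A) (p : PrimeSpectrum A) (j : ℕ) (hjk : j ≤ k)
    (hj : (j : WithBot ℕ∞) ≤ ringKrullDim (Localization.AtPrime p.asIdeal)) :
    (j : ℕ∞) ≤ LocCoh.depth (Localization.AtPrime p.asIdeal) (Localization.AtPrime p.asIdeal) := by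
  have h1 := h p.asIdeal
  rw [Module.supportDim_eq_of_equiv (selfEquiv p), Module.supportDim_self_eq_ringKrullDim] at h1
  unfold LocCoh.depth at h1 ⊢
  rw [Groth.L04.idealDepth_congr (selfEquiv p)] at h1
  exact WithBot.coe_le_coe.1 (le_trans (le_min (by exact_mod_cast hjk) hj) h1)

theorem le_idealDepth_of_hasSk {k : ℕ} (h : LocCoh.HasSk k A A) (J : Ideal A) (j : ℕ) (hjk : j ≤ k)
    (hJ : (j : ℕ∞) ≤ J.height) : (j : ℕ∞) ≤ LocCoh.idealDepth J A := by
  rw [Groth.L04.idealDepth_eq_iInf_depth]
  refine le_iInf₂ fun p hp => ?_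
  unfold LocCoh.depth
  rw [Groth.L04.idealDepth_congr (selfEquiv p)]
  refine le_depth_of_hasSk h p j hjk ?_
  rw [IsLocalization.AtPrime.ringKrullDim_eq_height p.asIdeal (Localization.AtPrime p.asIdeal)]
  exact_mod_cast hJ.trans (Ideal.height_mono hp)

/-- Duals over an `(S₂)` ring satisfy `(S₂)`. -/
theorem hasSk_two_dual (h : LocCoh.HasSk 2 A A) (N : Type u) [AddCommGroup N] [Module A N] [Module.Finite A N] :
    LocCoh.HasSk 2 A (Module.Dual A N) := by
  obtain ⟨n, m, w, ⟨e⟩⟩ := Groth.L04.exists_dual_equiv_ker (R := A) N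
  have key : ∀ (k : ℕ) (q : Ideal A) [q.IsPrime] (j : ℕ), j ≤ 2 →
      (j : WithBot ℕ∞) ≤ Module.supportDim (Localization.AtPrime q) (LocalizedModule q.primeCompl (Module.Dual A N)) →
      (j : ℕ∞) ≤ LocCoh.depth (Localization.AtPrime q) (LocalizedModule q.primeCompl (Fin k → A)) := by
    intro k q _ j hj hle
    have hdep := le_depth_of_hasSk h ⟨q, inferInstance⟩ j hj
      (hle.trans (Module.supportDim_le_ringKrullDim _ _))
    unfold LocCoh.depth at hdep ⊢
    rw [Groth.L04.idealDepth_congr (LocalizedModule.equivTensorProduct q.primeCompl (Fin k → A))]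
    exact Groth.L04.le_idealDepth_free _ _ hdep
  refine Groth.L04.hasSk_of_exact ((LinearMap.ker w).subtype.comp e.toLinearMap)
    ((LinearMap.ker w).injective_subtype.comp e.injective) w ?_ 2 le_rfl
    (fun q _ hq => key n q 2 le_rfl (by exact_mod_cast hq))
    (fun _ q _ hq => by
      have := key m q 1 (by omega) (le_trans (by exact_mod_cast (one_le_two (α := ℕ∞))) hq)
      exact_mod_cast this)
    (fun _ q _ hq => by
      have := key n q 1 (by omega) (by exact_mod_cast hq)
      exact_mod_cast this)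
  rw [LinearMap.exact_iff, LinearMap.range_comp, LinearEquiv.range, Submodule.map_top, Submodule.range_subtype]

end Groth.L04.RefPow
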