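import Groth.Agent.L29.Dual.RegularDuality
import Groth.Agent.L04.LC.ExtCompare
import Groth.Agent.L04.LC.ExtLoc
import Groth.Agent.L04.LC.FaltingsRegular
import Groth.Agent.L04.Matlis

/-!
# Local cohomology at a prime of a regular ring via `Ext^k(M, R)`
-/

universe u

open CategoryTheory Limits Abelian IsLocalRing Opposite

namespace Groth.L04.LC

section Local

variable {R : Type u} [CommRing R] [IsRegularLocalRing R] (M : Type u) [AddCommGroup M] [Module R M]
  [Module.Finite R M]

theorem exists_H_equiv_dual {d : ℕ} (hd : ringKrullDim R = d) (i : ℕ) (hi : i ≤ d) :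
    ∃ (E : Type u) (_ : AddCommGroup E) (_ : Module R E) (f : ResidueField R →ₗ[R] E),
      InjHull.IsInjectiveHull f ∧ Nonempty (LocCoh.H (maximalIdeal R) i M ≃ₗ[R]
        (Ext (ModuleCat.of R M) (ModuleCat.of R R) (d - i) →ₗ[R] E)) := by
  obtain ⟨E, iA, iM, f, hf⟩ := Groth.Agent.S0299.result R (ResidueField R)
  obtain ⟨e⟩ := Groth.L29.LocDual.nonempty_H_equiv_regular d hd f hf M i hi
  exact ⟨E, iA, iM, f, hf, ⟨e ≪≫ₗ (extIso R (d - i) (ModuleCat.of R M)
    (ModuleCat.of R R)).toLinearEquiv.arrowCongr (LinearEquiv.refl R E)⟩⟩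

theorem smul_H_eq_zero_of_ext {d : ℕ} (hd : ringKrullDim R = d) (i : ℕ) (hi : i ≤ d) {r : R}
    (h : ∀ e : Ext (ModuleCat.of R M) (ModuleCat.of R R) (d - i), r • e = 0)
    (x : LocCoh.H (maximalIdeal R) i M) : r • x = 0 := by
  obtain ⟨E, _, _, f, hf, ⟨φ⟩⟩ := exists_H_equiv_dual M hd i hi
  refine φ.injective (LinearMap.ext fun e => ?_)
  rw [map_smul, map_zero, LinearMap.smul_apply, LinearMap.zero_apply, ← map_smul, h e, map_zero]

theorem subsingleton_H_iff_ext {d : ℕ} (hd : ringKrullDim R = d) (i : ℕ) (hi : i ≤ d) :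
    Subsingleton (LocCoh.H (maximalIdeal R) i M) ↔
      Subsingleton (Ext (ModuleCat.of R M) (ModuleCat.of R R) (d - i)) := by
  obtain ⟨E, _, _, f, hf, ⟨φ⟩⟩ := exists_H_equiv_dual M hd i hi
  rw [φ.toEquiv.subsingleton_congr]
  exact ⟨fun h => (applyₗ_injective hf _).subsingleton, fun h => ⟨fun a b =>
    LinearMap.ext fun e => by rw [Subsingleton.elim e 0, map_zero, map_zero]⟩⟩

theorem smul_surjective_H_of_ext {d : ℕ} (hd : ringKrullDim R = d) (i : ℕ) (hi : i ≤ d) {r : R}
    (h : IsSMulRegular (Ext (ModuleCat.of R M) (ModuleCat.of R R) (d - i)) r) :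
    Function.Surjective fun x : LocCoh.H (maximalIdeal R) i M => r • x := by
  obtain ⟨E, _, _, f, hf, ⟨φ⟩⟩ := exists_H_equiv_dual M hd i hi
  intro y
  obtain ⟨g, hg⟩ := hf.isInjective.out
    (r • (LinearMap.id : Ext (ModuleCat.of R M) (ModuleCat.of R R) (d - i) →ₗ[R] _))
    (fun a b hab => h hab) (φ y)
  refine ⟨φ.symm g, φ.injective (LinearMap.ext fun e => ?_)⟩
  rw [map_smul, φ.apply_symm_apply, LinearMap.smul_apply, ← map_smul]
  exact hg e

theorem annihilator_H_eq_ext {d : ℕ} (hd : ringKrullDim R = d) (i : ℕ) (hi : i ≤ d) :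
    Module.annihilator R (LocCoh.H (maximalIdeal R) i M) =
      Module.annihilator R (Ext (ModuleCat.of R M) (ModuleCat.of R R) (d - i)) := by
  obtain ⟨E, _, _, f, hf, ⟨φ⟩⟩ := exists_H_equiv_dual M hd i hi
  rw [φ.annihilator_eq, ← annihilator_dual_eq hf]

end Local

section Ring

variable {R : Type u} [CommRing R]

theorem subsingleton_localized_mono {N : Type u} [AddCommGroup N] [Module R N] {p q : Ideal R}
    [p.IsPrime] [q.IsPrime] (hpq : p ≤ q) (h : Subsingleton (LocalizedModule q.primeCompl N)) :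
    Subsingleton (LocalizedModule p.primeCompl N) := by
  rw [LocalizedModule.subsingleton_iff] at h ⊢
  intro m
  obtain ⟨r, hr, hrm⟩ := h m
  exact ⟨r, fun hrp => hr (hpq hrp), hrm⟩

variable [IsRegularRing R] (M : Type u) [AddCommGroup M] [Module R M] [Module.Finite R M]

theorem finite_localized (q : Ideal R) [q.IsPrime] :
    Module.Finite (Localization.AtPrime q) (LocalizedModule q.primeCompl M) :=
  Module.Finite.of_isLocalizedModule q.primeCompl (LocalizedModule.mkLinearMap q.primeCompl M)

theorem ringKrullDim_atPrime {q : Ideal R} [q.IsPrime] {H : ℕ} (hH : q.height = H) :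
    ringKrullDim (Localization.AtPrime q) = H := by
  rw [IsLocalization.AtPrime.ringKrullDim_eq_height q, hH]
  rfl

theorem nonempty_localized_ext_self_equiv (q : Ideal R) [q.IsPrime] (k : ℕ) :
    Nonempty (LocalizedModule q.primeCompl (Ext (ModuleCat.of R M) (ModuleCat.of R R) k)
      ≃ₗ[Localization.AtPrime q]
      Ext (ModuleCat.of (Localization.AtPrime q) (LocalizedModule q.primeCompl M))
        (ModuleCat.of (Localization.AtPrime q) (Localization.AtPrime q)) k) := by
  obtain ⟨e⟩ := nonempty_localized_ext_equiv q.primeCompl k M R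
  let ι := Ext.mk₀ (localizedModuleSelfEquiv (R := R) q).toModuleIso.hom
  let j := Ext.mk₀ (localizedModuleSelfEquiv (R := R) q).toModuleIso.inv
  let F := ((Ext.bilinearCompOfLinear (Localization.AtPrime q)
    (ModuleCat.of (Localization.AtPrime q) (LocalizedModule q.primeCompl M)) _ _ k 0 k
    (add_zero k)).flip ι)
  refine ⟨e ≪≫ₗ LinearEquiv.ofBijective F ⟨?_, fun y => ⟨y.comp j (add_zero k), ?_⟩⟩⟩
  · refine Function.LeftInverse.injective (g := fun y => y.comp j (add_zero k)) fun x => ?_
    change (x.comp ι (add_zero k)).comp j (add_zero k) = x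
    rw [Ext.comp_assoc_of_third_deg_zero, Ext.mk₀_comp_mk₀, Iso.hom_inv_id, Ext.comp_mk₀_id]
  · change (y.comp j (add_zero k)).comp ι (add_zero k) = y
    rw [Ext.comp_assoc_of_third_deg_zero, Ext.mk₀_comp_mk₀, Iso.inv_hom_id, Ext.comp_mk₀_id]

theorem smul_local_H_of_ext (q : Ideal R) [q.IsPrime] {H : ℕ} (hH : q.height = H) (i : ℕ) (hi : i ≤ H)
    {r : R} (h : ∀ e : LocalizedModule q.primeCompl (Ext (ModuleCat.of R M) (ModuleCat.of R R) (H - i)),
      algebraMap R (Localization.AtPrime q) r • e = 0)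
    (x : LocCoh.H (maximalIdeal (Localization.AtPrime q)) i (LocalizedModule q.primeCompl M)) :
    algebraMap R (Localization.AtPrime q) r • x = 0 := by
  haveI : IsRegularLocalRing (Localization.AtPrime q) := IsRegularRing.isRegularLocalRing_localization q
  haveI := finite_localized M q
  obtain ⟨e⟩ := nonempty_localized_ext_self_equiv M q (H - i)
  refine smul_H_eq_zero_of_ext _ (ringKrullDim_atPrime hH) i hi (fun y => ?_) x
  obtain ⟨z, rfl⟩ := e.surjective y
  rw [← map_smul, h z, map_zero]

theorem subsingleton_local_H_iff_ext (q : Ideal R) [q.IsPrime] {H : ℕ} (hH : q.height = H) (i : ℕ)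
    (hi : i ≤ H) :
    Subsingleton (LocCoh.H (maximalIdeal (Localization.AtPrime q)) i (LocalizedModule q.primeCompl M)) ↔
      Subsingleton (LocalizedModule q.primeCompl (Ext (ModuleCat.of R M) (ModuleCat.of R R) (H - i))) := by
  haveI : IsRegularLocalRing (Localization.AtPrime q) := IsRegularRing.isRegularLocalRing_localization q
  haveI := finite_localized M q
  obtain ⟨e⟩ := nonempty_localized_ext_self_equiv M q (H - i)
  rw [subsingleton_H_iff_ext _ (ringKrullDim_atPrime hH) i hi, e.toEquiv.subsingleton_congr]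

theorem subsingleton_local_H_of_height_lt (q : Ideal R) [q.IsPrime] {H : ℕ} (hH : q.height = H) {i : ℕ}
    (hi : H < i) :
    Subsingleton (LocCoh.H (maximalIdeal (Localization.AtPrime q)) i (LocalizedModule q.primeCompl M)) := by
  haveI := finite_localized M q
  haveI : IsNoetherianRing (Localization.AtPrime q) :=
    IsLocalization.isNoetherianRing q.primeCompl _ inferInstance
  refine subsingleton_H_of_supportDim_lt _ _ i (lt_of_le_of_lt (Module.supportDim_le_ringKrullDim _ _) ?_)
  rw [ringKrullDim_atPrime hH]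
  exact_mod_cast hi

/-- `H^{j+h}_q(M)_q = 0` implies `H^j_p(M)_p = 0` when `p ≤ q` and `h = ht (q/p)`. -/
theorem subsingleton_local_H_of_le (p q : Ideal R) [p.IsPrime] [q.IsPrime] (hpq : p ≤ q) {h j : ℕ}
    (hh : (q.map (Ideal.Quotient.mk p)).height = h)
    (hq : Subsingleton (LocCoh.H (maximalIdeal (Localization.AtPrime q)) (j + h)
      (LocalizedModule q.primeCompl M))) :
    Subsingleton (LocCoh.H (maximalIdeal (Localization.AtPrime p)) j
      (LocalizedModule p.primeCompl M)) := by
  obtain ⟨d, hd⟩ := ENat.ne_top_iff_exists.1 (Ideal.height_ne_top (Ideal.IsPrime.ne_top ‹p.IsPrime›) : p.height ≠ ⊤)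
  have hsum := height_add_height_quotient p q hpq
  rw [← hd, hh, ← Nat.cast_add] at hsum
  rcases Nat.lt_or_ge d j with hj | hj
  · exact subsingleton_local_H_of_height_lt M p hd.symm hj
  · rw [subsingleton_local_H_iff_ext M q hsum.symm (j + h) (by omega),
      show d + h - (j + h) = d - j by omega] at hq
    exact (subsingleton_local_H_iff_ext M p hd.symm j hj).2 (subsingleton_localized_mono hpq hq)

/-- An element of `p` regular on all `Ext^k(M, R)_p` acts surjectively on `H^j_p(M)_p`. -/
theorem smul_surjective_local_H (p : Ideal R) [p.IsPrime] (j : ℕ) {r : R}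
    (h : ∀ k : ℕ, IsSMulRegular
      (LocalizedModule p.primeCompl (Ext (ModuleCat.of R M) (ModuleCat.of R R) k))
      (algebraMap R (Localization.AtPrime p) r)) :
    Function.Surjective fun x : LocCoh.H (maximalIdeal (Localization.AtPrime p)) j
      (LocalizedModule p.primeCompl M) => algebraMap R (Localization.AtPrime p) r • x := by
  obtain ⟨d, hd⟩ := ENat.ne_top_iff_exists.1 (Ideal.height_ne_top (Ideal.IsPrime.ne_top ‹p.IsPrime›) : p.height ≠ ⊤)
  rcases Nat.lt_or_ge d j with hj | hj
  · haveI := subsingleton_local_H_of_height_lt M p hd.symm hj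
    exact fun y => ⟨y, Subsingleton.elim _ _⟩
  haveI : IsRegularLocalRing (Localization.AtPrime p) := IsRegularRing.isRegularLocalRing_localization p
  haveI := finite_localized M p
  obtain ⟨e⟩ := nonempty_localized_ext_self_equiv M p (d - j)
  exact smul_surjective_H_of_ext _ (ringKrullDim_atPrime hd.symm) j hj
    ((e.isSMulRegular_congr _).1 (h (d - j)))

theorem subsingleton_ext_self_of_pd_le {T : ℕ} (hT : HasProjectiveDimensionLE (ModuleCat.of R M) T)
    {k : ℕ} (hk : T < k) : Subsingleton (Ext (ModuleCat.of R M) (ModuleCat.of R R) k) :=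
  haveI := hT
  HasProjectiveDimensionLT.subsingleton (ModuleCat.of R M) (T + 1) k hk _

end Ring

end Groth.L04.LC
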