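import Groth.Agent.L04.LC.RegularDuality
import Mathlib.RingTheory.Ideal.AssociatedPrime.Finiteness
import Mathlib.RingTheory.Ideal.AssociatedPrime.Localization

/-!
# Finiteness of one local cohomology module over a regular ring

SGA 2 VIII 2.1: if `H^i_p(M)_p = 0` for every `p ∌ a` covered by a prime containing `a`, then
`H^{i+1}_a(M)` is finite.
-/

universe u

open CategoryTheory Limits Abelian IsLocalRing

open scoped Pointwise

namespace Groth.L04.LC

section Generic

variable {R : Type u} [CommRing R]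

/-- `H^i_p (M)` vanishes at `p`. -/
def LocZero (p : Ideal R) (i : ℕ) (M : Type u) [AddCommGroup M] [Module R M] : Prop :=
  ∀ x : LocCoh.H p i M, ∃ s, s ∉ p ∧ s • x = 0

/-- `H^i_p (M)` vanishes at every prime `p ∌ a` covered by a prime containing `a`. -/
def CoverHyp (a : Ideal R) (i : ℕ) (M : Type u) [AddCommGroup M] [Module R M] : Prop :=
  ∀ p q : PrimeSpectrum R, ¬ a ≤ p.asIdeal → a ≤ q.asIdeal → p ≤ q →
    (q.asIdeal.map (Ideal.Quotient.mk p.asIdeal)).height = 1 → LocZero p.asIdeal i M

theorem subsingleton_local_iff_locZero [IsNoetherianRing R] (p : Ideal R) [p.IsPrime] (i : ℕ)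
    (M : Type u) [AddCommGroup M] [Module R M] :
    Subsingleton (LocCoh.H (maximalIdeal (Localization.AtPrime p)) i
      (LocalizedModule p.primeCompl M)) ↔ LocZero p i M := by
  have hne := nonempty_localizedModule_H_equiv p p.primeCompl i M
  rw [IsLocalization.AtPrime.map_eq_maximalIdeal p] at hne
  obtain ⟨e⟩ := hne
  exact e.toEquiv.subsingleton_congr.symm.trans (localized_H_eq_zero_iff p)

variable [IsNoetherianRing R]

/-- In a noetherian ring, between `p` and `q` there is a prime avoiding `c` just below `q`. -/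
theorem exists_between_height_one (p q : Ideal R) [p.IsPrime] [q.IsPrime] (hpq : p ≤ q) {c : R}
    (hc : c ∈ q) (hcp : c ∉ p) :
    ∃ P : Ideal R, P.IsPrime ∧ p ≤ P ∧ P ≤ q ∧ c ∉ P ∧ (q.map (Ideal.Quotient.mk P)).height = 1 := by
  obtain ⟨P, ⟨hP, hpP, hPq, hcP⟩, hmax⟩ := set_has_maximal_iff_noetherian.2
    (inferInstance : IsNoetherian R R) {P : Ideal R | P.IsPrime ∧ p ≤ P ∧ P ≤ q ∧ c ∉ P}
    ⟨p, ‹_›, le_rfl, hpq, hcp⟩
  haveI := hP
  refine ⟨P, hP, hpP, hPq, hcP, le_antisymm ?_ ?_⟩
  · set B := R ⧸ P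
    set Q := q.map (Ideal.Quotient.mk P)
    haveI hQ : Q.IsPrime :=
      Ideal.map_isPrime_of_surjective Ideal.Quotient.mk_surjective (by simpa using hPq)
    let cb : B := Ideal.Quotient.mk P c
    have hmem : ∀ J : Ideal B, J.IsPrime → J ≤ Q → J ≠ ⊥ → cb ∈ J := by
      intro J hJ hJQ hne
      by_contra hcJ
      refine hne ?_
      have hle : P ≤ J.comap (Ideal.Quotient.mk P) := fun r hr => by
        rw [Ideal.mem_comap, Ideal.Quotient.eq_zero_iff_mem.2 hr]
        exact J.zero_mem
      have hleq : J.comap (Ideal.Quotient.mk P) ≤ q := (Ideal.comap_mono hJQ).trans_eq (by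
        rw [Ideal.comap_map_of_surjective' _ Ideal.Quotient.mk_surjective, Ideal.mk_ker, sup_eq_left.2 hPq])
      have heq : P = J.comap (Ideal.Quotient.mk P) := by
        by_contra hne'
        exact hmax _ ⟨Ideal.comap_isPrime _ _, hpP.trans hle, hleq, hcJ⟩ (hle.lt_of_ne hne')
      rw [← Ideal.map_comap_of_surjective _ Ideal.Quotient.mk_surjective J, ← heq,
        Ideal.map_quotient_self]
    let F : Set (Ideal B) := (Ideal.span {cb}).minimalPrimes
    have hF : F.Finite := (Ideal.span {cb}).finite_minimalPrimes_of_isNoetherianRing B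
    obtain ⟨J, hJ, hQJ⟩ : ∃ J ∈ F, Q ≤ J := by
      refine (Ideal.subset_union_prime_finite hF ⊥ ⊥ (fun J hJ _ _ => hJ.isPrime)).1 ?_
      intro x hx
      have hcQ : cb ∈ Q := Ideal.mem_map_of_mem _ hc
      rcases eq_or_ne x 0 with rfl | hx0
      · obtain ⟨J, hJ, -⟩ := Ideal.exists_minimalPrimes_le ((Ideal.span_singleton_le_iff_mem _).2 hcQ)
        exact Set.mem_biUnion hJ J.zero_mem
      obtain ⟨J, hJ, hJQ⟩ := Ideal.exists_minimalPrimes_le ((Ideal.span_singleton_le_iff_mem _).2 hx)
      haveI := hJ.isPrime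
      have hJne : J ≠ ⊥ := fun h => hx0 (by
        have : x ∈ J := hJ.1.2 (Ideal.mem_span_singleton_self x)
        simpa [h] using this)
      have hcJ := hmem J hJ.isPrime hJQ hJne
      obtain ⟨J', hJ', hJ'J⟩ := Ideal.exists_minimalPrimes_le ((Ideal.span_singleton_le_iff_mem _).2 hcJ)
      have hJ'ne : J' ≠ ⊥ := fun h => hcP (by
        have : cb ∈ J' := hJ'.1.2 (Ideal.mem_span_singleton_self cb)
        rwa [h, Ideal.mem_bot, Ideal.Quotient.eq_zero_iff_mem] at this)
      haveI := hJ'.isPrime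
      have heq : J' = J := Ideal.eq_of_le_of_height_le (I := J') (J := J) hJ'J
        ((Ideal.height_le_one_of_isPrincipal_of_mem_minimalPrimes (Ideal.span {x}) J hJ).trans
          (Order.one_le_iff_ne_zero.2 fun h0 => hJ'ne ((Ideal.height_eq_zero_iff_eq_bot).1 h0)))
      exact Set.mem_biUnion hJ' (heq ▸ hJ.1.2 (Ideal.mem_span_singleton_self x))
    haveI := hJ.isPrime
    exact (Ideal.height_mono hQJ).trans
      (Ideal.height_le_one_of_isPrincipal_of_mem_minimalPrimes (Ideal.span {cb}) J hJ)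
  · refine Order.one_le_iff_ne_zero.2 fun h => hcP ?_
    have h0 := (Ideal.height_eq_zero_iff_eq_bot).1 h
    have : Ideal.Quotient.mk P c ∈ q.map (Ideal.Quotient.mk P) := Ideal.mem_map_of_mem _ hc
    rwa [h0, Ideal.mem_bot, Ideal.Quotient.eq_zero_iff_mem] at this

/-- Multiplication by `r` is injective on `E_p` if no associated prime below `p` contains `r`. -/
theorem isSMulRegular_localized_of_associatedPrimes (p : Ideal R) [p.IsPrime] (E : Type u)
    [AddCommGroup E] [Module R E] [Module.Finite R E] {r : R}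
    (h : ∀ P ∈ associatedPrimes R E, r ∈ P → ¬ P ≤ p) :
    IsSMulRegular (LocalizedModule p.primeCompl E) (algebraMap R (Localization.AtPrime p) r) := by
  intro a b hab
  rw [← sub_eq_zero]
  have hab' : algebraMap R (Localization.AtPrime p) r • (a - b) = 0 := by
    rw [smul_sub, sub_eq_zero]; exact hab
  obtain ⟨⟨e, u⟩, he⟩ := IsLocalizedModule.mk'_surjective p.primeCompl
    (LocalizedModule.mkLinearMap p.primeCompl E) (a - b)
  simp only [Function.uncurry_apply_pair] at he
  rw [← he, algebraMap_smul, ← IsLocalizedModule.mk'_smul, IsLocalizedModule.mk'_eq_zero'] at hab'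
  obtain ⟨⟨t, ht⟩, htr⟩ := hab'
  let N : Submodule R E := LinearMap.ker (LinearMap.lsmul R E r)
  have hN : t • e ∈ N := by
    change r • t • e = 0
    rw [smul_comm]
    exact htr
  rw [← he, IsLocalizedModule.mk'_eq_zero']
  by_contra hne
  haveI : Module.Finite R N := Module.Finite.of_fg (IsNoetherian.noetherian _)
  have hann : Module.annihilator R N ≤ p := fun v hv => by
    by_contra hvp
    exact hne ⟨⟨v * t, p.primeCompl.mul_mem hvp ht⟩, by
      rw [Submonoid.smul_def, mul_smul]
      exact congrArg Subtype.val (Module.mem_annihilator.1 hv ⟨t • e, hN⟩)⟩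
  obtain ⟨P, hP, hPp⟩ := Ideal.exists_minimalPrimes_le hann
  refine h P (associatedPrimes.subset_of_injective N.injective_subtype
    (Module.associatedPrimes.minimalPrimes_annihilator_subset_associatedPrimes R N hP)) (hP.1.2 ?_) hPp
  exact Module.mem_annihilator.2 fun z => Subtype.ext (by simpa using z.2)

theorem smul_H_torsionSub_eq_zero (a : Ideal R) (M : Type u) [AddCommGroup M] [Module R M]
    [IsNoetherian R M] (p : Ideal R) [p.IsPrime] (hp : ¬ a ≤ p) (i : ℕ) :
    ∃ s, s ∉ p ∧ ∀ x : LocCoh.H p i (DRing.torsionSub a M), s • x = 0 := by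
  obtain ⟨r, hr, hrp⟩ := SetLike.not_le_iff_exists.1 hp
  haveI : Module.Finite R (DRing.torsionSub a M) := Module.Finite.of_fg (IsNoetherian.noetherian _)
  obtain ⟨k, hk⟩ := exists_pow_smul_eq_zero_of_finite a (isPowerTorsion_torsionSub a M)
  exact ⟨r ^ k, fun h => hrp (Ideal.IsPrime.mem_of_pow_mem ‹p.IsPrime› k h), fun x =>
    smul_H_eq_zero_of_annihilator p i (fun m => hk _ (Ideal.pow_mem_pow hr k) m) x⟩

theorem locZero_quotient_torsionSub {a : Ideal R} {M : Type u} [AddCommGroup M] [Module R M]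
    [Module.Finite R M] {p : Ideal R} [p.IsPrime] (hp : ¬ a ≤ p) {i : ℕ} (h : LocZero p i M) :
    LocZero p i (M ⧸ DRing.torsionSub a M) := by
  haveI : IsNoetherian R M := isNoetherian_of_isNoetherianRing_of_finite R M
  set T := DRing.torsionSub a M
  intro x
  have hS := ses_shortExact T.subtype T.mkQ T.injective_subtype T.mkQ_surjective
    (LinearMap.exact_subtype_mkQ T)
  obtain ⟨s, hs, hs'⟩ := smul_H_torsionSub_eq_zero a M p hp (i + 1)
  have h0 : Hδ p hS i (s • x) = 0 := (map_smul (Hδ p hS i) s x).trans (hs' _)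
  obtain ⟨z, hz⟩ := (H_exact₃ p hS i (s • x)).1 h0
  obtain ⟨t, ht, htz⟩ := h z
  refine ⟨t * s, fun hmem => (Ideal.IsPrime.mem_or_mem ‹p.IsPrime› hmem).elim ht hs, ?_⟩
  rw [mul_smul]
  refine (congrArg (fun v => t • v) hz.symm).trans ?_
  exact (map_smul _ t z).symm.trans (by
    rw [show t • z = 0 from htz]
    exact map_zero _)

theorem injective_H_mkQ_torsionSub (a : Ideal R) (i : ℕ) (M : Type u) [AddCommGroup M] [Module R M] :
    Function.Injective ((localCohomology a (i + 1)).map
      (ModuleCat.ofHom (DRing.torsionSub a M).mkQ)).hom := by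
  set T := DRing.torsionSub a M
  have hS := ses_shortExact T.subtype T.mkQ T.injective_subtype T.mkQ_surjective
    (LinearMap.exact_subtype_mkQ T)
  haveI h0 : Subsingleton (LocCoh.H a (i + 1) T) :=
    subsingleton_H_of_isPowerTorsion (I := a) i T (isPowerTorsion_torsionSub a M)
  rw [injective_iff_map_eq_zero]
  intro x hx
  obtain ⟨y, rfl⟩ := (H_exact₂ a hS (i + 1) x).1 hx
  rw [show y = 0 from @Subsingleton.elim _ h0 y 0]
  exact map_zero _

end Generic

section Regular

variable {R : Type u} [CommRing R] [IsRegularRing R]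

/-- Elements of `a` act nilpotently on `H^{i+1}_a(M)`. -/
theorem exists_pow_smul_H_of_coverHyp (a : Ideal R) (i : ℕ) (M : Type u) [AddCommGroup M] [Module R M]
    [Module.Finite R M] (h : CoverHyp a i M) {c : R} (hc : c ∈ a) :
    ∃ K : ℕ, ∀ x : LocCoh.H a (i + 1) M, c ^ K • x = 0 := by
  obtain ⟨T, hT⟩ := exists_hasProjectiveDimensionLE_of_isRegularRing (R := R) M
  let E : ℕ → Type u := fun k => Ext (ModuleCat.of R M) (ModuleCat.of R R) k
  have hn : ∀ k, ∃ n : ℕ, (Module.annihilator R (E k)).radical ^ n ≤ Module.annihilator R (E k) :=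
    fun k => Ideal.exists_pow_le_of_le_radical_of_fg (le_refl _) (IsNoetherian.noetherian _)
  choose n hn using hn
  let N := (Finset.range (T + 1)).sup n
  have hbig : ∀ (q : Ideal R) [q.IsPrime] (H : ℕ), q.height = H → i + 1 ≤ H → T < H - (i + 1) →
      Subsingleton (LocCoh.H (maximalIdeal (Localization.AtPrime q)) (i + 1)
        (LocalizedModule q.primeCompl M)) := by
    intro q _ H hH hi hk
    rw [subsingleton_local_H_iff_ext M q hH (i + 1) hi]
    haveI := subsingleton_ext_self_of_pd_le M hT hk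
    rw [LocalizedModule.subsingleton_iff]
    exact fun m => ⟨1, fun h1 => Ideal.IsPrime.ne_top ‹q.IsPrime› ((Ideal.eq_top_iff_one q).2 h1),
      Subsingleton.elim _ _⟩
  refine ⟨N * (i + 1 + T + 1), pow_smul_H_eq_zero_of_local a (i + 1) N (i + 1 + T + 1) c M
    (fun q _ haq => ?_) (fun q _ haq hq => ?_)⟩
  · obtain ⟨H, hH⟩ := ENat.ne_top_iff_exists.1
      (Ideal.height_ne_top (Ideal.IsPrime.ne_top ‹q.IsPrime›) : q.height ≠ ⊤)
    rcases Nat.lt_or_ge H (i + 1) with hiH | hiH
    · intro y
      haveI := subsingleton_local_H_of_height_lt M q hH.symm hiH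
      exact Subsingleton.elim _ _
    rcases Nat.lt_or_ge T (H - (i + 1)) with hk | hk
    · intro y
      haveI := hbig q H hH.symm hiH hk
      exact Subsingleton.elim _ _
    set k := H - (i + 1) with hkdef
    obtain ⟨s, hs, hsc⟩ := exists_mul_mem_vanishingIdeal
      (PrimeSpectrum.isClosed_zeroLocus (Module.annihilator R (E k) : Set R)) q (c := c) fun p hp hpq => by
      by_contra hcp
      obtain ⟨P, hP, hpP, hPq, hcP, hone⟩ := exists_between_height_one p.asIdeal q hpq (haq hc) hcp
      haveI := hP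
      obtain ⟨d, hd⟩ := ENat.ne_top_iff_exists.1 (Ideal.height_ne_top hP.ne_top : P.height ≠ ⊤)
      have hsum := height_add_height_quotient P q hPq
      rw [hone, ← hd, ← hH] at hsum
      have hsum' : d + 1 = H := by exact_mod_cast hsum
      have h0 := (subsingleton_local_iff_locZero P i M).2
        (h ⟨P, hP⟩ ⟨q, inferInstance⟩ (fun hle => hcP (hle hc)) haq hPq hone)
      rw [subsingleton_local_H_iff_ext M P hd.symm i (by omega), show d - i = k by omega] at h0
      have hsupp : p ∈ Module.support R (E k) := by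
        rw [Module.support_eq_zeroLocus]
        exact hp
      exact not_nontrivial_iff_subsingleton.2 (subsingleton_localized_mono hpP h0)
        (Module.mem_support_iff.1 hsupp)
    rw [PrimeSpectrum.vanishingIdeal_zeroLocus_eq_radical] at hsc
    intro y
    have hle : n k ≤ N := Finset.le_sup (f := n) (Finset.mem_range.2 (Nat.lt_succ_of_le hk))
    rw [← map_pow]
    refine smul_local_H_of_ext M q hH.symm (i + 1) hiH (fun z => ?_) y
    obtain ⟨⟨e, u⟩, rfl⟩ := IsLocalizedModule.mk'_surjective q.primeCompl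
      (LocalizedModule.mkLinearMap q.primeCompl (E k)) z
    simp only [Function.uncurry_apply_pair]
    rw [algebraMap_smul, ← IsLocalizedModule.mk'_smul,
      IsLocalizedModule.mk'_eq_zero' (LocalizedModule.mkLinearMap q.primeCompl (E k))]
    refine ⟨(⟨s, hs⟩ : q.primeCompl) ^ n k, ?_⟩
    have h1 := Module.mem_annihilator.1 (hn k (Ideal.pow_mem_pow hsc (n k))) e
    rw [mul_pow, mul_smul] at h1
    rw [Submonoid.smul_def, SubmonoidClass.coe_pow, ← Nat.sub_add_cancel hle, pow_add, mul_smul,
      smul_comm, h1, smul_zero]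
  · obtain ⟨H, hH⟩ := ENat.ne_top_iff_exists.1
      (Ideal.height_ne_top (Ideal.IsPrime.ne_top ‹q.IsPrime›) : q.height ≠ ⊤)
    rw [← hH] at hq
    have hq' : i + 1 + T + 1 ≤ H := by exact_mod_cast hq
    exact hbig q H hH.symm (by omega) (by omega)

/-- The core of S2929. -/
theorem finite_H_succ_of_coverHyp (a : Ideal R) : ∀ (i : ℕ) (M : Type u) [AddCommGroup M] [Module R M]
    [Module.Finite R M], CoverHyp a i M → Module.Finite R (LocCoh.H a (i + 1) M) := by
  intro i
  induction i using Nat.strong_induction_on with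
  | _ i ih =>
  intro M _ _ _ hM
  set M' := M ⧸ DRing.torsionSub a M with hM'def
  have hM' : CoverHyp a i M' := fun p q hp hq hpq h1 =>
    locZero_quotient_torsionSub hp (hM p q hp hq hpq h1)
  suffices hfin : Module.Finite R (LocCoh.H a (i + 1) M') by
    exact Module.Finite.of_injective
      (((localCohomology a (i + 1)).map (ModuleCat.ofHom (DRing.torsionSub a M).mkQ)).hom :
        LocCoh.H a (i + 1) M →ₗ[R] LocCoh.H a (i + 1) M')
      (injective_H_mkQ_torsionSub a i M)
  obtain ⟨T, hT⟩ := exists_hasProjectiveDimensionLE_of_isRegularRing (R := R) M'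
  classical
  let F : Set (Ideal R) := {P | ¬ a ≤ P ∧ ((P ∈ associatedPrimes R M') ∨
    ∃ k ≤ T, P ∈ associatedPrimes R (Ext (ModuleCat.of R M') (ModuleCat.of R R) k))}
  have hF : F.Finite := by
    refine ((associatedPrimes.finite R M').union (Set.Finite.biUnion (Finset.range (T + 1)).finite_toSet
      (t := fun k => associatedPrimes R (Ext (ModuleCat.of R M') (ModuleCat.of R R) k))
      fun k _ => associatedPrimes.finite R _)).subset ?_
    rintro P ⟨-, hP | ⟨k, hk, hP⟩⟩
    · exact Or.inl hP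
    · exact Or.inr (Set.mem_biUnion (by simpa [Nat.lt_succ_iff] using hk) hP)
  obtain ⟨y, hya, hyF⟩ : ∃ y ∈ a, ∀ P ∈ F, y ∉ P := by
    by_contra hne
    push Not at hne
    obtain ⟨P, hP, hle⟩ := (Ideal.subset_union_prime_finite hF ⊥ ⊥ (fun P hP _ _ => by
      rcases hP.2 with h | ⟨k, -, h⟩ <;> exact IsAssociatedPrime.isPrime h)).1 (fun y hy => by
        obtain ⟨P, hP, hyP⟩ := hne y hy
        exact Set.mem_biUnion hP hyP)
    exact hP.1 hle
  have hreg : IsSMulRegular M' y := by
    by_contra hnr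
    have hmem : y ∈ ⋃ P ∈ associatedPrimes R M', (P : Set R) := by
      rw [biUnion_associatedPrimes_eq_compl_regular R M']
      exact hnr
    obtain ⟨P, hP, hyP⟩ := Set.mem_iUnion₂.1 hmem
    refine hyF P ⟨fun haP => ?_, Or.inl hP⟩ hyP
    obtain ⟨z, hz⟩ := (isAssociatedPrime_iff.1 hP).2
    have hz0 : z ∈ DRing.torsionSub a M' := ⟨1, fun r hr => by
      rw [pow_one] at hr
      have := haP hr
      rw [hz] at this
      simpa using this⟩
    rw [torsionSub_quotient_eq_bot a M, Submodule.mem_bot] at hz0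
    exact (IsAssociatedPrime.isPrime hP).ne_top ((Ideal.eq_top_iff_one P).2 (by rw [hz, hz0]; simp))
  obtain ⟨K, hK⟩ := exists_pow_smul_H_of_coverHyp a i M' hM' hya
  have hregK := hreg.pow (K + 1)
  have hS := (show IsSMulRegular (ModuleCat.of R M') (y ^ (K + 1)) from hregK).smulShortComplex_shortExact
  let δ : LocCoh.H a i (QuotSMulTop (y ^ (K + 1)) M') →ₗ[R] LocCoh.H a (i + 1) M' := Hδ a hS i
  have hsurj : Function.Surjective δ := fun x =>
    (mem_range_Hδ_iff a hregK i x).2 (by rw [pow_succ', mul_smul, hK x, smul_zero])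
  suffices hfin : Module.Finite R (LocCoh.H a i (QuotSMulTop (y ^ (K + 1)) M')) from
    Module.Finite.of_surjective δ hsurj
  rcases i with _ | i
  · exact H_finite_zero a _
  refine ih i (by omega) _ fun p q hp hq hpq h1 x => ?_
  by_cases hyp : y ∈ p.asIdeal
  swap
  · refine ⟨y ^ (K + 1), fun h => hyp (p.2.mem_of_pow_mem _ h), ?_⟩
    refine smul_H_eq_zero_of_annihilator p.asIdeal i (fun m => ?_) x
    obtain ⟨m, rfl⟩ := Submodule.mkQ_surjective _ m
    rw [← map_smul, Submodule.mkQ_apply, Submodule.Quotient.mk_eq_zero]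
    exact Submodule.smul_mem_pointwise_smul m _ _ trivial
  obtain ⟨s, hs, hsx⟩ := hM' p q hp hq hpq h1 (Hδ p.asIdeal hS i x)
  obtain ⟨z, hz⟩ := (H_exact₃ p.asIdeal hS i (s • x)).1 ((map_smul (Hδ p.asIdeal hS i) s x).trans hsx)
  have hregE : ∀ k : ℕ, IsSMulRegular
      (LocalizedModule p.asIdeal.primeCompl (Ext (ModuleCat.of R M') (ModuleCat.of R R) k))
      (algebraMap R (Localization.AtPrime p.asIdeal) (y ^ (K + 1))) := by
    intro k
    rw [map_pow]
    refine IsSMulRegular.pow _ ?_
    refine isSMulRegular_localized_of_associatedPrimes p.asIdeal _ fun P hP hyP hPp => ?_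
    rcases Nat.lt_or_ge T k with hk | hk
    · haveI := subsingleton_ext_self_of_pd_le M' hT hk
      obtain ⟨z, hz⟩ := (isAssociatedPrime_iff.1 hP).2
      exact (IsAssociatedPrime.isPrime hP).ne_top
        ((Ideal.eq_top_iff_one P).2 (by rw [hz, show z = 0 from Subsingleton.elim _ _]; simp))
    · exact hyF P ⟨fun haP => hp (haP.trans hPp), Or.inr ⟨k, hk, hP⟩⟩ hyP
  have hne := nonempty_localizedModule_H_equiv p.asIdeal p.asIdeal.primeCompl i M'
  rw [IsLocalization.AtPrime.map_eq_maximalIdeal p.asIdeal] at hne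
  obtain ⟨e⟩ := hne
  let mk := LocalizedModule.mkLinearMap p.asIdeal.primeCompl (LocCoh.H p.asIdeal i M')
  obtain ⟨w', hw'⟩ := smul_surjective_local_H M' p.asIdeal i hregE (e (mk z))
  obtain ⟨w'', rfl⟩ := e.surjective w'
  obtain ⟨⟨w, u⟩, rfl⟩ := IsLocalizedModule.mk'_surjective p.asIdeal.primeCompl mk w''
  simp only [Function.uncurry_apply_pair] at hw'
  rw [← map_smul, algebraMap_smul, e.injective.eq_iff, ← IsLocalizedModule.mk'_smul,
    ← IsLocalizedModule.mk'_one p.asIdeal.primeCompl mk z,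
    IsLocalizedModule.mk'_eq_mk'_iff] at hw'
  obtain ⟨t, ht⟩ := hw'
  have hcomp : ∀ v : LocCoh.H p.asIdeal i M',
      ((localCohomology p.asIdeal i).map
        (ModuleCat.smulShortComplex (ModuleCat.of R M') (y ^ (K + 1))).g).hom (y ^ (K + 1) • v) = 0 := by
    intro v
    refine (H_exact₂ p.asIdeal hS i _).2 ⟨v, ?_⟩
    rw [ModuleCat.smulShortComplex_f_eq_smul_id]
    exact map_smul_id p.asIdeal i (ModuleCat.of R M') (y ^ (K + 1)) v
  refine ⟨(t : R) * (u : R) * s, fun hmem => ?_, ?_⟩
  · rcases p.2.mem_or_mem hmem with h' | h'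
    · rcases p.2.mem_or_mem h' with h'' | h''
      · exact t.2 h''
      · exact u.2 h''
    · exact hs h'
  · rw [mul_smul]
    refine (congrArg (fun v => ((t : R) * (u : R)) • v) hz.symm).trans ?_
    refine (map_smul _ _ z).symm.trans ?_
    have ht' : ((t : R) * (u : R)) • z = y ^ (K + 1) • ((t : R) • w) := by
      simp only [Submonoid.smul_def, OneMemClass.coe_one, one_smul] at ht
      rw [mul_smul, smul_comm (y ^ (K + 1))]
      first
        | exact ht
        | exact ht.symm
    exact (congrArg _ ht').trans (hcomp _)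

end Regular

end Groth.L04.LC
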