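import Groth.Agent.L04.LC.AnnihDuality
import Groth.Agent.L04.CMBasic
import Groth.Agent.L06.SkTensor

/-!
# Serre's conditions through a dualizing complex

Depth and dimension of the localizations of a finite module `M` in terms of the supports of
`Ext^j(M, ω)` and the dimension function; finiteness of the primes of depth `k` and dimension `> k`.
-/

set_option autoImplicit false
set_option linter.style.haveILetI false
set_option backward.isDefEq.respectTransparency false
universe u

open CategoryTheory IsLocalRing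
open scoped TensorProduct

attribute [local instance] HasDerivedCategory.standard

noncomputable section

namespace Groth.L04.SkLocus

open Groth.L29 Groth.L29.HomD Groth.L04.AnnihDual

variable {A : Type u} [CommRing A] {M : Type u} [AddCommGroup M] [Module A M]

/-- The support of `Ext^j(M, ω)`. -/
abbrev SE (ω : Dual.D A) (M : Type u) [AddCommGroup M] [Module A M] (j : ℤ) : Set (PrimeSpectrum A) :=
  Module.support A (Dual.inD A M ⟶ ω⟦j⟧)

theorem mem_support_localized {p : PrimeSpectrum A} (P : PrimeSpectrum (Localization.AtPrime p.asIdeal)) :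
    P ∈ Module.support (Localization.AtPrime p.asIdeal) (LocalizedModule p.asIdeal.primeCompl M) ↔
      PrimeSpectrum.comap (algebraMap A (Localization.AtPrime p.asIdeal)) P ∈ Module.support A M := by
  have hle : (PrimeSpectrum.comap (algebraMap A (Localization.AtPrime p.asIdeal)) P).asIdeal ≤ p.asIdeal :=
    (Ideal.comap_mono (le_maximalIdeal P.isPrime.ne_top)).trans_eq
      (IsLocalization.AtPrime.under_maximalIdeal (Localization.AtPrime p.asIdeal) p.asIdeal)
  rw [Module.mem_support_iff', Module.mem_support_iff']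
  constructor
  · rintro ⟨x, hx⟩
    induction x using LocalizedModule.induction_on with
    | h m s =>
      refine ⟨m, fun r hr h0 => hx (algebraMap A _ r) hr ?_⟩
      rw [algebraMap_smul, LocalizedModule.smul'_mk, h0, LocalizedModule.zero_mk]
  · rintro ⟨m, hm⟩
    refine ⟨LocalizedModule.mkLinearMap p.asIdeal.primeCompl M m, fun b hb h0 => ?_⟩
    obtain ⟨r, s, rfl⟩ := IsLocalization.exists_mk'_eq p.asIdeal.primeCompl b
    have hr : r ∉ (PrimeSpectrum.comap (algebraMap A (Localization.AtPrime p.asIdeal)) P).asIdeal := fun h => by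
      refine hb ((Ideal.unit_mul_mem_iff_mem _
        (IsLocalization.map_units (Localization.AtPrime p.asIdeal) s)).1 ?_)
      rw [IsLocalization.mk'_spec']
      exact h
    have h1 : LocalizedModule.mkLinearMap p.asIdeal.primeCompl M (r • m) = 0 := by
      rw [map_smul, ← algebraMap_smul (Localization.AtPrime p.asIdeal) r, ← IsLocalization.mk'_spec'
        (Localization.AtPrime p.asIdeal) r s, mul_smul, h0, smul_zero]
    obtain ⟨⟨t, ht⟩, htm⟩ := (IsLocalizedModule.eq_zero_iff p.asIdeal.primeCompl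
      (LocalizedModule.mkLinearMap p.asIdeal.primeCompl M)).1 h1
    refine hm (t * r) (fun h => ?_) (by rw [mul_smul]; exact htm)
    exact ((Ideal.IsPrime.mem_or_mem inferInstance h).elim (fun h' => ht (hle h')) hr)

/-- The support of a localization, in `Spec A`. -/
def suppIso (p : PrimeSpectrum A) :
    ↥(Module.support (Localization.AtPrime p.asIdeal) (LocalizedModule p.asIdeal.primeCompl M)) ≃o
      ↥{Q : PrimeSpectrum A | Q ≤ p ∧ Q ∈ Module.support A M} :=
  let e := IsLocalization.AtPrime.primeSpectrumOrderIso (Localization.AtPrime p.asIdeal) p.asIdeal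
  { toFun := fun P => ⟨(e P.1).1, (e P.1).2, (mem_support_localized P.1).1 P.2⟩
    invFun := fun Q => ⟨e.symm ⟨Q.1, Q.2.1⟩, (mem_support_localized _).2 (by
      have h : (e (e.symm ⟨Q.1, Q.2.1⟩)).1 ∈ Module.support A M := by rw [e.apply_symm_apply]; exact Q.2.2
      exact h)⟩
    left_inv := fun P => Subtype.ext (e.symm_apply_apply P.1)
    right_inv := fun Q => Subtype.ext (show (e (e.symm ⟨Q.1, Q.2.1⟩)).1 = Q.1 by rw [e.apply_symm_apply])
    map_rel_iff' := fun {a b} => e.le_iff_le (x := a.1) (y := b.1) }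

variable [IsNoetherianRing A] [Module.Finite A M] {ω : Dual.D A}

/-- The dimension of `M_p`. -/
theorem exists_dim (hω : Dual.IsDualizing A ω) (p : PrimeSpectrum A) (hp : p ∈ Module.support A M) :
    ∃ D : ℕ, Module.supportDim (Localization.AtPrime p.asIdeal) (LocalizedModule p.asIdeal.primeCompl M) = D ∧
      (∀ Q ∈ Module.support A M, Q ≤ p → dimFun hω Q - dimFun hω p ≤ D) ∧
      ∃ Q : PrimeSpectrum A, Q.asIdeal ∈ (Module.annihilator A M).minimalPrimes ∧ Q ≤ p ∧
        dimFun hω Q - dimFun hω p = D := by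
  let S : Set (PrimeSpectrum A) := {Q | Q.asIdeal ∈ (Module.annihilator A M).minimalPrimes ∧ Q ≤ p}
  have hSfin : S.Finite := (((Module.annihilator A M).finite_minimalPrimes_of_isNoetherianRing A).preimage
    fun x _ y _ h => PrimeSpectrum.ext h).subset fun x hx => hx.1
  have hbelow : ∀ Q ∈ Module.support A M, Q ≤ p → ∃ Q' ∈ S, Q' ≤ Q := by
    intro Q hQ hQp
    obtain ⟨q, hq, hqQ⟩ := Ideal.exists_minimalPrimes_le (Module.mem_support_iff_of_finite.1 hQ)
    exact ⟨⟨q, hq.1.1⟩, ⟨hq, le_trans (α := PrimeSpectrum A) hqQ hQp⟩, hqQ⟩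
  obtain ⟨Q₀, hQ₀S, -⟩ := hbelow p hp le_rfl
  obtain ⟨Q, ⟨hQ, hQp⟩, hmax⟩ := hSfin.exists_maximalFor (dimFun hω) S ⟨Q₀, hQ₀S⟩
  have hle := (dimFun_strictAnti hω).antitone hQp
  obtain ⟨D, hD⟩ : ∃ D : ℕ, dimFun hω Q - dimFun hω p = D := ⟨(dimFun hω Q - dimFun hω p).toNat, by lia⟩
  have hbd : ∀ Q' ∈ Module.support A M, Q' ≤ p → dimFun hω Q' - dimFun hω p ≤ D := by
    intro Q' hQ' hQ'p
    obtain ⟨R, hR, hRQ⟩ := hbelow Q' hQ' hQ'p
    have h1 := (dimFun_strictAnti hω).antitone hRQ
    have h2 : dimFun hω R ≤ dimFun hω Q := by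
      rcases le_total (dimFun hω R) (dimFun hω Q) with h | h
      · exact h
      · exact hmax hR h
    lia
  refine ⟨D, ?_, hbd, Q, hQ, hQp, hD⟩
  unfold Module.supportDim
  rw [Order.krullDim_eq_of_orderIso (suppIso (M := M) p)]
  refine le_antisymm (iSup_le fun l => ?_) ?_
  · have key : ∀ k (hk : k < l.length + 1), dimFun hω (l ⟨k, hk⟩).1 + k ≤ dimFun hω (l ⟨0, by lia⟩).1 := by
      intro k
      induction k with
      | zero => intro hk; simp
      | succ k ih =>
        intro hk
        have h1 := ih (by lia)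
        have hlt : (l ⟨k, by lia⟩).1 < (l ⟨k + 1, hk⟩).1 := l.step ⟨k, by lia⟩
        have h2 := dimFun_strictAnti hω hlt
        push_cast
        lia
    have h1 := key l.length (by lia)
    have h2 := hbd (l ⟨0, by lia⟩).1 (l ⟨0, by lia⟩).2.2 (l ⟨0, by lia⟩).2.1
    have h3 := (dimFun_strictAnti hω).antitone (l ⟨l.length, by lia⟩).2.1
    exact_mod_cast (show l.length ≤ D by lia)
  · have hQs : Q ∈ Module.support A M := Module.mem_support_iff_of_finite.2 hQ.1.2
    refine le_trans (le_of_eq ?_) (Order.krullDim_le_of_strictMono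
      (fun R : Set.Icc Q p => (⟨R.1, R.2.2, Module.mem_support_mono R.2.1 hQs⟩ :
        ↥{Q : PrimeSpectrum A | Q ≤ p ∧ Q ∈ Module.support A M})) fun a b h => h)
    rw [krullDim_Icc hω Q p hQp]
    exact_mod_cast (show D = (dimFun hω Q - dimFun hω p).toNat by lia)

theorem mem_support_of_mem_SE (hω : Dual.IsDualizing A ω) {p : PrimeSpectrum A} {j : ℤ} (h : p ∈ SE ω M j) :
    p ∈ Module.support A M := by
  by_contra hp
  haveI := Module.notMem_support_iff.1 hp
  obtain ⟨m, hm, -⟩ := depth_of_mem_support hω p M j h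
  refine absurd (hm.symm.trans ?_) (ENat.natCast_ne_top m)
  unfold LocCoh.depth LocCoh.idealDepth
  exact if_pos (Subsingleton.elim _ _)

/-- Depth, dimension and the degrees of the duals at a point. -/
theorem exists_data (hω : Dual.IsDualizing A ω) {p : PrimeSpectrum A} (hp : p ∈ Module.support A M) :
    ∃ m D : ℕ, m ≤ D ∧
      LocCoh.depth (Localization.AtPrime p.asIdeal) (LocalizedModule p.asIdeal.primeCompl M) = m ∧
      Module.supportDim (Localization.AtPrime p.asIdeal) (LocalizedModule p.asIdeal.primeCompl M) = D ∧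
      p ∈ SE ω M (-dimFun hω p - m) ∧ p ∈ SE ω M (-dimFun hω p - D) ∧
      ∀ j, p ∈ SE ω M j → (m : ℤ) ≤ -dimFun hω p - j ∧ -dimFun hω p - j ≤ D := by
  haveI : Module.Flat A (Localization.AtPrime p.asIdeal) := IsLocalization.flat _ p.asIdeal.primeCompl
  let B := Localization.AtPrime p.asIdeal
  let N := LocalizedModule p.asIdeal.primeCompl M
  let φ : (B ⊗[A] M) ≃ₗ[B] N := (LocalizedModule.equivTensorProduct p.asIdeal.primeCompl M).symm
  haveI : Module.Finite B N := Module.Finite.equiv φ
  haveI hNt : Nontrivial N := Module.mem_support_iff.1 hp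
  obtain ⟨D, hD, hbd, Q, hQ, hQp, hQD⟩ := exists_dim (M := M) hω p hp
  have hdd : ((LocCoh.depth B N : ℕ∞) : WithBot ℕ∞) ≤ Module.supportDim B N := Groth.L04.depth_le_supportDim
  rw [hD] at hdd
  obtain ⟨m, hm⟩ := ENat.ne_top_iff_exists.1 (show LocCoh.depth B N ≠ ⊤ from fun h => by
    rw [h] at hdd
    exact ENat.natCast_ne_top D (top_le_iff.1 (WithBot.coe_le_coe.1 hdd)))
  have hmD : m ≤ D := by
    rw [← hm] at hdd
    exact_mod_cast hdd
  refine ⟨m, D, hmD, hm.symm, hD, mem_support_of_depth hω p M m hm.symm, ?_, fun j hj => ⟨?_, ?_⟩⟩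
  · have hQs : Q ∈ Module.support A M := Module.mem_support_iff_of_finite.2 hQ.1.2
    haveI hQt : Nontrivial (LocalizedModule Q.asIdeal.primeCompl M) := Module.mem_support_iff.1 hQs
    haveI : Module.Finite (Localization.AtPrime Q.asIdeal) (LocalizedModule Q.asIdeal.primeCompl M) :=
      Module.Finite.equiv (LocalizedModule.equivTensorProduct Q.asIdeal.primeCompl M).symm
    obtain ⟨DQ, hDQ, -, R, hR, hRQ, hRD⟩ := exists_dim (M := M) hω Q hQs
    obtain rfl : R = Q := PrimeSpectrum.ext (le_antisymm hRQ (hQ.2 ⟨R.isPrime, hR.1.2⟩ hRQ))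
    obtain rfl : DQ = 0 := by lia
    have hQd : LocCoh.depth (Localization.AtPrime R.asIdeal) (LocalizedModule R.asIdeal.primeCompl M) = (0 : ℕ) := by
      have h := Groth.L04.depth_le_supportDim (R := Localization.AtPrime R.asIdeal)
        (M := LocalizedModule R.asIdeal.primeCompl M)
      rw [hDQ] at h
      exact nonpos_iff_eq_zero.1 (WithBot.coe_le_coe.1 h)
    have h := mem_support_of_depth hω R M 0 hQd
    rw [show -dimFun hω R - ((0 : ℕ) : ℤ) = -dimFun hω p - D by push_cast; lia] at h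
    exact Module.mem_support_mono hQp h
  · obtain ⟨m', hm', hle⟩ := depth_of_mem_support hω p M j hj
    obtain rfl : m = m' := by exact_mod_cast hm.trans hm'
    exact hle
  · by_contra hlt
    have hB := isDualizing_shift (FlatBC.isDualizing_L_localization (B := B) p.asIdeal.primeCompl hω) (-dimFun hω p)
    haveI := hB.isNoetherianRing
    have hnt : Nontrivial (Dual.inD B N ⟶ (Wq hω p)⟦j + dimFun hω p⟧) :=
      (homShiftEquiv _ _ (-dimFun hω p) (j + dimFun hω p) j (by ring)).toEquiv.nontrivial_congr.2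
        ((Loci.mem_support_hom_iff p hω M N φ j).1 hj)
    exact absurd ((bound (Wq hω p) (good_of_isDualizing hB) (isNormalized_at hω p) D N hD.le
      (j + dimFun hω p)).1 (Or.inl (by lia))) (not_subsingleton_iff_nontrivial.2 hnt)

variable (M) in
/-- `(S_k)` at `p` itself. -/
def SkPt (k : ℕ) (p : PrimeSpectrum A) : Prop :=
  min (k : WithBot ℕ∞) (Module.supportDim (Localization.AtPrime p.asIdeal)
      (LocalizedModule p.asIdeal.primeCompl M)) ≤
    ((LocCoh.depth (Localization.AtPrime p.asIdeal) (LocalizedModule p.asIdeal.primeCompl M) : ℕ∞) : WithBot ℕ∞)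

omit [IsNoetherianRing A] [Module.Finite A M] in
theorem skPt_of_not_mem {k : ℕ} {p : PrimeSpectrum A} (hp : p ∉ Module.support A M) : SkPt M k p := by
  haveI := Module.notMem_support_iff.1 hp
  refine le_trans (min_le_right _ _) ?_
  rw [Module.supportDim_eq_bot_of_subsingleton]
  exact bot_le

omit [IsNoetherianRing A] [Module.Finite A M] in
theorem skPt_iff_of_data {k m D : ℕ} {p : PrimeSpectrum A}
    (hm : LocCoh.depth (Localization.AtPrime p.asIdeal) (LocalizedModule p.asIdeal.primeCompl M) = m)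
    (hD : Module.supportDim (Localization.AtPrime p.asIdeal) (LocalizedModule p.asIdeal.primeCompl M) = D) :
    SkPt M k p ↔ min k D ≤ m := by
  unfold SkPt
  rw [hm, hD]
  rcases le_total k D with h | h
  · rw [min_eq_left h, min_eq_left (by exact_mod_cast h)]
    exact_mod_cast Iff.rfl
  · rw [min_eq_right h, min_eq_right (by exact_mod_cast h)]
    exact_mod_cast Iff.rfl

omit [IsNoetherianRing A] [Module.Finite A M] in
theorem hasSk_iff_forall (k : ℕ) : LocCoh.HasSk k A M ↔ ∀ p : PrimeSpectrum A, SkPt M k p := by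
  unfold LocCoh.HasSk SkPt
  exact ⟨fun h p => h p.asIdeal, fun h q _ => h ⟨q, inferInstance⟩⟩

variable (M) in
/-- The primes of depth `k` and dimension `> k` below which `(S_k)` holds. -/
def bad (k : ℕ) : Set (PrimeSpectrum A) :=
  {p | LocCoh.depth (Localization.AtPrime p.asIdeal) (LocalizedModule p.asIdeal.primeCompl M) = k ∧
    (k : WithBot ℕ∞) < Module.supportDim (Localization.AtPrime p.asIdeal)
      (LocalizedModule p.asIdeal.primeCompl M) ∧ ∀ Q < p, SkPt M k Q}

theorem finite_bad (hω : Dual.IsDualizing A ω) (k : ℕ) : (bad (A := A) M k).Finite := by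
  obtain ⟨a, b, hab⟩ := dimFun_bounded hω
  refine (((Set.finite_Icc a b).prod ((Module.annihilator A M).finite_minimalPrimes_of_isNoetherianRing A)).biUnion
    (t := fun x => PrimeSpectrum.asIdeal ⁻¹'
      (Module.annihilator A (Dual.inD A M ⟶ ω⟦-x.1 - k⟧) ⊔ x.2).minimalPrimes)
    fun x _ => (Ideal.finite_minimalPrimes_of_isNoetherianRing A _).preimage
      fun _ _ _ _ h => PrimeSpectrum.ext h).subset ?_
  rintro p ⟨hdep, hdim, hSk⟩
  have hps : p ∈ Module.support A M := by
    by_contra hp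
    haveI := Module.notMem_support_iff.1 hp
    rw [Module.supportDim_eq_bot_of_subsingleton] at hdim
    exact not_lt_bot hdim
  obtain ⟨m, D, -, hm, hD, hlow, -, -⟩ := exists_data (M := M) hω hps
  obtain rfl : m = k := by exact_mod_cast hm.symm.trans hdep
  rw [hD] at hdim
  have hkD : m < D := by exact_mod_cast hdim
  obtain ⟨D', hD', -, Q, hQ, hQp, hQD⟩ := exists_dim (M := M) hω p hps
  obtain rfl : D' = D := by exact_mod_cast hD'.symm.trans hD
  haveI := finite_hom ω (good_of_isDualizing hω) M (-dimFun hω p - m)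
  refine Set.mem_biUnion (x := (dimFun hω p, Q.asIdeal)) ⟨hab p, hQ⟩
    ⟨⟨p.isPrime, sup_le (Module.mem_support_iff_of_finite.1 hlow) hQp⟩, ?_⟩
  rintro q ⟨hq, hqle⟩ hqp
  let P : PrimeSpectrum A := ⟨q, hq⟩
  by_contra hne
  have hlt : P < p := lt_of_le_of_ne hqp fun h => hne (h ▸ le_rfl)
  have hPE : P ∈ SE ω M (-dimFun hω p - m) := Module.mem_support_iff_of_finite.2 (le_sup_left.trans hqle)
  obtain ⟨m', D', -, hm', hD', -, -, hint⟩ := exists_data (M := M) hω (mem_support_of_mem_SE hω hPE)
  obtain ⟨DP, hDP, hbd, -⟩ := exists_dim (M := M) hω P (mem_support_of_mem_SE hω hPE)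
  obtain rfl : DP = D' := by exact_mod_cast hDP.symm.trans hD'
  have h1 := (hint _ hPE).1
  have h2 := dimFun_strictAnti hω hlt
  have h3 := hbd Q (Module.mem_support_iff_of_finite.2 hQ.1.2) (le_sup_right.trans hqle)
  have h4 := (skPt_iff_of_data hm' hD').1 (hSk P hlt)
  omega

/-- Every failure of `(S_k)` lies over a prime of some `bad j`, `j < k`. -/
theorem exists_bad_le (hω : Dual.IsDualizing A ω) {k : ℕ} {P : PrimeSpectrum A} (hP : ¬ SkPt M k P) :
    ∃ j < k, ∃ Q ∈ bad (A := A) M j, Q ≤ P := by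
  obtain ⟨Q, ⟨hQP, hQ⟩, hmin⟩ := wellFounded_lt.has_min
    {Q : PrimeSpectrum A | Q ≤ P ∧ ¬ SkPt M k Q} ⟨P, le_rfl, hP⟩
  have hQs : Q ∈ Module.support A M := not_not.1 fun h => hQ (skPt_of_not_mem h)
  obtain ⟨m, D, -, hm, hD, -, -, -⟩ := exists_data (M := M) hω hQs
  rw [skPt_iff_of_data hm hD] at hQ
  refine ⟨m, by omega, Q, ⟨hm, ?_, fun R hR => ?_⟩, hQP⟩
  · rw [hD]
    exact_mod_cast (show m < D by omega)
  · have hR' : SkPt M k R := not_not.1 fun h => hmin R ⟨hR.le.trans hQP, h⟩ hR
    refine le_trans (min_le_min_right _ ?_) hR'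
    exact_mod_cast (show m ≤ k by omega)

theorem isOpen_hasSkAt (hω : Dual.IsDualizing A ω) (k : ℕ) :
    IsOpen {p : PrimeSpectrum A | EGA4.HasSkAt k A M p.asIdeal} := by
  have hfin : {Q : PrimeSpectrum A | (∃ j < k, Q ∈ bad (A := A) M j) ∧ ¬ SkPt M k Q}.Finite :=
    ((Set.finite_Iio k).biUnion fun j _ => finite_bad (M := M) hω j).subset
      fun Q hQ => Set.mem_iUnion₂.2 (let ⟨⟨j, hj, h⟩, _⟩ := hQ; ⟨j, hj, h⟩)
  convert (hfin.isClosed_biUnion (f := fun P : PrimeSpectrum A => PrimeSpectrum.zeroLocus (P.asIdeal : Set A))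
    fun P _ => PrimeSpectrum.isClosed_zeroLocus _).isOpen_compl using 1
  ext q
  simp only [Set.mem_ofPred_eq, Set.mem_compl_iff, Set.mem_iUnion, not_exists, PrimeSpectrum.mem_zeroLocus,
    SetLike.coe_subset_coe, Groth.L06.SkTensor.hasSkAt_iff]
  refine ⟨fun h P hP hPq => hP.2 (h P.asIdeal hPq), fun h P hPr hPq => ?_⟩
  by_contra hP
  obtain ⟨j, hj, Q, hQ, hQP⟩ := exists_bad_le (M := M) hω (P := ⟨P, hPr⟩) (k := k) hP
  refine h Q ⟨⟨j, hj, hQ⟩, fun hQk => ?_⟩ (le_trans (α := Ideal A) hQP hPq)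
  obtain ⟨hdep, hdim, -⟩ := hQ
  rw [SkPt, hdep] at hQk
  rcases le_total ((k : ℕ) : WithBot ℕ∞) (Module.supportDim (Localization.AtPrime Q.asIdeal)
      (LocalizedModule Q.asIdeal.primeCompl M)) with hle | hle
  · rw [min_eq_left hle] at hQk
    exact absurd (show k ≤ j by exact_mod_cast hQk) (by omega)
  · rw [min_eq_right hle] at hQk
    exact absurd hdim hQk.not_gt

/-- `(S_k)` by codimensions of pairwise intersections. -/
theorem hasSk_iff_codim (hω : Dual.IsDualizing A ω) (k : ℕ) :
    LocCoh.HasSk k A M ↔ ∀ (i j : ℤ), j < i → ∀ p : PrimeSpectrum A, p ∈ SE ω M i → p ∈ SE ω M j →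
      (((k : ℤ) + i - j).toNat : WithBot ℕ∞) ≤
        Module.supportDim (Localization.AtPrime p.asIdeal) (LocalizedModule p.asIdeal.primeCompl M) := by
  constructor
  · intro h i j hji p hi hj
    obtain ⟨m, D, hmD, hm, hD, -, -, hint⟩ := exists_data (M := M) hω (mem_support_of_mem_SE hω hi)
    have h1 := (skPt_iff_of_data hm hD).1 ((hasSk_iff_forall k).1 h p)
    have h2 := hint i hi
    have h3 := hint j hj
    rw [hD]
    exact_mod_cast (show ((k : ℤ) + i - j).toNat ≤ D by omega)
  · refine fun h => (hasSk_iff_forall k).2 fun p => ?_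
    by_cases hp : p ∈ Module.support A M
    swap
    · exact skPt_of_not_mem hp
    obtain ⟨m, D, hmD, hm, hD, hi, hj, -⟩ := exists_data (M := M) hω hp
    refine (skPt_iff_of_data hm hD).2 ?_
    by_contra hc
    have h1 := h _ _ (show -dimFun hω p - D < -dimFun hω p - m by omega) p hi hj
    rw [hD] at h1
    have h2 : ((k : ℤ) + (-dimFun hω p - m) - (-dimFun hω p - D)).toNat ≤ D := by exact_mod_cast h1
    omega

/-- `(S_k)` by dimensions, for an equidimensional module. -/
theorem hasSk_iff_dimFun (hω : Dual.IsDualizing A ω) (N : ℤ)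
    (hgen : ∀ Q : PrimeSpectrum A, Q.asIdeal ∈ (Module.annihilator A M).minimalPrimes → dimFun hω Q = N) (k : ℕ) :
    LocCoh.HasSk k A M ↔ ∀ j : ℤ, j ≠ -N → ∀ p ∈ SE ω M j, dimFun hω p ≤ -j - k := by
  constructor
  · intro h j hj p hp
    obtain ⟨m, D, hmD, hm, hD, -, -, hint⟩ := exists_data (M := M) hω (mem_support_of_mem_SE hω hp)
    obtain ⟨D', hD', -, Q, hQ, -, hQD⟩ := exists_dim (M := M) hω p (mem_support_of_mem_SE hω hp)
    obtain rfl : D' = D := by exact_mod_cast hD'.symm.trans hD
    have h1 := (skPt_iff_of_data hm hD).1 ((hasSk_iff_forall k).1 h p)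
    have h2 := hint j hp
    have h3 := hgen Q hQ
    omega
  · refine fun h => (hasSk_iff_forall k).2 fun p => ?_
    by_cases hp : p ∈ Module.support A M
    swap
    · exact skPt_of_not_mem hp
    obtain ⟨m, D, hmD, hm, hD, hi, -, -⟩ := exists_data (M := M) hω hp
    obtain ⟨D', hD', -, Q, hQ, -, hQD⟩ := exists_dim (M := M) hω p hp
    obtain rfl : D' = D := by exact_mod_cast hD'.symm.trans hD
    have h3 := hgen Q hQ
    refine (skPt_iff_of_data hm hD).2 ?_
    by_contra hc
    have h1 := h _ (show -dimFun hω p - m ≠ -N by omega) p hi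
    omega

/-- The dimension of `A/p` is the value of a dimension function vanishing at the maximal ideals. -/
theorem ringKrullDim_quotient_eq (hω : Dual.IsDualizing A ω)
    (h0 : ∀ m : PrimeSpectrum A, m.asIdeal.IsMaximal → dimFun hω m = 0) (p : PrimeSpectrum A) :
    0 ≤ dimFun hω p ∧ ringKrullDim (A ⧸ p.asIdeal) = ((dimFun hω p).toNat : WithBot ℕ∞) := by
  obtain ⟨I, hI, hpI⟩ := p.asIdeal.exists_le_maximal p.isPrime.ne_top
  let m : PrimeSpectrum A := ⟨I, hI.isPrime⟩
  have hm := h0 m hI
  have hle := (dimFun_strictAnti hω).antitone (show p ≤ m from hpI)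
  refine ⟨by omega, ?_⟩
  rw [ringKrullDim_quotient]
  refine le_antisymm (iSup_le fun l => ?_) ?_
  · have key : ∀ k (hk : k < l.length + 1), dimFun hω (l ⟨k, hk⟩).1 + k ≤ dimFun hω (l ⟨0, by lia⟩).1 := by
      intro k
      induction k with
      | zero => intro hk; simp
      | succ k ih =>
        intro hk
        have h1 := ih (by lia)
        have hlt : (l ⟨k, by lia⟩).1 < (l ⟨k + 1, hk⟩).1 := l.step ⟨k, by lia⟩
        have h2 := dimFun_strictAnti hω hlt
        push_cast
        lia
    have h1 := key l.length (by lia)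
    obtain ⟨J, hJ, hlJ⟩ := (l ⟨l.length, by lia⟩).1.asIdeal.exists_le_maximal (l ⟨l.length, by lia⟩).1.isPrime.ne_top
    have h2 := (dimFun_strictAnti hω).antitone (show (l ⟨l.length, by lia⟩).1 ≤ ⟨J, hJ.isPrime⟩ from hlJ)
    have h3 := h0 ⟨J, hJ.isPrime⟩ hJ
    have h4 := (dimFun_strictAnti hω).antitone (show p ≤ (l ⟨0, by lia⟩).1 from (l ⟨0, by lia⟩).2)
    exact_mod_cast (show l.length ≤ (dimFun hω p).toNat by lia)
  · refine le_trans (le_of_eq ?_) (Order.krullDim_le_of_strictMono
      (fun R : Set.Icc p m => (⟨R.1, R.2.1⟩ : ↥(PrimeSpectrum.zeroLocus (R := A) p.asIdeal))) fun a b h => h)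
    rw [krullDim_Icc hω p m hpI, hm, sub_zero]

/-- The condition on the support dimension in terms of the dimension function. -/
theorem forall_dimFun_le_iff (hω : Dual.IsDualizing A ω)
    (h0 : ∀ m : PrimeSpectrum A, m.asIdeal.IsMaximal → dimFun hω m = 0)
    (E : Type*) [AddCommGroup E] [Module A E] (c : ℤ) :
    (∀ p ∈ Module.support A E, dimFun hω p ≤ c) ↔
      ((c < 0 → Subsingleton E) ∧ (0 ≤ c → Module.supportDim A E ≤ (c.toNat : WithBot ℕ∞))) := by
  constructor
  · refine fun h => ⟨fun hc => ?_, fun hc => iSup_le fun l => ?_⟩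
    · rw [← Module.support_eq_empty_iff (R := A)]
      refine Set.eq_empty_iff_forall_notMem.2 fun p hp => ?_
      have := (ringKrullDim_quotient_eq hω h0 p).1
      have := h p hp
      omega
    · have h1 := h (l ⟨0, by lia⟩).1 (l ⟨0, by lia⟩).2
      have key : ∀ k (hk : k < l.length + 1), dimFun hω (l ⟨k, hk⟩).1 + k ≤ dimFun hω (l ⟨0, by lia⟩).1 := by
        intro k
        induction k with
        | zero => intro hk; simp
        | succ k ih =>
          intro hk
          have h1 := ih (by lia)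
          have hlt : (l ⟨k, by lia⟩).1 < (l ⟨k + 1, hk⟩).1 := l.step ⟨k, by lia⟩
          have h2 := dimFun_strictAnti hω hlt
          push_cast
          lia
      have h2 := key l.length (by lia)
      have h3 := (ringKrullDim_quotient_eq hω h0 (l ⟨l.length, by lia⟩).1).1
      exact_mod_cast (show l.length ≤ c.toNat by lia)
  · rintro ⟨h1, h2⟩ p hp
    by_contra hlt
    rcases lt_or_ge c 0 with hc | hc
    · haveI := h1 hc
      rw [Module.support_eq_empty] at hp
      exact hp
    · have hle : ringKrullDim (A ⧸ p.asIdeal) ≤ Module.supportDim A E := by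
        rw [ringKrullDim_quotient]
        exact Order.krullDim_le_of_strictMono
          (fun R => (⟨R.1, Module.mem_support_mono (show p ≤ R.1 from R.2) hp⟩ : ↥(Module.support A E)))
          fun a b h => h
      rw [(ringKrullDim_quotient_eq hω h0 p).2] at hle
      have h3 : (dimFun hω p).toNat ≤ c.toNat := by exact_mod_cast hle.trans (h2 hc)
      omega

omit [AddCommGroup M] [Module A M] [Module.Finite A M] in
/-- The condition on the duals. -/
theorem forall_SE_le_iff (hω : Dual.IsDualizing A ω)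
    (h0 : ∀ m : PrimeSpectrum A, m.asIdeal.IsMaximal → dimFun hω m = 0)
    (N : Type u) [AddCommGroup N] [Module A N] (j c : ℤ) :
    (∀ p ∈ SE ω N j, dimFun hω p ≤ c) ↔
      ((c < 0 → Subsingleton (Dual.inD A N ⟶ ω⟦j⟧)) ∧
        (0 ≤ c → Module.supportDim A (Dual.inD A N ⟶ ω⟦j⟧) ≤ (c.toNat : WithBot ℕ∞))) :=
  forall_dimFun_le_iff hω h0 _ c

end Groth.L04.SkLocus
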