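import Groth.Agent.L04.LC.SupportsLocal
import Mathlib.RingTheory.Ideal.MinimalPrime.Noetherian

/-!
# From annihilators at the points of `T` to annihilators of `H^i_T`
-/

set_option autoImplicit false
set_option linter.style.haveILetI false
universe u

open CategoryTheory Limits Abelian Opposite IsLocalRing

noncomputable section

namespace Groth.L04.HTlocal

open Groth.L04.LC Groth.L04.HTsupp

variable {A : Type u} [CommRing A] (T : Set (PrimeSpectrum A))

/-- The powers of a member of the family. -/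
def powObj (K : Dual2.IdealsIn T) (n : ℕ) : Dual2.IdealsIn T :=
  ⟨K.obj ^ n, fun q hq => K.property fun r hr => q.isPrime.mem_of_pow_mem n (hq (Ideal.pow_mem_pow hr n))⟩

/-- `H^i_K(M) → H^i_T(M)`. -/
def θ (K : Dual2.IdealsIn T) (i : ℕ) (M : ModuleCat.{u} A) :
    (localCohomology K.obj i).obj M →ₗ[A]
      (localCohomology.ofDiagram.{u, u} (Dual2.idealsInDiagram T) i).obj M :=
  desc A (P K.obj) i (fun t => τ T i (powObj T K t.unop) M) (fun s t w a => by
    let w' : powObj T K s.unop ⟶ powObj T K t.unop :=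
      ObjectProperty.homMk (homOfLE (Ideal.pow_le_pow_right (leOfHom w.unop)))
    have hmap : (XT T).map w' = (P K.obj).map w := by
      ext y
      obtain ⟨r, rfl⟩ := Submodule.Quotient.mk_surjective _ y
      rfl
    rw [← hmap]
    exact ι_map A (XT T) i w' M a)

theorem θ_Hι (K : Dual2.IdealsIn T) (i n : ℕ) (M : ModuleCat.{u} A) (a : Ext (quot K.obj n) M i) :
    θ T K i M (Hι K.obj i n M a) = τ T i (powObj T K n) M a :=
  desc_ι A (P K.obj) i _ _ (op n) a

theorem θ_Hmap (K L : Dual2.IdealsIn T) (h : K.obj ≤ L.obj) (i : ℕ) (M : ModuleCat.{u} A)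
    (x : (localCohomology L.obj i).obj M) : θ T K i M (Hmap h i M x) = θ T L i M x := by
  obtain ⟨n, a, rfl⟩ := Hι_surjective L.obj i M x
  rw [Hmap_Hι, θ_Hι, θ_Hι]
  let w : powObj T K n ⟶ powObj T L n := ObjectProperty.homMk (homOfLE (Ideal.pow_right_mono h n))
  have hmap : (XT T).map w = qmap h n := by
    ext y
    obtain ⟨r, rfl⟩ := Submodule.Quotient.mk_surjective _ y
    rfl
  rw [← hmap]
  exact ι_map A (XT T) i w M a

theorem exists_θ_eq (i : ℕ) (M : ModuleCat.{u} A)
    (x : (localCohomology.ofDiagram.{u, u} (Dual2.idealsInDiagram T) i).obj M) :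
    ∃ (K : Dual2.IdealsIn T) (y : (localCohomology K.obj i).obj M), θ T K i M y = x := by
  obtain ⟨K, a, h⟩ := ι_jointly_surjective A (XT T) i M x
  subst h
  let p : quot K.obj 1 ⟶ (XT T).obj K := ModuleCat.ofHom
    (Submodule.factor (show K.obj ^ 1 ≤ K.obj by rw [pow_one]))
  refine ⟨K, Hι K.obj i 1 M ((Ext.mk₀ p).comp a (zero_add i)), ?_⟩
  rw [θ_Hι]
  let w : powObj T K 1 ⟶ K := ObjectProperty.homMk (homOfLE (show K.obj ^ 1 ≤ K.obj by rw [pow_one]))
  have hmap : (XT T).map w = p := by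
    ext y
    obtain ⟨r, rfl⟩ := Submodule.Quotient.mk_surjective _ y
    rfl
  rw [← hmap]
  exact ι_map A (XT T) i w M a

variable [IsNoetherianRing A]

/-- A class killed at a minimal prime of its supporting ideal. -/
theorem exists_notMem_smul_eq_zero (I : Ideal A) (q : PrimeSpectrum A) (hq : q.asIdeal ∈ I.minimalPrimes)
    (i : ℕ) (M : Type u) [AddCommGroup M] [Module A M] {r : A}
    (h : ∀ x : LocCoh.H (maximalIdeal (Localization.AtPrime q.asIdeal)) i
      (LocalizedModule q.asIdeal.primeCompl M), algebraMap A (Localization.AtPrime q.asIdeal) r • x = 0)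
    (y : LocCoh.H I i M) : ∃ s : A, s ∉ q.asIdeal ∧ s • r • y = 0 := by
  let B := Localization.AtPrime q.asIdeal
  let N := LocalizedModule q.asIdeal.primeCompl M
  haveI : IsNoetherianRing B := IsLocalization.isNoetherianRing q.asIdeal.primeCompl B inferInstance
  have hle : I.map (algebraMap A B) ≤ maximalIdeal B := by
    rw [← IsLocalization.AtPrime.map_eq_maximalIdeal q.asIdeal B]
    exact Ideal.map_mono hq.1.2
  have hmax : ∀ p : PrimeSpectrum B, I.map (algebraMap A B) ≤ p.asIdeal → maximalIdeal B ≤ p.asIdeal := by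
    intro p hp
    rw [← IsLocalization.AtPrime.map_eq_maximalIdeal q.asIdeal B, Ideal.map_le_iff_le_comap]
    exact hq.2 ⟨inferInstance, Ideal.map_le_iff_le_comap.1 hp⟩
      ((Ideal.comap_mono (le_maximalIdeal p.isPrime.ne_top)).trans
        (IsLocalization.AtPrime.comap_maximalIdeal B q.asIdeal).le)
  have hsurj := (Hmap_surjective_injective N (maximalIdeal B) (I.map (algebraMap A B)) hle i).1
    fun p hp hp' => absurd (hmax p hp) hp'
  obtain ⟨e⟩ := nonempty_localizedModule_H_equiv I q.asIdeal.primeCompl i M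
  have h0 : LocalizedModule.mkLinearMap q.asIdeal.primeCompl (LocCoh.H I i M) (r • y) = 0 := by
    rw [map_smul, ← algebraMap_smul B r]
    refine e.injective ?_
    rw [map_smul, map_zero]
    obtain ⟨x, hx⟩ := hsurj (e (LocalizedModule.mkLinearMap q.asIdeal.primeCompl (LocCoh.H I i M) y))
    rw [← hx, ← map_smul, h x, map_zero]
  obtain ⟨⟨s, hs⟩, hsx⟩ := (IsLocalizedModule.eq_zero_iff q.asIdeal.primeCompl
    (LocalizedModule.mkLinearMap q.asIdeal.primeCompl (LocCoh.H I i M))).1 h0
  exact ⟨s, hs, hsx⟩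

/-- An element of an annihilator avoiding finitely many primes. -/
theorem exists_mem_avoid (N : Ideal A) (S : Finset (Ideal A)) (hS : ∀ q ∈ S, q.IsPrime)
    (h : ∀ q ∈ S, ¬ N ≤ q) : ∃ c ∈ N, ∀ q ∈ S, c ∉ q := by
  by_contra hc
  push Not at hc
  rcases S.eq_empty_or_nonempty with he | ⟨q₀, hq₀⟩
  · simpa [he] using hc 0 N.zero_mem
  have hsub : (N : Set A) ⊆ ⋃ q ∈ (↑S : Set (Ideal A)), ((q : Ideal A) : Set A) := fun x hx => by
    obtain ⟨q, hq, hxq⟩ := hc x hx
    exact Set.mem_biUnion hq hxq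
  obtain ⟨q, hq, hle⟩ := (Ideal.subset_union_prime (f := id) q₀ q₀ fun q hq _ _ => hS q hq).1 hsub
  exact h q hq hle

theorem θ_smul_eq_zero {δ : PrimeSpectrum A → ℤ} (hδ : StrictAnti δ) (b : ℤ)
    (J : Ideal A) (i : ℕ) (M : Type u) [AddCommGroup M] [Module A M]
    (h : ∀ q ∈ T, ∀ r ∈ J, ∀ x : LocCoh.H (maximalIdeal (Localization.AtPrime q.asIdeal)) i
      (LocalizedModule q.asIdeal.primeCompl M), algebraMap A (Localization.AtPrime q.asIdeal) r • x = 0) :
    ∀ (n : ℕ) (K : Dual2.IdealsIn T), (∀ q : PrimeSpectrum A, K.obj ≤ q.asIdeal → δ q < b + n) →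
      (∀ q : PrimeSpectrum A, b ≤ δ q) →
      ∀ r ∈ J ^ n, ∀ y : LocCoh.H K.obj i M, r • θ T K i (ModuleCat.of A M) y = 0 := by
  intro n
  induction n with
  | zero =>
    intro K hK hb r _ y
    have htop : K.obj = ⊤ := by
      by_contra hne
      obtain ⟨m, hm, hle⟩ := Ideal.exists_le_maximal _ hne
      have h1 := hK ⟨m, hm.isPrime⟩ hle
      have h2 := hb ⟨m, hm.isPrime⟩
      simp only [Nat.cast_zero, add_zero] at h1
      omega
    obtain ⟨m, hm⟩ := isPowerTorsion_H K.obj i (ModuleCat.of A M) y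
    have h1 := hm 1 (by rw [htop, Ideal.top_pow]; trivial)
    rw [one_smul] at h1
    rw [h1, map_zero, smul_zero]
  | succ n ih =>
    intro K hK hb r hr y
    rw [pow_succ] at hr
    induction hr using Submodule.mul_induction_on' with
    | add a _ c _ ha hc => rw [add_smul, ha, hc, add_zero]
    | mem_mul_mem r' hr' j hj =>
      set z := j • y with hz
      let N : Ideal A := LinearMap.ker (LinearMap.toSpanSingleton A (LocCoh.H K.obj i M) z)
      have hfin := Ideal.finite_minimalPrimes_of_isNoetherianRing A K.obj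
      obtain ⟨c, hcN, hc⟩ := exists_mem_avoid N hfin.toFinset
        (fun q hq => ((Set.Finite.mem_toFinset _).1 hq).1.1)
        fun q hq hle => by
          have hq' := (Set.Finite.mem_toFinset _).1 hq
          obtain ⟨s, hs, hsz⟩ := exists_notMem_smul_eq_zero K.obj ⟨q, hq'.1.1⟩ hq' i M
            (h ⟨q, hq'.1.1⟩ (K.property hq'.1.2) j hj) y
          exact hs (hle hsz)
      obtain ⟨y', hy'⟩ := (mem_range_Hsup_iff c K.obj i M z).2 ⟨1, by rw [pow_one]; exact hcN⟩
      let K' : Dual2.IdealsIn T := ⟨K.obj ⊔ Ideal.span {c}, fun q hq =>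
        K.property ((le_sup_left (a := K.obj) (b := Ideal.span {c})).trans hq)⟩
      have hK' : ∀ q : PrimeSpectrum A, K'.obj ≤ q.asIdeal → δ q < b + n := fun q hq => by
        obtain ⟨p, hp, hpq⟩ := Ideal.exists_minimalPrimes_le (I := K.obj) (J := q.asIdeal) (le_sup_left.trans hq)
        have hcq : c ∈ q.asIdeal := hq (Submodule.mem_sup_right (Ideal.mem_span_singleton_self c))
        have hcp : c ∉ p := hc p ((Set.Finite.mem_toFinset _).2 hp)
        have hlt : (⟨p, hp.1.1⟩ : PrimeSpectrum A) < q := lt_of_le_of_ne hpq fun heq => hcp (by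
          have : p = q.asIdeal := congrArg PrimeSpectrum.asIdeal heq
          rwa [this])
        have h1 := hδ hlt
        have h2 := hK ⟨p, hp.1.1⟩ hp.1.2
        push_cast at h2
        omega
      rw [mul_smul, ← map_smul (θ T K i (ModuleCat.of A M)) j y, ← hz, ← hy']
      exact (congrArg (r' • ·) (θ_Hmap T K K' le_sup_left i (ModuleCat.of A M) y')).trans
        (ih K' hK' hb r' hr' y')

/-- An annihilator at all points of `T` has a power killing `H^i_T`. -/
theorem exists_pow_kills_HT {δ : PrimeSpectrum A → ℤ} (hδ : StrictAnti δ) (b c : ℤ) (hb : ∀ q, b ≤ δ q)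
    (hc : ∀ q, δ q ≤ c) (J : Ideal A) (i : ℕ) (M : Type u) [AddCommGroup M] [Module A M]
    (h : ∀ q ∈ T, ∀ r ∈ J, ∀ x : LocCoh.H (maximalIdeal (Localization.AtPrime q.asIdeal)) i
      (LocalizedModule q.asIdeal.primeCompl M), algebraMap A (Localization.AtPrime q.asIdeal) r • x = 0) :
    ∀ r ∈ J ^ ((c - b).toNat + 1), ∀ x : Dual2.HT T i M, r • x = 0 := by
  intro r hr x
  obtain ⟨K, y, rfl⟩ := exists_θ_eq T i (ModuleCat.of A M) x
  exact θ_smul_eq_zero T hδ b J i M h _ K (fun q _ => by have := hc q; have := hb q; push_cast; omega) hb r hr y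

end Groth.L04.HTlocal
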