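import Groth.Agent.L04.LC.SupportsT
import Groth.Agent.L04.LC.Hmap
import Groth.Agent.L04.LC.Depth

/-!
# Annihilators of local cohomology with supports in a subset, and at its points
-/

set_option autoImplicit false
set_option linter.style.haveILetI false
universe u

open CategoryTheory Limits Abelian Opposite

open scoped Pointwise

noncomputable section

namespace Groth.L04.HTlocal

open Groth.L04.LC Groth.L04.HTsupp

variable {A : Type u} [CommRing A] (T : Set (PrimeSpectrum A))

/-- Elements killed by an ideal of the family. -/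
def torsT (M : Type u) [AddCommGroup M] [Module A M] : Submodule A M where
  carrier := {x | ∃ K : Dual2.IdealsIn T, ∀ r ∈ K.obj, r • x = 0}
  add_mem' := fun ⟨K, hK⟩ ⟨L, hL⟩ => by
    obtain ⟨U, f, g, -⟩ := IsCofilteredOrEmpty.cone_objs K L
    exact ⟨U, fun r hr => by rw [smul_add, hK r (leOfHom f.hom hr), hL r (leOfHom g.hom hr), add_zero]⟩
  zero_mem' := ⟨⟨⊤, fun q hq => absurd (top_unique hq) q.isPrime.ne_top⟩, fun r _ => smul_zero r⟩
  smul_mem' := fun c x ⟨K, hK⟩ => ⟨K, fun r hr => by rw [smul_comm, hK r hr, smul_zero]⟩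

theorem one_mem_apply {K : Dual2.IdealsIn T} {M : ModuleCat.{u} A} (f : (XT T).obj K ⟶ M) {r : A}
    (hr : r ∈ K.obj) : r • f.hom (Submodule.Quotient.mk (p := (K.obj : Ideal A)) (1 : A)) = 0 := by
  have h0 : r • (Submodule.Quotient.mk 1 : A ⧸ K.obj) = 0 := by
    rw [← Submodule.Quotient.mk_smul, Submodule.Quotient.mk_eq_zero, smul_eq_mul, mul_one]
    exact hr
  exact (map_smul f.hom r _).symm.trans ((congrArg f.hom h0).trans (map_zero f.hom))

theorem hom_ext_one {K : Dual2.IdealsIn T} {M : ModuleCat.{u} A} (f : (XT T).obj K ⟶ M)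
    (h : f.hom (Submodule.Quotient.mk (p := (K.obj : Ideal A)) (1 : A)) = 0) : f = 0 := by
  refine ModuleCat.hom_ext (LinearMap.ext fun y => ?_)
  obtain ⟨r, rfl⟩ := Submodule.Quotient.mk_surjective (K.obj : Ideal A) y
  have hr : (Submodule.Quotient.mk r : A ⧸ K.obj) = r • (Submodule.Quotient.mk 1 : A ⧸ K.obj) := by
    rw [← Submodule.Quotient.mk_smul, smul_eq_mul, mul_one]
  exact (congrArg f.hom hr).trans ((map_smul f.hom r _).trans (by rw [h, smul_zero]; rfl))

theorem smul_torsT_eq_zero {M : Type u} [AddCommGroup M] [Module A M] {r : A}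
    (hr : ∀ x : Dual2.HT T 0 M, r • x = 0) {x : M} (hx : x ∈ torsT T M) : r • x = 0 := by
  obtain ⟨K, hK⟩ := hx
  let φ : (XT T).obj K ⟶ ModuleCat.of A M := ModuleCat.ofHom ((K.obj : Ideal A).liftQ
    (LinearMap.toSpanSingleton A M x) fun a ha => hK a ha)
  have h1 : τ T 0 K (ModuleCat.of A M) (Ext.mk₀ (r • φ)) = 0 := by
    rw [Ext.mk₀_smul, map_smul]
    exact hr _
  obtain ⟨s, w, hw⟩ := ι_eq_zero A (XT T) 0 h1
  rw [Ext.mk₀_comp_mk₀] at hw
  have h2 : (XT T).map w ≫ (r • φ) = 0 := Ext.addEquiv₀.symm.injective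
    (by change Ext.mk₀ _ = Ext.mk₀ _; rw [hw, Ext.mk₀_zero])
  have h3 := congrArg (fun g => g.hom (Submodule.Quotient.mk (p := (s.obj : Ideal A)) (1 : A))) h2
  change r • (1 : A) • x = 0 at h3
  rwa [one_smul] at h3

theorem subsingleton_HT_zero {E : Type u} [AddCommGroup E] [Module A E] (hE : torsT T E = ⊥) :
    Subsingleton (Dual2.HT T 0 E) := by
  refine subsingleton_of_forall_eq 0 fun x => ?_
  obtain ⟨K, a, h⟩ := ι_jointly_surjective A (XT T) 0 (ModuleCat.of A E) x
  subst h
  obtain ⟨f, rfl⟩ := Ext.addEquiv₀.symm.surjective a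
  have hm : f.hom (Submodule.Quotient.mk (p := (K.obj : Ideal A)) (1 : A)) ∈ torsT T E :=
    ⟨K, fun r hr => one_mem_apply T f hr⟩
  rw [hE, Submodule.mem_bot] at hm
  rw [hom_ext_one T f hm]
  exact (congrArg (τ T 0 K (ModuleCat.of A E)) (map_zero Ext.addEquiv₀.symm)).trans (map_zero _)

theorem torsT_eq_bot_of_essential {G E : Type u} [AddCommGroup G] [Module A G]
    [AddCommGroup E] [Module A E] {f : G →ₗ[A] E} (hf : InjHull.IsEssentialInj f)
    (hG : torsT T G = ⊥) : torsT T E = ⊥ := by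
  by_contra h
  obtain ⟨y, ⟨hy, ⟨x, rfl⟩⟩, hy0⟩ := Submodule.exists_mem_ne_zero_of_ne_bot (hf.essential _ h)
  obtain ⟨K, hK⟩ := hy
  have : x ∈ torsT T G :=
    ⟨K, fun a ha => hf.injective (by rw [map_smul, map_zero, hK a ha])⟩
  rw [hG, Submodule.mem_bot] at this
  exact hy0 (by rw [this, map_zero])

theorem torsT_quotient [IsNoetherianRing A] (M : Type u) [AddCommGroup M] [Module A M] :
    torsT T (M ⧸ torsT T M) = ⊥ := by
  rw [eq_bot_iff]
  rintro y ⟨K, hK⟩
  obtain ⟨x, rfl⟩ := Submodule.Quotient.mk_surjective _ y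
  rw [Submodule.mem_bot, Submodule.Quotient.mk_eq_zero]
  classical
  obtain ⟨S, hS⟩ := (IsNoetherian.noetherian (K.obj : Ideal A))
  have hS' : ∀ r : S, ∃ L : Dual2.IdealsIn T, ∀ c ∈ L.obj, c • (r : A) • x = 0 := fun r => by
    have hr : (r : A) ∈ K.obj := hS ▸ Submodule.subset_span r.2
    have h0 := hK r hr
    rw [← Submodule.Quotient.mk_smul, Submodule.Quotient.mk_eq_zero] at h0
    exact h0
  choose L hL using hS'
  obtain ⟨U, hU⟩ := IsCofiltered.inf_objs_exists (Finset.univ.image L)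
  refine ⟨⟨U.obj * K.obj, fun q hq => by
    rcases q.isPrime.mul_le.1 ((PrimeSpectrum.mem_zeroLocus _ _).1 hq) with h | h
    · exact U.property h
    · exact K.property h⟩, fun r hr => ?_⟩
  induction hr using Submodule.mul_induction_on' with
  | mem_mul_mem c hc d hd =>
    rw [mul_smul]
    rw [← hS] at hd
    induction hd using Submodule.span_induction with
    | mem d hd =>
      obtain ⟨w⟩ := hU (Finset.mem_image.2 ⟨⟨d, hd⟩, Finset.mem_univ _, rfl⟩)
      exact hL ⟨d, hd⟩ c (leOfHom w.hom hc)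
    | zero => rw [zero_smul, smul_zero]
    | add a b _ _ ha hb => rw [add_smul, smul_add, ha, hb, add_zero]
    | smul e a _ ha => rw [smul_eq_mul, mul_smul, smul_comm, ha, smul_zero]
  | add a _ b _ ha hb => rw [add_smul, ha, hb, add_zero]

theorem torsionSub_eq_bot (K : Dual2.IdealsIn T) {M : Type u} [AddCommGroup M] [Module A M]
    (h : torsT T M = ⊥) : DRing.torsionSub K.obj M = ⊥ := by
  rw [eq_bot_iff]
  rintro x ⟨n, hn⟩
  exact h ▸ ⟨⟨K.obj ^ n, fun q hq => K.property fun r hr =>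
    q.isPrime.mem_of_pow_mem n (hq (Ideal.pow_mem_pow hr n))⟩, hn⟩

theorem mul_smul_HT_eq_zero {M N : Type u} [AddCommGroup M] [Module A M] [AddCommGroup N] [Module A N]
    (i : ℕ) {r s : A} (f : M →ₗ[A] N) (g : N →ₗ[A] M) (hgf : g.comp f = s • LinearMap.id)
    (hN : ∀ x : Dual2.HT T i N, r • x = 0) (x : Dual2.HT T i M) : (r * s) • x = 0 := by
  let Φ := localCohomology.ofDiagram.{u, u} (Dual2.idealsInDiagram T) i
  have h1 : (Φ.map (ModuleCat.ofHom g)).hom ((Φ.map (ModuleCat.ofHom f)).hom x) = s • x := by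
    rw [← LinearMap.comp_apply, ← ModuleCat.hom_comp, ← Functor.map_comp, ← ModuleCat.ofHom_comp, hgf]
    exact map_smul_id T i (ModuleCat.of A M) s x
  have h2 : r • (Φ.map (ModuleCat.ofHom f)).hom x = 0 := hN _
  rw [mul_smul, ← h1, ← map_smul, h2, map_zero]

variable [IsNoetherianRing A]

/-- A bound on the annihilators of `H^j_T` bounds those of `H^j_I` for `I` in the family. -/
theorem exists_pow_kills_H (J : Ideal A) : ∀ (i : ℕ), ∃ e : ℕ, ∀ (K : Dual2.IdealsIn T) (n : ℕ) (M : Type u)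
    [AddCommGroup M] [Module A M], (∀ j ≤ i, ∀ r ∈ J ^ n, ∀ x : Dual2.HT T j M, r • x = 0) →
    ∀ r ∈ (J ^ n) ^ e, ∀ x : LocCoh.H K.obj i M, r • x = 0 := by
  intro i
  induction i with
  | zero =>
    refine ⟨1, fun K n M _ _ h r hr x => ?_⟩
    rw [pow_one] at hr
    apply evalZero_injective K.obj (ModuleCat.of A M)
    rw [map_smul, map_zero]
    obtain ⟨k, hk⟩ := (H0Equiv K.obj (ModuleCat.of A M) x).2
    exact smul_torsT_eq_zero T (h 0 le_rfl r hr) ⟨⟨K.obj ^ k, fun q hq => K.property fun c hc =>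
      q.isPrime.mem_of_pow_mem k (hq (Ideal.pow_mem_pow hc k))⟩, hk⟩
  | succ i ih =>
    obtain ⟨e, he⟩ := ih
    refine ⟨2 * e + 1, fun K n M _ _ h => ?_⟩
    let Γ := torsT T M
    have hfac : ∀ s ∈ J ^ n, ∃ g : (M ⧸ Γ) →ₗ[A] M, g.comp Γ.mkQ = s • LinearMap.id :=
      fun s hs => ⟨Γ.liftQ (s • LinearMap.id) fun y hy => LinearMap.mem_ker.2 (smul_torsT_eq_zero T (h 0 (Nat.zero_le _) s hs) hy),
        Submodule.liftQ_mkQ _ _ _⟩
    have hN : ∀ j ≤ i + 1, ∀ r ∈ J ^ (2 * n), ∀ x : Dual2.HT T j (M ⧸ Γ), r • x = 0 := by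
      intro j hj r hr x
      rw [two_mul, pow_add] at hr
      induction hr using Submodule.mul_induction_on' with
      | mem_mul_mem a ha b hb =>
        obtain ⟨g, hg⟩ := hfac b hb
        let Φ := localCohomology.ofDiagram.{u, u} (Dual2.idealsInDiagram T) j
        have h1 : (Φ.map (ModuleCat.ofHom Γ.mkQ)).hom ((Φ.map (ModuleCat.ofHom g)).hom x) = b • x := by
          rw [← LinearMap.comp_apply, ← ModuleCat.hom_comp, ← Functor.map_comp, ← ModuleCat.ofHom_comp]
          have : Γ.mkQ.comp g = b • LinearMap.id := Submodule.linearMap_qext _ (by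
            rw [LinearMap.comp_assoc, hg]; rfl)
          rw [this]
          exact map_smul_id T j (ModuleCat.of A (M ⧸ Γ)) b x
        have h2 : a • (Φ.map (ModuleCat.ofHom g)).hom x = 0 := h j hj a ha _
        rw [mul_smul, ← h1, ← map_smul, h2, map_zero]
      | add a _ b _ ha hb => rw [add_smul, ha, hb, add_zero]
    obtain ⟨E, _, _, f, hf⟩ := Groth.L04.exists_injectiveHull (R := A) (M ⧸ Γ)
    have hE0 := torsT_eq_bot_of_essential T hf.toIsEssentialInj (torsT_quotient T M)
    have hS := quotient_shortExact f hf.injective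
    have hCk : ∀ j ≤ i, ∀ r ∈ J ^ (2 * n), ∀ x : Dual2.HT T j (E ⧸ LinearMap.range f), r • x = 0 := by
      intro j hj r hr x
      haveI : Subsingleton (Dual2.HT T j E) := by
        cases j with
        | zero => exact subsingleton_HT_zero T hE0
        | succ j =>
          haveI := hf.isInjective
          haveI : Injective (ModuleCat.of A E) := Module.injective_object_of_injective_module A E
          exact isZero_of_injective A (XT T) j (ModuleCat.of A E)
      have h1 : δ A (XT T) hS j (r • x) = 0 := (map_smul _ _ _).trans (hN (j + 1) (by omega) r hr _)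
      obtain ⟨y, hy⟩ := (exact₃ A (XT T) hS j (r • x)).1 h1
      rw [← hy, @Subsingleton.elim (Dual2.HT T j E) _ y 0]
      exact map_zero _
    have hHN : ∀ r ∈ (J ^ n) ^ (2 * e), ∀ x : LocCoh.H K.obj (i + 1) (M ⧸ Γ), r • x = 0 := by
      intro r hr x
      rw [← pow_mul, show n * (2 * e) = 2 * n * e by ring, pow_mul] at hr
      obtain ⟨y, rfl⟩ := Hδ_surjective K.obj hS i (subsingleton_H_injective K.obj E hf.isInjective i) x
      rw [← map_smul, he K (2 * n) (E ⧸ LinearMap.range f) hCk r hr y, map_zero]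
    intro r hr x
    rw [pow_succ] at hr
    induction hr using Submodule.mul_induction_on' with
    | mem_mul_mem a ha b hb =>
      obtain ⟨g, hg⟩ := hfac b hb
      exact smul_H_eq_zero_of_factor K.obj (i + 1) Γ.mkQ g hg (hHN a ha) x
    | add a _ b _ ha hb => rw [add_smul, ha, hb, add_zero]

/-- A common annihilator of `H^j_T(M)`, `j ≤ s`, has a power killing the local cohomology at every
point of `T`. -/
theorem exists_pow_kills_point (hT : StableUnderSpecialization T) (J : Ideal A) (s : ℕ) (M : Type u)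
    [AddCommGroup M] [Module A M] (h : ∀ i ≤ s, ∀ r ∈ J, ∀ x : Dual2.HT T i M, r • x = 0) :
    ∀ i ≤ s, ∃ e : ℕ, ∀ q ∈ T, ∀ r ∈ J ^ e,
      ∀ x : LocCoh.H (IsLocalRing.maximalIdeal (Localization.AtPrime q.asIdeal)) i
        (LocalizedModule q.asIdeal.primeCompl M),
        algebraMap A (Localization.AtPrime q.asIdeal) r • x = 0 := by
  intro i hi
  obtain ⟨e, he⟩ := exists_pow_kills_H T J i
  refine ⟨e, fun q hq r hr x => ?_⟩
  let K : Dual2.IdealsIn T := ⟨q.asIdeal, fun p hp => hT ((PrimeSpectrum.le_iff_specializes q p).1 hp) hq⟩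
  have hk := he K 1 M (fun j hj c hc => h j (by omega) c (by simpa using hc)) r (by simpa using hr)
  revert x
  rw [← IsLocalization.AtPrime.map_eq_maximalIdeal q.asIdeal (Localization.AtPrime q.asIdeal)]
  intro x
  obtain ⟨e'⟩ := nonempty_localizedModule_H_equiv q.asIdeal q.asIdeal.primeCompl i M
  obtain ⟨y, rfl⟩ := e'.surjective x
  rw [← map_smul]
  suffices h0 : algebraMap A (Localization.AtPrime q.asIdeal) r • y = 0 by rw [h0, map_zero]
  induction y using LocalizedModule.induction_on with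
  | h m t =>
    rw [algebraMap_smul, LocalizedModule.smul'_mk, hk m, LocalizedModule.zero_mk]

end Groth.L04.HTlocal
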