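import Groth.Agent.L04.LC.Annihilate
import Groth.Prelude.Def_DualLC

/-!
# Local cohomology with supports in a subset: finiteness and annihilators
-/

set_option autoImplicit false
universe u

open CategoryTheory Limits Abelian Opposite

open scoped Pointwise

noncomputable section

namespace Groth.L04.HTsupp

open Groth.L04.LC

variable {A : Type u} [CommRing A] (T : Set (PrimeSpectrum A))

/-- The ideals with zero locus in `T` form a cofiltered category. -/
instance isCofiltered_idealsIn : IsCofiltered (Dual2.IdealsIn T) := by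
  haveI : IsCofilteredOrEmpty (Dual2.IdealsIn T) :=
    { cone_objs := fun J K => ⟨⟨J.obj ⊓ K.obj, by
          intro q hq
          rcases q.isPrime.inf_le.1 ((PrimeSpectrum.mem_zeroLocus _ _).1 hq) with h | h
          · exact J.property h
          · exact K.property h⟩,
        ObjectProperty.homMk (homOfLE inf_le_left), ObjectProperty.homMk (homOfLE inf_le_right), trivial⟩
      cone_maps := fun J K f g => ⟨J, 𝟙 J, by
        apply ObjectProperty.hom_ext
        exact Subsingleton.elim _ _⟩ }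
  haveI : Nonempty (Dual2.IdealsIn T) := ⟨⟨⊤, fun q hq => absurd (top_unique hq) q.isPrime.ne_top⟩⟩
  exact {}

/-- The diagram `J ↦ A/J`. -/
abbrev XT : Dual2.IdealsIn T ⥤ ModuleCat.{u} A := localCohomology.ringModIdeals (Dual2.idealsInDiagram T)

/-- The structure map. -/
def τ (i : ℕ) (J : Dual2.IdealsIn T) (M : ModuleCat.{u} A) :
    Ext ((XT T).obj J) M i →ₗ[A] (localCohomology.ofDiagram.{u, u} (Dual2.idealsInDiagram T) i).obj M :=
  ι A (XT T) i J M

theorem smul_τ_eq_zero (i : ℕ) (J : Dual2.IdealsIn T) (M : ModuleCat.{u} A)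
    (a : Ext ((XT T).obj J) M i) {r : A} (hr : r ∈ J.obj) : r • τ T i J M a = 0 := by
  have h : r • 𝟙 ((XT T).obj J) = 0 := by
    refine ModuleCat.hom_ext (LinearMap.ext fun x => ?_)
    obtain ⟨y, rfl⟩ := Submodule.Quotient.mk_surjective (J.obj : Ideal A) x
    change r • (Submodule.Quotient.mk y : A ⧸ J.obj) = 0
    rw [← Submodule.Quotient.mk_smul, Submodule.Quotient.mk_eq_zero, smul_eq_mul]
    exact Ideal.mul_mem_right _ _ hr
  rw [← map_smul]
  conv_lhs => rw [← Ext.mk₀_id_comp a]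
  rw [← Ext.smul_comp, ← Ext.mk₀_smul, h, Ext.mk₀_zero, Ext.zero_comp, map_zero]

theorem exists_kills (i : ℕ) (M : Type u) [AddCommGroup M] [Module A M] (x : Dual2.HT T i M) :
    ∃ J : Dual2.IdealsIn T, ∀ r ∈ J.obj, r • x = 0 := by
  obtain ⟨J, a, h⟩ := ι_jointly_surjective A (XT T) i (ModuleCat.of A M) x
  subst h
  exact ⟨J, fun r hr => smul_τ_eq_zero T i J _ a hr⟩

/-- Finite families have a common annihilating ideal. -/
theorem exists_kills_of_finite (n : ℕ) (M : Type u) [AddCommGroup M] [Module A M]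
    (h : ∀ i ≤ n, Module.Finite A (Dual2.HT T i M)) :
    ∃ J : Dual2.IdealsIn T, ∀ i ≤ n, ∀ r ∈ J.obj, ∀ x : Dual2.HT T i M, r • x = 0 := by
  classical
  have h1 : ∀ i : Fin (n + 1), ∃ J : Dual2.IdealsIn T, ∀ r ∈ J.obj, ∀ x : Dual2.HT T i M, r • x = 0 := fun i => by
    obtain ⟨s, hs⟩ := (h i (Nat.lt_succ_iff.1 i.2)).fg_top
    choose J hJ using fun x : s => exists_kills T i M x
    obtain ⟨K, hK⟩ := IsCofiltered.inf_objs_exists (Finset.univ.image J)
    refine ⟨K, fun r hr x => ?_⟩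
    have hx : x ∈ Submodule.span A (s : Set (Dual2.HT T i M)) := hs ▸ trivial
    induction hx using Submodule.span_induction with
    | mem x hx =>
      obtain ⟨w⟩ := hK (Finset.mem_image.2 ⟨⟨x, hx⟩, Finset.mem_univ _, rfl⟩)
      exact hJ ⟨x, hx⟩ r ((leOfHom w.hom) hr)
    | zero => exact smul_zero r
    | add x y _ _ hx hy => rw [smul_add, hx, hy, add_zero]
    | smul c x _ hx => rw [smul_comm, hx, smul_zero]
  choose J hJ using h1
  obtain ⟨K, hK⟩ := IsCofiltered.inf_objs_exists (Finset.univ.image J)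
  refine ⟨K, fun i hi r hr x => ?_⟩
  obtain ⟨w⟩ := hK (Finset.mem_image.2 ⟨⟨i, Nat.lt_succ_iff.2 hi⟩, Finset.mem_univ _, rfl⟩)
  exact hJ ⟨i, Nat.lt_succ_iff.2 hi⟩ r ((leOfHom w.hom) hr) x

/-- Positive degrees vanish on modules that are torsion for an ideal of the family. -/
theorem subsingleton_HT_of_killed [IsNoetherianRing A] (i : ℕ) (hi : 0 < i) (J₀ : Dual2.IdealsIn T) (N : Type u)
    [AddCommGroup N] [Module A N] (hN : LocCoh.IsPowerTorsion J₀.obj N) : Subsingleton (Dual2.HT T i N) := by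
  refine subsingleton_of_forall_eq 0 fun x => ?_
  obtain ⟨J, a, h⟩ := ι_jointly_surjective A (XT T) i (ModuleCat.of A N) x
  subst h
  -- a common refinement
  obtain ⟨K, f, g, -⟩ := IsCofilteredOrEmpty.cone_objs J J₀
  have hN' : LocCoh.IsPowerTorsion K.obj N := fun y => by
    obtain ⟨k, hk⟩ := hN y
    exact ⟨k, fun r hr => hk r (Ideal.pow_right_mono (leOfHom g.hom) k hr)⟩
  haveI := subsingleton_H_pos_of_isPowerTorsion K.obj hi N hN'
  let p : quot K.obj 1 ⟶ (XT T).obj J := ModuleCat.ofHom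
    (Submodule.factor (show K.obj ^ 1 ≤ J.obj by rw [pow_one]; exact leOfHom f.hom))
  obtain ⟨m, hm, hzero⟩ := (Hι_eq_zero_iff K.obj i).1
    (@Subsingleton.elim (LocCoh.H K.obj i N) _ (Hι K.obj i 1 (ModuleCat.of A N) ((Ext.mk₀ p).comp a (zero_add i))) 0)
  let Km : Dual2.IdealsIn T := ⟨K.obj ^ m, fun q hq => K.property fun r hr =>
    q.isPrime.mem_of_pow_mem m (hq (Ideal.pow_mem_pow hr m))⟩
  let w : Km ⟶ J := ObjectProperty.homMk (homOfLE (((Ideal.pow_le_pow_right hm).trans (pow_one K.obj).le).trans (leOfHom f.hom)))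
  change τ T i J _ a = 0
  have hmap : (XT T).map w = quotMap K.obj hm ≫ p := by
    ext y
    obtain ⟨r, rfl⟩ := Submodule.Quotient.mk_surjective (K.obj ^ m : Ideal A) y
    rfl
  have hι := ι_map A (XT T) i w (ModuleCat.of A N) a
  have hz : (Ext.mk₀ (quotMap K.obj hm ≫ p)).comp a (zero_add i) = 0 :=
    ((congrArg (fun e => Ext.comp e a (zero_add i)) (Ext.mk₀_comp_mk₀ (quotMap K.obj hm) p).symm).trans
      (Ext.comp_assoc _ _ _ (zero_add 0) (zero_add i) (by omega))).trans hzero
  rw [hmap] at hι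
  exact hι.symm.trans ((congrArg (ι A (XT T) i Km (ModuleCat.of A N)) hz).trans (map_zero _))

/-- Multiplication on the coefficients. -/
theorem map_smul_id (i : ℕ) (M : ModuleCat.{u} A) (r : A)
    (x : (localCohomology.ofDiagram.{u, u} (Dual2.idealsInDiagram T) i).obj M) :
    ((localCohomology.ofDiagram.{u, u} (Dual2.idealsInDiagram T) i).map (r • 𝟙 M)).hom x = r • x := by
  obtain ⟨J, a, h⟩ := ι_jointly_surjective A (XT T) i M x
  subst h
  refine (map_ι A (XT T) i J (r • 𝟙 M) a).trans ?_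
  rw [Ext.mk₀_smul, Ext.comp_smul, Ext.comp_mk₀_id, map_smul]
  rfl

/-- `H⁰_T(M)` is finite for finite `M`. -/
theorem finite_zero [IsNoetherianRing A] (M : Type u) [AddCommGroup M] [Module A M] [Module.Finite A M] :
    Module.Finite A (Dual2.HT T 0 M) := by
  let one : ∀ J : Dual2.IdealsIn T, (XT T).obj J := fun J => Submodule.Quotient.mk (p := (J.obj : Ideal A)) (1 : A)
  let ev : ∀ J, Ext ((XT T).obj J) (ModuleCat.of A M) 0 →ₗ[A] M := fun J =>
    { toFun := fun a => (Ext.addEquiv₀ a).hom (one J)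
      map_add' := fun a b => by rw [map_add]; rfl
      map_smul' := fun r a => by
        obtain ⟨f, rfl⟩ := Ext.addEquiv₀.symm.surjective a
        rw [RingHom.id_apply, AddEquiv.apply_symm_apply,
          show r • Ext.addEquiv₀.symm f = Ext.addEquiv₀.symm (r • f) from (Ext.mk₀_smul r f).symm,
          AddEquiv.apply_symm_apply]
        rfl }
  have hev : ∀ (J : Dual2.IdealsIn T) (f : (XT T).obj J ⟶ ModuleCat.of A M), ev J (Ext.mk₀ f) = f.hom (one J) :=
    fun J f => by
      change (Ext.addEquiv₀ (Ext.mk₀ f)).hom _ = _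
      rw [show Ext.mk₀ f = Ext.addEquiv₀.symm f from rfl, AddEquiv.apply_symm_apply]
  have hcompat : ∀ ⦃s t : Dual2.IdealsIn T⦄ (w : s ⟶ t) (a : Ext ((XT T).obj t) (ModuleCat.of A M) 0),
      ev s ((Ext.mk₀ ((XT T).map w)).comp a (zero_add 0)) = ev t a := fun s t w a => by
    obtain ⟨f, rfl⟩ := Ext.addEquiv₀.symm.surjective a
    change ev s ((Ext.mk₀ ((XT T).map w)).comp (Ext.mk₀ f) (zero_add 0)) = ev t (Ext.mk₀ f)
    rw [Ext.mk₀_comp_mk₀, hev, hev]
    rfl
  let e : Dual2.HT T 0 M →ₗ[A] M := desc A (XT T) 0 (N := ModuleCat.of A M) ev hcompat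
  refine Module.Finite.of_injective e ((injective_iff_map_eq_zero e).2 fun x hx => ?_)
  obtain ⟨J, a, h⟩ := ι_jointly_surjective A (XT T) 0 (ModuleCat.of A M) x
  subst h
  obtain ⟨f, rfl⟩ := Ext.addEquiv₀.symm.surjective a
  have h1 : f.hom (one J) = 0 := by
    rw [← hev J f]
    exact (desc_ι A (XT T) 0 (N := ModuleCat.of A M) ev hcompat J _).symm.trans hx
  have : f = 0 := ModuleCat.hom_ext (LinearMap.ext fun y => by
    obtain ⟨r, rfl⟩ := Submodule.Quotient.mk_surjective (J.obj : Ideal A) y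
    have hr : (Submodule.Quotient.mk r : A ⧸ J.obj) = r • (Submodule.Quotient.mk 1 : A ⧸ J.obj) := by
      rw [← Submodule.Quotient.mk_smul, smul_eq_mul, mul_one]
    change f.hom (Submodule.Quotient.mk r : A ⧸ J.obj) = 0
    rw [hr]
    change f.hom (r • one J) = 0
    rw [map_smul, h1, smul_zero])
  rw [this]
  exact (congrArg (τ T 0 J (ModuleCat.of A M)) (map_zero Ext.addEquiv₀.symm)).trans (map_zero _)

variable [IsNoetherianRing A]

/-- A common annihilator in degrees `≤ n` forces finiteness. -/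
theorem finite_of_killed : ∀ (n : ℕ) (M : Type u) [AddCommGroup M] [Module A M] [Module.Finite A M]
    (J : Dual2.IdealsIn T), (∀ i ≤ n, ∀ r ∈ J.obj, ∀ x : Dual2.HT T i M, r • x = 0) →
      ∀ i ≤ n, Module.Finite A (Dual2.HT T i M) := by
  intro n
  induction n with
  | zero =>
    intro M _ _ _ J _ i hi
    obtain rfl : i = 0 := by omega
    exact finite_zero T M
  | succ n ih =>
    intro M _ _ _ J hJ i hi
    rcases eq_or_lt_of_le hi with rfl | hlt
    swap
    · exact ih M J (fun j hj => hJ j (by omega)) i (by omega)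
    let Γ := DRing.torsionSub J.obj M
    let Q := M ⧸ Γ
    have hS₀ := Groth.L04.LC.ses_shortExact Γ.subtype Γ.mkQ Subtype.val_injective (Submodule.mkQ_surjective Γ)
      (LinearMap.exact_subtype_mkQ Γ)
    have hΓ : ∀ j, 0 < j → Subsingleton (Dual2.HT T j Γ) := fun j hj =>
      subsingleton_HT_of_killed T j hj J Γ (isPowerTorsion_torsionSub J.obj M)
    have hqs : ∀ j, Function.Surjective
        ((localCohomology.ofDiagram.{u, u} (Dual2.idealsInDiagram T) j).map (ModuleCat.ofHom Γ.mkQ)).hom :=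
      fun j y => (exact₃ A (XT T) hS₀ j y).1 (@Subsingleton.elim _ (hΓ (j + 1) j.succ_pos) _ _)
    have hqi : Function.Injective
        ((localCohomology.ofDiagram.{u, u} (Dual2.idealsInDiagram T) (n + 1)).map (ModuleCat.ofHom Γ.mkQ)).hom := by
      rw [injective_iff_map_eq_zero]
      intro y hy
      obtain ⟨z, rfl⟩ := (exact₂ A (XT T) hS₀ (n + 1) y).1 hy
      rw [@Subsingleton.elim _ (hΓ (n + 1) n.succ_pos) z 0]
      exact map_zero _
    have hQ : ∀ j ≤ n + 1, ∀ r ∈ J.obj, ∀ x : Dual2.HT T j Q, r • x = 0 := fun j hj r hr x => by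
      obtain ⟨y, rfl⟩ := hqs j x
      rw [← map_smul, hJ j hj r hr y, map_zero]
    obtain ⟨a, haJ, hreg⟩ := exists_regular_mem J.obj Q (torsionSub_quotient_eq_bot J.obj M)
    have hS := (show IsSMulRegular (ModuleCat.of A Q) a from hreg).smulShortComplex_shortExact
    let J2 : Dual2.IdealsIn T := ⟨J.obj * J.obj, fun q hq => by
      rcases q.isPrime.mul_le.1 ((PrimeSpectrum.mem_zeroLocus _ _).1 hq) with h | h <;> exact J.property h⟩
    have hQ' : ∀ j ≤ n, ∀ r ∈ J2.obj, ∀ x : Dual2.HT T j (QuotSMulTop a Q), r • x = 0 := fun j hj r hr x => by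
      induction hr using Submodule.mul_induction_on' with
      | mem_mul_mem r hr s hs =>
        have h1 : δ A (XT T) hS j (s • x) = 0 := (map_smul _ _ _).trans (hQ (j + 1) (by omega) s hs _)
        obtain ⟨y, hy⟩ := (exact₃ A (XT T) hS j (s • x)).1 h1
        rw [mul_smul, ← hy]
        exact (map_smul _ r y).symm.trans ((congrArg _ (hQ j (by omega) r hr y)).trans (map_zero _))
      | add r _ s _ h1 h2 => rw [add_smul, h1, h2, add_zero]
    haveI : Module.Finite A (Dual2.HT T n (QuotSMulTop a Q)) := ih (QuotSMulTop a Q) J2 hQ' n le_rfl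
    let δn : Dual2.HT T n (QuotSMulTop a Q) →ₗ[A] Dual2.HT T (n + 1) Q := δ A (XT T) hS n
    have hδ : Function.Surjective δn := fun y => by
      refine (exact₁ A (XT T) hS n y).1 ?_
      have h0 : (ModuleCat.smulShortComplex (ModuleCat.of A Q) a).f = a • 𝟙 (ModuleCat.of A Q) := by
        ext; rfl
      rw [h0]
      exact (map_smul_id T (n + 1) _ a y).trans (hQ (n + 1) le_rfl a haJ y)
    haveI : Module.Finite A (Dual2.HT T (n + 1) Q) := Module.Finite.of_surjective δn hδ
    exact Module.Finite.of_injective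
      ((localCohomology.ofDiagram.{u, u} (Dual2.idealsInDiagram T) (n + 1)).map (ModuleCat.ofHom Γ.mkQ)).hom hqi

/-- Finiteness of `H^i_T` for `i ≤ n` is equivalent to a common annihilator with zero locus in `T`. -/
theorem finite_iff_killed (M : Type u) [AddCommGroup M] [Module A M] [Module.Finite A M] (n : ℕ) :
    (∀ i : ℕ, i ≤ n → Module.Finite A (Dual2.HT T i M)) ↔ ∃ J : Ideal A, PrimeSpectrum.zeroLocus (J : Set A) ⊆ T ∧
      ∀ i : ℕ, i ≤ n → ∀ a ∈ J, ∀ x : Dual2.HT T i M, a • x = 0 := by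
  refine ⟨fun h => ?_, fun ⟨J, hJ, h⟩ => finite_of_killed T n M ⟨J, hJ⟩ h⟩
  obtain ⟨J, hJ⟩ := exists_kills_of_finite T n M h
  exact ⟨J.obj, J.property, hJ⟩

end Groth.L04.HTsupp
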