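import Groth.Agent.L04.LC.Top
import Mathlib.RingTheory.Localization.Away.Basic
import Mathlib.RingTheory.LocalProperties.Basic

/-!
# The top local cohomology module of a ring as a quotient of a localisation
-/

universe u

open CategoryTheory

namespace Groth.L04.LC

variable {R : Type u} [CommRing R] [IsNoetherianRing R]

/-- `H^n_{(a)}(R)` is `R_P` modulo the fractions `a_i^k / P^k`, where `P = ∏ a`. -/
theorem nonempty_away_quotient_equiv {n : ℕ} (a : Fin n → R) :
    Nonempty ((Localization.Away (∏ i, a i) ⧸ Submodule.span R {y : Localization.Away (∏ i, a i) |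
        ∃ (i : Fin n) (k : ℕ), y = algebraMap R (Localization.Away (∏ i, a i)) (a i ^ k) *
          IsLocalization.Away.invSelf (∏ i, a i) ^ k}) ≃ₗ[R]
      LocCoh.H (Ideal.span (Set.range a)) n R) := by
  obtain ⟨φ, h1, h2, h3, h4⟩ := exists_top_family_ker n a _ rfl R
  generalize hP : ∏ i, a i = P at *
  set A := Localization.Away P
  set am := algebraMap R A
  set u := IsLocalization.Away.invSelf (S := A) P
  have hu : am P * u = 1 := IsLocalization.Away.mul_invSelf P
  have hup : ∀ k, am P ^ k * u ^ k = 1 := fun k => by rw [← mul_pow, hu, one_pow]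
  have hφ : ∀ k t r, φ (t + k) (P ^ k * r) = φ t r := by
    intro k
    induction k with
    | zero => simp
    | succ k ih =>
      intro t r
      rw [← add_assoc, pow_succ', mul_assoc, ← smul_eq_mul P, h1, ih]
  have hrep : ∀ z : A, ∃ p : R × ℕ, z * am P ^ p.2 = am p.1 := by
    intro z
    obtain ⟨k, r, hk⟩ := IsLocalization.Away.surj P z
    exact ⟨(r, k), hk⟩
  choose rep hrep using hrep
  have hwd : ∀ (z : A) (r : R) (s : ℕ), z * am P ^ s = am r →
      φ (rep z).2 (rep z).1 = φ s r := by
    intro z r s hz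
    obtain ⟨⟨_, c, rfl⟩, hc⟩ := (IsLocalization.eq_iff_exists (Submonoid.powers P) A).1
      (show am (P ^ s * (rep z).1) = am (P ^ (rep z).2 * r) by
        rw [map_mul, map_mul, map_pow, map_pow, ← hrep, ← hz]; ring)
    rw [← hφ (c + s) (rep z).2 (rep z).1, ← hφ (c + (rep z).2) s r,
      show s + (c + (rep z).2) = (rep z).2 + (c + s) by ring]
    congr 1
    rw [pow_add, pow_add, mul_assoc, mul_assoc]
    exact hc
  let π : A →ₗ[R] LocCoh.H (Ideal.span (Set.range a)) n R :=
    { toFun := fun z => φ (rep z).2 (rep z).1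
      map_add' := fun z w => by
        rw [hwd (z + w) (P ^ (rep w).2 * (rep z).1 + P ^ (rep z).2 * (rep w).1)
          ((rep z).2 + (rep w).2) (by
            rw [map_add, map_mul, map_mul, map_pow, map_pow, ← hrep, ← hrep]; ring), map_add]
        congr 1
        · exact hφ _ _ _
        · rw [add_comm (rep z).2]; exact hφ _ _ _
      map_smul' := fun r z => by
        rw [RingHom.id_apply, ← map_smul, hwd (r • z) (r • (rep z).1) (rep z).2]
        rw [smul_eq_mul, map_mul, ← hrep, Algebra.smul_def]; ring }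
  have hπ : ∀ (r : R) (s : ℕ), π (am r * u ^ s) = φ s r := fun r s => hwd _ _ _ (by
    rw [mul_assoc, mul_comm (u ^ s), hup, mul_one])
  have hsurj : Function.Surjective π := fun x => by
    obtain ⟨t, r, rfl⟩ := h2 x
    exact ⟨_, hπ r t⟩
  refine ⟨(Submodule.quotEquivOfEq _ _ (le_antisymm ?_ ?_)).trans (π.quotKerEquivOfSurjective hsurj)⟩
  · rw [Submodule.span_le]
    rintro _ ⟨i, k, rfl⟩
    exact (hπ _ _).trans (by simpa using h3 k i 1)
  · intro z hz
    obtain ⟨j, f, hf⟩ := h4 _ _ (LinearMap.mem_ker.1 hz : φ (rep z).2 (rep z).1 = 0)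
    set t := (rep z).2
    set S : Set A := {y | ∃ i k, y = am (a i ^ k) * u ^ k}
    have hz' : z = ∑ i, f i • (am (a i ^ (t + j)) * u ^ (t + j)) := by
      have hx : ∀ i, f i • (am (a i ^ (t + j)) * u ^ (t + j)) =
          am (a i ^ (t + j) • f i) * u ^ (t + j) := fun i => by
        rw [Algebra.smul_def, smul_eq_mul, map_mul]; ring
      simp only [hx]
      rw [← Finset.sum_mul, ← map_sum, ← hf, smul_eq_mul, map_mul, map_pow, ← hrep]
      calc z = z * (am P ^ (t + j) * u ^ (t + j)) := by rw [hup, mul_one]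
        _ = _ := by ring
    rw [hz']
    exact Submodule.sum_mem _ fun i _ => Submodule.smul_mem _ _
      (Submodule.subset_span ⟨i, t + j, rfl⟩)

end Groth.L04.LC
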