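import Groth.Agent.L04.LC.Change
import Mathlib.LinearAlgebra.DirectSum.Finsupp
import Mathlib.Algebra.Category.ModuleCat.Monoidal.Closed

/-! The top local cohomology `H^d_I`, `cd I ≤ d`, is the functor `H^d_I(R) ⊗ -`. -/

universe u

open CategoryTheory Limits Abelian

open scoped TensorProduct

namespace Groth.L04.LC

variable {R : Type u} [CommRing R] (I : Ideal R) (d : ℕ)

noncomputable section

/-- The map `H^d(f)` for a linear map `f`. -/
abbrev Hlin {M N : Type u} [AddCommGroup M] [Module R M] [AddCommGroup N] [Module R N]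
    (f : M →ₗ[R] N) : LocCoh.H I d M →ₗ[R] LocCoh.H I d N :=
  ((localCohomology I d).map (ModuleCat.ofHom f)).hom

theorem Hlin_comp {M N P : Type u} [AddCommGroup M] [Module R M] [AddCommGroup N] [Module R N]
    [AddCommGroup P] [Module R P] (g : N →ₗ[R] P) (f : M →ₗ[R] N) :
    Hlin I d (g.comp f) = (Hlin I d g).comp (Hlin I d f) := by
  change ((localCohomology I d).map (ModuleCat.ofHom f ≫ ModuleCat.ofHom g)).hom = _
  rw [Functor.map_comp, ModuleCat.hom_comp]

theorem Hlin_id (M : Type u) [AddCommGroup M] [Module R M] :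
    Hlin I d (LinearMap.id : M →ₗ[R] M) = LinearMap.id := by
  change ((localCohomology I d).map (𝟙 (ModuleCat.of R M))).hom = _
  rw [CategoryTheory.Functor.map_id]
  rfl

theorem Hlin_add {M N : Type u} [AddCommGroup M] [Module R M] [AddCommGroup N] [Module R N]
    (f g : M →ₗ[R] N) : Hlin I d (f + g) = Hlin I d f + Hlin I d g := by
  refine LinearMap.ext fun x => ?_
  obtain ⟨n, a, rfl⟩ := Hι_surjective I d (ModuleCat.of R M) x
  rw [LinearMap.add_apply, Hlin, Hlin, Hlin, map_Hι, map_Hι, map_Hι, ← map_add]
  congr 1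
  rw [← Ext.comp_add, ← Ext.mk₀_add]
  rfl

theorem Hlin_smul {M N : Type u} [AddCommGroup M] [Module R M] [AddCommGroup N] [Module R N]
    (r : R) (f : M →ₗ[R] N) : Hlin I d (r • f) = r • Hlin I d f := by
  refine LinearMap.ext fun x => ?_
  obtain ⟨n, a, rfl⟩ := Hι_surjective I d (ModuleCat.of R M) x
  rw [LinearMap.smul_apply, Hlin, Hlin, map_Hι, map_Hι, ← map_smul]
  congr 1
  rw [← Ext.comp_smul, ← Ext.mk₀_smul]
  rfl

theorem Hlin_zero {M N : Type u} [AddCommGroup M] [Module R M] [AddCommGroup N] [Module R N] :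
    Hlin I d (0 : M →ₗ[R] N) = 0 := by
  simpa using Hlin_smul I d (0 : R) (0 : M →ₗ[R] N)

/-- `h ⊗ e ↦ H^d(1 ↦ e) h`. -/
def mu (M : Type u) [AddCommGroup M] [Module R M] :
    LocCoh.H I d R ⊗[R] M →ₗ[R] LocCoh.H I d M :=
  TensorProduct.lift (LinearMap.flip
    { toFun := fun e => Hlin I d (LinearMap.toSpanSingleton R M e)
      map_add' := fun e e' => by rw [← Hlin_add, LinearMap.toSpanSingleton_add]
      map_smul' := fun r e => by
        rw [RingHom.id_apply, ← Hlin_smul, LinearMap.toSpanSingleton_smul] })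

theorem mu_tmul (M : Type u) [AddCommGroup M] [Module R M] (h : LocCoh.H I d R) (e : M) :
    mu I d M (h ⊗ₜ e) = Hlin I d (LinearMap.toSpanSingleton R M e) h := rfl

theorem mu_natural {M N : Type u} [AddCommGroup M] [Module R M] [AddCommGroup N] [Module R N]
    (f : M →ₗ[R] N) : (mu I d N).comp (f.lTensor (LocCoh.H I d R)) = (Hlin I d f).comp (mu I d M) := by
  refine TensorProduct.ext' fun h e => ?_
  rw [LinearMap.comp_apply, LinearMap.lTensor_tmul, LinearMap.comp_apply, mu_tmul, mu_tmul,
    ← LinearMap.comp_apply, ← Hlin_comp, LinearMap.comp_toSpanSingleton]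

theorem mu_natural_apply {M N : Type u} [AddCommGroup M] [Module R M] [AddCommGroup N] [Module R N]
    (f : M →ₗ[R] N) (t : LocCoh.H I d R ⊗[R] M) :
    mu I d N (f.lTensor (LocCoh.H I d R) t) = Hlin I d f (mu I d M t) :=
  LinearMap.congr_fun (mu_natural I d f) t

variable [IsNoetherianRing R]

section

variable {I d} (hcd : LocCoh.CdLE R I d)
include hcd

theorem Hlin_surjective {M N : Type u} [AddCommGroup M] [Module R M] [AddCommGroup N] [Module R N]
    (f : M →ₗ[R] N) (hf : Function.Surjective f) : Function.Surjective (Hlin I d f) := by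
  have hS := ses_shortExact (LinearMap.ker f).subtype f (LinearMap.ker f).injective_subtype hf
    f.exact_subtype_ker_map
  intro y
  exact (H_exact₃ I hS d y).1 (@Subsingleton.elim _ (hcd (LinearMap.ker f) (d + 1) (by omega)) _ _)

theorem mu_surjective (M : Type u) [AddCommGroup M] [Module R M] :
    Function.Surjective (mu I d M) := by
  classical
  intro x
  obtain ⟨n, a, rfl⟩ := Hι_surjective I d (ModuleCat.of R M) x
  obtain ⟨N, hN, b, rfl⟩ := exists_fg_ext_factor d (R ⧸ I ^ n) inferInstance a
  haveI : Module.Finite R N := Module.Finite.of_fg hN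
  obtain ⟨k, g, hg⟩ := Module.Finite.exists_fin' R N
  obtain ⟨y, hy⟩ := Hlin_surjective hcd g hg (Hι I d n (ModuleCat.of R N) b)
  refine ⟨∑ j, Hlin I d (LinearMap.proj j) y ⊗ₜ[R] ((g (Pi.single j 1) : N) : M), ?_⟩
  have hid : ∑ j, ((LinearMap.toSpanSingleton R M ((g (Pi.single j 1) : N) : M)).comp
      (LinearMap.proj j : (Fin k → R) →ₗ[R] R)) = N.subtype.comp g := by
    refine LinearMap.pi_ext fun i r => ?_
    simp only [LinearMap.sum_apply, LinearMap.comp_apply, LinearMap.proj_apply,
      LinearMap.toSpanSingleton_apply, Submodule.subtype_apply]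
    rw [Finset.sum_eq_single i (fun j _ hj => by rw [Pi.single_eq_of_ne hj, zero_smul])
      (fun h => absurd (Finset.mem_univ i) h), Pi.single_eq_same, ← Submodule.coe_smul,
      ← map_smul, ← Pi.single_smul', smul_eq_mul, mul_one]
  have hsum : ∀ (s : Finset (Fin k)) (φ : Fin k → ((Fin k → R) →ₗ[R] M)),
      Hlin I d (∑ j ∈ s, φ j) = ∑ j ∈ s, Hlin I d (φ j) := by
    intro s φ
    induction s using Finset.induction_on with
    | empty => simp [Hlin_zero]
    | insert a s ha ih => rw [Finset.sum_insert ha, Finset.sum_insert ha, Hlin_add, ih]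
  calc mu I d M (∑ j, Hlin I d (LinearMap.proj j) y ⊗ₜ[R] ((g (Pi.single j 1) : N) : M))
      = ∑ j, Hlin I d ((LinearMap.toSpanSingleton R M ((g (Pi.single j 1) : N) : M)).comp
          (LinearMap.proj j : (Fin k → R) →ₗ[R] R)) y := by
        rw [map_sum]
        refine Finset.sum_congr rfl fun j _ => ?_
        rw [mu_tmul, Hlin_comp, LinearMap.comp_apply]
    _ = Hlin I d (N.subtype.comp g) y := by
        rw [← LinearMap.sum_apply, ← hsum, hid]
    _ = _ := by
        rw [Hlin_comp, LinearMap.comp_apply, hy]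
        exact map_Hι I d n _ b

omit hcd in
theorem mu_injective_finsupp (ι : Type u) : Function.Injective (mu I d (ι →₀ R)) := by
  classical
  rw [injective_iff_map_eq_zero]
  intro t ht
  have key : ∀ (t : LocCoh.H I d R ⊗[R] (ι →₀ R)) (j : ι),
      Hlin I d (Finsupp.lapply j) (mu I d (ι →₀ R) t) =
        TensorProduct.finsuppScalarRight R R (LocCoh.H I d R) ι t j := by
    intro t j
    induction t using TensorProduct.induction_on with
    | zero => simp
    | tmul h e =>
      rw [mu_tmul, TensorProduct.finsuppScalarRight_apply_tmul_apply, ← LinearMap.comp_apply,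
        ← Hlin_comp, LinearMap.comp_toSpanSingleton,
        show LinearMap.toSpanSingleton R R (Finsupp.lapply j e) = (e j) • LinearMap.id from
          LinearMap.ext fun r => by simp [mul_comm], Hlin_smul, Hlin_id]
      rfl
    | add a b ha hb => simp only [map_add, Finsupp.add_apply, ha, hb]
  refine (TensorProduct.finsuppScalarRight R R (LocCoh.H I d R) ι).injective (Finsupp.ext fun j => ?_)
  rw [← key, ht, map_zero, map_zero, Finsupp.zero_apply]

omit [IsNoetherianRing R] hcd in
theorem ker_ses {M N : Type u} [AddCommGroup M] [Module R M] [AddCommGroup N] [Module R N]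
    (f : M →ₗ[R] N) (hf : Function.Surjective f) :
    (ShortComplex.moduleCatMk (LinearMap.ker f).subtype f f.comp_ker_subtype).ShortExact :=
  ses_shortExact (LinearMap.ker f).subtype f (LinearMap.ker f).injective_subtype hf
    f.exact_subtype_ker_map

theorem mu_injective_of_surjective {M N : Type u} [AddCommGroup M] [Module R M] [AddCommGroup N]
    [Module R N] (g : M →ₗ[R] N) (hg : Function.Surjective g) (hM : Function.Injective (mu I d M)) :
    Function.Injective (mu I d N) := by
  have hS := ker_ses g hg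
  rw [injective_iff_map_eq_zero]
  intro t ht
  obtain ⟨t', rfl⟩ := LinearMap.lTensor_surjective (LocCoh.H I d R) hg t
  rw [mu_natural_apply] at ht
  obtain ⟨w, hw⟩ := (H_exact₂ I hS d _).1 ht
  obtain ⟨v, rfl⟩ := mu_surjective hcd (LinearMap.ker g) w
  have h1 : t' = (LinearMap.ker g).subtype.lTensor (LocCoh.H I d R) v :=
    hM (hw.symm.trans (mu_natural_apply I d (LinearMap.ker g).subtype v).symm)
  rw [h1, ← LinearMap.comp_apply, ← LinearMap.lTensor_comp, g.comp_ker_subtype,
    LinearMap.lTensor_zero, LinearMap.zero_apply]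

theorem mu_bijective (M : Type u) [AddCommGroup M] [Module R M] :
    Function.Bijective (mu I d M) :=
  ⟨mu_injective_of_surjective hcd (Finsupp.linearCombination R (id : M → M))
    (fun m => ⟨Finsupp.single m 1, by simp⟩) (mu_injective_finsupp M), mu_surjective hcd M⟩

/-- `H^d_I(R) ⊗ - ≅ H^d_I`. -/
def topTensorIso :
    MonoidalCategory.tensorLeft (ModuleCat.of R (LocCoh.H I d R)) ≅ localCohomology I d :=
  NatIso.ofComponents (fun M => (LinearEquiv.ofBijective (mu I d M) (mu_bijective hcd M)).toModuleIso)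
    (fun {M N} f => ModuleCat.hom_ext (mu_natural I d f.hom))

theorem isLeftAdjoint_top : (localCohomology I d).IsLeftAdjoint :=
  haveI : (MonoidalCategory.tensorLeft (ModuleCat.of R (LocCoh.H I d R))).IsLeftAdjoint :=
    (ihom.adjunction _).isLeftAdjoint
  Functor.isLeftAdjoint_of_iso (topTensorIso hcd)

end

/-- `cd I ≤ d` when `I` is, up to radical, generated by `d` elements. -/
theorem cdLE_of_radical {d : ℕ} (u : Fin d → R) (hu : ∀ i, u i ∈ I)
    (hI : I ≤ (Ideal.span (Set.range u)).radical) : LocCoh.CdLE R I d := by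
  classical
  have hrad : I.radical = (Ideal.span (Set.range u)).radical :=
    le_antisymm (Ideal.radical_le_radical_iff.2 hI)
      (Ideal.radical_mono (Ideal.span_le.2 (Set.range_subset_iff.2 hu)))
  intro M _ _ i hi
  have h := cdLE_span_finset (Finset.univ.image u) M i
    (lt_of_le_of_lt (Finset.card_image_le.trans (by simp)) hi)
  rw [show ((Finset.univ.image u : Finset R) : Set R) = Set.range u by simp] at h
  exact ((localCohomology.isoOfSameRadical hrad i).app (ModuleCat.of R M)).toLinearEquiv.toEquiv.subsingleton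

end

end Groth.L04.LC
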