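import Groth.Agent.L04.LC.Depth
import Groth.Prelude.Def_DualLC

/-!
# Uniform vanishing of transition maps above the cohomological dimension
-/

set_option autoImplicit false
universe u

open CategoryTheory Limits Abelian

noncomputable section

namespace Groth.L04.LC

variable {R : Type u} [CommRing R]

/-- `Ext` into a product surjects onto the product of the `Ext`s. -/
theorem exists_ext_pi : ∀ (i : ℕ) (J : Type u) (X : ModuleCat.{u} R) (N : J → Type u) [∀ j, AddCommGroup (N j)]
    [∀ j, Module R (N j)] (x : ∀ j, Ext X (ModuleCat.of R (N j)) i),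
    ∃ z : Ext X (ModuleCat.of R (∀ j, N j)) i, ∀ j,
      z.comp (Ext.mk₀ (ModuleCat.ofHom (LinearMap.proj j : (∀ j, N j) →ₗ[R] N j))) (add_zero i) = x j := by
  intro i
  induction i with
  | zero =>
    intro J X N _ _ x
    refine ⟨Ext.mk₀ (ModuleCat.ofHom (LinearMap.pi fun j => (Ext.homEquiv₀ (x j)).hom)), fun j => ?_⟩
    rw [Ext.mk₀_comp_mk₀]
    conv_rhs => rw [← Ext.mk₀_homEquiv₀_apply (x j)]
    congr 1
  | succ i ih =>
    intro J X N _ _ x
    choose E instA instM f hf hE using fun j => exists_injective_embedding (R := R) (N j)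
    letI : ∀ j, AddCommGroup (E j) := instA
    letI : ∀ j, Module R (E j) := instM
    have hS : ∀ j, (ses (f j) (LinearMap.range (f j)).mkQ (LinearMap.range_mkQ_comp (f j))).ShortExact :=
      fun j => quotient_shortExact (f j) (hf j)
    have hy : ∀ j, ∃ y : Ext X (ModuleCat.of R (E j ⧸ LinearMap.range (f j))) i,
        y.comp (hS j).extClass rfl = x j := fun j =>
      Ext.covariant_sequence_exact₁ X (hS j) (x j)
        (@Subsingleton.elim _ (subsingleton_ext_succ_injective X (E j) (hE j) i) _ _) rfl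
    choose y hy using hy
    obtain ⟨z, hz⟩ := ih J X (fun j => E j ⧸ LinearMap.range (f j)) y
    let F : (∀ j, N j) →ₗ[R] ∀ j, E j := LinearMap.pi fun j => (f j).comp (LinearMap.proj j)
    let G : (∀ j, E j) →ₗ[R] ∀ j, E j ⧸ LinearMap.range (f j) :=
      LinearMap.pi fun j => (LinearMap.range (f j)).mkQ.comp (LinearMap.proj j)
    have hFi : Function.Injective F := fun a b h => funext fun j => hf j (congrFun h j)
    have hGs : Function.Surjective G := fun b => by
      choose a ha using fun j => Submodule.mkQ_surjective (LinearMap.range (f j)) (b j)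
      exact ⟨a, funext ha⟩
    have hex : Function.Exact F G := fun b => by
      constructor
      · intro hb
        choose a ha using fun j => (Submodule.Quotient.mk_eq_zero _).1 (congrFun hb j)
        exact ⟨a, funext ha⟩
      · rintro ⟨a, rfl⟩
        exact funext fun j => (Submodule.Quotient.mk_eq_zero _).2 ⟨a j, rfl⟩
    have hT := ses_shortExact F G hFi hGs hex
    refine ⟨z.comp hT.extClass rfl, fun j => ?_⟩
    let φ : ses F G hex.linearMap_comp_eq_zero ⟶ ses (f j) (LinearMap.range (f j)).mkQ (LinearMap.range_mkQ_comp (f j)) :=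
      { τ₁ := ModuleCat.ofHom (LinearMap.proj j : (∀ j, N j) →ₗ[R] N j)
        τ₂ := ModuleCat.ofHom (LinearMap.proj j : (∀ j, E j) →ₗ[R] E j)
        τ₃ := ModuleCat.ofHom (LinearMap.proj j : (∀ j, E j ⧸ LinearMap.range (f j)) →ₗ[R] E j ⧸ LinearMap.range (f j))
        comm₁₂ := rfl
        comm₂₃ := rfl }
    have hnat := ShortComplex.ShortExact.extClass_naturality hT (hS j) φ
    rw [Ext.comp_assoc_of_third_deg_zero, hnat, ← Ext.comp_assoc_of_second_deg_zero, hz j, hy j]

variable [IsNoetherianRing R] (I : Ideal R) {e : ℕ} (he : LocCoh.CdLE R I e)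

include he

/-- A uniform `m` kills `Ext^i(R ⧸ I^n, N)` for all `N` and all `i > e`. -/
theorem exists_uniform_kill (n : ℕ) :
    ∃ (m : ℕ) (h : n ≤ m), ∀ (k : ℕ) (N : Type u) [AddCommGroup N] [Module R N]
      (a : Ext (quot I n) (ModuleCat.of R N) (e + 1 + k)), (Ext.mk₀ (quotMap I h)).comp a (zero_add _) = 0 := by
  have key : ∃ (m : ℕ) (h : n ≤ m), ∀ (N : Type u) [AddCommGroup N] [Module R N]
      (a : Ext (quot I n) (ModuleCat.of R N) (e + 1)), (Ext.mk₀ (quotMap I h)).comp a (zero_add _) = 0 := by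
    by_contra! hc
    choose N instA instM a ha using fun j : ULift.{u} ℕ => hc (n + j.down) (Nat.le_add_right n j.down)
    letI : ∀ j, AddCommGroup (N j) := instA
    letI : ∀ j, Module R (N j) := instM
    obtain ⟨z, hz⟩ := exists_ext_pi (e + 1) (ULift.{u} ℕ) (quot I n) N a
    haveI := he (∀ j, N j) (e + 1) (Nat.lt_succ_self e)
    obtain ⟨m, h, hm⟩ := (Hι_eq_zero_iff I (e + 1) (a := z)).1 (Subsingleton.elim _ _)
    obtain ⟨d, rfl⟩ := Nat.exists_eq_add_of_le h
    refine ha ⟨d⟩ ?_
    rw [← hz ⟨d⟩, ← Ext.comp_assoc_of_third_deg_zero, hm, Ext.zero_comp]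
  obtain ⟨m, h, hm⟩ := key
  refine ⟨m, h, fun k => ?_⟩
  induction k with
  | zero => exact hm
  | succ k ih =>
    intro N _ _ a
    obtain ⟨E, _, _, f, hf, hE⟩ := exists_injective_embedding (R := R) N
    have hS := quotient_shortExact f hf
    obtain ⟨y, rfl⟩ := Ext.covariant_sequence_exact₁ (quot I n) hS a
      (@Subsingleton.elim _ (subsingleton_ext_succ_injective (quot I n) E hE (e + 1 + k)) _ _) (rfl : e + 1 + k + 1 = e + 1 + (k + 1))
    rw [← Ext.comp_assoc (a₁₂ := e + 1 + k) _ _ _ (zero_add _) (by omega) (by omega), ih _ y, Ext.zero_comp]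

attribute [local instance] HasDerivedCategory.standard in
theorem exists_kill_derived (n : ℕ) : ∃ (m : ℕ) (hm : n < m), ∀ (N : Type u) [AddCommGroup N] [Module R N] (i : ℕ),
    e < i → ∀ φ : Dual.inD R (R ⧸ I ^ n) ⟶ (Dual.inD R N)⟦(i : ℤ)⟧,
      (DerivedCategory.singleFunctor (ModuleCat.{u} R) 0).map (ModuleCat.ofHom
        (Submodule.mapQ (I ^ m) (I ^ n) LinearMap.id (Ideal.pow_le_pow_right (Nat.le_of_lt hm)))) ≫ φ = 0 := by
  obtain ⟨m, h, hm⟩ := exists_uniform_kill I he n
  refine ⟨m + 1, by omega, fun N _ _ i hi φ => ?_⟩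
  obtain ⟨k, rfl⟩ := Nat.exists_eq_add_of_le (show e + 1 ≤ i by omega)
  obtain ⟨a, rfl⟩ : ∃ a : Ext (quot I n) (ModuleCat.of R N) (e + 1 + k), a.hom = φ :=
    ⟨Ext.homEquiv.symm φ, Equiv.apply_symm_apply _ _⟩
  have h1 : (Ext.mk₀ (quotMap I (show n ≤ m + 1 by omega))).comp a (zero_add _) = 0 := by
    rw [show quotMap I (show n ≤ m + 1 by omega) = quotMap I (show m ≤ m + 1 by omega) ≫ quotMap I h from
      ModuleCat.hom_ext (LinearMap.ext fun x => by obtain ⟨y, rfl⟩ := Submodule.Quotient.mk_surjective _ x; rfl),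
      ← Ext.mk₀_comp_mk₀, Ext.comp_assoc_of_second_deg_zero, hm, Ext.comp_zero]
  have h2 := congrArg Ext.hom h1
  simp only [Ext.comp_hom, Ext.mk₀_hom, ShiftedHom.mk₀_comp, Ext.zero_hom] at h2
  exact h2

end Groth.L04.LC
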